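import Mathlib
import Groth.Prelude.Def_ArtFun3

/-!
# Basic lemmas on the category `ArtFun.Art Λ k` (helper19)

* `isIso_of_bijective`: a bijective morphism is an isomorphism;
* `ker_le_maximalIdeal`: kernels of morphisms lie in the maximal ideal;
* `exists_socle`: between two ideals `K < I` there is `x ∈ I \ K` with `m x ⊆ K`;
* `surjective_induction`: the induction principle along small extensions;
* `IsFibreProd.exists_lift`: maps into a fibre product.
-/

set_option autoImplicit false
universe u v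

open CategoryTheory

namespace Groth.Agent.Lib.Helper19.ArtFunBasic

open ArtFun ArtFun.Art

variable {Λ : Type u} {k : Type u} [CommRing Λ] [Field k] [Algebra Λ k]

/-- A bijective morphism of `Art Λ k` is an isomorphism. -/
theorem isIso_of_bijective {A B : Art Λ k} (f : A ⟶ B) (hf : Function.Bijective f) : IsIso f := by
  let e : A ≃ₐ[Λ] B := AlgEquiv.ofBijective f.toAlgHom hf
  have he : ∀ a, e a = f a := fun a => rfl
  refine ⟨⟨⟨(e.symm : B →ₐ[Λ] A), ?_⟩, ?_, ?_⟩⟩
  · apply AlgHom.ext
    intro b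
    obtain ⟨a, rfl⟩ := hf.2 b
    show A.res (e.symm (e a)) = B.res (f a)
    rw [e.symm_apply_apply, res_app]
  · apply hom_ext
    apply AlgHom.ext
    intro a
    show e.symm (e a) = a
    exact e.symm_apply_apply a
  · apply hom_ext
    apply AlgHom.ext
    intro b
    show e (e.symm b) = b
    exact e.apply_symm_apply b

/-- An isomorphism of `Art Λ k` is bijective. -/
theorem bijective_of_isIso {A B : Art Λ k} (f : A ⟶ B) [IsIso f] : Function.Bijective f := by
  refine Function.bijective_iff_has_inverse.mpr ⟨(inv f : B ⟶ A), fun a => ?_, fun b => ?_⟩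
  · have := congrArg (fun g : A ⟶ A => g a) (IsIso.hom_inv_id f)
    exact this
  · have := congrArg (fun g : B ⟶ B => g b) (IsIso.inv_hom_id f)
    exact this

/-- The kernel of a morphism lies in the maximal ideal. -/
theorem ker_le_maximalIdeal {A B : Art Λ k} (f : B ⟶ A) :
    RingHom.ker f.toAlgHom ≤ IsLocalRing.maximalIdeal B := by
  intro b hb
  rw [mem_maximalIdeal_iff, ← res_app f]
  have : f b = 0 := hb
  rw [this, map_zero]

/-- The maximal ideal of an object is nilpotent. -/
theorem exists_maximalIdeal_pow_eq_bot (B : Art Λ k) : ∃ n : ℕ, IsLocalRing.maximalIdeal B ^ n = ⊥ := by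
  have h := IsArtinianRing.isNilpotent_jacobson_bot (R := B)
  rw [IsLocalRing.jacobson_eq_maximalIdeal ⊥ bot_ne_top] at h
  obtain ⟨n, hn⟩ := h
  exact ⟨n, hn⟩

/-- Between ideals `K < I` there is an element of `I` outside `K` which the maximal ideal
multiplies into `K`. -/
theorem exists_socle (B : Art Λ k) (K I : Ideal B) (hKI : K < I) :
    ∃ x ∈ I, x ∉ K ∧ ∀ y ∈ IsLocalRing.maximalIdeal B, y * x ∈ K := by
  classical
  obtain ⟨n, hn⟩ := exists_maximalIdeal_pow_eq_bot B
  have hex : ∃ i : ℕ, IsLocalRing.maximalIdeal B ^ i * I ≤ K := ⟨n, by rw [hn, Ideal.bot_mul]; exact bot_le⟩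
  have h0 : ¬ IsLocalRing.maximalIdeal B ^ 0 * I ≤ K := by
    rw [pow_zero, one_mul]
    exact not_le_of_gt hKI
  have hpos : 0 < Nat.find hex := by
    rcases Nat.eq_zero_or_pos (Nat.find hex) with h | h
    · exact absurd (h ▸ Nat.find_spec hex) h0
    · exact h
  have hmin : ¬ IsLocalRing.maximalIdeal B ^ (Nat.find hex - 1) * I ≤ K :=
    Nat.find_min hex (Nat.sub_lt hpos Nat.one_pos)
  obtain ⟨x, hx, hxK⟩ := Set.not_subset.mp hmin
  refine ⟨x, Ideal.mul_le_right hx, hxK, fun y hy => ?_⟩
  apply Nat.find_spec hex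
  have : Nat.find hex = (Nat.find hex - 1) + 1 := (Nat.sub_add_cancel hpos).symm
  rw [this, pow_succ', mul_assoc]
  exact Ideal.mul_mem_mul hy hx

theorem quotMk_eq_zero_iff (B : Art Λ k) (K : Ideal B) (hK : K ≤ IsLocalRing.maximalIdeal B) (a : B) :
    quotMk B K hK a = 0 ↔ a ∈ K := by
  show (Ideal.Quotient.mk K a : B ⧸ K) = 0 ↔ _
  exact Ideal.Quotient.eq_zero_iff_mem

theorem quotFactor_quotMk {C D : Art Λ k} {K : Ideal C} (hK : K ≤ IsLocalRing.maximalIdeal C)
    (p : C ⟶ D) (hp : K ≤ RingHom.ker p.toAlgHom) (a : C) :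
    quotFactor hK p hp (quotMk C K hK a) = p a := rfl

theorem quotMk_mem_maximalIdeal_iff (B : Art Λ k) (K : Ideal B) (hK : K ≤ IsLocalRing.maximalIdeal B)
    (a : B) : quotMk B K hK a ∈ IsLocalRing.maximalIdeal (quot B K hK) ↔
      a ∈ IsLocalRing.maximalIdeal B := by
  rw [mem_maximalIdeal_iff, mem_maximalIdeal_iff, res_app]

/-- The canonical map `B/K → B/K'` for `K ≤ K'`. -/
noncomputable def quotQuot (B : Art Λ k) (K K' : Ideal B) (hK' : K' ≤ IsLocalRing.maximalIdeal B)
    (hle : K ≤ K') : quot B K (hle.trans hK') ⟶ quot B K' hK' :=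
  quotFactor (hle.trans hK') (quotMk B K' hK') (by
    intro a ha
    rw [RingHom.mem_ker]
    exact (quotMk_eq_zero_iff B K' hK' a).mpr (hle ha))

theorem quotQuot_quotMk (B : Art Λ k) (K K' : Ideal B) (hK' : K' ≤ IsLocalRing.maximalIdeal B)
    (hle : K ≤ K') (a : B) :
    quotQuot B K K' hK' hle (quotMk B K (hle.trans hK') a) = quotMk B K' hK' a := rfl

/-- Adding a socle element gives a small extension. -/
theorem isSmallExt_quotQuot (B : Art Λ k) (K : Ideal B) (x : B)
    (hK' : K ⊔ Ideal.span {x} ≤ IsLocalRing.maximalIdeal B) (hxK : x ∉ K)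
    (hx : ∀ y ∈ IsLocalRing.maximalIdeal B, y * x ∈ K) :
    IsSmallExt (quotQuot B K (K ⊔ Ideal.span {x}) hK' le_sup_left) := by
  have hKm : K ≤ IsLocalRing.maximalIdeal B := le_sup_left.trans hK'
  set q := quotQuot B K (K ⊔ Ideal.span {x}) hK' le_sup_left with hq
  have hker : RingHom.ker q.toAlgHom = Ideal.span {quotMk B K hKm x} := by
    apply le_antisymm
    · intro z hz
      obtain ⟨a, rfl⟩ := quotMk_surjective B K hKm z
      have h1 : quotMk B (K ⊔ Ideal.span {x}) hK' a = 0 := hz
      rw [quotMk_eq_zero_iff, Submodule.mem_sup] at h1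
      obtain ⟨κ, hκ, s, hs, rfl⟩ := h1
      obtain ⟨r, rfl⟩ := Ideal.mem_span_singleton'.mp hs
      have h2 : quotMk B K hKm (κ + r * x) = quotMk B K hKm r * quotMk B K hKm x := by
        have h3 : quotMk B K hKm (κ + r * x) = quotMk B K hKm κ + quotMk B K hKm r * quotMk B K hKm x := by
          rw [← map_mul (quotMk B K hKm).toAlgHom, ← map_add (quotMk B K hKm).toAlgHom]
        rw [h3, (quotMk_eq_zero_iff B K hKm κ).mpr hκ, zero_add]
      rw [h2]
      exact Ideal.mul_mem_left _ _ (Ideal.subset_span rfl)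
    · rw [Ideal.span_le]
      intro z hz
      rw [Set.mem_singleton_iff] at hz
      subst hz
      show q (quotMk B K hKm x) = 0
      rw [hq, quotQuot_quotMk, quotMk_eq_zero_iff]
      exact le_sup_right (a := K) (Ideal.subset_span rfl)
  refine ⟨?_, ?_, ?_, ?_⟩
  · intro z
    obtain ⟨a, rfl⟩ := quotMk_surjective B _ hK' z
    exact ⟨quotMk B K hKm a, rfl⟩
  · rw [hker]
    intro h
    have : quotMk B K hKm x ∈ (⊥ : Ideal (quot B K hKm)) := by
      rw [← h]; exact Ideal.subset_span rfl
    rw [Ideal.mem_bot, quotMk_eq_zero_iff] at this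
    exact hxK this
  · rw [hker]
    exact ⟨⟨_, rfl⟩⟩
  · rw [hker, eq_bot_iff, Ideal.mul_le]
    intro y hy z hz
    obtain ⟨b, rfl⟩ := quotMk_surjective B K hKm y
    obtain ⟨r, rfl⟩ := Ideal.mem_span_singleton'.mp hz
    obtain ⟨c, rfl⟩ := quotMk_surjective B K hKm r
    rw [quotMk_mem_maximalIdeal_iff] at hy
    have h2 : quotMk B K hKm b * (quotMk B K hKm c * quotMk B K hKm x) =
        quotMk B K hKm (c * (b * x)) := by
      rw [← map_mul (quotMk B K hKm).toAlgHom, ← map_mul (quotMk B K hKm).toAlgHom]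
      congr 1
      ring
    rw [Ideal.mem_bot, h2, quotMk_eq_zero_iff]
    exact Ideal.mul_mem_left _ _ (hx b hy)

/-- The induction principle: a property of morphisms that holds for isomorphisms and small
extensions and is stable under composition holds for all surjections. -/
theorem surjective_induction
    (P : ∀ ⦃A B : Art Λ k⦄, (B ⟶ A) → Prop)
    (hiso : ∀ ⦃A B : Art Λ k⦄ (e : B ⟶ A), IsIso e → P e)
    (hsmall : ∀ ⦃A B : Art Λ k⦄ (p : B ⟶ A), IsSmallExt p → P p)
    (hcomp : ∀ ⦃A B C : Art Λ k⦄ (p : C ⟶ B) (q : B ⟶ A), P p → P q → P (p ≫ q))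
    ⦃A B : Art Λ k⦄ (f : B ⟶ A) (hf : Function.Surjective f) : P f := by
  classical
  have hIm : RingHom.ker f.toAlgHom ≤ IsLocalRing.maximalIdeal B := ker_le_maximalIdeal f
  have key : ∀ K : Ideal B, ∀ hK : K ≤ RingHom.ker f.toAlgHom,
      P (quotFactor (hK.trans hIm) f hK) := by
    intro K
    refine WellFoundedGT.induction
      (motive := fun K : Ideal B => ∀ hK : K ≤ RingHom.ker f.toAlgHom, P (quotFactor (hK.trans hIm) f hK))
      K ?_
    intro K ih hK
    by_cases hKI : K = RingHom.ker f.toAlgHom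
    · apply hiso
      apply isIso_of_bijective
      constructor
      · rw [injective_iff_map_eq_zero]
        intro z hz
        obtain ⟨a, rfl⟩ := quotMk_surjective B K (hK.trans hIm) z
        have h1 : f a = 0 := hz
        have h2 : a ∈ K := by rw [hKI]; exact h1
        exact (quotMk_eq_zero_iff B K _ a).mpr h2
      · intro a
        obtain ⟨b, rfl⟩ := hf a
        exact ⟨quotMk B K (hK.trans hIm) b, rfl⟩
    · have hlt : K < RingHom.ker f.toAlgHom := lt_of_le_of_ne hK hKI
      obtain ⟨x, hxI, hxK, hx⟩ := exists_socle B K _ hlt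
      have hK'I : K ⊔ Ideal.span {x} ≤ RingHom.ker f.toAlgHom :=
        sup_le hK ((Ideal.span_singleton_le_iff_mem _).mpr hxI)
      have hKK' : K < K ⊔ Ideal.span {x} := by
        refine lt_of_le_of_ne le_sup_left ?_
        intro h
        apply hxK
        rw [h]
        exact le_sup_right (a := K) (Ideal.subset_span rfl)
      have h1 := ih (K ⊔ Ideal.span {x}) hKK' hK'I
      have h2 := hsmall _ (isSmallExt_quotQuot B K x (hK'I.trans hIm) hxK hx)
      have h3 : quotFactor (hK.trans hIm) f hK =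
          quotQuot B K (K ⊔ Ideal.span {x}) (hK'I.trans hIm) le_sup_left ≫
            quotFactor (hK'I.trans hIm) f hK'I := by
        apply hom_ext
        apply AlgHom.ext
        intro z
        obtain ⟨a, rfl⟩ := quotMk_surjective B K (hK.trans hIm) z
        rfl
      rw [h3]
      exact hcomp _ _ h2 h1
  have h0 := key ⊥ bot_le
  have h1 : f = quotMk B ⊥ bot_le ≫ quotFactor bot_le f bot_le := (quotMk_quotFactor _ f _).symm
  rw [h1]
  refine hcomp _ _ (hiso _ ?_) h0
  apply isIso_of_bijective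
  constructor
  · rw [injective_iff_map_eq_zero]
    intro a ha
    have : quotMk B ⊥ bot_le a = 0 := ha
    rw [quotMk_eq_zero_iff, Ideal.mem_bot] at this
    exact this
  · exact quotMk_surjective B ⊥ bot_le


end Groth.Agent.Lib.Helper19.ArtFunBasic

namespace Groth.Agent.Lib.Helper19.ArtFunBasic

open ArtFun ArtFun.Art

variable {Λ : Type u} {k : Type u} [CommRing Λ] [Field k] [Algebra Λ k]

/-- The image of the maximal ideal lies in the maximal ideal. -/
theorem map_maximalIdeal_le {A B : Art Λ k} (f : A ⟶ B) :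
    Ideal.map f.toAlgHom (IsLocalRing.maximalIdeal A) ≤ IsLocalRing.maximalIdeal B := by
  rw [Ideal.map_le_iff_le_comap]
  intro a ha
  rw [Ideal.mem_comap, mem_maximalIdeal_iff]
  have : B.res (f a) = A.res a := res_app f a
  rw [this]
  exact (mem_maximalIdeal_iff A a).mp ha

/-- Every element of the target is the image of an element of the source up to the maximal ideal. -/
theorem exists_sub_mem_maximalIdeal {A B : Art Λ k} (f : A ⟶ B) (b : B) :
    ∃ a : A, b - f a ∈ IsLocalRing.maximalIdeal B := by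
  obtain ⟨a, ha⟩ := A.res_surjective (B.res b)
  refine ⟨a, ?_⟩
  rw [mem_maximalIdeal_iff, map_sub, res_app, ha, sub_self]

/-- The image of `ker (Λ → k)` in an object lies in the maximal ideal. -/
theorem algebraMap_mem_maximalIdeal (A : Art Λ k) {l : Λ} (hl : l ∈ RingHom.ker (algebraMap Λ k)) :
    algebraMap Λ A l ∈ IsLocalRing.maximalIdeal A := by
  rw [mem_maximalIdeal_iff, AlgHom.commutes]
  exact hl

/-- A morphism which generates the maximal ideal of the target is surjective. -/
theorem surjective_of_map_maximalIdeal {A B : Art Λ k} (f : A ⟶ B)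
    (h : IsLocalRing.maximalIdeal B ≤ Ideal.map f.toAlgHom (IsLocalRing.maximalIdeal A)) :
    Function.Surjective f := by
  have hmap : ∀ n : ℕ, IsLocalRing.maximalIdeal B ^ n =
      Ideal.map f.toAlgHom (IsLocalRing.maximalIdeal A ^ n) := by
    intro n
    rw [Ideal.map_pow, le_antisymm h (map_maximalIdeal_le f)]
  have key : ∀ n : ℕ, ∀ b : B, ∃ a : A, b - f a ∈ IsLocalRing.maximalIdeal B ^ n := by
    intro n
    induction n with
    | zero =>
      intro b
      exact ⟨0, by rw [pow_zero, Ideal.one_eq_top]; exact Submodule.mem_top⟩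
    | succ n ih =>
      intro b
      obtain ⟨a, ha⟩ := ih b
      rw [hmap n] at ha
      have hT : ∀ c ∈ Ideal.map f.toAlgHom (IsLocalRing.maximalIdeal A ^ n),
          c ∈ IsLocalRing.maximalIdeal B ^ n ∧
            ∃ a' : A, c - f a' ∈ IsLocalRing.maximalIdeal B ^ (n + 1) := by
        intro c hc
        refine Submodule.span_induction ?_ ?_ ?_ ?_ hc
        · rintro _ ⟨a₀, ha₀, rfl⟩
          refine ⟨?_, a₀, ?_⟩
          · rw [hmap n]
            exact Ideal.mem_map_of_mem _ ha₀
          · have : f.toAlgHom a₀ - f a₀ = 0 := sub_self _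
            rw [this]
            exact Submodule.zero_mem _
        · exact ⟨Submodule.zero_mem _, 0, by simp⟩
        · rintro x y _ _ ⟨hx, ax, hax⟩ ⟨hy, ay, hay⟩
          refine ⟨Submodule.add_mem _ hx hy, ax + ay, ?_⟩
          have : x + y - f (ax + ay) = (x - f ax) + (y - f ay) := by
            have : f (ax + ay) = f ax + f ay := map_add f.toAlgHom ax ay
            rw [this]; ring
          rw [this]
          exact Submodule.add_mem _ hax hay
        · rintro b' x _ ⟨hx, ax, hax⟩
          obtain ⟨a'', ha''⟩ := exists_sub_mem_maximalIdeal f b'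
          refine ⟨Ideal.mul_mem_left _ _ hx, a'' * ax, ?_⟩
          have : b' • x - f (a'' * ax) = f a'' * (x - f ax) + (b' - f a'') * x := by
            have : f (a'' * ax) = f a'' * f ax := map_mul f.toAlgHom a'' ax
            rw [this, smul_eq_mul]; ring
          rw [this]
          refine Submodule.add_mem _ (Ideal.mul_mem_left _ _ hax) ?_
          rw [pow_succ']
          exact Ideal.mul_mem_mul ha'' hx
      obtain ⟨_, a', ha'⟩ := hT _ ha
      refine ⟨a + a', ?_⟩
      have : b - f (a + a') = (b - f a) - f a' := by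
        have : f (a + a') = f a + f a' := map_add f.toAlgHom a a'
        rw [this]; ring
      rw [this]
      exact ha'
  obtain ⟨n, hn⟩ := exists_maximalIdeal_pow_eq_bot B
  intro b
  obtain ⟨a, ha⟩ := key n b
  rw [hn, Ideal.mem_bot, sub_eq_zero] at ha
  exact ⟨a, ha.symm⟩

/-- The cotangent criterion for surjectivity. -/
theorem surjective_of_map_sup_sq {A B : Art Λ k} (f : A ⟶ B)
    (h : Ideal.map f.toAlgHom (IsLocalRing.maximalIdeal A) ⊔ IsLocalRing.maximalIdeal B ^ 2 =
      IsLocalRing.maximalIdeal B) : Function.Surjective f := by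
  apply surjective_of_map_maximalIdeal
  refine Submodule.le_of_le_smul_of_le_jacobson_bot (IsNoetherian.noetherian _)
    (I := IsLocalRing.maximalIdeal B) ?_ ?_
  · rw [IsLocalRing.jacobson_eq_maximalIdeal ⊥ bot_ne_top]
  · rw [smul_eq_mul, ← pow_two, h]

end Groth.Agent.Lib.Helper19.ArtFunBasic

namespace Groth.Agent.Lib.Helper19.ArtFunBasic

open ArtFun ArtFun.Art

variable {Λ : Type u} {k : Type u} [CommRing Λ] [Field k] [Algebra Λ k]

/-- Algebra maps into a fibre product: the universal property for an arbitrary source algebra. -/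
theorem exists_lift_of_isFibreProd {B A A' A'' : Art Λ k} {p' : B ⟶ A'} {p'' : B ⟶ A''}
    {f' : A' ⟶ A} {f'' : A'' ⟶ A} (h : IsFibreProd p' p'' f' f'')
    {R : Type*} [CommRing R] [Algebra Λ R] (φ' : R →ₐ[Λ] A') (φ'' : R →ₐ[Λ] A'')
    (hφ : f'.toAlgHom.comp φ' = f''.toAlgHom.comp φ'') :
    ∃ ψ : R →ₐ[Λ] B, p'.toAlgHom.comp ψ = φ' ∧ p''.toAlgHom.comp ψ = φ'' := by
  classical
  have hex : ∀ r : R, ∃ b : B, p' b = φ' r ∧ p'' b = φ'' r := by
    intro r
    exact h.surj (φ' r) (φ'' r) (AlgHom.congr_fun hφ r)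
  choose σ hσ1 hσ2 using hex
  have huniq : ∀ (r : R) (b : B), p' b = φ' r → p'' b = φ'' r → b = σ r := by
    intro r b h1 h2
    exact h.inj _ _ (h1.trans (hσ1 r).symm) (h2.trans (hσ2 r).symm)
  let ψ : R →ₐ[Λ] B :=
    { toFun := σ
      map_one' := (huniq 1 1 ((map_one p'.toAlgHom).trans (map_one φ').symm)
        ((map_one p''.toAlgHom).trans (map_one φ'').symm)).symm
      map_mul' := fun r r' => (huniq (r * r') (σ r * σ r')
        ((map_mul p'.toAlgHom (σ r) (σ r')).trans
          ((congrArg₂ (· * ·) (hσ1 r) (hσ1 r')).trans (map_mul φ' r r').symm))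
        ((map_mul p''.toAlgHom (σ r) (σ r')).trans
          ((congrArg₂ (· * ·) (hσ2 r) (hσ2 r')).trans (map_mul φ'' r r').symm))).symm
      map_zero' := (huniq 0 0 ((map_zero p'.toAlgHom).trans (map_zero φ').symm)
        ((map_zero p''.toAlgHom).trans (map_zero φ'').symm)).symm
      map_add' := fun r r' => (huniq (r + r') (σ r + σ r')
        ((map_add p'.toAlgHom (σ r) (σ r')).trans
          ((congrArg₂ (· + ·) (hσ1 r) (hσ1 r')).trans (map_add φ' r r').symm))
        ((map_add p''.toAlgHom (σ r) (σ r')).trans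
          ((congrArg₂ (· + ·) (hσ2 r) (hσ2 r')).trans (map_add φ'' r r').symm))).symm
      commutes' := fun l => (huniq (algebraMap Λ R l) (algebraMap Λ B l)
        ((AlgHom.commutes p'.toAlgHom l).trans (AlgHom.commutes φ' l).symm)
        ((AlgHom.commutes p''.toAlgHom l).trans (AlgHom.commutes φ'' l).symm)).symm }
  exact ⟨ψ, AlgHom.ext hσ1, AlgHom.ext hσ2⟩

/-- Under `H0`, a versal family is surjective on every object. -/
theorem surjective_app_of_isVersal {F : Art Λ k ⥤ Type v} (h0 : H0 F)
    {R : Type u} [CommRing R] [Algebra Λ R] {resR : R →ₐ[Λ] k} (ξ : Family R resR F)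
    (hξ : IsVersal ξ) (A : Art Λ k) : Function.Surjective (ξ.app A) := by
  intro x
  haveI := h0.2
  let φ₀ : HomSet R resR (base Λ k) := ⟨resR, AlgHom.id_comp _⟩
  obtain ⟨ψ, -, hψ⟩ := hξ (toBase A) A.res_surjective φ₀ x (Subsingleton.elim _ _)
  exact ⟨ψ, hψ⟩

end Groth.Agent.Lib.Helper19.ArtFunBasic
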