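import Mathlib
import Groth.Agent.Lib.Helper19.ArtFunBasic

/-!
# Finite length over `Λ` of the objects of `ArtFun.Art Λ k` (helper19)

For `Λ` Noetherian and `k` a finite `Λ`-module:
* `length_base_ne_top`: `k` has finite length over `Λ`;
* `length_eq_mul`: `length_Λ M = length_Λ k * length_A M` for a local `Λ`-algebra `A` with residue
  field `k`;
* `isArtinian_art`: every object of `Art Λ k` is an Artinian `Λ`-module;
* `exists_isFibreProd`: fibre products along a surjection exist.
-/

set_option autoImplicit false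
universe u v

open CategoryTheory

namespace Groth.Agent.Lib.Helper19.ArtFunLength

open ArtFun ArtFun.Art

variable {Λ : Type u} {k : Type u} [CommRing Λ] [Field k] [Algebra Λ k]

/-- the length formula in the finite case -/
theorem length_aux (A : Type u) [CommRing A] [Algebra Λ A] [IsLocalRing A] [Algebra A k]
    [IsScalarTower Λ A k] (hres : Function.Surjective (algebraMap A k)) (n : ℕ) :
    ∀ (M : Type v) [AddCommGroup M] [Module A M] [Module Λ M] [IsScalarTower Λ A M],
      Module.length A M = n → Module.length Λ M = Module.length Λ k * n := by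
  induction n with
  | zero =>
    intro M _ _ _ _ h
    rw [Nat.cast_zero, Module.length_eq_zero_iff] at h
    rw [Nat.cast_zero, mul_zero, Module.length_eq_zero_iff]
    exact h
  | succ n ih =>
    intro M _ _ _ _ h
    have hfl : IsFiniteLength A M := by
      rw [← Module.length_ne_top_iff, h]
      exact ENat.natCast_ne_top _
    have : IsArtinian A M := ((isFiniteLength_iff_isNoetherian_isArtinian).mp hfl).2
    have hnt : Nontrivial M := by
      rw [← Module.length_pos_iff (R := A), h]
      exact_mod_cast Nat.succ_pos n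
    have : IsAtomic (Submodule A M) := isAtomic_of_orderBot_wellFounded_lt wellFounded_lt
    obtain ⟨S, hS⟩ := IsAtomic.exists_atom (α := Submodule A M)
    have : IsSimpleModule A S := isSimpleModule_iff_isAtom.mpr hS
    obtain ⟨I, hI, ⟨e⟩⟩ := isSimpleModule_iff_quot_maximal.mp (inferInstance : IsSimpleModule A S)
    have hIm : I = IsLocalRing.maximalIdeal A := IsLocalRing.eq_maximalIdeal hI
    have hker : LinearMap.ker (Algebra.linearMap A k) = IsLocalRing.maximalIdeal A := by
      have hmax : (RingHom.ker (algebraMap A k)).IsMaximal :=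
        RingHom.ker_isMaximal_of_surjective _ hres
      have := IsLocalRing.eq_maximalIdeal hmax
      rw [← this]
      rfl
    let e2 : (A ⧸ LinearMap.ker (Algebra.linearMap A k)) ≃ₗ[A] k :=
      LinearMap.quotKerEquivOfSurjective (Algebra.linearMap A k) hres
    have hSk : Module.length Λ S = Module.length Λ k := by
      subst hIm
      rw [← hker] at e
      exact ((e.trans e2).restrictScalars Λ).length_eq
    have hS1 : Module.length A S = 1 := Module.length_eq_one A S
    have hA := Module.length_eq_add_of_exact S.subtype S.mkQ S.injective_subtype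
      S.mkQ_surjective (LinearMap.exact_subtype_mkQ S)
    have hΛ := Module.length_eq_add_of_exact (S.subtype.restrictScalars Λ)
      (S.mkQ.restrictScalars Λ) S.injective_subtype
      S.mkQ_surjective (LinearMap.exact_subtype_mkQ S)
    rw [h, hS1] at hA
    have hq : Module.length A (M ⧸ S) = n := by
      have h1 : ((n : ℕ∞) + 1) = 1 + Module.length A (M ⧸ S) := by
        rw [← hA]; push_cast; rfl
      rw [add_comm] at h1
      exact (WithTop.add_left_cancel (ENat.one_ne_top) h1).symm
    rw [hΛ, hSk, ih (M ⧸ S) hq]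
    push_cast
    ring

/-- The length formula. -/
theorem length_eq_mul (A : Type u) [CommRing A] [Algebra Λ A] [IsLocalRing A] [Algebra A k]
    [IsScalarTower Λ A k] (hres : Function.Surjective (algebraMap A k))
    (M : Type v) [AddCommGroup M] [Module A M] [Module Λ M] [IsScalarTower Λ A M] :
    Module.length Λ k * Module.length A M = Module.length Λ M := by
  by_cases hM : Module.length A M = ⊤
  · have h1 : Module.length Λ M = ⊤ := by
      have := Submodule.length_le_length_restrictScalars Λ (⊤ : Submodule A M)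
      rw [Submodule.restrictScalars_top, Module.length_top, Module.length_top, hM, top_le_iff] at this
      exact this
    have h2 : Module.length Λ k ≠ 0 := (Module.length_pos (R := Λ) (M := k)).ne'
    rw [hM, h1, ENat.mul_top h2]
  · obtain ⟨n, hn⟩ := ENat.ne_top_iff_exists.mp hM
    rw [← hn, length_aux A hres n M hn.symm]

variable [IsNoetherianRing Λ] [Module.Finite Λ k]

/-- `k` has finite length over `Λ`. -/
theorem length_base_ne_top : Module.length Λ k ≠ ⊤ := by
  let p : Ideal Λ := RingHom.ker (algebraMap Λ k)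
  letI : Algebra (Λ ⧸ p) k := (RingHom.kerLift (algebraMap Λ k)).toAlgebra
  haveI : IsScalarTower Λ (Λ ⧸ p) k := IsScalarTower.of_algebraMap_eq (fun x => rfl)
  haveI : Algebra.IsIntegral Λ k := Algebra.IsIntegral.of_finite Λ k
  haveI : Algebra.IsIntegral (Λ ⧸ p) k := Algebra.IsIntegral.tower_top (R := Λ)
  have hinj : Function.Injective (algebraMap (Λ ⧸ p) k) := RingHom.kerLift_injective _
  have hfield : IsField (Λ ⧸ p) :=
    isField_of_isIntegral_of_isField (S := k) hinj (Field.toIsField k)
  haveI hp : p.IsMaximal := Ideal.Quotient.maximal_of_isField p hfield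
  letI : Field (Λ ⧸ p) := Ideal.Quotient.field p
  haveI : Module.Finite (Λ ⧸ p) k := Module.Finite.of_restrictScalars_finite Λ (Λ ⧸ p) k
  have h1 : Module.length (Λ ⧸ p) k ≠ ⊤ := Module.length_ne_top
  have h2 : Module.length Λ k = Module.length (Λ ⧸ p) k :=
    Module.length_eq_of_surjective (S := Λ) (R := Λ ⧸ p) (M := k) Ideal.Quotient.mk_surjective
  rw [h2]
  exact h1

/-- Every object of `Art Λ k` has finite length as a `Λ`-module. -/
theorem length_art_ne_top (A : Art Λ k) : Module.length Λ A ≠ ⊤ := by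
  letI : Algebra A k := A.res.toRingHom.toAlgebra
  haveI : IsScalarTower Λ A k :=
    IsScalarTower.of_algebraMap_eq (fun x => (AlgHom.commutes A.res x).symm)
  have hres : Function.Surjective (algebraMap A k) := A.res_surjective
  have h1 := length_eq_mul (Λ := Λ) (k := k) A hres A
  have h2 : Module.length A A ≠ ⊤ := Module.length_ne_top
  rw [← h1]
  exact WithTop.mul_ne_top length_base_ne_top h2

/-- Every object of `Art Λ k` is an Artinian `Λ`-module. -/
theorem isArtinian_art (A : Art Λ k) : IsArtinian Λ A :=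
  ((isFiniteLength_iff_isNoetherian_isArtinian).mp
    (Module.length_ne_top_iff.mp (length_art_ne_top A))).2

/-- Every object of `Art Λ k` is a Noetherian `Λ`-module. -/
theorem isNoetherian_art (A : Art Λ k) : IsNoetherian Λ A :=
  ((isFiniteLength_iff_isNoetherian_isArtinian).mp
    (Module.length_ne_top_iff.mp (length_art_ne_top A))).1

/-- Every object of `Art Λ k` is a finite `Λ`-module. -/
theorem finite_art (A : Art Λ k) : Module.Finite Λ A :=
  haveI := isNoetherian_art A
  inferInstance

/-- Fibre products along a surjection exist in `Art Λ k` (for `Λ` Noetherian and `k` finite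
over `Λ`). -/
theorem exists_isFibreProd {A A₁ A₂ : Art Λ k} (f₁ : A₁ ⟶ A) (f₂ : A₂ ⟶ A)
    (hf₂ : Function.Surjective f₂) :
    ∃ (B : Art Λ k) (p₁ : B ⟶ A₁) (p₂ : B ⟶ A₂), IsFibreProd p₁ p₂ f₁ f₂ := by
  let B₀ : Subalgebra Λ (A₁ × A₂) := AlgHom.pullback f₁.toAlgHom f₂.toAlgHom
  haveI : IsLocalHom f₂.toAlgHom := Art.isLocalHom f₂
  haveI : IsLocalRing B₀ := AlgHom.isLocalRing_pullback f₁.toAlgHom f₂.toAlgHom
  haveI : IsArtinian Λ A₁ := isArtinian_art A₁
  haveI : IsArtinian Λ A₂ := isArtinian_art A₂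
  haveI : IsArtinian Λ (A₁ × A₂) := inferInstance
  haveI : IsArtinian Λ B₀ :=
    isArtinian_of_injective (Subalgebra.toSubmodule B₀).subtype Subtype.val_injective
  haveI : IsArtinianRing B₀ := isArtinian_of_tower Λ (inferInstance : IsArtinian Λ B₀)
  let p₁ : B₀ →ₐ[Λ] A₁ := AlgHom.pullbackFst f₁.toAlgHom f₂.toAlgHom
  let p₂ : B₀ →ₐ[Λ] A₂ := AlgHom.pullbackSnd f₁.toAlgHom f₂.toAlgHom
  have hp₁ : Function.Surjective p₁ :=
    AlgHom.surjective_pullbackFst_of_surjective f₁.toAlgHom f₂.toAlgHom hf₂
  have hres : Function.Surjective (A₁.res.comp p₁) := A₁.res_surjective.comp hp₁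
  let B : Art Λ k := Art.of B₀ (A₁.res.comp p₁) hres
  have hcomm : f₁.toAlgHom.comp p₁ = f₂.toAlgHom.comp p₂ :=
    AlgHom.pullback_comm_sq f₁.toAlgHom f₂.toAlgHom
  have hp₂res : A₂.res.comp p₂ = A₁.res.comp p₁ := by
    rw [← f₂.res_comp, ← f₁.res_comp, AlgHom.comp_assoc, AlgHom.comp_assoc, hcomm]
  refine ⟨B, Art.homMk p₁ rfl, Art.homMk p₂ hp₂res, ?_, ?_, ?_⟩
  · exact Art.hom_ext hcomm
  · intro b₁ b₂ h1 h2
    exact Subtype.ext (Prod.ext h1 h2)
  · intro a' a'' h
    exact ⟨⟨(a', a''), h⟩, rfl, rfl⟩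

/-- Pasting: a fibre square along a composite `p ≫ q` of surjections decomposes into a fibre square
along `q` followed by one along `p`. -/
theorem exists_decomp {A B₀ C B A' : Art Λ k} (p : C ⟶ B₀) (q : B₀ ⟶ A)
    (hq : Function.Surjective q) (p' : B ⟶ A') (p'' : B ⟶ C) (f' : A' ⟶ A)
    (h : IsFibreProd p' p'' f' (p ≫ q)) :
    ∃ (B₁ : Art Λ k) (r' : B₁ ⟶ A') (r'' : B₁ ⟶ B₀) (t : B ⟶ B₁),
      IsFibreProd r' r'' f' q ∧ IsFibreProd t p'' r'' p ∧ t ≫ r' = p' := by
  obtain ⟨B₁, r', r'', hB₁⟩ := exists_isFibreProd f' q hq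
  have hφ : f'.toAlgHom.comp p'.toAlgHom = q.toAlgHom.comp (p.toAlgHom.comp p''.toAlgHom) := by
    have := congrArg Art.Hom.toAlgHom h.w
    simpa [AlgHom.comp_assoc] using this
  obtain ⟨t₀, ht₁, ht₂⟩ := ArtFunBasic.exists_lift_of_isFibreProd hB₁ p'.toAlgHom
    (p.toAlgHom.comp p''.toAlgHom) hφ
  have htres : B₁.res.comp t₀ = B.res := by
    rw [← r'.res_comp, AlgHom.comp_assoc, ht₁, p'.res_comp]
  let t : B ⟶ B₁ := Art.homMk t₀ htres
  have ht₁' : ∀ b, r' (t b) = p' b := fun b => AlgHom.congr_fun ht₁ b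
  have ht₂' : ∀ b, r'' (t b) = p (p'' b) := fun b => AlgHom.congr_fun ht₂ b
  refine ⟨B₁, r', r'', t, hB₁, ⟨?_, ?_, ?_⟩, Art.hom_ext ht₁⟩
  · apply Art.hom_ext
    exact ht₂
  · intro b₁ b₂ h1 h2
    apply h.inj b₁ b₂ _ h2
    rw [← ht₁', ← ht₁', h1]
  · intro b₁ c hbc
    have h3 : f' (r' b₁) = (p ≫ q) c := by
      rw [hB₁.w_apply, hbc]
      rfl
    obtain ⟨b, hb1, hb2⟩ := h.surj (r' b₁) c h3
    refine ⟨b, ?_, hb2⟩
    apply hB₁.inj
    · rw [ht₁', hb1]
    · rw [ht₂', hb2, hbc]

end Groth.Agent.Lib.Helper19.ArtFunLength
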