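import Mathlib
import Groth.Prelude.Def_ArtFun5
import Groth.Agent.Lib.Helper15.ComplSurj
import Groth.Agent.Lib.Helper19.ArtFunBasic
import Groth.Agent.Lib.Helper19.ArtFunLength

/-!
# Complete local Noetherian coefficient rings (helper19)

* `exists_cring_of_finiteType`: for a finite type `Λ`-algebra `A` with a surjection `π : A → k`,
  the completion of `A` at `ker π` is a coefficient ring `P : CRing Λ k` whose points in
  Artinian objects are the augmented maps out of `A` (existence and uniqueness of extensions);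
* `exists_art_quot`: quotients of a coefficient ring by ideals containing a power of the maximal
  ideal are objects of `Art Λ k`;
* `exists_cring_quot`: quotients of coefficient rings are coefficient rings;
* `chevalley`: a decreasing sequence of ideals `K q` (each containing a power of the maximal ideal)
  of a coefficient ring satisfies `K q ≤ ⨅ K ⊔ m ^ n` for `q` large;
* `exists_factor`, `hom_eq_of_map_eq`, `exists_factor_cring`: factoring points through surjections.
-/

set_option autoImplicit false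
universe u v

open CategoryTheory

namespace Groth.Agent.Lib.Helper19.ArtFunComplete

open ArtFun ArtFun.Art
open Groth.Agent.Lib.Helper19.ArtFunBasic

variable {Λ : Type u} {k : Type u} [CommRing Λ] [Field k] [Algebra Λ k]

section Extend

variable {A : Type u} [CommRing A] [Algebra Λ A] {B : Type*} [CommRing B] [Algebra Λ B]

theorem algebraMap_eq_of (I : Ideal A) (a : A) :
    algebraMap A (AdicCompletion I A) a = AdicCompletion.of I A a := rfl

/-- extension of an algebra map killing `I ^ n` to the `I`-adic completion -/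
noncomputable def extend (I : Ideal A) (n : ℕ) (f : A →ₐ[Λ] B) (h : ∀ a ∈ I ^ n, f a = 0) :
    AdicCompletion I A →ₐ[Λ] B :=
  { toRingHom := (Ideal.Quotient.lift (I ^ n) (f : A →+* B) h).comp
      (AdicCompletion.evalₐ I n).toRingHom
    commutes' := fun l => by
      change Ideal.Quotient.lift (I ^ n) (f : A →+* B) h
        (AdicCompletion.evalₐ I n (algebraMap Λ (AdicCompletion I A) l)) = algebraMap Λ B l
      rw [AdicCompletion.algebraMap_apply, AdicCompletion.evalₐ_of, Ideal.Quotient.lift_mk]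
      exact f.commutes l }

theorem extend_of (I : Ideal A) (n : ℕ) (f : A →ₐ[Λ] B) (h : ∀ a ∈ I ^ n, f a = 0) (a : A) :
    extend I n f h (AdicCompletion.of I A a) = f a := by
  change Ideal.Quotient.lift (I ^ n) (f : A →+* B) h
    (AdicCompletion.evalₐ I n (AdicCompletion.of I A a)) = f a
  rw [AdicCompletion.evalₐ_of, Ideal.Quotient.lift_mk]
  rfl

theorem mem_map_pow_of_evalₐ_eq_zero (I : Ideal A) (fg : I.FG) (n : ℕ)
    (x : AdicCompletion I A) (hx : AdicCompletion.evalₐ I n x = 0) :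
    x ∈ (I ^ n).map (algebraMap A (AdicCompletion I A)) := by
  have h : I ^ n ≤ I ^ n • (⊤ : Ideal A) := by simp
  have h1 : AdicCompletion.eval I A n x = 0 := by
    rw [← AdicCompletion.factor_evalₐ_eq_eval I x h, hx, map_zero]
  have h2 : x ∈ (I ^ n • ⊤ : Submodule A (AdicCompletion I A)) := by
    rw [AdicCompletion.pow_smul_top_eq_ker_eval fg]
    exact h1
  rw [← Submodule.restrictScalars_mem A, ← Ideal.smul_top_eq_map]
  exact h2

/-- every element of the completion is an element of `A` up to `I ^ n` -/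
theorem exists_sub_mem (I : Ideal A) (fg : I.FG) (n : ℕ) (x : AdicCompletion I A) :
    ∃ a : A, x - algebraMap A (AdicCompletion I A) a ∈
      (I ^ n).map (algebraMap A (AdicCompletion I A)) := by
  obtain ⟨a, ha⟩ := Ideal.Quotient.mk_surjective (AdicCompletion.evalₐ I n x)
  refine ⟨a, mem_map_pow_of_evalₐ_eq_zero I fg n _ ?_⟩
  rw [map_sub, algebraMap_eq_of, AdicCompletion.evalₐ_of, ha, sub_self]

end Extend

section Completion

variable [IsNoetherianRing Λ]

/-- an augmented map to an Artinian object kills a power of the augmentation ideal -/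
theorem kill_pow {A : Type u} [CommRing A] [Algebra Λ A] (π : A →ₐ[Λ] k) (B : Art Λ k)
    (φ : A →ₐ[Λ] B) (hφ : B.res.comp φ = π) (N : ℕ)
    (hN : IsLocalRing.maximalIdeal B ^ N = ⊥) :
    ∀ a ∈ RingHom.ker (π : A →+* k) ^ N, φ a = 0 := by
  intro a ha
  have hle : (RingHom.ker (π : A →+* k)).map φ ≤ IsLocalRing.maximalIdeal B := by
    rw [Ideal.map_le_iff_le_comap]
    intro x hx
    rw [Ideal.mem_comap, mem_maximalIdeal_iff]
    have e : B.res (φ x) = π x := AlgHom.congr_fun hφ x
    rw [e]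
    exact hx
  have h1 : φ a ∈ (RingHom.ker (π : A →+* k) ^ N).map φ := Ideal.mem_map_of_mem φ ha
  rw [Ideal.map_pow] at h1
  have h2 := Ideal.pow_right_mono hle N h1
  rw [hN] at h2
  exact h2

theorem exists_cring_of_finiteType_strong (A : Type u) [CommRing A] [Algebra Λ A]
    [Algebra.FiniteType Λ A] (π : A →ₐ[Λ] k) (hπ : Function.Surjective π) :
    ∃ (P : CRing Λ k) (ι : A →ₐ[Λ] P.carrier), P.res.comp ι = π ∧
      (∀ (B : Art Λ k) (φ : A →ₐ[Λ] B), B.res.comp φ = π →
        ∃ ψ : HomSet P.carrier P.res B, ψ.1.comp ι = φ) ∧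
      (∀ (B : Art Λ k) (ψ₁ ψ₂ : HomSet P.carrier P.res B), ψ₁.1.comp ι = ψ₂.1.comp ι →
        ψ₁ = ψ₂) ∧
      IsLocalRing.maximalIdeal P.carrier =
        (RingHom.ker (π : A →+* k)).map (ι : A →+* P.carrier) := by
  classical
  haveI : IsNoetherianRing A := Algebra.FiniteType.isNoetherianRing Λ A
  set m : Ideal A := RingHom.ker (π : A →+* k) with hm
  haveI hmax : m.IsMaximal := RingHom.ker_isMaximal_of_surjective (π : A →+* k) hπ
  have fg : m.FG := IsNoetherian.noetherian m
  haveI hmapmax : (m.map (algebraMap A (AdicCompletion m A))).IsMaximal :=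
    AdicCompletion.isMaximal_map_of_le m m le_rfl fg
  haveI hcomp : IsAdicComplete (m.map (algebraMap A (AdicCompletion m A))) (AdicCompletion m A) :=
    AdicCompletion.isAdicComplete_self m fg
  haveI hloc : IsLocalRing (AdicCompletion m A) :=
    isLocalRing_of_isAdicComplete_maximal (m.map (algebraMap A (AdicCompletion m A)))
  have hmeq : IsLocalRing.maximalIdeal (AdicCompletion m A) =
      m.map (algebraMap A (AdicCompletion m A)) := (IsLocalRing.eq_maximalIdeal hmapmax).symm
  -- Noetherian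
  have hsurjq : Function.Surjective
      (algebraMap A (AdicCompletion m A ⧸ m.map (algebraMap A (AdicCompletion m A)))) := by
    intro y
    obtain ⟨p, rfl⟩ := Ideal.Quotient.mk_surjective y
    obtain ⟨a, ha⟩ := exists_sub_mem m fg 1 p
    refine ⟨a, ?_⟩
    rw [IsScalarTower.algebraMap_apply A (AdicCompletion m A)
      (AdicCompletion m A ⧸ m.map (algebraMap A (AdicCompletion m A))),
      Ideal.Quotient.algebraMap_eq, Ideal.Quotient.eq]
    rw [pow_one] at ha
    have := Ideal.neg_mem_iff _ |>.mpr ha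
    rwa [neg_sub] at this
  have hB : Algebra.FiniteType A
      (AdicCompletion m A ⧸ m.map (algebraMap A (AdicCompletion m A))) :=
    Algebra.FiniteType.of_surjective (Algebra.ofId A _) hsurjq
  haveI hnoeth : IsNoetherianRing (AdicCompletion m A) :=
    Groth.Agent.Lib.Helper15.CS.isNoetherianRing_of_isAdicComplete_of_finiteType_quotient
      A m (AdicCompletion m A) hB
  -- the augmentation
  let resP : AdicCompletion m A →ₐ[Λ] k :=
    extend m 1 π (fun a ha => by rw [pow_one] at ha; exact ha)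
  have hresP : ∀ a : A, resP (algebraMap A (AdicCompletion m A) a) = π a := fun a =>
    extend_of m 1 π _ a
  have hresPsurj : Function.Surjective resP := fun c => by
    obtain ⟨a, ha⟩ := hπ c
    exact ⟨algebraMap A (AdicCompletion m A) a, (hresP a).trans ha⟩
  have hcompl : IsAdicComplete (IsLocalRing.maximalIdeal (AdicCompletion m A))
      (AdicCompletion m A) := by
    rw [hmeq]; exact hcomp
  let ι : A →ₐ[Λ] AdicCompletion m A :=
    { toRingHom := algebraMap A (AdicCompletion m A)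
      commutes' := fun l => by
        change algebraMap A (AdicCompletion m A) (algebraMap Λ A l) =
          algebraMap Λ (AdicCompletion m A) l
        rw [AdicCompletion.algebraMap_apply, AdicCompletion.algebraMap_apply]
        rfl }
  have hιapp : ∀ a, ι a = algebraMap A (AdicCompletion m A) a := fun a => rfl
  -- killing
  have hkillmap : ∀ (B : Art Λ k) (ψ : AdicCompletion m A →ₐ[Λ] B), B.res.comp ψ = resP →
      ∀ N, IsLocalRing.maximalIdeal B ^ N = ⊥ →
        ∀ y ∈ (m ^ N).map (algebraMap A (AdicCompletion m A)), ψ y = 0 := by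
    intro B ψ hψ N hN
    have h1 : (m ^ N).map (algebraMap A (AdicCompletion m A)) ≤ RingHom.ker ψ := by
      rw [Ideal.map_le_iff_le_comap]
      intro a ha
      rw [Ideal.mem_comap, RingHom.mem_ker]
      have hφ : B.res.comp (ψ.comp ι) = π := by
        rw [← AlgHom.comp_assoc, hψ]
        exact AlgHom.ext hresP
      exact kill_pow π B (ψ.comp ι) hφ N hN a ha
    intro y hy
    exact h1 hy
  refine ⟨{ carrier := AdicCompletion m A, res := resP, res_surjective := hresPsurj,
            isAdicComplete := hcompl }, ι, AlgHom.ext hresP, ?_, ?_, hmeq⟩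
  · intro B φ hφ
    obtain ⟨n, hn⟩ := exists_maximalIdeal_pow_eq_bot B
    have hn' : IsLocalRing.maximalIdeal B ^ (n + 1) = ⊥ := by
      rw [pow_succ, hn, Ideal.bot_mul]
    have hk := kill_pow π B φ hφ (n + 1) hn'
    let ψ₀ : AdicCompletion m A →ₐ[Λ] B := extend m (n + 1) φ hk
    have hψ₀ : ∀ a, ψ₀ (algebraMap A (AdicCompletion m A) a) = φ a := fun a =>
      extend_of m (n + 1) φ hk a
    have hψ₀kill : ∀ y ∈ (m ^ (n + 1)).map (algebraMap A (AdicCompletion m A)), ψ₀ y = 0 := by
      have h1 : (m ^ (n + 1)).map (algebraMap A (AdicCompletion m A)) ≤ RingHom.ker ψ₀ := by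
        rw [Ideal.map_le_iff_le_comap]
        intro a ha
        rw [Ideal.mem_comap, RingHom.mem_ker, hψ₀]
        exact hk a ha
      intro y hy
      exact h1 hy
    have hresPkill : ∀ y ∈ (m ^ (n + 1)).map (algebraMap A (AdicCompletion m A)), resP y = 0 := by
      have h1 : (m ^ (n + 1)).map (algebraMap A (AdicCompletion m A)) ≤ RingHom.ker resP := by
        rw [Ideal.map_le_iff_le_comap]
        intro a ha
        rw [Ideal.mem_comap, RingHom.mem_ker, hresP]
        exact Ideal.pow_le_self (Nat.succ_ne_zero n) ha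
      intro y hy
      exact h1 hy
    have hres : B.res.comp ψ₀ = resP := by
      apply AlgHom.ext
      intro x
      obtain ⟨a, ha⟩ := exists_sub_mem m fg (n + 1) x
      have hx : x = algebraMap A (AdicCompletion m A) a +
          (x - algebraMap A (AdicCompletion m A) a) := by ring
      change B.res (ψ₀ x) = resP x
      rw [hx, map_add, map_add, map_add, hψ₀kill _ ha, hresPkill _ ha, hψ₀, hresP, map_zero,
        add_zero, add_zero]
      exact AlgHom.congr_fun hφ a
    refine ⟨⟨ψ₀, hres⟩, ?_⟩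
    apply AlgHom.ext
    intro a
    exact hψ₀ a
  · intro B ψ₁ ψ₂ h
    obtain ⟨n, hn⟩ := exists_maximalIdeal_pow_eq_bot B
    apply Subtype.ext
    apply AlgHom.ext
    intro x
    obtain ⟨a, ha⟩ := exists_sub_mem m fg n x
    have hx : x = algebraMap A (AdicCompletion m A) a +
        (x - algebraMap A (AdicCompletion m A) a) := by ring
    have e1 := hkillmap B ψ₁.1 ψ₁.2 n hn _ ha
    have e2 := hkillmap B ψ₂.1 ψ₂.2 n hn _ ha
    have e3 : ψ₁.1 (algebraMap A (AdicCompletion m A) a) =
        ψ₂.1 (algebraMap A (AdicCompletion m A) a) := AlgHom.congr_fun h a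
    rw [hx, map_add, map_add, e1, e2, e3]

theorem exists_cring_of_finiteType (A : Type u) [CommRing A] [Algebra Λ A]
    [Algebra.FiniteType Λ A] (π : A →ₐ[Λ] k) (hπ : Function.Surjective π) :
    ∃ (P : CRing Λ k) (ι : A →ₐ[Λ] P.carrier), P.res.comp ι = π ∧
      (∀ (B : Art Λ k) (φ : A →ₐ[Λ] B), B.res.comp φ = π →
        ∃ ψ : HomSet P.carrier P.res B, ψ.1.comp ι = φ) ∧
      (∀ (B : Art Λ k) (ψ₁ ψ₂ : HomSet P.carrier P.res B), ψ₁.1.comp ι = ψ₂.1.comp ι →
        ψ₁ = ψ₂) := by
  obtain ⟨P, ι, h1, h2, h3, _⟩ := exists_cring_of_finiteType_strong A π hπ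
  exact ⟨P, ι, h1, h2, h3⟩

end Completion

section Quot

/-- points of a coefficient ring send the maximal ideal into the maximal ideal -/
theorem homSet_mem_maximalIdeal (R : CRing Λ k) {A : Art Λ k} (φ : HomSet R.carrier R.res A)
    {r : R.carrier} (hr : r ∈ IsLocalRing.maximalIdeal R.carrier) :
    φ.1 r ∈ IsLocalRing.maximalIdeal A := by
  rw [mem_maximalIdeal_iff]
  rw [CRing.mem_maximalIdeal_iff] at hr
  rw [← hr]
  exact AlgHom.congr_fun φ.2 r

theorem homSet_ker_le (R : CRing Λ k) {A : Art Λ k} (φ : HomSet R.carrier R.res A) :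
    RingHom.ker φ.1 ≤ IsLocalRing.maximalIdeal R.carrier := by
  intro r hr
  rw [CRing.mem_maximalIdeal_iff]
  have e : A.res (φ.1 r) = R.res r := AlgHom.congr_fun φ.2 r
  rw [← e, (RingHom.mem_ker.mp hr : φ.1 r = 0), map_zero]

theorem homSet_pow_le_ker (R : CRing Λ k) {A : Art Λ k} (φ : HomSet R.carrier R.res A) (N : ℕ)
    (hN : IsLocalRing.maximalIdeal A ^ N = ⊥) :
    IsLocalRing.maximalIdeal R.carrier ^ N ≤ RingHom.ker φ.1 := by
  intro a ha
  rw [RingHom.mem_ker]
  have hle : (IsLocalRing.maximalIdeal R.carrier).map φ.1 ≤ IsLocalRing.maximalIdeal A := by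
    rw [Ideal.map_le_iff_le_comap]
    intro x hx
    exact homSet_mem_maximalIdeal R φ hx
  have h1 : φ.1 a ∈ (IsLocalRing.maximalIdeal R.carrier ^ N).map φ.1 := Ideal.mem_map_of_mem φ.1 ha
  rw [Ideal.map_pow] at h1
  have h2 := Ideal.pow_right_mono hle N h1
  rw [hN] at h2
  exact h2

theorem exists_pow_le_ker (R : CRing Λ k) {A : Art Λ k} (φ : HomSet R.carrier R.res A) :
    ∃ N, IsLocalRing.maximalIdeal R.carrier ^ N ≤ RingHom.ker φ.1 := by
  obtain ⟨N, hN⟩ := exists_maximalIdeal_pow_eq_bot A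
  exact ⟨N, homSet_pow_le_ker R φ N hN⟩

/-- Quotients of a coefficient ring by an ideal containing a power of the maximal ideal. -/
theorem exists_art_quot (R : CRing Λ k) (K : Ideal R.carrier)
    (hK : K ≤ IsLocalRing.maximalIdeal R.carrier) (n : ℕ)
    (hn : IsLocalRing.maximalIdeal R.carrier ^ n ≤ K) :
    ∃ (B : Art Λ k) (π : HomSet R.carrier R.res B), Function.Surjective π.1 ∧
      RingHom.ker π.1 = K := by
  have hne : K ≠ ⊤ := fun h =>
    (IsLocalRing.maximalIdeal.isMaximal R.carrier).ne_top (top_le_iff.1 (h ▸ hK))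
  haveI : Nontrivial (R.carrier ⧸ K) := Ideal.Quotient.nontrivial_iff.2 hne
  haveI : IsLocalRing (R.carrier ⧸ K) :=
    IsLocalRing.of_surjective' (Ideal.Quotient.mk K) Ideal.Quotient.mk_surjective
  haveI : IsArtinianRing (R.carrier ⧸ K) := by
    rw [isArtinianRing_iff_isNilpotent_maximalIdeal]
    refine ⟨n, ?_⟩
    rw [Ideal.zero_eq_bot, ← le_bot_iff]
    have h1 : IsLocalRing.maximalIdeal (R.carrier ⧸ K) ≤
        (IsLocalRing.maximalIdeal R.carrier).map (Ideal.Quotient.mk K) := by
      intro x hx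
      obtain ⟨a, rfl⟩ := Ideal.Quotient.mk_surjective x
      have ha : a ∈ IsLocalRing.maximalIdeal R.carrier := by
        rw [IsLocalRing.mem_maximalIdeal] at hx ⊢
        exact fun hu => hx (hu.map (Ideal.Quotient.mk K))
      exact Ideal.mem_map_of_mem _ ha
    calc IsLocalRing.maximalIdeal (R.carrier ⧸ K) ^ n
        ≤ ((IsLocalRing.maximalIdeal R.carrier).map (Ideal.Quotient.mk K)) ^ n :=
          Ideal.pow_right_mono h1 _
      _ = (IsLocalRing.maximalIdeal R.carrier ^ n).map (Ideal.Quotient.mk K) := by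
          rw [Ideal.map_pow]
      _ ≤ K.map (Ideal.Quotient.mk K) := Ideal.map_mono hn
      _ = ⊥ := Ideal.map_quotient_self _
  let res' : R.carrier ⧸ K →ₐ[Λ] k :=
    Ideal.Quotient.liftₐ K R.res (fun a ha => (CRing.mem_maximalIdeal_iff R a).1 (hK ha))
  have hres' : Function.Surjective res' := fun c => by
    obtain ⟨a, ha⟩ := R.res_surjective c
    exact ⟨Ideal.Quotient.mk K a, ha⟩
  refine ⟨Art.of (R.carrier ⧸ K) res' hres',
    ⟨Ideal.Quotient.mkₐ Λ K, Ideal.Quotient.liftₐ_comp K R.res _⟩, ?_, ?_⟩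
  · exact Ideal.Quotient.mkₐ_surjective Λ K
  · exact Ideal.Quotient.mkₐ_ker Λ K

/-- Quotients of coefficient rings are coefficient rings. -/
theorem exists_cring_quot (R : CRing Λ k) (J : Ideal R.carrier)
    (hJ : J ≤ IsLocalRing.maximalIdeal R.carrier) :
    ∃ (R' : CRing Λ k) (q : R.carrier →ₐ[Λ] R'.carrier), R'.res.comp q = R.res ∧
      Function.Surjective q ∧ RingHom.ker q = J := by
  have hne : J ≠ ⊤ := fun h =>
    (IsLocalRing.maximalIdeal.isMaximal R.carrier).ne_top (top_le_iff.1 (h ▸ hJ))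
  haveI : Nontrivial (R.carrier ⧸ J) := Ideal.Quotient.nontrivial_iff.2 hne
  haveI hloc : IsLocalRing (R.carrier ⧸ J) :=
    IsLocalRing.of_surjective' (Ideal.Quotient.mk J) Ideal.Quotient.mk_surjective
  haveI : IsAdicComplete (IsLocalRing.maximalIdeal R.carrier) R.carrier := R.isAdicComplete
  have hc := Groth.Agent.Lib.Helper15.CS.isAdicComplete_quotient
    (IsLocalRing.maximalIdeal R.carrier) J
  have hmax : ((IsLocalRing.maximalIdeal R.carrier).map
      (algebraMap R.carrier (R.carrier ⧸ J))).IsMaximal := by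
    rw [Ideal.Quotient.algebraMap_eq]
    exact Ideal.IsMaximal.map_of_surjective_of_ker_le Ideal.Quotient.mk_surjective
      (by rw [Ideal.mk_ker]; exact hJ)
  have hmeq : IsLocalRing.maximalIdeal (R.carrier ⧸ J) =
      (IsLocalRing.maximalIdeal R.carrier).map (algebraMap R.carrier (R.carrier ⧸ J)) :=
    (IsLocalRing.eq_maximalIdeal hmax).symm
  have hcompl : IsAdicComplete (IsLocalRing.maximalIdeal (R.carrier ⧸ J)) (R.carrier ⧸ J) := by
    rw [hmeq]; exact hc
  let res' : R.carrier ⧸ J →ₐ[Λ] k :=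
    Ideal.Quotient.liftₐ J R.res (fun a ha => (CRing.mem_maximalIdeal_iff R a).1 (hJ ha))
  have hres' : Function.Surjective res' := fun c => by
    obtain ⟨a, ha⟩ := R.res_surjective c
    exact ⟨Ideal.Quotient.mk J a, ha⟩
  refine ⟨{ carrier := R.carrier ⧸ J, res := res', res_surjective := hres',
            isAdicComplete := hcompl }, Ideal.Quotient.mkₐ Λ J,
    Ideal.Quotient.liftₐ_comp J R.res _, Ideal.Quotient.mkₐ_surjective Λ J,
    Ideal.Quotient.mkₐ_ker Λ J⟩

end Quot

section Factor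

variable {R : Type u} [CommRing R] [Algebra Λ R] {resR : R →ₐ[Λ] k}

/-- factoring a point through a surjective point with smaller kernel -/
theorem exists_factor {A B : Art Λ k} (π : HomSet R resR A) (hπ : Function.Surjective π.1)
    (ψ : HomSet R resR B) (h : RingHom.ker π.1 ≤ RingHom.ker ψ.1) :
    ∃ t : A ⟶ B, HomSet.map t π = ψ := by
  have H : RingHom.ker π.1.toRingHom ≤ RingHom.ker ψ.1.toRingHom := fun x hx => h hx
  let t₀ : A →ₐ[Λ] B := AlgHom.liftOfSurjective π.1 hπ ψ.1 H
  have ht₀ : ∀ r, t₀ (π.1 r) = ψ.1 r := fun r => AlgHom.liftOfSurjective_apply π.1 hπ ψ.1 H r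
  have hres : B.res.comp t₀ = A.res := by
    apply AlgHom.ext
    intro a
    obtain ⟨r, rfl⟩ := hπ a
    change B.res (t₀ (π.1 r)) = A.res (π.1 r)
    rw [ht₀]
    have e1 : B.res (ψ.1 r) = resR r := AlgHom.congr_fun ψ.2 r
    have e2 : A.res (π.1 r) = resR r := AlgHom.congr_fun π.2 r
    rw [e1, e2]
  refine ⟨Art.homMk t₀ hres, ?_⟩
  apply Subtype.ext
  apply AlgHom.ext
  intro r
  exact ht₀ r

theorem hom_eq_of_map_eq {A B : Art Λ k} (π : HomSet R resR A) (hπ : Function.Surjective π.1)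
    (t t' : A ⟶ B) (h : HomSet.map t π = HomSet.map t' π) : t = t' := by
  apply Art.hom_ext
  apply AlgHom.ext
  intro a
  obtain ⟨r, rfl⟩ := hπ a
  exact AlgHom.congr_fun (congrArg Subtype.val h) r

theorem homSet_map_apply {A B : Art Λ k} (t : A ⟶ B) (π : HomSet R resR A) (r : R) :
    (HomSet.map t π).1 r = t (π.1 r) := rfl

/-- factoring a point of `P` through a surjection of coefficient rings -/
theorem exists_factor_cring {P R' : CRing Λ k} (q : P.carrier →ₐ[Λ] R'.carrier)
    (hq : R'.res.comp q = P.res) (hqs : Function.Surjective q) {B : Art Λ k}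
    (ψ : HomSet P.carrier P.res B) (h : RingHom.ker q ≤ RingHom.ker ψ.1) :
    ∃ φ : HomSet R'.carrier R'.res B, ∀ p, φ.1 (q p) = ψ.1 p := by
  have H : RingHom.ker q.toRingHom ≤ RingHom.ker ψ.1.toRingHom := fun x hx => h hx
  let t₀ : R'.carrier →ₐ[Λ] B := AlgHom.liftOfSurjective q hqs ψ.1 H
  have ht₀ : ∀ r, t₀ (q r) = ψ.1 r := fun r => AlgHom.liftOfSurjective_apply q hqs ψ.1 H r
  have hres : B.res.comp t₀ = R'.res := by
    apply AlgHom.ext
    intro a
    obtain ⟨r, rfl⟩ := hqs a
    change B.res (t₀ (q r)) = R'.res (q r)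
    rw [ht₀]
    have e1 : B.res (ψ.1 r) = P.res r := AlgHom.congr_fun ψ.2 r
    have e2 : R'.res (q r) = P.res r := AlgHom.congr_fun hq r
    rw [e1, e2]
  exact ⟨⟨t₀, hres⟩, ht₀⟩

end Factor

section Chevalley

/-- Chevalley's lemma for a decreasing sequence of open ideals of a coefficient ring. -/
theorem chevalley (R : CRing Λ k) (K : ℕ → Ideal R.carrier) (hanti : Antitone K)
    (hpow : ∀ q, ∃ N, IsLocalRing.maximalIdeal R.carrier ^ N ≤ K q) (n : ℕ) :
    ∃ q, K q ≤ (⨅ q, K q) ⊔ IsLocalRing.maximalIdeal R.carrier ^ n := by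
  classical
  set 𝔪 := IsLocalRing.maximalIdeal R.carrier with h𝔪
  -- stabilisation modulo powers of the maximal ideal
  have stab : ∀ n, ∃ q₀, ∀ q, q₀ ≤ q → K q₀ ≤ K q ⊔ 𝔪 ^ n := by
    intro n
    cases n with
    | zero =>
      refine ⟨0, fun q _ => ?_⟩
      rw [pow_zero, Ideal.one_eq_top, sup_top_eq]
      exact le_top
    | succ n =>
      haveI : IsArtinianRing (R.carrier ⧸ 𝔪 ^ (n + 1)) := CRing.isArtinianRing_quot_mpow R n
      let f : ℕ →o (Ideal (R.carrier ⧸ 𝔪 ^ (n + 1)))ᵒᵈ :=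
        ⟨fun q => OrderDual.toDual ((K q).map (Ideal.Quotient.mk (𝔪 ^ (n + 1)))),
          fun a b hab => Ideal.map_mono (hanti hab)⟩
      obtain ⟨q₀, hq₀⟩ := IsArtinian.monotone_stabilizes f
      refine ⟨q₀, fun q hq => ?_⟩
      have e : (K q₀).map (Ideal.Quotient.mk (𝔪 ^ (n + 1))) =
          (K q).map (Ideal.Quotient.mk (𝔪 ^ (n + 1))) := hq₀ q hq
      have e2 := congrArg (Ideal.comap (Ideal.Quotient.mk (𝔪 ^ (n + 1)))) e
      rw [Ideal.comap_map_of_surjective' _ Ideal.Quotient.mk_surjective,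
        Ideal.comap_map_of_surjective' _ Ideal.Quotient.mk_surjective, Ideal.mk_ker] at e2
      exact le_sup_left.trans (le_of_eq e2)
  choose c hc using stab
  let Q : ℕ → ℕ := fun n => (Finset.range (n + 1)).sup c + n
  have hQc : ∀ n, c n ≤ Q n := fun n =>
    (Finset.le_sup (f := c) (Finset.mem_range.mpr (Nat.lt_succ_self n))).trans
      (Nat.le_add_right _ _)
  have hQn : ∀ n, n ≤ Q n := fun n => Nat.le_add_left _ _
  have hQmono : ∀ n, Q n ≤ Q (n + 1) := fun n =>
    Nat.add_le_add (Finset.sup_mono (Finset.range_mono (Nat.le_succ _))) (Nat.le_succ _)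
  have hQstab : ∀ n q, Q n ≤ q → K (Q n) ≤ K q ⊔ 𝔪 ^ n := fun n q hq =>
    (hanti (hQc n)).trans (hc n q ((hQc n).trans hq))
  refine ⟨Q n, fun y hy => ?_⟩
  -- the approximating sequence
  have next : ∀ (j : ℕ) (z : R.carrier), z ∈ K (Q (n + j)) →
      ∃ z' : R.carrier, z' ∈ K (Q (n + j + 1)) ∧ z' - z ∈ 𝔪 ^ (n + j) := by
    intro j z hz
    have h1 := hQstab (n + j) (Q (n + j + 1)) (hQmono (n + j)) hz
    obtain ⟨a, ha, b, hb, hab⟩ := Submodule.mem_sup.mp h1
    refine ⟨a, ha, ?_⟩
    have : a - z = -b := by rw [← hab]; ring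
    rw [this]
    exact neg_mem hb
  choose! nxt hnxt using next
  let f : ℕ → R.carrier := fun j => Nat.rec y (fun j z => nxt j z) j
  have hf0 : f 0 = y := rfl
  have hfs : ∀ j, f (j + 1) = nxt j (f j) := fun j => rfl
  have hfmem : ∀ j, f j ∈ K (Q (n + j)) := by
    intro j
    induction j with
    | zero => exact hy
    | succ j ih => rw [hfs]; exact (hnxt j (f j) ih).1
  have hfdiff : ∀ j, f (j + 1) - f j ∈ 𝔪 ^ (n + j) := by
    intro j
    rw [hfs]
    exact (hnxt j (f j) (hfmem j)).2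
  have hC : ∀ j, f j ≡ f (j + 1) [SMOD (𝔪 ^ j • ⊤ : Submodule R.carrier R.carrier)] := by
    intro j
    rw [SModEq.sub_mem, smul_eq_mul, Ideal.mul_top]
    have h1 := Ideal.pow_le_pow_right (Nat.le_add_left j n) (hfdiff j)
    have h2 : f j - f (j + 1) = -(f (j + 1) - f j) := by ring
    rw [h2]
    exact neg_mem h1
  have hprec : IsPrecomplete 𝔪 R.carrier := R.isAdicComplete.toIsPrecomplete
  obtain ⟨L, hL⟩ := IsPrecomplete.prec hprec
    (fun {a b} hab => (AdicCompletion.isAdicCauchy_iff 𝔪 R.carrier f).mpr hC hab)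
  have hL' : ∀ j, f j - L ∈ 𝔪 ^ j := by
    intro j
    have h1 := hL j
    rw [SModEq.sub_mem, smul_eq_mul, Ideal.mul_top] at h1
    exact h1
  have hLinf : L ∈ ⨅ q, K q := by
    rw [Ideal.mem_iInf]
    intro q
    obtain ⟨N, hN⟩ := hpow q
    have h1 : f (max q N) ∈ K q :=
      hanti ((le_max_left q N).trans ((Nat.le_add_left _ n).trans (hQn _))) (hfmem (max q N))
    have h2 : f (max q N) - L ∈ K q :=
      hN (Ideal.pow_le_pow_right (le_max_right q N) (hL' (max q N)))
    have h3 : L = f (max q N) - (f (max q N) - L) := by ring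
    rw [h3]
    exact sub_mem h1 h2
  have hfy : ∀ j, f j - y ∈ 𝔪 ^ n := by
    intro j
    induction j with
    | zero => rw [hf0, sub_self]; exact zero_mem _
    | succ j ih =>
      have h1 := Ideal.pow_le_pow_right (Nat.le_add_right n j) (hfdiff j)
      have h2 : f (j + 1) - y = (f (j + 1) - f j) + (f j - y) := by ring
      rw [h2]
      exact add_mem h1 ih
  have hyL : y - L ∈ 𝔪 ^ n := by
    have h2 : y - L = (f n - L) - (f n - y) := by ring
    rw [h2]
    exact sub_mem (hL' n) (hfy n)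
  exact Submodule.mem_sup.mpr ⟨L, hLinf, y - L, hyL, by ring⟩

end Chevalley

section Smooth

variable [IsNoetherianRing Λ]

/-- `aeval` at a spanning family is surjective -/
theorem aeval_surjective_of_span {E : Type u} [CommRing E] [Algebra Λ E] {n : ℕ} (s : Fin n → E)
    (hs : Submodule.span Λ (Set.range s) = ⊤) :
    Function.Surjective (MvPolynomial.aeval s : MvPolynomial (Fin n) Λ →ₐ[Λ] E) := by
  intro x
  have hx : x ∈ Submodule.span Λ (Set.range s) := by rw [hs]; exact Submodule.mem_top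
  obtain ⟨c, hc⟩ := (Submodule.mem_span_range_iff_exists_fun Λ).mp hx
  refine ⟨∑ i, MvPolynomial.C (c i) * MvPolynomial.X i, ?_⟩
  rw [map_sum, ← hc]
  refine Finset.sum_congr rfl (fun i _ => ?_)
  rw [map_mul, MvPolynomial.aeval_C, MvPolynomial.aeval_X, Algebra.smul_def]

/-- The completion of a polynomial ring at the kernel of a surjection to `k`: a coefficient ring
with smooth functor of points. -/
theorem exists_smooth_cring_strong (n : ℕ) (π : MvPolynomial (Fin n) Λ →ₐ[Λ] k)
    (hπ : Function.Surjective π) :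
    ∃ (P : CRing Λ k) (ι : MvPolynomial (Fin n) Λ →ₐ[Λ] P.carrier), P.res.comp ι = π ∧
      (∀ (B : Art Λ k) (φ : MvPolynomial (Fin n) Λ →ₐ[Λ] B), B.res.comp φ = π →
        ∃ ψ : HomSet P.carrier P.res B, ψ.1.comp ι = φ) ∧
      (∀ (B : Art Λ k) (ψ₁ ψ₂ : HomSet P.carrier P.res B), ψ₁.1.comp ι = ψ₂.1.comp ι →
        ψ₁ = ψ₂) ∧
      IsSmoothFunctor (hR P.carrier P.res) ∧
      IsLocalRing.maximalIdeal P.carrier =
        (RingHom.ker (π : MvPolynomial (Fin n) Λ →+* k)).map
          (ι : MvPolynomial (Fin n) Λ →+* P.carrier) := by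
  obtain ⟨P, ι, hι, hex, huniq, hmax⟩ :=
    exists_cring_of_finiteType_strong (MvPolynomial (Fin n) Λ) π hπ
  refine ⟨P, ι, hι, hex, huniq, ?_, hmax⟩
  intro B A' μ hμ φ
  choose b hb using fun i : Fin n => hμ (φ.1 (ι (MvPolynomial.X i)))
  let ψ₀ : MvPolynomial (Fin n) Λ →ₐ[Λ] B := MvPolynomial.aeval b
  have hμψ₀ : μ.toAlgHom.comp ψ₀ = φ.1.comp ι := by
    apply MvPolynomial.algHom_ext
    intro i
    change μ (MvPolynomial.aeval b (MvPolynomial.X i)) = φ.1 (ι (MvPolynomial.X i))
    rw [MvPolynomial.aeval_X]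
    exact hb i
  have hres : B.res.comp ψ₀ = π := by
    rw [← μ.res_comp, AlgHom.comp_assoc, hμψ₀, ← AlgHom.comp_assoc, φ.2, hι]
  obtain ⟨ψ, hψ⟩ := hex B ψ₀ hres
  refine ⟨ψ, ?_⟩
  apply huniq A' (HomSet.map μ ψ) φ
  change (μ.toAlgHom.comp ψ.1).comp ι = φ.1.comp ι
  rw [AlgHom.comp_assoc, hψ, hμψ₀]

theorem exists_smooth_cring (n : ℕ) (π : MvPolynomial (Fin n) Λ →ₐ[Λ] k)
    (hπ : Function.Surjective π) :
    ∃ (P : CRing Λ k) (ι : MvPolynomial (Fin n) Λ →ₐ[Λ] P.carrier), P.res.comp ι = π ∧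
      (∀ (B : Art Λ k) (φ : MvPolynomial (Fin n) Λ →ₐ[Λ] B), B.res.comp φ = π →
        ∃ ψ : HomSet P.carrier P.res B, ψ.1.comp ι = φ) ∧
      (∀ (B : Art Λ k) (ψ₁ ψ₂ : HomSet P.carrier P.res B), ψ₁.1.comp ι = ψ₂.1.comp ι →
        ψ₁ = ψ₂) ∧
      IsSmoothFunctor (hR P.carrier P.res) := by
  obtain ⟨P, ι, h1, h2, h3, h4, _⟩ := exists_smooth_cring_strong n π hπ
  exact ⟨P, ι, h1, h2, h3, h4⟩

variable [Module.Finite Λ k]

/-- Every object is a quotient of a coefficient ring with smooth functor of points. -/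
theorem exists_smooth_cring_onto (E : Art Λ k) :
    ∃ (P : CRing Λ k) (g : HomSet P.carrier P.res E), Function.Surjective g.1 ∧
      IsSmoothFunctor (hR P.carrier P.res) := by
  haveI : Module.Finite Λ E := Groth.Agent.Lib.Helper19.ArtFunLength.finite_art E
  obtain ⟨n, s, hs⟩ := Module.Finite.exists_fin (R := Λ) (M := E)
  let θ : MvPolynomial (Fin n) Λ →ₐ[Λ] E := MvPolynomial.aeval s
  have hθ : Function.Surjective θ := aeval_surjective_of_span s hs
  have hπ : Function.Surjective (E.res.comp θ) := E.res_surjective.comp hθ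
  obtain ⟨P, ι, hι, hex, huniq, hsm⟩ := exists_smooth_cring n (E.res.comp θ) hπ
  obtain ⟨g, hg⟩ := hex E θ rfl
  refine ⟨P, g, ?_, hsm⟩
  intro e
  obtain ⟨a, ha⟩ := hθ e
  refine ⟨ι a, ?_⟩
  rw [← ha, ← hg]
  rfl

end Smooth

end Groth.Agent.Lib.Helper19.ArtFunComplete
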