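import Mathlib
import Groth.Prelude.Def_ArtFun5
import Groth.Prelude.Def_W4sfdMinVersal
import Groth.Agent.Lib.Helper19.ArtFunComplete

/-!
# The category of coefficient rings (helper19)

* `eq_of_forall_mk_eq`, `cring_hom_ext`: separatedness of coefficient rings;
* `exists_lift_cring`, `lift_cring_unique`: the completion `P` of a finite type algebra `A` has the
  universal property also for targets in `CRing Λ k` (not only Artinian ones);
* `exists_presentation`: every coefficient ring is a quotient of a smooth one (the completion of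
  a polynomial ring);
* `exists_coproduct`, `exists_pushout`: coproducts and pushouts of coefficient rings.
-/

set_option autoImplicit false
universe u v

open CategoryTheory

namespace Groth.Agent.Lib.Helper19.ArtFunCRing

open ArtFun ArtFun.Art
open Groth.Agent.Lib.Helper19.ArtFunBasic
open Groth.Agent.Lib.Helper19.ArtFunComplete

variable {Λ : Type u} {k : Type u} [CommRing Λ] [Field k] [Algebra Λ k]

/-- elements of a coefficient ring agreeing modulo all powers of the maximal ideal are equal -/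
theorem eq_of_forall_mk_eq (T : CRing Λ k) (x y : T.carrier)
    (H : ∀ n, Ideal.Quotient.mk (CRing.mpow T n) x = Ideal.Quotient.mk (CRing.mpow T n) y) :
    x = y := by
  have := T.isAdicComplete
  have hh : IsHausdorff (IsLocalRing.maximalIdeal T.carrier) T.carrier := inferInstance
  have h0 : x - y = 0 := by
    refine hh.haus' (x - y) (fun n => ?_)
    rw [SModEq.zero]
    have hmem : x - y ∈ CRing.mpow T n := Ideal.Quotient.eq.mp (H n)
    have h2 : x - y ∈ IsLocalRing.maximalIdeal T.carrier ^ n :=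
      Ideal.pow_le_pow_right (Nat.le_succ n) hmem
    rw [Ideal.smul_eq_mul, Ideal.mul_top]
    exact h2
  exact sub_eq_zero.mp h0

theorem cring_hom_ext {P T : CRing Λ k} (h₁ h₂ : P.carrier →ₐ[Λ] T.carrier)
    (H : ∀ n, (T.truncHom n).1.comp h₁ = (T.truncHom n).1.comp h₂) : h₁ = h₂ := by
  apply AlgHom.ext
  intro p
  apply eq_of_forall_mk_eq T
  intro n
  exact AlgHom.congr_fun (H n) p

section Lift

variable {A : Type u} [CommRing A] [Algebra Λ A]

theorem lift_cring_unique (P : CRing Λ k) (ι : A →ₐ[Λ] P.carrier)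
    (huniq : ∀ (B : Art Λ k) (ψ₁ ψ₂ : HomSet P.carrier P.res B), ψ₁.1.comp ι = ψ₂.1.comp ι →
      ψ₁ = ψ₂)
    (T : CRing Λ k) (h₁ h₂ : P.carrier →ₐ[Λ] T.carrier)
    (hh₁ : T.res.comp h₁ = P.res) (hh₂ : T.res.comp h₂ = P.res)
    (h : h₁.comp ι = h₂.comp ι) : h₁ = h₂ := by
  apply cring_hom_ext
  intro n
  have hres : ∀ (h' : P.carrier →ₐ[Λ] T.carrier), T.res.comp h' = P.res →
      (T.trunc n).res.comp ((T.truncHom n).1.comp h') = P.res := by
    intro h' hh'
    rw [← AlgHom.comp_assoc, (T.truncHom n).2, hh']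
  have key := huniq (T.trunc n) ⟨(T.truncHom n).1.comp h₁, hres h₁ hh₁⟩
    ⟨(T.truncHom n).1.comp h₂, hres h₂ hh₂⟩ (by
      change ((T.truncHom n).1.comp h₁).comp ι = ((T.truncHom n).1.comp h₂).comp ι
      rw [AlgHom.comp_assoc, AlgHom.comp_assoc, h])
  exact congrArg Subtype.val key

theorem exists_lift_cring (π : A →ₐ[Λ] k) (P : CRing Λ k) (ι : A →ₐ[Λ] P.carrier)
    (hex : ∀ (B : Art Λ k) (φ : A →ₐ[Λ] B), B.res.comp φ = π →
        ∃ ψ : HomSet P.carrier P.res B, ψ.1.comp ι = φ)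
    (huniq : ∀ (B : Art Λ k) (ψ₁ ψ₂ : HomSet P.carrier P.res B), ψ₁.1.comp ι = ψ₂.1.comp ι →
      ψ₁ = ψ₂)
    (T : CRing Λ k) (g : A →ₐ[Λ] T.carrier) (hg : T.res.comp g = π) :
    ∃ h : P.carrier →ₐ[Λ] T.carrier, T.res.comp h = P.res ∧ h.comp ι = g := by
  classical
  have := T.isAdicComplete
  have hφ : ∀ n, (T.trunc n).res.comp ((T.truncHom n).1.comp g) = π := by
    intro n
    rw [← AlgHom.comp_assoc, (T.truncHom n).2, hg]
  choose ψ hψ using fun n => hex (T.trunc n) ((T.truncHom n).1.comp g) (hφ n)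
  have ha : StrictMono (fun n : ℕ => n + 1) := fun a b hab => Nat.succ_lt_succ hab
  let f : (n : ℕ) → P.carrier →+* T.carrier ⧸ IsLocalRing.maximalIdeal T.carrier ^ (n + 1) :=
    fun n => ((ψ n).1 : P.carrier →+* T.trunc n)
  have hf : ∀ {m : ℕ}, (Ideal.Quotient.factorPow (IsLocalRing.maximalIdeal T.carrier)
      (ha.monotone m.le_succ)).comp (f (m + 1)) = f m := by
    intro m
    have e : HomSet.map (T.truncMap m) (ψ (m + 1)) = ψ m := by
      apply huniq
      change ((T.truncMap m).toAlgHom.comp (ψ (m + 1)).1).comp ι = (ψ m).1.comp ι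
      rw [AlgHom.comp_assoc, hψ, hψ, ← AlgHom.comp_assoc]
      congr 1
    apply RingHom.ext
    intro p
    have e2 : (T.truncMap m) ((ψ (m + 1)).1 p) = (ψ m).1 p :=
      AlgHom.congr_fun (congrArg Subtype.val e) p
    change Ideal.Quotient.factorPow (IsLocalRing.maximalIdeal T.carrier) (ha.monotone m.le_succ)
      ((ψ (m + 1)).1 p) = (ψ m).1 p
    rw [← e2]
    generalize (ψ (m + 1)).1 p = y
    obtain ⟨t, rfl⟩ := Ideal.Quotient.mk_surjective y
    rfl
  let h₀ : P.carrier →+* T.carrier :=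
    IsAdicComplete.StrictMono.liftRingHom (IsLocalRing.maximalIdeal T.carrier) ha f hf
  have hmk : ∀ n p, Ideal.Quotient.mk (IsLocalRing.maximalIdeal T.carrier ^ (n + 1)) (h₀ p) =
      (ψ n).1 p := fun n p =>
    IsAdicComplete.StrictMono.mk_liftRingHom (IsLocalRing.maximalIdeal T.carrier) ha f hf
      (n := n) p
  have hι : ∀ a, h₀ (ι a) = g a := by
    intro a
    apply eq_of_forall_mk_eq T
    intro n
    rw [hmk n (ι a)]
    exact AlgHom.congr_fun (hψ n) a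
  have hcomm : ∀ l : Λ, h₀ (algebraMap Λ P.carrier l) = algebraMap Λ T.carrier l := by
    intro l
    have e1 : algebraMap Λ P.carrier l = ι (algebraMap Λ A l) := (ι.commutes l).symm
    rw [e1, hι, g.commutes]
  let h : P.carrier →ₐ[Λ] T.carrier := { toRingHom := h₀, commutes' := hcomm }
  refine ⟨h, ?_, AlgHom.ext hι⟩
  apply AlgHom.ext
  intro p
  have e0 : T.res (h₀ p) = (T.trunc 0).res ((T.truncHom 0).1 (h₀ p)) :=
    (AlgHom.congr_fun (T.truncHom 0).2 (h₀ p)).symm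
  change T.res (h₀ p) = P.res p
  rw [e0]
  change (T.trunc 0).res (Ideal.Quotient.mk _ (h₀ p)) = P.res p
  rw [hmk 0 p]
  exact AlgHom.congr_fun (ψ 0).2 p

end Lift

section Present

variable [IsNoetherianRing Λ] [Module.Finite Λ k]

/-- Every coefficient ring is a quotient of the completion of a polynomial ring. -/
theorem exists_presentation (R : CRing Λ k) :
    ∃ (n : ℕ) (π : MvPolynomial (Fin n) Λ →ₐ[Λ] k) (P : CRing Λ k)
      (ι : MvPolynomial (Fin n) Λ →ₐ[Λ] P.carrier) (q : P.carrier →ₐ[Λ] R.carrier),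
      Function.Surjective π ∧ P.res.comp ι = π ∧
      (∀ (B : Art Λ k) (φ : MvPolynomial (Fin n) Λ →ₐ[Λ] B), B.res.comp φ = π →
        ∃ ψ : HomSet P.carrier P.res B, ψ.1.comp ι = φ) ∧
      (∀ (B : Art Λ k) (ψ₁ ψ₂ : HomSet P.carrier P.res B), ψ₁.1.comp ι = ψ₂.1.comp ι →
        ψ₁ = ψ₂) ∧
      IsSmoothFunctor (hR P.carrier P.res) ∧
      R.res.comp q = P.res ∧ Function.Surjective q := by
  classical
  obtain ⟨a, s, hs⟩ := Submodule.fg_iff_exists_fin_generating_family.mp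
    (IsNoetherian.noetherian (IsLocalRing.maximalIdeal R.carrier))
  obtain ⟨b, t, ht⟩ := Module.Finite.exists_fin (R := Λ) (M := k)
  choose r hr using fun j => R.res_surjective (t j)
  let v : Fin (a + b) → R.carrier := Fin.append s r
  let g : MvPolynomial (Fin (a + b)) Λ →ₐ[Λ] R.carrier := MvPolynomial.aeval v
  have hgC : ∀ c, g (MvPolynomial.C c) = algebraMap Λ R.carrier c :=
    fun c => MvPolynomial.aeval_C v c
  have hgX : ∀ i, g (MvPolynomial.X i) = v i := fun i => MvPolynomial.aeval_X v i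
  let π : MvPolynomial (Fin (a + b)) Λ →ₐ[Λ] k := R.res.comp g
  have hπ : Function.Surjective π := by
    intro c
    have hc : c ∈ Submodule.span Λ (Set.range t) := by rw [ht]; exact Submodule.mem_top
    obtain ⟨w, hw⟩ := (Submodule.mem_span_range_iff_exists_fun Λ).mp hc
    refine ⟨∑ j, MvPolynomial.C (w j) * MvPolynomial.X (Fin.natAdd a j), ?_⟩
    rw [map_sum, ← hw]
    refine Finset.sum_congr rfl (fun j _ => ?_)
    change R.res (g (MvPolynomial.C (w j) * MvPolynomial.X (Fin.natAdd a j))) = w j • t j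
    rw [map_mul, map_mul, hgC, hgX, AlgHom.commutes, Algebra.smul_def]
    change algebraMap Λ k (w j) * R.res (Fin.append s r (Fin.natAdd a j)) = _
    rw [Fin.append_right, hr]
  obtain ⟨P, ι, hι, hex, huniq, hsm, hmax⟩ := exists_smooth_cring_strong (a + b) π hπ
  obtain ⟨q, hq, hqι⟩ := exists_lift_cring π P ι hex huniq R g rfl
  refine ⟨a + b, π, P, ι, q, hπ, hι, hex, huniq, hsm, hq, ?_⟩
  have := P.isAdicComplete
  have := R.isAdicComplete
  have hmap : (IsLocalRing.maximalIdeal P.carrier).map (q : P.carrier →+* R.carrier) =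
      IsLocalRing.maximalIdeal R.carrier := by
    apply le_antisymm
    · rw [Ideal.map_le_iff_le_comap]
      exact CRing.maximalIdeal_le_comap q hq
    · have hs' : Ideal.span (Set.range s) = IsLocalRing.maximalIdeal R.carrier := hs
      rw [← hs', Ideal.span_le]
      rintro _ ⟨i, rfl⟩
      have e : s i = q (ι (MvPolynomial.X (Fin.castAdd b i))) := by
        have e1 : q (ι (MvPolynomial.X (Fin.castAdd b i))) = g (MvPolynomial.X (Fin.castAdd b i)) :=
          AlgHom.congr_fun hqι _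
        rw [e1, hgX]
        exact (Fin.append_left s r i).symm
      rw [e]
      apply Ideal.mem_map_of_mem
      rw [hmax]
      apply Ideal.mem_map_of_mem
      rw [RingHom.mem_ker]
      change R.res (g (MvPolynomial.X (Fin.castAdd b i))) = 0
      rw [hgX]
      change R.res (Fin.append s r (Fin.castAdd b i)) = 0
      rw [Fin.append_left, ← CRing.mem_maximalIdeal_iff, ← hs']
      exact Ideal.subset_span ⟨i, rfl⟩
  have hH : IsHausdorff ((IsLocalRing.maximalIdeal P.carrier).map (q : P.carrier →+* R.carrier))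
      R.carrier := by
    rw [hmap]; infer_instance
  have hsurj := surjective_of_mk_map_comp_surjective (I := IsLocalRing.maximalIdeal P.carrier)
    (q : P.carrier →+* R.carrier) (by
      intro y
      obtain ⟨x, rfl⟩ := Ideal.Quotient.mk_surjective y
      obtain ⟨p, hp⟩ := P.res_surjective (R.res x)
      refine ⟨p, ?_⟩
      change Ideal.Quotient.mk _ (q p) = Ideal.Quotient.mk _ x
      rw [Ideal.Quotient.eq, hmap, CRing.mem_maximalIdeal_iff, map_sub, sub_eq_zero, ← hp]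
      exact AlgHom.congr_fun hq p)
  intro y
  obtain ⟨p, hp⟩ := hsurj y
  exact ⟨p, hp⟩

/-- Coproducts of coefficient rings. -/
theorem exists_coproduct (R S : CRing Λ k) :
    ∃ (C : CRing Λ k) (i₁ : R.carrier →ₐ[Λ] C.carrier) (i₂ : S.carrier →ₐ[Λ] C.carrier),
      C.res.comp i₁ = R.res ∧ C.res.comp i₂ = S.res ∧
      ∀ (T : CRing Λ k) (g₁ : R.carrier →ₐ[Λ] T.carrier) (g₂ : S.carrier →ₐ[Λ] T.carrier),
        T.res.comp g₁ = R.res → T.res.comp g₂ = S.res →
          ∃! h : C.carrier →ₐ[Λ] T.carrier, T.res.comp h = C.res ∧ h.comp i₁ = g₁ ∧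
            h.comp i₂ = g₂ := by
  classical
  obtain ⟨n₁, π₁, P₁, ι₁, q₁, hπ₁, hι₁, hex₁, huniq₁, -, hq₁, hq₁s⟩ := exists_presentation R
  obtain ⟨n₂, π₂, P₂, ι₂, q₂, hπ₂, hι₂, hex₂, huniq₂, -, hq₂, hq₂s⟩ := exists_presentation S
  let π : MvPolynomial (Fin n₁ ⊕ Fin n₂) Λ →ₐ[Λ] k :=
    MvPolynomial.aeval (Sum.elim (fun i => π₁ (MvPolynomial.X i)) (fun j => π₂ (MvPolynomial.X j)))
  have hπl : π.comp (MvPolynomial.rename Sum.inl) = π₁ := by
    apply MvPolynomial.algHom_ext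
    intro i
    change π (MvPolynomial.rename Sum.inl (MvPolynomial.X i)) = π₁ (MvPolynomial.X i)
    rw [MvPolynomial.rename_X]
    exact MvPolynomial.aeval_X _ (Sum.inl i)
  have hπr : π.comp (MvPolynomial.rename Sum.inr) = π₂ := by
    apply MvPolynomial.algHom_ext
    intro j
    change π (MvPolynomial.rename Sum.inr (MvPolynomial.X j)) = π₂ (MvPolynomial.X j)
    rw [MvPolynomial.rename_X]
    exact MvPolynomial.aeval_X _ (Sum.inr j)
  have hπ : Function.Surjective π := by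
    intro c
    obtain ⟨a, ha⟩ := hπ₁ c
    exact ⟨MvPolynomial.rename Sum.inl a, by rw [← ha]; exact AlgHom.congr_fun hπl a⟩
  obtain ⟨P, ι, hι, hex, huniq⟩ :=
    exists_cring_of_finiteType (MvPolynomial (Fin n₁ ⊕ Fin n₂) Λ) π hπ
  obtain ⟨j₁, hj₁, hj₁ι⟩ := exists_lift_cring π₁ P₁ ι₁ hex₁ huniq₁ P
    (ι.comp (MvPolynomial.rename Sum.inl)) (by rw [← AlgHom.comp_assoc, hι, hπl])
  obtain ⟨j₂, hj₂, hj₂ι⟩ := exists_lift_cring π₂ P₂ ι₂ hex₂ huniq₂ P
    (ι.comp (MvPolynomial.rename Sum.inr)) (by rw [← AlgHom.comp_assoc, hι, hπr])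
  let J₀ : Ideal P.carrier :=
    { carrier := {p | ∀ (T : CRing Λ k) (h : P.carrier →ₐ[Λ] T.carrier), T.res.comp h = P.res →
        (∀ x, q₁ x = 0 → h (j₁ x) = 0) → (∀ y, q₂ y = 0 → h (j₂ y) = 0) → h p = 0}
      add_mem' := fun {p p'} hp hp' T h hh h1 h2 => by
        rw [map_add, hp T h hh h1 h2, hp' T h hh h1 h2, add_zero]
      zero_mem' := fun T h _ _ _ => map_zero h
      smul_mem' := fun c p hp T h hh h1 h2 => by
        rw [smul_eq_mul, map_mul, hp T h hh h1 h2, mul_zero] }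
  have hJ₀mem : ∀ p, (∀ (T : CRing Λ k) (h : P.carrier →ₐ[Λ] T.carrier), T.res.comp h = P.res →
        (∀ x, q₁ x = 0 → h (j₁ x) = 0) → (∀ y, q₂ y = 0 → h (j₂ y) = 0) → h p = 0) → p ∈ J₀ :=
    fun p hp => hp
  have hJ₀elim : ∀ p, p ∈ J₀ → ∀ (T : CRing Λ k) (h : P.carrier →ₐ[Λ] T.carrier),
        T.res.comp h = P.res →
        (∀ x, q₁ x = 0 → h (j₁ x) = 0) → (∀ y, q₂ y = 0 → h (j₂ y) = 0) → h p = 0 :=
    fun p hp => hp
  obtain ⟨C, qC, hqC, hqCs, hqCker⟩ :=
    exists_cring_quot P (IsLocalRing.maximalIdeal P.carrier ⊓ J₀) inf_le_left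
  have hresC : ∀ p, C.res (qC p) = P.res p := fun p => AlgHom.congr_fun hqC p
  have hresj₁ : ∀ x, P.res (j₁ x) = P₁.res x := fun x => AlgHom.congr_fun hj₁ x
  have hresj₂ : ∀ x, P.res (j₂ x) = P₂.res x := fun x => AlgHom.congr_fun hj₂ x
  have hresq₁ : ∀ x, R.res (q₁ x) = P₁.res x := fun x => AlgHom.congr_fun hq₁ x
  have hresq₂ : ∀ x, S.res (q₂ x) = P₂.res x := fun x => AlgHom.congr_fun hq₂ x
  have hJ₁ : ∀ x, q₁ x = 0 → qC (j₁ x) = 0 := by
    intro x hx
    have hmem : j₁ x ∈ RingHom.ker qC := by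
      rw [hqCker]
      refine Ideal.mem_inf.mpr ⟨?_, ?_⟩
      · rw [CRing.mem_maximalIdeal_iff, hresj₁, ← hresq₁, hx, map_zero]
      · exact hJ₀mem _ (fun T h hh h1 h2 => h1 x hx)
    exact hmem
  have hJ₂ : ∀ y, q₂ y = 0 → qC (j₂ y) = 0 := by
    intro y hy
    have hmem : j₂ y ∈ RingHom.ker qC := by
      rw [hqCker]
      refine Ideal.mem_inf.mpr ⟨?_, ?_⟩
      · rw [CRing.mem_maximalIdeal_iff, hresj₂, ← hresq₂, hy, map_zero]
      · exact hJ₀mem _ (fun T h hh h1 h2 => h2 y hy)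
    exact hmem
  have H₁ : RingHom.ker q₁.toRingHom ≤ RingHom.ker (qC.comp j₁).toRingHom := fun x hx =>
    hJ₁ x hx
  have H₂ : RingHom.ker q₂.toRingHom ≤ RingHom.ker (qC.comp j₂).toRingHom := fun y hy =>
    hJ₂ y hy
  let i₁ : R.carrier →ₐ[Λ] C.carrier := AlgHom.liftOfSurjective q₁ hq₁s (qC.comp j₁) H₁
  let i₂ : S.carrier →ₐ[Λ] C.carrier := AlgHom.liftOfSurjective q₂ hq₂s (qC.comp j₂) H₂
  have hi₁ : ∀ x, i₁ (q₁ x) = qC (j₁ x) := fun x =>
    AlgHom.liftOfSurjective_apply q₁ hq₁s (qC.comp j₁) H₁ x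
  have hi₂ : ∀ y, i₂ (q₂ y) = qC (j₂ y) := fun y =>
    AlgHom.liftOfSurjective_apply q₂ hq₂s (qC.comp j₂) H₂ y
  have hCi₁ : C.res.comp i₁ = R.res := by
    apply AlgHom.ext
    intro r
    obtain ⟨x, rfl⟩ := hq₁s r
    change C.res (i₁ (q₁ x)) = R.res (q₁ x)
    rw [hi₁, hresC, hresj₁, hresq₁]
  have hCi₂ : C.res.comp i₂ = S.res := by
    apply AlgHom.ext
    intro r
    obtain ⟨x, rfl⟩ := hq₂s r
    change C.res (i₂ (q₂ x)) = S.res (q₂ x)
    rw [hi₂, hresC, hresj₂, hresq₂]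
  refine ⟨C, i₁, i₂, hCi₁, hCi₂, ?_⟩
  intro T g₁ g₂ hg₁ hg₂
  have hres₁ : ∀ z, T.res (g₁ (q₁ z)) = P₁.res z := fun z =>
    (AlgHom.congr_fun hg₁ (q₁ z)).trans (hresq₁ z)
  have hres₂ : ∀ z, T.res (g₂ (q₂ z)) = P₂.res z := fun z =>
    (AlgHom.congr_fun hg₂ (q₂ z)).trans (hresq₂ z)
  let γ : MvPolynomial (Fin n₁ ⊕ Fin n₂) Λ →ₐ[Λ] T.carrier :=
    MvPolynomial.aeval (Sum.elim (fun i => g₁ (q₁ (ι₁ (MvPolynomial.X i))))
      (fun j => g₂ (q₂ (ι₂ (MvPolynomial.X j)))))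
  have hγXl : ∀ i, γ (MvPolynomial.X (Sum.inl i)) = g₁ (q₁ (ι₁ (MvPolynomial.X i))) := fun i =>
    MvPolynomial.aeval_X _ (Sum.inl i)
  have hγXr : ∀ j, γ (MvPolynomial.X (Sum.inr j)) = g₂ (q₂ (ι₂ (MvPolynomial.X j))) := fun j =>
    MvPolynomial.aeval_X _ (Sum.inr j)
  have hπXl : ∀ i, π (MvPolynomial.X (Sum.inl i)) = π₁ (MvPolynomial.X i) := fun i =>
    MvPolynomial.aeval_X _ (Sum.inl i)
  have hπXr : ∀ j, π (MvPolynomial.X (Sum.inr j)) = π₂ (MvPolynomial.X j) := fun j =>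
    MvPolynomial.aeval_X _ (Sum.inr j)
  have hγl : γ.comp (MvPolynomial.rename Sum.inl) = (g₁.comp q₁).comp ι₁ := by
    apply MvPolynomial.algHom_ext
    intro i
    change γ (MvPolynomial.rename Sum.inl (MvPolynomial.X i)) = g₁ (q₁ (ι₁ (MvPolynomial.X i)))
    rw [MvPolynomial.rename_X, hγXl]
  have hγr : γ.comp (MvPolynomial.rename Sum.inr) = (g₂.comp q₂).comp ι₂ := by
    apply MvPolynomial.algHom_ext
    intro j
    change γ (MvPolynomial.rename Sum.inr (MvPolynomial.X j)) = g₂ (q₂ (ι₂ (MvPolynomial.X j)))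
    rw [MvPolynomial.rename_X, hγXr]
  have hγ : T.res.comp γ = π := by
    apply MvPolynomial.algHom_ext
    intro s
    cases s with
    | inl i =>
      change T.res (γ (MvPolynomial.X (Sum.inl i))) = π (MvPolynomial.X (Sum.inl i))
      rw [hγXl, hπXl, hres₁]
      exact AlgHom.congr_fun hι₁ _
    | inr j =>
      change T.res (γ (MvPolynomial.X (Sum.inr j))) = π (MvPolynomial.X (Sum.inr j))
      rw [hγXr, hπXr, hres₂]
      exact AlgHom.congr_fun hι₂ _
  obtain ⟨h₀, hh₀, hh₀ι⟩ := exists_lift_cring π P ι hex huniq T γ hγ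
  have hh₀j₁ : h₀.comp j₁ = g₁.comp q₁ := by
    apply lift_cring_unique P₁ ι₁ huniq₁ T
    · rw [← AlgHom.comp_assoc, hh₀, hj₁]
    · rw [← AlgHom.comp_assoc, hg₁, hq₁]
    · rw [AlgHom.comp_assoc, hj₁ι, ← AlgHom.comp_assoc, hh₀ι, hγl]
  have hh₀j₂ : h₀.comp j₂ = g₂.comp q₂ := by
    apply lift_cring_unique P₂ ι₂ huniq₂ T
    · rw [← AlgHom.comp_assoc, hh₀, hj₂]
    · rw [← AlgHom.comp_assoc, hg₂, hq₂]
    · rw [AlgHom.comp_assoc, hj₂ι, ← AlgHom.comp_assoc, hh₀ι, hγr]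
  have hh₀j₁' : ∀ x, h₀ (j₁ x) = g₁ (q₁ x) := fun x => AlgHom.congr_fun hh₀j₁ x
  have hh₀j₂' : ∀ x, h₀ (j₂ x) = g₂ (q₂ x) := fun x => AlgHom.congr_fun hh₀j₂ x
  have hkill : ∀ p, p ∈ RingHom.ker qC → h₀ p = 0 := by
    intro p hp
    rw [hqCker] at hp
    exact hJ₀elim p (Ideal.mem_inf.mp hp).2 T h₀ hh₀
      (fun x hx => by rw [hh₀j₁', hx, map_zero]) (fun y hy => by rw [hh₀j₂', hy, map_zero])
  have Hh : RingHom.ker qC.toRingHom ≤ RingHom.ker h₀.toRingHom := fun p hp =>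
    hkill p hp
  let h : C.carrier →ₐ[Λ] T.carrier := AlgHom.liftOfSurjective qC hqCs h₀ Hh
  have hh : ∀ p, h (qC p) = h₀ p := fun p => AlgHom.liftOfSurjective_apply qC hqCs h₀ Hh p
  refine ⟨h, ⟨?_, ?_, ?_⟩, ?_⟩
  · apply AlgHom.ext
    intro c
    obtain ⟨p, rfl⟩ := hqCs c
    change T.res (h (qC p)) = C.res (qC p)
    rw [hh, hresC]
    exact AlgHom.congr_fun hh₀ p
  · apply AlgHom.ext
    intro r
    obtain ⟨x, rfl⟩ := hq₁s r
    change h (i₁ (q₁ x)) = g₁ (q₁ x)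
    rw [hi₁, hh, hh₀j₁']
  · apply AlgHom.ext
    intro r
    obtain ⟨x, rfl⟩ := hq₂s r
    change h (i₂ (q₂ x)) = g₂ (q₂ x)
    rw [hi₂, hh, hh₀j₂']
  · rintro h' ⟨hh', hh'1, hh'2⟩
    have key : h'.comp qC = h₀ := by
      apply lift_cring_unique P ι huniq T
      · rw [← AlgHom.comp_assoc, hh', hqC]
      · exact hh₀
      · rw [hh₀ι]
        apply MvPolynomial.algHom_ext
        intro s
        cases s with
        | inl i =>
          have e1 : ι (MvPolynomial.X (Sum.inl i)) = j₁ (ι₁ (MvPolynomial.X i)) := by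
            have e := AlgHom.congr_fun hj₁ι (MvPolynomial.X i)
            change j₁ (ι₁ (MvPolynomial.X i)) =
              ι (MvPolynomial.rename Sum.inl (MvPolynomial.X i)) at e
            rw [e, MvPolynomial.rename_X]
          change h' (qC (ι (MvPolynomial.X (Sum.inl i)))) = γ (MvPolynomial.X (Sum.inl i))
          rw [e1, ← hi₁, hγXl]
          exact AlgHom.congr_fun hh'1 _
        | inr j =>
          have e1 : ι (MvPolynomial.X (Sum.inr j)) = j₂ (ι₂ (MvPolynomial.X j)) := by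
            have e := AlgHom.congr_fun hj₂ι (MvPolynomial.X j)
            change j₂ (ι₂ (MvPolynomial.X j)) =
              ι (MvPolynomial.rename Sum.inr (MvPolynomial.X j)) at e
            rw [e, MvPolynomial.rename_X]
          change h' (qC (ι (MvPolynomial.X (Sum.inr j)))) = γ (MvPolynomial.X (Sum.inr j))
          rw [e1, ← hi₂, hγXr]
          exact AlgHom.congr_fun hh'2 _
    apply AlgHom.ext
    intro c
    obtain ⟨p, rfl⟩ := hqCs c
    rw [hh]
    exact AlgHom.congr_fun key p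

/-- Pushouts of coefficient rings. -/
theorem exists_pushout (R S₁ S₂ : CRing Λ k)
    (f₁ : R.carrier →ₐ[Λ] S₁.carrier) (hf₁ : S₁.res.comp f₁ = R.res)
    (f₂ : R.carrier →ₐ[Λ] S₂.carrier) (hf₂ : S₂.res.comp f₂ = R.res) :
    ∃ (P : CRing Λ k) (i₁ : S₁.carrier →ₐ[Λ] P.carrier) (i₂ : S₂.carrier →ₐ[Λ] P.carrier),
      P.res.comp i₁ = S₁.res ∧ P.res.comp i₂ = S₂.res ∧ i₁.comp f₁ = i₂.comp f₂ ∧
      ∀ (T : CRing Λ k) (g₁ : S₁.carrier →ₐ[Λ] T.carrier) (g₂ : S₂.carrier →ₐ[Λ] T.carrier),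
        T.res.comp g₁ = S₁.res → T.res.comp g₂ = S₂.res → g₁.comp f₁ = g₂.comp f₂ →
          ∃! h : P.carrier →ₐ[Λ] T.carrier, T.res.comp h = P.res ∧ h.comp i₁ = g₁ ∧
            h.comp i₂ = g₂ := by
  classical
  obtain ⟨C, c₁, c₂, hc₁, hc₂, huni⟩ := exists_coproduct S₁ S₂
  let J₀ : Ideal C.carrier :=
    { carrier := {c | ∀ (T : CRing Λ k) (h : C.carrier →ₐ[Λ] T.carrier), T.res.comp h = C.res →
        (∀ r, h (c₁ (f₁ r)) = h (c₂ (f₂ r))) → h c = 0}
      add_mem' := fun {p p'} hp hp' T h hh h1 => by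
        rw [map_add, hp T h hh h1, hp' T h hh h1, add_zero]
      zero_mem' := fun T h _ _ => map_zero h
      smul_mem' := fun c p hp T h hh h1 => by
        rw [smul_eq_mul, map_mul, hp T h hh h1, mul_zero] }
  have hJ₀mem : ∀ c, (∀ (T : CRing Λ k) (h : C.carrier →ₐ[Λ] T.carrier), T.res.comp h = C.res →
        (∀ r, h (c₁ (f₁ r)) = h (c₂ (f₂ r))) → h c = 0) → c ∈ J₀ := fun c hc => hc
  have hJ₀elim : ∀ c, c ∈ J₀ → ∀ (T : CRing Λ k) (h : C.carrier →ₐ[Λ] T.carrier),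
        T.res.comp h = C.res → (∀ r, h (c₁ (f₁ r)) = h (c₂ (f₂ r))) → h c = 0 := fun c hc => hc
  obtain ⟨Q, qQ, hqQ, hqQs, hqQker⟩ :=
    exists_cring_quot C (IsLocalRing.maximalIdeal C.carrier ⊓ J₀) inf_le_left
  have hresQ : ∀ c, Q.res (qQ c) = C.res c := fun c => AlgHom.congr_fun hqQ c
  refine ⟨Q, qQ.comp c₁, qQ.comp c₂, ?_, ?_, ?_, ?_⟩
  · rw [← AlgHom.comp_assoc, hqQ, hc₁]
  · rw [← AlgHom.comp_assoc, hqQ, hc₂]
  · apply AlgHom.ext
    intro r
    change qQ (c₁ (f₁ r)) = qQ (c₂ (f₂ r))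
    have hmem : c₁ (f₁ r) - c₂ (f₂ r) ∈ RingHom.ker qQ := by
      rw [hqQker]
      refine Ideal.mem_inf.mpr ⟨?_, ?_⟩
      · rw [CRing.mem_maximalIdeal_iff, map_sub, sub_eq_zero]
        have a1 : C.res (c₁ (f₁ r)) = S₁.res (f₁ r) := AlgHom.congr_fun hc₁ (f₁ r)
        have a2 : C.res (c₂ (f₂ r)) = S₂.res (f₂ r) := AlgHom.congr_fun hc₂ (f₂ r)
        have a3 : S₁.res (f₁ r) = R.res r := AlgHom.congr_fun hf₁ r
        have a4 : S₂.res (f₂ r) = R.res r := AlgHom.congr_fun hf₂ r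
        rw [a1, a2, a3, a4]
      · exact hJ₀mem _ (fun T h hh hcomp => by rw [map_sub, hcomp r, sub_self])
    have h0 : qQ (c₁ (f₁ r) - c₂ (f₂ r)) = 0 := hmem
    rw [map_sub, sub_eq_zero] at h0
    exact h0
  · intro T g₁ g₂ hg₁ hg₂ hg
    obtain ⟨h, ⟨hh, hh1, hh2⟩, hhuniq⟩ := huni T g₁ g₂ hg₁ hg₂
    have hkill : ∀ c, c ∈ RingHom.ker qQ → h c = 0 := by
      intro c hc
      rw [hqQker] at hc
      refine hJ₀elim c (Ideal.mem_inf.mp hc).2 T h hh (fun r => ?_)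
      have a1 : h (c₁ (f₁ r)) = g₁ (f₁ r) := AlgHom.congr_fun hh1 (f₁ r)
      have a2 : h (c₂ (f₂ r)) = g₂ (f₂ r) := AlgHom.congr_fun hh2 (f₂ r)
      rw [a1, a2]
      exact AlgHom.congr_fun hg r
    have Hh : RingHom.ker qQ.toRingHom ≤ RingHom.ker h.toRingHom := fun c hc => hkill c hc
    let h' : Q.carrier →ₐ[Λ] T.carrier := AlgHom.liftOfSurjective qQ hqQs h Hh
    have hh' : ∀ c, h' (qQ c) = h c := fun c => AlgHom.liftOfSurjective_apply qQ hqQs h Hh c
    refine ⟨h', ⟨?_, ?_, ?_⟩, ?_⟩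
    · apply AlgHom.ext
      intro x
      obtain ⟨c, rfl⟩ := hqQs x
      change T.res (h' (qQ c)) = Q.res (qQ c)
      rw [hh', hresQ]
      exact AlgHom.congr_fun hh c
    · apply AlgHom.ext
      intro s
      change h' (qQ (c₁ s)) = g₁ s
      rw [hh']
      exact AlgHom.congr_fun hh1 s
    · apply AlgHom.ext
      intro s
      change h' (qQ (c₂ s)) = g₂ s
      rw [hh']
      exact AlgHom.congr_fun hh2 s
    · rintro h'' ⟨ha, hb, hc⟩
      have key : h''.comp qQ = h := by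
        apply hhuniq
        refine ⟨?_, ?_, ?_⟩
        · rw [← AlgHom.comp_assoc, ha, hqQ]
        · rw [AlgHom.comp_assoc]; exact hb
        · rw [AlgHom.comp_assoc]; exact hc
      apply AlgHom.ext
      intro x
      obtain ⟨c, rfl⟩ := hqQs x
      rw [hh']
      exact AlgHom.congr_fun key c

end Present

end Groth.Agent.Lib.Helper19.ArtFunCRing
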