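import Mathlib
import Groth.Agent.Lib.Helper9.NilpFlat

/-!
# Flatness lemmas for the obstruction calculus (helper19)

* `eq_top_of_top_le_sup_smul`, `le_of_le_sup_smul`: Nakayama for a nilpotent ideal.
* `mem_smul_ker_of_flat`: for `π : F → M` surjective with `M` flat, `ker π ∩ 𝔪 F = 𝔪 ker π`.
* `flat_of_ker_inter`: conversely, over a ring with nilpotent maximal ideal `𝔪`, if `F` is flat and
  `ker π ∩ 𝔪 F ⊆ 𝔪 ker π` then `M` is flat.
* `mul_mem_smul`: `(𝔪 F) K ⊆ 𝔪 • K` for an ideal `K` of an `A`-algebra `F`.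
-/

set_option autoImplicit false
set_option maxHeartbeats 400000
universe u v w

open TensorProduct

namespace Groth.Agent.Lib.Helper19.SmObs

open Groth.Agent.Lib.Helper9.NilpFlat

section Nak

/-- Nakayama for a nilpotent ideal. -/
lemma eq_top_of_top_le_sup_smul {B M : Type*} [CommRing B] [AddCommGroup M]
    [Module B M] (N : Submodule B M) (J : Ideal B) (hJ : IsNilpotent J)
    (h : (⊤ : Submodule B M) ≤ N ⊔ J • ⊤) : N = ⊤ := by
  obtain ⟨n, hn⟩ := hJ
  have key : ∀ k : ℕ, (⊤ : Submodule B M) ≤ N ⊔ (J ^ k) • ⊤ := by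
    intro k
    induction k with
    | zero => simp
    | succ k ih =>
      calc (⊤ : Submodule B M) ≤ N ⊔ J • ⊤ := h
        _ ≤ N ⊔ J • (N ⊔ (J ^ k) • ⊤) := sup_le_sup_left (Submodule.smul_mono le_rfl ih) _
        _ = N ⊔ (J • N ⊔ J • (J ^ k) • ⊤) := by rw [Submodule.smul_sup]
        _ ≤ N ⊔ (J ^ (k + 1)) • ⊤ := by
          refine sup_le le_sup_left (sup_le (le_sup_of_le_left Submodule.smul_le_right) ?_)
          rw [← Submodule.mul_smul, ← pow_succ']
          exact le_sup_right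
  have := key n
  rw [hn] at this
  simpa using this

/-- Nakayama for a nilpotent ideal, relative form. -/
lemma le_of_le_sup_smul {R M : Type*} [CommRing R] [AddCommGroup M] [Module R M]
    (K K₀ : Submodule R M) (J : Ideal R) (hJ : IsNilpotent J) (h : K ≤ K₀ ⊔ J • K) : K ≤ K₀ := by
  obtain ⟨n, hn⟩ := hJ
  have key : ∀ k : ℕ, K ≤ K₀ ⊔ (J ^ k) • K := by
    intro k
    induction k with
    | zero => simp
    | succ k ih =>
      calc K ≤ K₀ ⊔ J • K := h
        _ ≤ K₀ ⊔ J • (K₀ ⊔ (J ^ k) • K) := sup_le_sup_left (Submodule.smul_mono le_rfl ih) _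
        _ = K₀ ⊔ (J • K₀ ⊔ J • (J ^ k) • K) := by rw [Submodule.smul_sup]
        _ ≤ K₀ ⊔ (J ^ (k + 1)) • K := by
          refine sup_le le_sup_left (sup_le (le_sup_of_le_left Submodule.smul_le_right) ?_)
          rw [← Submodule.mul_smul, ← pow_succ']
          exact le_sup_right
  have := key n
  rw [hn] at this
  simpa using this

end Nak

section G

variable {A : Type u} [CommRing A] (𝔪 : Ideal A) {F : Type v} {M : Type w}
  [AddCommGroup F] [Module A F] [AddCommGroup M] [Module A M]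

theorem mem_smul_ker_of_flat [Module.Flat A M] (π : F →ₗ[A] M) (hπ : Function.Surjective π)
    {y : F} (hy : y ∈ LinearMap.ker π) (hy' : y ∈ 𝔪 • (⊤ : Submodule A F)) :
    y ∈ 𝔪 • LinearMap.ker π := by
  have hinj : Function.Injective ((LinearMap.ker π).subtype.lTensor (A ⧸ 𝔪)) :=
    LinearMap.lTensor_injective_of_exact_of_flat π hπ (LinearMap.ker π).subtype
      (Submodule.subtype_injective _) (LinearMap.exact_subtype_ker_map π) (A ⧸ 𝔪)
  have h0 : (1 : A ⧸ 𝔪) ⊗ₜ[A] (⟨y, hy⟩ : LinearMap.ker π) = 0 := by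
    apply hinj
    rw [map_zero, LinearMap.lTensor_tmul, Submodule.subtype_apply]
    exact (one_tmul_eq_zero_iff 𝔪 F y).2 hy'
  have h1 := (one_tmul_eq_zero_iff 𝔪 (LinearMap.ker π) ⟨y, hy⟩).1 h0
  exact (Submodule.mem_smul_top_iff 𝔪 (LinearMap.ker π) ⟨y, hy⟩).1 h1

theorem flat_of_ker_inter [h𝔪 : 𝔪.IsMaximal] (hnil : IsNilpotent 𝔪) [Module.Flat A F]
    (π : F →ₗ[A] M) (hπ : Function.Surjective π)
    (H : ∀ y ∈ LinearMap.ker π, y ∈ 𝔪 • (⊤ : Submodule A F) → y ∈ 𝔪 • LinearMap.ker π) :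
    Module.Flat A M := by
  refine flat_of_isNilpotent 𝔪 hnil ?_ ?_
  · letI : Field (A ⧸ 𝔪) := Ideal.Quotient.field 𝔪
    infer_instance
  · rw [← mu_injective_iff, injective_iff_map_eq_zero]
    intro z hz
    obtain ⟨z', rfl⟩ := LinearMap.lTensor_surjective 𝔪 hπ z
    have h1 : mu 𝔪 F z' ∈ LinearMap.ker π := by
      rw [LinearMap.mem_ker, ← mu_lTensor 𝔪 F π z', hz]
    have h2 : mu 𝔪 F z' ∈ 𝔪 • LinearMap.ker π := H _ h1 (mu_mem 𝔪 F z')
    have h3 : (⟨mu 𝔪 F z', h1⟩ : LinearMap.ker π) ∈ 𝔪 • (⊤ : Submodule A (LinearMap.ker π)) :=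
      (Submodule.mem_smul_top_iff 𝔪 (LinearMap.ker π) ⟨_, h1⟩).2 h2
    obtain ⟨w, hw⟩ := exists_mu_eq 𝔪 (LinearMap.ker π) h3
    have hinjF : Function.Injective (mu 𝔪 F) :=
      (mu_injective_iff 𝔪 F).2
        (Module.Flat.rTensor_preserves_injective_linearMap _ (Submodule.subtype_injective _))
    have h4 : (LinearMap.ker π).subtype.lTensor 𝔪 w = z' := by
      apply hinjF
      rw [mu_lTensor 𝔪 _ (LinearMap.ker π).subtype w, hw]
      rfl
    rw [← h4, ← LinearMap.comp_apply, ← LinearMap.lTensor_comp]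
    have h5 : π ∘ₗ (LinearMap.ker π).subtype = 0 := LinearMap.comp_ker_subtype π
    rw [h5, LinearMap.lTensor_zero, LinearMap.zero_apply]

end G

theorem mul_mem_smul {A F : Type*} [CommRing A] [CommRing F] [Algebra A F] (𝔪 : Ideal A)
    (K : Ideal F) {g : F} (hg : g ∈ 𝔪.map (algebraMap A F)) :
    ∀ u ∈ K, g * u ∈ 𝔪 • (K.restrictScalars A) := by
  refine Submodule.span_induction
    (p := fun g _ => ∀ u ∈ K, g * u ∈ 𝔪 • (K.restrictScalars A)) ?_ ?_ ?_ ?_ hg
  · rintro _ ⟨a, ha, rfl⟩ u hu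
    rw [← Algebra.smul_def]
    exact Submodule.smul_mem_smul ha ((Submodule.restrictScalars_mem A K u).2 hu)
  · intro u _
    rw [zero_mul]
    exact zero_mem _
  · intro x y _ _ hx hy u hu
    rw [add_mul]
    exact add_mem (hx u hu) (hy u hu)
  · intro r x _ hx u hu
    rw [smul_eq_mul, mul_assoc, mul_left_comm]
    exact hx (r * u) (K.mul_mem_left r hu)

end Groth.Agent.Lib.Helper19.SmObs
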