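import Mathlib
import Groth.Agent.Lib.Helper19.SmObsFlat

/-!
# Polynomial rings over a small extension (helper19)

Notation for the obstruction calculus: `mr φ` (coefficientwise image of a finitely supported family),
`map_lc` (ring maps commute with linear combinations), `iot` (`k[X] → A'[X]`), `rho` (`A'[X] → k[X]`),
`rhoP` (`A'[X] → A[X]`), and the behaviour of multiplication by `C t` for `t` killed by the maximal
ideal.
-/

set_option autoImplicit false
set_option maxHeartbeats 400000
universe u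

open MvPolynomial

namespace Groth.Agent.Lib.Helper19.SmObs

section LC

variable {S S' : Type*} [CommRing S] [CommRing S'] (φ : S →+* S') {σ : Type*}

/-- coefficientwise image -/
noncomputable def mr (c : σ →₀ S) : σ →₀ S' := c.mapRange φ (map_zero φ)

@[simp] lemma mr_apply (c : σ →₀ S) (s : σ) : mr φ c s = φ (c s) := Finsupp.mapRange_apply ..

lemma mr_zero : mr φ (0 : σ →₀ S) = 0 := by ext s; simp
lemma mr_add (c d : σ →₀ S) : mr φ (c + d) = mr φ c + mr φ d := by ext s; simp
lemma mr_sub (c d : σ →₀ S) : mr φ (c - d) = mr φ c - mr φ d := by ext s; simp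
lemma mr_smul (r : S) (c : σ →₀ S) : mr φ (r • c) = φ r • mr φ c := by ext s; simp
lemma mr_single (s : σ) (r : S) : mr φ (Finsupp.single s r) = Finsupp.single s (φ r) := by
  classical
  exact Finsupp.mapRange_single
lemma mr_surjective (hφ : Function.Surjective φ) :
    Function.Surjective (mr φ : (σ →₀ S) → (σ →₀ S')) :=
  Finsupp.mapRange_surjective φ (map_zero φ) hφ
lemma mr_mr {S'' : Type*} [CommRing S''] (ψ : S' →+* S'') (c : σ →₀ S) :
    mr ψ (mr φ c) = mr (ψ.comp φ) c := by ext s; simp
lemma mr_id (c : σ →₀ S) : mr (RingHom.id S) c = c := by ext s; simp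
lemma mr_eq_zero (c : σ →₀ S) (h : ∀ s, φ (c s) = 0) : mr φ c = 0 := by ext s; simp [h]

lemma map_lc (Fam : σ → S) (Fam' : σ → S') (h : ∀ s, φ (Fam s) = Fam' s) (c : σ →₀ S) :
    φ (Finsupp.linearCombination S Fam c) = Finsupp.linearCombination S' Fam' (mr φ c) := by
  induction c using Finsupp.induction_linear with
  | zero => rw [mr_zero, map_zero, map_zero, map_zero]
  | add c d hc hd => rw [map_add, map_add, mr_add, map_add, hc, hd]
  | single s r =>
    rw [Finsupp.linearCombination_single, mr_single, Finsupp.linearCombination_single,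
      smul_eq_mul, smul_eq_mul, map_mul, h]

lemma lc_mem_span (Fam : σ → S) (c : σ →₀ S) :
    Finsupp.linearCombination S Fam c ∈ Ideal.span (Set.range Fam) := by
  have h : Finsupp.linearCombination S Fam c ∈ LinearMap.range (Finsupp.linearCombination S Fam) :=
    ⟨c, rfl⟩
  rw [Finsupp.range_linearCombination] at h
  exact h

lemma exists_lc_of_mem_span (Fam : σ → S) {y : S} (hy : y ∈ Ideal.span (Set.range Fam)) :
    ∃ c : σ →₀ S, Finsupp.linearCombination S Fam c = y := by
  have h : y ∈ Submodule.span S (Set.range Fam) := hy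
  rw [← Finsupp.range_linearCombination] at h
  exact h

end LC

section Poly

variable {k : Type u} [Field k] (A' : Type u) [CommRing A'] [Algebra k A'] {ι : Type u}

/-- the canonical lift `k[X] → A'[X]`. -/
noncomputable def iot : MvPolynomial ι k →+* MvPolynomial ι A' :=
  MvPolynomial.map (algebraMap k A')

variable {A'} (res' : A' →ₐ[k] k)

/-- reduction `A'[X] → k[X]`. -/
noncomputable def rho : MvPolynomial ι A' →+* MvPolynomial ι k :=
  MvPolynomial.map (res' : A' →+* k)

lemma rho_iot (h : MvPolynomial ι k) : rho res' (iot A' h) = h := by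
  unfold rho iot
  rw [MvPolynomial.map_map]
  have e : (res' : A' →+* k).comp (algebraMap k A') = RingHom.id k := by
    ext x
    simp
  rw [e, MvPolynomial.map_id]

lemma rho_comp_iot : (rho res' : MvPolynomial ι A' →+* _).comp (iot A') = RingHom.id _ :=
  RingHom.ext (rho_iot res')

lemma rho_C (a : A') : rho res' (C a : MvPolynomial ι A') = C (res' a) := by
  unfold rho
  rw [MvPolynomial.map_C]
  rfl

lemma rho_eq_zero_iff (y : MvPolynomial ι A') : rho res' y = 0 ↔ ∀ m, res' (coeff m y) = 0 := by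
  unfold rho
  rw [MvPolynomial.ext_iff]
  refine forall_congr' fun m => ?_
  rw [MvPolynomial.coeff_map, MvPolynomial.coeff_zero]
  rfl

lemma rho_surjective : Function.Surjective (rho res' : MvPolynomial ι A' → MvPolynomial ι k) :=
  fun h => ⟨iot A' h, rho_iot res' h⟩

section P

variable {A : Type u} [CommRing A] [Algebra k A] (p : A' →ₐ[k] A)

/-- reduction `A'[X] → A[X]`. -/
noncomputable def rhoP : MvPolynomial ι A' →+* MvPolynomial ι A :=
  MvPolynomial.map (p : A' →+* A)

lemma rhoP_surjective (hp : Function.Surjective p) :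
    Function.Surjective (rhoP p : MvPolynomial ι A' → MvPolynomial ι A) :=
  MvPolynomial.map_surjective _ hp

lemma rho_comp_rhoP (res : A →ₐ[k] k) (h : ∀ a, res (p a) = res' a) :
    (rho res : MvPolynomial ι A →+* _).comp (rhoP p) = rho res' := by
  unfold rho rhoP
  apply RingHom.ext
  intro y
  rw [RingHom.comp_apply, MvPolynomial.map_map]
  have e : (res : A →+* k).comp (p : A' →+* A) = (res' : A' →+* k) := RingHom.ext h
  rw [e]

lemma rho_rhoP (res : A →ₐ[k] k) (h : ∀ a, res (p a) = res' a) (y : MvPolynomial ι A') :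
    rho res (rhoP p y) = rho res' y :=
  RingHom.congr_fun (rho_comp_rhoP res' p res h) y

lemma rhoP_iot (h : MvPolynomial ι k) : rhoP p (iot A' h) = iot A h := by
  unfold rhoP iot
  rw [MvPolynomial.map_map]
  have e : (p : A' →+* A).comp (algebraMap k A') = algebraMap k A :=
    RingHom.ext fun x => p.commutes x
  rw [e]

lemma rhoP_C (a : A') : rhoP p (C a : MvPolynomial ι A') = C (p a) := by
  unfold rhoP
  rw [MvPolynomial.map_C]
  rfl

lemma exists_of_rhoP_eq_zero {t : A'} (hker : RingHom.ker (p : A' →+* A) = Ideal.span {t})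
    {y : MvPolynomial ι A'} (hy : rhoP p y = 0) : ∃ g, y = C t * g := by
  have h : y ∈ RingHom.ker (rhoP p : MvPolynomial ι A' →+* MvPolynomial ι A) := hy
  unfold rhoP at h
  rw [MvPolynomial.ker_map, hker, Ideal.map_span, Set.image_singleton] at h
  obtain ⟨g, hg⟩ := Ideal.mem_span_singleton'.1 h
  exact ⟨g, by rw [← hg, mul_comm]⟩

end P

section T

variable (t : A') (ht : ∀ a : A', res' a = 0 → t * a = 0)

include ht in
lemma Ct_mul_eq_zero {y : MvPolynomial ι A'} (hy : rho res' y = 0) : C t * y = 0 := by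
  ext m
  rw [coeff_C_mul, coeff_zero]
  exact ht _ ((rho_eq_zero_iff res' y).1 hy m)

include ht in
lemma Ct_mul_iot_rho (g : MvPolynomial ι A') : C t * iot A' (rho res' g) = C t * g := by
  have h : rho res' (g - iot A' (rho res' g)) = 0 := by rw [map_sub, rho_iot, sub_self]
  have h2 := Ct_mul_eq_zero res' t ht h
  rw [mul_sub, sub_eq_zero] at h2
  exact h2.symm

lemma eq_zero_of_Ct_mul_iot (ht0 : t ≠ 0) {h : MvPolynomial ι k}
    (hh : (C t : MvPolynomial ι A') * iot A' h = 0) : h = 0 := by
  ext m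
  rw [coeff_zero]
  by_contra hc
  have h1 := congrArg (coeff m) hh
  unfold iot at h1
  rw [coeff_C_mul, coeff_map, coeff_zero, mul_comm, ← Algebra.smul_def] at h1
  apply ht0
  rw [← inv_smul_smul₀ hc t, h1, smul_zero]

lemma rho_Ct_mul (hrt : res' t = 0) (y : MvPolynomial ι A') : rho res' (C t * y) = 0 := by
  rw [map_mul, rho_C, hrt, C_0, zero_mul]

end T

section Top

variable (𝔪' : Ideal A') (h𝔪' : ∀ a, a ∈ 𝔪' ↔ res' a = 0)

include h𝔪' in
lemma mem_map_C_of_rho {y : MvPolynomial ι A'} (hy : rho res' y = 0) :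
    y ∈ 𝔪'.map (algebraMap A' (MvPolynomial ι A')) := by
  rw [MvPolynomial.algebraMap_eq, MvPolynomial.mem_map_C_iff]
  intro m
  rw [h𝔪']
  exact (rho_eq_zero_iff res' y).1 hy m

include h𝔪' in
lemma rho_of_mem_map_C {y : MvPolynomial ι A'}
    (hy : y ∈ 𝔪'.map (algebraMap A' (MvPolynomial ι A'))) : rho res' y = 0 := by
  rw [MvPolynomial.algebraMap_eq, MvPolynomial.mem_map_C_iff] at hy
  rw [rho_eq_zero_iff]
  intro m
  exact (h𝔪' _).1 (hy m)

include h𝔪' in
lemma mem_smul_top_of_rho {y : MvPolynomial ι A'} (hy : rho res' y = 0) :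
    y ∈ 𝔪' • (⊤ : Submodule A' (MvPolynomial ι A')) := by
  rw [Ideal.smul_top_eq_map]
  exact mem_map_C_of_rho res' 𝔪' h𝔪' hy

include h𝔪' in
lemma rho_of_mem_smul_top {y : MvPolynomial ι A'}
    (hy : y ∈ 𝔪' • (⊤ : Submodule A' (MvPolynomial ι A'))) : rho res' y = 0 := by
  rw [Ideal.smul_top_eq_map] at hy
  exact rho_of_mem_map_C res' 𝔪' h𝔪' hy

include h𝔪' in
lemma finsupp_mem_smul_top {σ : Type u} (d : σ →₀ MvPolynomial ι A')
    (hd : ∀ s, rho res' (d s) = 0) :
    d ∈ 𝔪' • (⊤ : Submodule A' (σ →₀ MvPolynomial ι A')) := by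
  classical
  suffices h : d.sum Finsupp.single ∈ 𝔪' • (⊤ : Submodule A' (σ →₀ MvPolynomial ι A')) by
    rwa [Finsupp.sum_single] at h
  rw [Finsupp.sum]
  refine Submodule.sum_mem _ (fun s _ => ?_)
  have h1 : d s ∈ 𝔪' • (⊤ : Submodule A' (MvPolynomial ι A')) :=
    mem_smul_top_of_rho res' 𝔪' h𝔪' (hd s)
  have h2 : (Finsupp.lsingle s : MvPolynomial ι A' →ₗ[A'] (σ →₀ MvPolynomial ι A')) (d s) ∈
      (𝔪' • (⊤ : Submodule A' (MvPolynomial ι A'))).map
        (Finsupp.lsingle s : MvPolynomial ι A' →ₗ[A'] (σ →₀ MvPolynomial ι A')) :=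
    Submodule.mem_map_of_mem h1
  rw [Submodule.map_smul''] at h2
  exact Submodule.smul_mono le_rfl le_top h2

end Top

end Poly

end Groth.Agent.Lib.Helper19.SmObs
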