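import Mathlib
import Groth.Agent.Lib.Helper19.SmObsPoly

/-!
# Presenting a flat deformation over an Artinian base (helper19)

`R` flat over `A` (local with nilpotent maximal ideal `𝔪 = ker res`), `π : R → B₀` surjective with
kernel `𝔪 R`, `P` a presentation of `B₀` over `k`.  Then `R = A[X]/(F_s)` with `F_s` lifting the
relations of `P` (`exists_apres`), relations among the `f_s` lift to relations among the `F_s`
(`exists_rel_lift`), and relations among the `F_s` with coefficients in `𝔪 A[X]` are `𝔪`-combinations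
of relations (`mem_smul_relKer`).
-/

set_option autoImplicit false
set_option maxHeartbeats 400000
universe u

open MvPolynomial

namespace Groth.Agent.Lib.Helper19.SmObs

open Groth.Agent.Lib.Helper9.NilpFlat

section ALevel

variable {k A R B₀ : Type u} [Field k] [CommRing A] [Algebra k A] [CommRing R] [Algebra A R]
  [CommRing B₀] [Algebra k B₀] (res : A →ₐ[k] k) (π : R →+* B₀) {ι σ : Type u}
  (P : Algebra.Presentation k B₀ ι σ)

/-- `A`-level presentation data. -/
structure APres where
  ev : MvPolynomial ι A →ₐ[A] R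
  Fam : σ → MvPolynomial ι A
  ev_surj : Function.Surjective ev
  ker_ev : ∀ y, ev y = 0 ↔ y ∈ Ideal.span (Set.range Fam)
  red : ∀ s, rho res (Fam s) = P.relation s
  π_ev : ∀ y, π (ev y) = aeval P.val (rho res y)

lemma mem_ker_of_aeval {h : MvPolynomial ι k} (hh : aeval P.val h = 0) :
    h ∈ Ideal.span (Set.range P.relation) := by
  rw [P.span_range_relation_eq_ker, P.ker_eq_ker_aeval_val, RingHom.mem_ker]
  exact hh

variable (𝔪 : Ideal A) (h𝔪 : ∀ a, a ∈ 𝔪 ↔ res a = 0)

include h𝔪 in
theorem exists_apres [Module.Flat A R] (hnil : IsNilpotent 𝔪)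
    (h1 : ∀ a : A, π (algebraMap A R a) = algebraMap k B₀ (res a))
    (h2 : Function.Surjective π) (h3 : RingHom.ker π = 𝔪.map (algebraMap A R)) :
    Nonempty (APres res π P) := by
  classical
  choose x hx using fun i => h2 (P.val i)
  let ev : MvPolynomial ι A →ₐ[A] R := aeval x
  have hπev : ∀ y, π (ev y) = aeval P.val (rho res y) := by
    have e : (π.comp (ev : MvPolynomial ι A →+* R)) =
        ((aeval P.val : MvPolynomial ι k →ₐ[k] B₀) : MvPolynomial ι k →+* B₀).comp (rho res) := by
      apply MvPolynomial.ringHom_ext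
      · intro a
        change π (aeval x (C a)) = aeval P.val (rho res (C a))
        rw [aeval_C, rho_C, aeval_C, h1]
      · intro i
        change π (aeval x (X i)) = aeval P.val (rho res (X i))
        rw [aeval_X, hx]
        unfold rho
        rw [MvPolynomial.map_X, aeval_X]
    intro y
    exact RingHom.congr_fun e y
  have hsurj : Function.Surjective ev := by
    have hN : LinearMap.range ev.toLinearMap = ⊤ := by
      apply eq_top_of_top_le_sup_smul _ 𝔪 hnil
      intro r _
      obtain ⟨h, hh⟩ := P.aeval_val_surjective (π r)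
      have hk : r - ev (iot A h) ∈ RingHom.ker π := by
        rw [RingHom.mem_ker, map_sub, hπev, rho_iot, hh, sub_self]
      rw [h3] at hk
      have hk' : r - ev (iot A h) ∈ 𝔪 • (⊤ : Submodule A R) := by
        rw [Ideal.smul_top_eq_map]
        exact hk
      have e : r = ev (iot A h) + (r - ev (iot A h)) := by ring
      rw [e]
      exact Submodule.add_mem_sup ⟨iot A h, rfl⟩ hk'
    intro r
    have hr : r ∈ LinearMap.range ev.toLinearMap := by rw [hN]; exact Submodule.mem_top
    exact hr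
  have hlift : ∀ z ∈ 𝔪.map (algebraMap A R), ∃ g, rho res g = 0 ∧ ev g = z := by
    intro z hz
    refine Submodule.span_induction (p := fun z _ => ∃ g, rho res g = 0 ∧ ev g = z)
      ?_ ?_ ?_ ?_ hz
    · rintro _ ⟨a, ha, rfl⟩
      refine ⟨C a, ?_, ?_⟩
      · rw [rho_C, (h𝔪 a).1 ha, C_0]
      · change aeval x (C a) = _
        rw [aeval_C]
    · exact ⟨0, map_zero _, map_zero _⟩
    · rintro x₁ y₁ _ _ ⟨g, hg, rfl⟩ ⟨g', hg', rfl⟩
      exact ⟨g + g', by rw [map_add, hg, hg', add_zero], map_add _ _ _⟩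
    · rintro r x₁ _ ⟨g, hg, rfl⟩
      obtain ⟨r', rfl⟩ := hsurj r
      exact ⟨r' * g, by rw [map_mul, hg, mul_zero], by rw [smul_eq_mul, map_mul]⟩
  have hz : ∀ s, ev (iot A (P.relation s)) ∈ 𝔪.map (algebraMap A R) := by
    intro s
    rw [← h3, RingHom.mem_ker, hπev, rho_iot, P.aeval_val_relation]
  choose g hg1 hg2 using fun s => hlift _ (hz s)
  let Fam : σ → MvPolynomial ι A := fun s => iot A (P.relation s) - g s
  have hFam0 : ∀ s, ev (Fam s) = 0 := fun s => by
    change ev (iot A (P.relation s) - g s) = 0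
    rw [map_sub, hg2, sub_self]
  have hred : ∀ s, rho res (Fam s) = P.relation s := fun s => by
    change rho res (iot A (P.relation s) - g s) = _
    rw [map_sub, rho_iot, hg1, sub_zero]
  have hle : ∀ y, y ∈ Ideal.span (Set.range Fam) → ev y = 0 := by
    intro y hy
    have : Ideal.span (Set.range Fam) ≤ RingHom.ker (ev : MvPolynomial ι A →+* R) := by
      rw [Ideal.span_le]
      rintro _ ⟨s, rfl⟩
      exact hFam0 s
    exact this hy
  have hker : ∀ y, ev y = 0 → y ∈ Ideal.span (Set.range Fam) := by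
    have hK : LinearMap.ker ev.toLinearMap ≤ (Ideal.span (Set.range Fam)).restrictScalars A := by
      apply le_of_le_sup_smul _ _ 𝔪 hnil
      intro y hy
      have hy0 : ev y = 0 := hy
      have hρ : aeval P.val (rho res y) = 0 := by rw [← hπev, hy0, map_zero]
      obtain ⟨e, he⟩ := exists_lc_of_mem_span P.relation (mem_ker_of_aeval P hρ)
      let y₀ := Finsupp.linearCombination (MvPolynomial ι A) Fam (mr (iot A) e)
      have hy₀ : y₀ ∈ Ideal.span (Set.range Fam) := lc_mem_span Fam _
      have hρ0 : rho res y₀ = rho res y := by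
        change rho res (Finsupp.linearCombination (MvPolynomial ι A) Fam (mr (iot A) e)) = _
        rw [map_lc (rho res) Fam P.relation hred, mr_mr, rho_comp_iot, mr_id, he]
      have hd : y - y₀ ∈ LinearMap.ker ev.toLinearMap := by
        change ev (y - y₀) = 0
        rw [map_sub, hy0, hle y₀ hy₀, sub_zero]
      have hd' : y - y₀ ∈ 𝔪 • (⊤ : Submodule A (MvPolynomial ι A)) := by
        apply mem_smul_top_of_rho res 𝔪 h𝔪
        rw [map_sub, hρ0, sub_self]
      have hd'' := mem_smul_ker_of_flat 𝔪 ev.toLinearMap hsurj hd hd'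
      have e' : y = y₀ + (y - y₀) := by ring
      rw [e']
      exact Submodule.add_mem_sup hy₀ hd''
    intro y hy
    exact hK hy
  exact ⟨{ ev := ev, Fam := Fam, ev_surj := hsurj, ker_ev := fun y => ⟨hker y, hle y⟩,
           red := hred, π_ev := hπev }⟩

variable {res π P} (Q : APres res π P)

lemma APres.rho_lc (c : σ →₀ MvPolynomial ι A) :
    rho res (Finsupp.linearCombination (MvPolynomial ι A) Q.Fam c) =
      Finsupp.linearCombination (MvPolynomial ι k) P.relation (mr (rho res) c) :=
  map_lc (rho res) Q.Fam P.relation Q.red c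

lemma APres.ev_lc (c : σ →₀ MvPolynomial ι A) :
    Q.ev (Finsupp.linearCombination (MvPolynomial ι A) Q.Fam c) = 0 :=
  (Q.ker_ev _).2 (lc_mem_span Q.Fam c)

include h𝔪 in
/-- an element of the ideal reducing to zero is a combination with small coefficients. -/
theorem APres.exists_small [Module.Flat A R] {y : MvPolynomial ι A} (hy : Q.ev y = 0)
    (hy' : rho res y = 0) :
    ∃ m : σ →₀ MvPolynomial ι A, (∀ s, rho res (m s) = 0) ∧
      Finsupp.linearCombination (MvPolynomial ι A) Q.Fam m = y := by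
  have h1 : y ∈ 𝔪 • (⊤ : Submodule A (MvPolynomial ι A)) := mem_smul_top_of_rho res 𝔪 h𝔪 hy'
  have h2 : y ∈ 𝔪 • LinearMap.ker Q.ev.toLinearMap :=
    mem_smul_ker_of_flat 𝔪 Q.ev.toLinearMap Q.ev_surj hy h1
  refine Submodule.smul_induction_on h2 ?_ ?_
  · intro a ha u hu
    have hu0 : Q.ev u = 0 := hu
    obtain ⟨c, hc⟩ := exists_lc_of_mem_span Q.Fam ((Q.ker_ev u).1 hu0)
    refine ⟨(C a : MvPolynomial ι A) • c, fun s => ?_, ?_⟩
    · rw [Finsupp.smul_apply, smul_eq_mul, map_mul, rho_C, (h𝔪 a).1 ha, C_0, zero_mul]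
    · rw [map_smul, hc, smul_eq_mul, MvPolynomial.smul_eq_C_mul]
  · rintro x₁ y₁ ⟨m, hm, rfl⟩ ⟨m', hm', rfl⟩
    refine ⟨m + m', fun s => ?_, map_add _ _ _⟩
    rw [Finsupp.add_apply, map_add, hm, hm', add_zero]

include h𝔪 in
/-- relations over `k` lift to relations over `A`. -/
theorem APres.exists_rel_lift [Module.Flat A R] (q : σ →₀ MvPolynomial ι k)
    (hq : Finsupp.linearCombination (MvPolynomial ι k) P.relation q = 0) :
    ∃ qA : σ →₀ MvPolynomial ι A, mr (rho res) qA = q ∧
      Finsupp.linearCombination (MvPolynomial ι A) Q.Fam qA = 0 := by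
  have hy' : rho res (Finsupp.linearCombination (MvPolynomial ι A) Q.Fam (mr (iot A) q)) = 0 := by
    rw [Q.rho_lc, mr_mr, rho_comp_iot, mr_id, hq]
  obtain ⟨m, hm, hm'⟩ := Q.exists_small 𝔪 h𝔪 (Q.ev_lc _) hy'
  refine ⟨mr (iot A) q - m, ?_, ?_⟩
  · rw [mr_sub, mr_mr, rho_comp_iot, mr_id, mr_eq_zero (rho res) m hm, sub_zero]
  · rw [map_sub, hm', sub_self]

include h𝔪 in
/-- relations with small coefficients are `𝔪`-combinations of relations. -/
theorem APres.mem_smul_relKer [Module.Flat A R] (d : σ →₀ MvPolynomial ι A)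
    (hd : ∀ s, rho res (d s) = 0)
    (hd0 : Finsupp.linearCombination (MvPolynomial ι A) Q.Fam d = 0) :
    d ∈ 𝔪 • LinearMap.ker
      ((Finsupp.linearCombination (MvPolynomial ι A) Q.Fam).restrictScalars A) := by
  haveI : Module.Flat A (LinearMap.ker Q.ev.toLinearMap) :=
    flat_of_exact_ker (LinearMap.ker Q.ev.toLinearMap).subtype Q.ev.toLinearMap
      (Submodule.subtype_injective _) Q.ev_surj (LinearMap.exact_subtype_ker_map _)
  let Θ : (σ →₀ MvPolynomial ι A) →ₗ[A] MvPolynomial ι A :=
    (Finsupp.linearCombination (MvPolynomial ι A) Q.Fam).restrictScalars A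
  let Θc : (σ →₀ MvPolynomial ι A) →ₗ[A] LinearMap.ker Q.ev.toLinearMap :=
    Θ.codRestrict _ (fun c => Q.ev_lc c)
  have hΘc : Function.Surjective Θc := by
    rintro ⟨u, hu⟩
    have hu0 : Q.ev u = 0 := hu
    obtain ⟨c, hc⟩ := exists_lc_of_mem_span Q.Fam ((Q.ker_ev u).1 hu0)
    exact ⟨c, Subtype.ext hc⟩
  have h1 : d ∈ LinearMap.ker Θc := by
    rw [LinearMap.ker_codRestrict]
    exact hd0
  have h2 := mem_smul_ker_of_flat 𝔪 Θc hΘc h1 (finsupp_mem_smul_top res 𝔪 h𝔪 d hd)
  rw [LinearMap.ker_codRestrict] at h2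
  exact h2

end ALevel

end Groth.Agent.Lib.Helper19.SmObs
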