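import Mathlib
import Groth.Agent.Lib.Helper19.SmObsA

/-!
# The obstruction relation of a small extension (helper19)

`p : A' → A` a small extension with kernel `(t)`, `Q : APres` a presentation of a flat deformation
over `A`, `Fam'` lifts of its relations to `A'[X]`.  `Obs q b`: the relation `q` among the `f_s`
has a lift `c` with `Σ c_s F'_s = t h` and `b = [h]`.  It is a well defined (`obs_unique`,
`obs_exists`) linear (`obs_add`, `obs_smul`) map on relations killing the trivial relations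
(`obs_triv`).  If it is given by `q ↦ [Σ q_s G_s]` then the family `F'_s - t G_s` has vanishing
obstruction (`obs_shift_zero`), and a family with vanishing obstruction satisfies `small_of_mem`.
-/

set_option autoImplicit false
set_option maxHeartbeats 400000
set_option linter.unusedSectionVars false
universe u

open MvPolynomial

namespace Groth.Agent.Lib.Helper19.SmObs

/-- linear combination with coefficients in a ring. -/
noncomputable abbrev lc {S : Type*} [CommRing S] {σ : Type*} (Fam : σ → S) : (σ →₀ S) →ₗ[S] S :=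
  Finsupp.linearCombination S Fam

section

variable {k A' A : Type u} [Field k] [CommRing A'] [Algebra k A'] [CommRing A] [Algebra k A]

/-- the data of a small extension. -/
structure SData (res' : A' →ₐ[k] k) (res : A →ₐ[k] k) (p : A' →ₐ[k] A) (t : A') : Prop where
  hp : Function.Surjective p
  hres : ∀ a, res (p a) = res' a
  hker : RingHom.ker (p : A' →+* A) = Ideal.span {t}
  ht : ∀ a, res' a = 0 → t * a = 0
  ht0 : t ≠ 0

variable {res' : A' →ₐ[k] k} {res : A →ₐ[k] k} {p : A' →ₐ[k] A} {t : A'}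

lemma SData.pt (S : SData res' res p t) : p t = 0 := by
  have h : t ∈ RingHom.ker (p : A' →+* A) := by
    rw [S.hker]
    exact Ideal.subset_span (Set.mem_singleton t)
  exact h

lemma SData.rest (S : SData res' res p t) : res' t = 0 := by
  rw [← S.hres, S.pt, map_zero]

variable {R B₀ : Type u} [CommRing R] [Algebra A R] [CommRing B₀] [Algebra k B₀]
  {π : R →+* B₀} {ι σ : Type u} {P : Algebra.Presentation k B₀ ι σ}

/-- the obstruction relation. -/
def Obs (res' : A' →ₐ[k] k) (t : A') (P : Algebra.Presentation k B₀ ι σ)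
    (Fam' : σ → MvPolynomial ι A') (q : σ →₀ MvPolynomial ι k) (b : B₀) : Prop :=
  ∃ (c : σ →₀ MvPolynomial ι A') (h : MvPolynomial ι k), mr (rho res') c = q ∧
    lc Fam' c = C t * iot A' h ∧ aeval P.val h = b

variable (S : SData res' res p t) (𝔪 : Ideal A) (h𝔪 : ∀ a, a ∈ 𝔪 ↔ res a = 0)
  (Q : APres res π P) (Fam' : σ → MvPolynomial ι A') (hF' : ∀ s, rhoP p (Fam' s) = Q.Fam s)

include S hF' in
lemma rho_Fam' (s : σ) : rho res' (Fam' s) = P.relation s := by
  rw [← rho_rhoP res' p res S.hres, hF', Q.red]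

include S hF' in
lemma rho_lc' (c : σ →₀ MvPolynomial ι A') :
    rho res' (lc Fam' c) = lc P.relation (mr (rho res') c) :=
  map_lc (rho res') Fam' P.relation (rho_Fam' S Q Fam' hF') c

include hF' in
lemma rhoP_lc' (c : σ →₀ MvPolynomial ι A') :
    rhoP p (lc Fam' c) = lc Q.Fam (mr (rhoP p) c) :=
  map_lc (rhoP p) Fam' Q.Fam hF' c

include S hF' in
lemma lc_Ct (x : σ →₀ MvPolynomial ι A') (hx : ∀ s, ∃ g, x s = C t * g) :
    ∃ h : MvPolynomial ι k, aeval P.val h = 0 ∧ lc Fam' x = C t * iot A' h := by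
  change ∃ h : MvPolynomial ι k, aeval P.val h = 0 ∧
    Finsupp.linearCombination (MvPolynomial ι A') Fam' x = C t * iot A' h
  rw [Finsupp.linearCombination_apply, Finsupp.sum]
  refine Finset.sum_induction (fun s => x s • Fam' s)
    (fun y => ∃ h : MvPolynomial ι k, aeval P.val h = 0 ∧ y = C t * iot A' h) ?_ ?_ ?_
  · rintro _ _ ⟨h₁, e₁, rfl⟩ ⟨h₂, e₂, rfl⟩
    exact ⟨h₁ + h₂, by rw [map_add, e₁, e₂, add_zero], by rw [map_add, mul_add]⟩
  · exact ⟨0, map_zero _, by rw [map_zero, mul_zero]⟩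
  · intro s _
    obtain ⟨g, hg⟩ := hx s
    refine ⟨rho res' (g * Fam' s), ?_, ?_⟩
    · rw [map_mul, rho_Fam' S Q Fam' hF', map_mul, P.aeval_val_relation, mul_zero]
    · rw [Ct_mul_iot_rho res' t S.ht, hg, smul_eq_mul, mul_assoc]

include S h𝔪 hF' in
theorem obs_zero [Module.Flat A R] (d : σ →₀ MvPolynomial ι A')
    (hd : ∀ s, rho res' (d s) = 0) (h : MvPolynomial ι k)
    (hh : lc Fam' d = C t * iot A' h) : aeval P.val h = 0 := by
  have key : ∀ z ∈ 𝔪 • LinearMap.ker
      ((Finsupp.linearCombination (MvPolynomial ι A) Q.Fam).restrictScalars A),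
      ∀ d' : σ →₀ MvPolynomial ι A', mr (rhoP p) d' = z →
        ∃ h' : MvPolynomial ι k, aeval P.val h' = 0 ∧ lc Fam' d' = C t * iot A' h' := by
    intro z hz
    refine Submodule.smul_induction_on hz ?_ ?_
    · intro a ha qA hqA d' hd'
      have hqA0 : lc Q.Fam qA = 0 := hqA
      obtain ⟨a', rfl⟩ := S.hp a
      have ha' : res' a' = 0 := by
        rw [← S.hres]
        exact (h𝔪 _).1 ha
      obtain ⟨q', rfl⟩ := mr_surjective (rhoP p) (rhoP_surjective p S.hp) qA
      have hx : ∀ s, ∃ g, (d' - (C a' : MvPolynomial ι A') • q') s = C t * g := by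
        intro s
        apply exists_of_rhoP_eq_zero p S.hker
        have h3 : rhoP p (d' s) = C (p a') * rhoP p (q' s) := by
          have := congrArg (fun f => f s) hd'
          simpa [MvPolynomial.smul_eq_C_mul] using this
        rw [Finsupp.sub_apply, Finsupp.smul_apply, smul_eq_mul, map_sub, map_mul, rhoP_C, h3,
          sub_self]
      obtain ⟨h', hh', e'⟩ := lc_Ct S Q Fam' hF' _ hx
      refine ⟨h', hh', ?_⟩
      have e1 : lc Fam' ((C a' : MvPolynomial ι A') • q') = 0 := by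
        obtain ⟨g, hg⟩ := exists_of_rhoP_eq_zero p S.hker (y := lc Fam' q')
          (by rw [rhoP_lc' Q Fam' hF', hqA0])
        rw [map_smul, hg, smul_eq_mul, ← mul_assoc, ← C_mul, mul_comm a' t, S.ht a' ha', C_0,
          zero_mul]
      have e2 : d' = (d' - (C a' : MvPolynomial ι A') • q') + (C a' : MvPolynomial ι A') • q' :=
        (sub_add_cancel _ _).symm
      rw [e2, map_add, e', e1, add_zero]
    · intro z₁ z₂ h₁ h₂ d' hd'
      obtain ⟨d₁, hd₁⟩ := mr_surjective (rhoP p) (rhoP_surjective p S.hp) z₁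
      have hd₂ : mr (rhoP p) (d' - d₁) = z₂ := by
        rw [mr_sub, hd', hd₁, add_sub_cancel_left]
      obtain ⟨h₁', e₁, f₁⟩ := h₁ d₁ hd₁
      obtain ⟨h₂', e₂, f₂⟩ := h₂ (d' - d₁) hd₂
      refine ⟨h₁' + h₂', by rw [map_add, e₁, e₂, add_zero], ?_⟩
      have e : d' = d₁ + (d' - d₁) := (add_sub_cancel _ _).symm
      rw [e, map_add, f₁, f₂, map_add, mul_add]
  have hdA : ∀ s, rho res ((mr (rhoP p) d) s) = 0 := fun s => by
    rw [mr_apply, rho_rhoP res' p res S.hres, hd]
  have hdA0 : lc Q.Fam (mr (rhoP p) d) = 0 := by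
    rw [← rhoP_lc' Q Fam' hF', hh, map_mul, rhoP_C, S.pt, C_0, zero_mul]
  obtain ⟨h', hh', e'⟩ := key _ (Q.mem_smul_relKer 𝔪 h𝔪 _ hdA hdA0) d rfl
  have h0 : (C t : MvPolynomial ι A') * iot A' (h - h') = 0 := by
    rw [map_sub, mul_sub, ← hh, ← e', sub_self]
  have h1 := eq_zero_of_Ct_mul_iot t S.ht0 h0
  rw [sub_eq_zero] at h1
  rw [h1]
  exact hh'

include S h𝔪 hF' in
theorem obs_unique [Module.Flat A R] {q : σ →₀ MvPolynomial ι k} {b b' : B₀}
    (h : Obs res' t P Fam' q b) (h' : Obs res' t P Fam' q b') : b = b' := by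
  obtain ⟨c, h₁, hc, e, rfl⟩ := h
  obtain ⟨c', h₂, hc', e', rfl⟩ := h'
  have hd : ∀ s, rho res' ((c - c') s) = 0 := by
    intro s
    have := congrArg (fun f => f s) (hc.trans hc'.symm)
    simp only [mr_apply] at this
    rw [Finsupp.sub_apply, map_sub, this, sub_self]
  have h0 := obs_zero S 𝔪 h𝔪 Q Fam' hF' (c - c') hd (h₁ - h₂)
    (by rw [map_sub, e, e', map_sub, mul_sub])
  rw [map_sub, sub_eq_zero] at h0
  exact h0

include S h𝔪 hF' in
theorem obs_exists [Module.Flat A R] (q : σ →₀ MvPolynomial ι k)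
    (hq : lc P.relation q = 0) : ∃ b, Obs res' t P Fam' q b := by
  obtain ⟨qA, hqA, hqA0⟩ := Q.exists_rel_lift 𝔪 h𝔪 q hq
  obtain ⟨c, hc⟩ := mr_surjective (rhoP p) (rhoP_surjective p S.hp) qA
  obtain ⟨g, hg⟩ := exists_of_rhoP_eq_zero p S.hker (y := lc Fam' c)
    (by rw [rhoP_lc' Q Fam' hF', hc]; exact hqA0)
  refine ⟨aeval P.val (rho res' g), c, rho res' g, ?_, ?_, rfl⟩
  · rw [← rho_comp_rhoP res' p res S.hres, ← mr_mr, hc, hqA]
  · rw [hg, Ct_mul_iot_rho res' t S.ht]

theorem obs_add {q q' : σ →₀ MvPolynomial ι k} {b b' : B₀}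
    (h : Obs res' t P Fam' q b) (h' : Obs res' t P Fam' q' b') :
    Obs res' t P Fam' (q + q') (b + b') := by
  obtain ⟨c, h₁, hc, e, rfl⟩ := h
  obtain ⟨c', h₂, hc', e', rfl⟩ := h'
  exact ⟨c + c', h₁ + h₂, by rw [mr_add, hc, hc'], by rw [map_add, e, e', map_add, mul_add],
    map_add _ _ _⟩

theorem obs_smul (r : MvPolynomial ι k) {q : σ →₀ MvPolynomial ι k} {b : B₀}
    (h : Obs res' t P Fam' q b) : Obs res' t P Fam' (r • q) (aeval P.val r * b) := by
  obtain ⟨c, h₁, hc, e, rfl⟩ := h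
  refine ⟨iot A' r • c, r * h₁, ?_, ?_, map_mul _ _ _⟩
  · rw [mr_smul, rho_iot, hc]
  · rw [map_smul, e, smul_eq_mul, map_mul]
    ring

include S hF' in
theorem obs_triv (a b : σ →₀ MvPolynomial ι k) :
    Obs res' t P Fam' (lc P.relation a • b - lc P.relation b • a) 0 := by
  refine ⟨lc Fam' (mr (iot A') a) • mr (iot A') b - lc Fam' (mr (iot A') b) • mr (iot A') a, 0,
    ?_, ?_, map_zero _⟩
  · rw [mr_sub, mr_smul, mr_smul, rho_lc' S Q Fam' hF', rho_lc' S Q Fam' hF', mr_mr, mr_mr,
      rho_comp_iot, mr_id, mr_id]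
  · rw [map_sub, map_smul, map_smul, smul_eq_mul, smul_eq_mul, mul_comm, sub_self, map_zero,
      mul_zero]

include S in
lemma lc_shift (G : σ → MvPolynomial ι k) (c : σ →₀ MvPolynomial ι A') :
    lc (fun s => Fam' s - C t * iot A' (G s)) c =
      lc Fam' c - C t * iot A' (lc G (mr (rho res') c)) := by
  induction c using Finsupp.induction_linear with
  | zero => rw [map_zero, map_zero, mr_zero, map_zero, map_zero, mul_zero, sub_zero]
  | add c d hc hd =>
    rw [map_add, hc, hd, map_add, mr_add, map_add, map_add, mul_add]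
    ring
  | single s r =>
    rw [Finsupp.linearCombination_single, Finsupp.linearCombination_single, mr_single,
      Finsupp.linearCombination_single, smul_eq_mul, smul_eq_mul, smul_eq_mul, mul_sub]
    congr 1
    rw [mul_left_comm, ← Ct_mul_iot_rho res' t S.ht (r * iot A' (G s)), map_mul, rho_iot]

include S hF' in
lemma hF'_shift (G : σ → MvPolynomial ι k) (s : σ) :
    rhoP p (Fam' s - C t * iot A' (G s)) = Q.Fam s := by
  rw [map_sub, map_mul, rhoP_C, S.pt, C_0, zero_mul, sub_zero, hF']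

include S hF' in
theorem obs_shift_zero (G : σ → MvPolynomial ι k)
    (hψ : ∀ q b, lc P.relation q = 0 → Obs res' t P Fam' q b → b = aeval P.val (lc G q))
    (c : σ →₀ MvPolynomial ι A') (h : MvPolynomial ι k)
    (hc : lc (fun s => Fam' s - C t * iot A' (G s)) c = C t * iot A' h) :
    aeval P.val h = 0 := by
  have e1 : lc Fam' c = C t * iot A' (h + lc G (mr (rho res') c)) := by
    rw [map_add, mul_add, ← hc, lc_shift S Fam' G c]
    ring
  have hq : lc P.relation (mr (rho res') c) = 0 := by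
    rw [← rho_lc' S Q Fam' hF', e1, rho_Ct_mul res' t S.rest]
  have h2 := hψ _ _ hq ⟨c, h + lc G (mr (rho res') c), rfl, e1, rfl⟩
  rw [map_add] at h2
  exact add_right_cancel (h2.trans (zero_add _).symm)

include S h𝔪 hF' in
/-- for a family with vanishing obstruction, elements of the ideal reducing to zero are combinations
with small coefficients. -/
theorem small_of_mem [Module.Flat A R]
    (hO : ∀ (c : σ →₀ MvPolynomial ι A') (h : MvPolynomial ι k),
      lc Fam' c = C t * iot A' h → aeval P.val h = 0)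
    (c : σ →₀ MvPolynomial ι A') (hy : rho res' (lc Fam' c) = 0) :
    ∃ n : σ →₀ MvPolynomial ι A', (∀ s, rho res' (n s) = 0) ∧ lc Fam' n = lc Fam' c := by
  have hev : Q.ev (rhoP p (lc Fam' c)) = 0 := by
    rw [rhoP_lc' Q Fam' hF']
    exact Q.ev_lc _
  have hρ : rho res (rhoP p (lc Fam' c)) = 0 := by rw [rho_rhoP res' p res S.hres, hy]
  obtain ⟨m, hm, hm'⟩ := Q.exists_small 𝔪 h𝔪 hev hρ
  obtain ⟨m', rfl⟩ := mr_surjective (rhoP p) (rhoP_surjective p S.hp) m
  have hm'0 : ∀ s, rho res' (m' s) = 0 := fun s => by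
    rw [← rho_rhoP res' p res S.hres]
    have := hm s
    rwa [mr_apply] at this
  obtain ⟨g, hg⟩ := exists_of_rhoP_eq_zero p S.hker (y := lc Fam' c - lc Fam' m')
    (by rw [map_sub, rhoP_lc' Q Fam' hF' m', hm', sub_self])
  have hg' : lc Fam' (c - m') = C t * iot A' (rho res' g) := by
    rw [map_sub, hg, Ct_mul_iot_rho res' t S.ht]
  have h0 := hO _ _ hg'
  obtain ⟨e, he⟩ := exists_lc_of_mem_span P.relation (mem_ker_of_aeval P h0)
  refine ⟨m' + (C t : MvPolynomial ι A') • mr (iot A') e, fun s => ?_, ?_⟩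
  · rw [Finsupp.add_apply, Finsupp.smul_apply, smul_eq_mul, map_add, hm'0,
      rho_Ct_mul res' t S.rest, add_zero]
  · have e3 : (C t : MvPolynomial ι A') * lc Fam' (mr (iot A') e) = C t * g := by
      rw [← Ct_mul_iot_rho res' t S.ht (lc Fam' (mr (iot A') e)), rho_lc' S Q Fam' hF', mr_mr,
        rho_comp_iot, mr_id]
      change C t * iot A' (Finsupp.linearCombination _ P.relation e) = _
      rw [he, Ct_mul_iot_rho res' t S.ht]
    rw [map_add, map_smul, smul_eq_mul, e3, ← hg]
    ring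

end

end Groth.Agent.Lib.Helper19.SmObs
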