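import Mathlib
import Groth.Agent.Lib.Helper19.SmObsObs

/-!
# The lifted deformation `A'[X]/(F'_s)` (helper19)

For a family `Fam'` of lifts with vanishing obstruction: `A'[X]/(Fam')` is flat over `A'`
(`flat_quot`), with its projection `piQ` to `B₀` (surjective with kernel `𝔪' R'`) and the reduction
`betaQ` onto `R` (surjective with kernel `t R'`).  `isPushout_of_surjective`: the resulting square of
rings is a pushout.
-/

set_option autoImplicit false
set_option maxHeartbeats 400000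
set_option linter.unusedSectionVars false
universe u

open MvPolynomial CategoryTheory CategoryTheory.Limits

namespace Groth.Agent.Lib.Helper19.SmObs

section

variable {k A' A : Type u} [Field k] [CommRing A'] [Algebra k A'] [CommRing A] [Algebra k A]
  {res' : A' →ₐ[k] k} {res : A →ₐ[k] k} {p : A' →ₐ[k] A} {t : A'}
  {R B₀ : Type u} [CommRing R] [Algebra A R] [CommRing B₀] [Algebra k B₀]
  {π : R →+* B₀} {ι σ : Type u} {P : Algebra.Presentation k B₀ ι σ}
  (S : SData res' res p t) (𝔪 : Ideal A) (h𝔪 : ∀ a, a ∈ 𝔪 ↔ res a = 0)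
  (Q : APres res π P) (Fam' : σ → MvPolynomial ι A') (hF' : ∀ s, rhoP p (Fam' s) = Q.Fam s)
  (𝔪' : Ideal A') (h𝔪' : ∀ a, a ∈ 𝔪' ↔ res' a = 0)

/-- the ideal of the lifted relations. -/
noncomputable abbrev II (Fam' : σ → MvPolynomial ι A') : Ideal (MvPolynomial ι A') :=
  Ideal.span (Set.range Fam')

include S h𝔪 hF' h𝔪' in
theorem flat_quot [Module.Flat A R] [𝔪'.IsMaximal] (hnil' : IsNilpotent 𝔪')
    (hO : ∀ (c : σ →₀ MvPolynomial ι A') (h : MvPolynomial ι k),
      lc Fam' c = C t * iot A' h → aeval P.val h = 0) :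
    Module.Flat A' (MvPolynomial ι A' ⧸ II Fam') := by
  refine flat_of_ker_inter 𝔪' hnil' (Ideal.Quotient.mkₐ A' (II Fam')).toLinearMap
    (Ideal.Quotient.mkₐ_surjective A' _) ?_
  have hker : LinearMap.ker (Ideal.Quotient.mkₐ A' (II Fam')).toLinearMap =
      (II Fam').restrictScalars A' := by
    ext z
    rw [LinearMap.mem_ker, Submodule.restrictScalars_mem]
    exact Ideal.Quotient.eq_zero_iff_mem
  intro y hy hy'
  have hy0 : y ∈ II Fam' := by
    rw [hker] at hy
    exact hy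
  obtain ⟨c, rfl⟩ := exists_lc_of_mem_span Fam' hy0
  have hρ : rho res' (lc Fam' c) = 0 := rho_of_mem_smul_top res' 𝔪' h𝔪' hy'
  obtain ⟨n, hn, hn'⟩ := small_of_mem S 𝔪 h𝔪 Q Fam' hF' hO c hρ
  change Finsupp.linearCombination _ Fam' c ∈ _
  rw [hker]
  change lc Fam' c ∈ _
  rw [← hn']
  change Finsupp.linearCombination _ Fam' n ∈ _
  rw [Finsupp.linearCombination_apply, Finsupp.sum]
  refine Submodule.sum_mem _ (fun s _ => ?_)
  rw [smul_eq_mul]
  exact mul_mem_smul 𝔪' (II Fam') (mem_map_C_of_rho res' 𝔪' h𝔪' (hn s)) _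
    (Ideal.subset_span ⟨s, rfl⟩)

variable (hrel : ∀ s, rho res' (Fam' s) = P.relation s)

include hrel in
lemma piQ_aux (y : MvPolynomial ι A') (hy : y ∈ II Fam') :
    (((aeval P.val : MvPolynomial ι k →ₐ[k] B₀) : MvPolynomial ι k →+* B₀).comp (rho res')) y
      = 0 := by
  have h : II Fam' ≤ RingHom.ker
      (((aeval P.val : MvPolynomial ι k →ₐ[k] B₀) : MvPolynomial ι k →+* B₀).comp (rho res')) := by
    rw [Ideal.span_le]
    rintro _ ⟨s, rfl⟩
    change aeval P.val (rho res' (Fam' s)) = 0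
    rw [hrel, P.aeval_val_relation]
  exact h hy

/-- the projection of the lifted deformation to `B₀`. -/
noncomputable def piQ : MvPolynomial ι A' ⧸ II Fam' →+* B₀ :=
  Ideal.Quotient.lift (II Fam')
    (((aeval P.val : MvPolynomial ι k →ₐ[k] B₀) : MvPolynomial ι k →+* B₀).comp (rho res'))
    (piQ_aux Fam' hrel)

lemma piQ_mk (y : MvPolynomial ι A') :
    piQ Fam' hrel (Ideal.Quotient.mk (II Fam') y) = aeval P.val (rho res' y) := rfl

lemma piQ_algebraMap (a : A') :
    piQ Fam' hrel (algebraMap A' (MvPolynomial ι A' ⧸ II Fam') a) = algebraMap k B₀ (res' a) := by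
  rw [← Ideal.Quotient.mk_algebraMap, piQ_mk, MvPolynomial.algebraMap_eq, rho_C, aeval_C]

lemma piQ_surjective : Function.Surjective (piQ Fam' hrel) := by
  intro b
  obtain ⟨h, rfl⟩ := P.aeval_val_surjective b
  exact ⟨Ideal.Quotient.mk _ (iot A' h), by rw [piQ_mk, rho_iot]⟩

include h𝔪' in
lemma ker_piQ : RingHom.ker (piQ Fam' hrel) =
    𝔪'.map (algebraMap A' (MvPolynomial ι A' ⧸ II Fam')) := by
  apply le_antisymm
  · intro r hr
    obtain ⟨y, rfl⟩ := Ideal.Quotient.mk_surjective r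
    rw [RingHom.mem_ker, piQ_mk] at hr
    obtain ⟨e, he⟩ := exists_lc_of_mem_span P.relation (mem_ker_of_aeval P hr)
    have h1 : rho res' (y - lc Fam' (mr (iot A') e)) = 0 := by
      rw [map_sub, map_lc (rho res') Fam' P.relation hrel, mr_mr, rho_comp_iot, mr_id, he,
        sub_self]
    have h2 : Ideal.Quotient.mk (II Fam') y =
        Ideal.Quotient.mk (II Fam') (y - lc Fam' (mr (iot A') e)) := by
      rw [map_sub, Ideal.Quotient.eq_zero_iff_mem.2 (lc_mem_span Fam' _), sub_zero]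
    rw [h2]
    have h3 := mem_map_C_of_rho res' 𝔪' h𝔪' h1
    have h4 := Ideal.mem_map_of_mem (Ideal.Quotient.mk (II Fam')) h3
    rw [Ideal.map_map, Ideal.Quotient.mk_comp_algebraMap] at h4
    exact h4
  · rw [Ideal.map_le_iff_le_comap]
    intro a ha
    rw [Ideal.mem_comap, RingHom.mem_ker, piQ_algebraMap, (h𝔪' a).1 ha, map_zero]

include hF' in
lemma betaQ_aux (y : MvPolynomial ι A') (hy : y ∈ II Fam') :
    ((Q.ev : MvPolynomial ι A →+* R).comp (rhoP p)) y = 0 := by
  have h : II Fam' ≤ RingHom.ker ((Q.ev : MvPolynomial ι A →+* R).comp (rhoP p)) := by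
    rw [Ideal.span_le]
    rintro _ ⟨s, rfl⟩
    change Q.ev (rhoP p (Fam' s)) = 0
    rw [hF']
    exact (Q.ker_ev _).2 (Ideal.subset_span ⟨s, rfl⟩)
  exact h hy

/-- the reduction of the lifted deformation onto `R`. -/
noncomputable def betaQ : MvPolynomial ι A' ⧸ II Fam' →+* R :=
  Ideal.Quotient.lift (II Fam') ((Q.ev : MvPolynomial ι A →+* R).comp (rhoP p))
    (betaQ_aux Q Fam' hF')

lemma betaQ_mk (y : MvPolynomial ι A') :
    betaQ Q Fam' hF' (Ideal.Quotient.mk (II Fam') y) = Q.ev (rhoP p y) := rfl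

include S in
lemma betaQ_surjective : Function.Surjective (betaQ Q Fam' hF') := by
  intro r
  obtain ⟨yA, rfl⟩ := Q.ev_surj r
  obtain ⟨y, rfl⟩ := rhoP_surjective p S.hp yA
  exact ⟨Ideal.Quotient.mk _ y, betaQ_mk Q Fam' hF' y⟩

lemma betaQ_algebraMap (a : A') :
    betaQ Q Fam' hF' (algebraMap A' (MvPolynomial ι A' ⧸ II Fam') a) = algebraMap A R (p a) := by
  rw [← Ideal.Quotient.mk_algebraMap, betaQ_mk, MvPolynomial.algebraMap_eq, rhoP_C,
    ← MvPolynomial.algebraMap_eq, AlgHom.commutes]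

include S in
lemma betaQ_ker (r : MvPolynomial ι A' ⧸ II Fam') (hr : betaQ Q Fam' hF' r = 0) :
    r ∈ (Ideal.span {t}).map (algebraMap A' (MvPolynomial ι A' ⧸ II Fam')) := by
  obtain ⟨y, rfl⟩ := Ideal.Quotient.mk_surjective r
  rw [betaQ_mk] at hr
  obtain ⟨cA, hcA⟩ := exists_lc_of_mem_span Q.Fam ((Q.ker_ev _).1 hr)
  obtain ⟨c, rfl⟩ := mr_surjective (rhoP p) (rhoP_surjective p S.hp) cA
  obtain ⟨g, hg⟩ := exists_of_rhoP_eq_zero p S.hker (y := y - lc Fam' c)
    (by rw [map_sub, rhoP_lc' Q Fam' hF' c]; exact sub_eq_zero.2 hcA.symm)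
  have h2 : Ideal.Quotient.mk (II Fam') y = Ideal.Quotient.mk (II Fam') (y - lc Fam' c) := by
    rw [map_sub, Ideal.Quotient.eq_zero_iff_mem.2 (lc_mem_span Fam' _), sub_zero]
  rw [h2, hg, map_mul, ← MvPolynomial.algebraMap_eq, Ideal.Quotient.mk_algebraMap]
  exact Ideal.mul_mem_right _ _
    (Ideal.mem_map_of_mem _ (Ideal.subset_span (Set.mem_singleton t)))

include S in
lemma pi_betaQ (r : MvPolynomial ι A' ⧸ II Fam') :
    π (betaQ Q Fam' hF' r) = piQ Fam' hrel r := by
  obtain ⟨y, rfl⟩ := Ideal.Quotient.mk_surjective r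
  rw [betaQ_mk, piQ_mk, Q.π_ev, rho_rhoP res' p res S.hres]

end

theorem isPushout_of_surjective {A' A R' R : Type u} [CommRing A'] [CommRing A] [CommRing R']
    [CommRing R] (p : A' →+* A) (hp : Function.Surjective p) (a1 : A' →+* R') (a2 : A →+* R)
    (β : R' →+* R) (hβ : Function.Surjective β) (hcomm : ∀ a, β (a1 a) = a2 (p a))
    (hker : ∀ r, β r = 0 → r ∈ (RingHom.ker p).map a1) :
    IsPushout (CommRingCat.ofHom a1) (CommRingCat.ofHom p) (CommRingCat.ofHom β)
      (CommRingCat.ofHom a2) := by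
  have w : CommRingCat.ofHom a1 ≫ CommRingCat.ofHom β =
      CommRingCat.ofHom p ≫ CommRingCat.ofHom a2 := by
    ext a
    exact hcomm a
  have hcond : ∀ (s : PushoutCocone (CommRingCat.ofHom a1) (CommRingCat.ofHom p)) (a : A'),
      s.inl.hom (a1 a) = s.inr.hom (p a) := fun s a =>
    congrArg (fun h : CommRingCat.of A' ⟶ s.pt => h.hom a) s.condition
  have hk : ∀ s : PushoutCocone (CommRingCat.ofHom a1) (CommRingCat.ofHom p),
      RingHom.ker β ≤ RingHom.ker s.inl.hom := by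
    intro s r hr
    have h1 := hker r hr
    have h2 : (RingHom.ker p).map a1 ≤ RingHom.ker s.inl.hom := by
      rw [Ideal.map_le_iff_le_comap]
      intro a ha
      rw [Ideal.mem_comap, RingHom.mem_ker, hcond, (RingHom.mem_ker).1 ha, map_zero]
    exact h2 h1
  refine ⟨⟨w⟩, ⟨PushoutCocone.IsColimit.mk w
    (fun s => CommRingCat.ofHom (RingHom.liftOfSurjective β hβ ⟨s.inl.hom, hk s⟩)) ?_ ?_ ?_⟩⟩
  · intro s
    apply CommRingCat.hom_ext
    change (RingHom.liftOfSurjective β hβ ⟨s.inl.hom, hk s⟩).comp β = s.inl.hom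
    exact RingHom.liftOfSurjective_comp β hβ ⟨s.inl.hom, hk s⟩
  · intro s
    apply CommRingCat.hom_ext
    change (RingHom.liftOfSurjective β hβ ⟨s.inl.hom, hk s⟩).comp a2 = s.inr.hom
    ext a
    obtain ⟨a', rfl⟩ := hp a
    rw [RingHom.comp_apply, ← hcomm, RingHom.liftOfSurjective_comp_apply]
    exact hcond s a'
  · intro s m hm1 hm2
    apply CommRingCat.hom_ext
    change m.hom = RingHom.liftOfSurjective β hβ ⟨s.inl.hom, hk s⟩
    ext r
    obtain ⟨r', rfl⟩ := hβ r
    rw [RingHom.liftOfSurjective_comp_apply]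
    exact congrArg (fun h : CommRingCat.of R' ⟶ s.pt => h.hom r') hm1

end Groth.Agent.Lib.Helper19.SmObs
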