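import Mathlib
import Groth.Agent.Lib.Helper28.Thick.Affine

/-!
# Affine deformations over a local Artinian algebra are flat algebras (helper19)

Let `k` be a field, `A` a local Artinian `k`-algebra with augmentation `e : A →ₐ[k] k`, `B₀` a `k`-algebra.
A cartesian square exhibiting `Spec B₀` as the closed fibre of a flat `X' ⟶ Spec A` forces `X'` to be affine,
`X' = Spec R` with `R` flat over `A`, `R → B₀` surjective with kernel `𝔪_A R` (`algebraize`).
A `k`-algebra section `s : B₀ → R` of `R → B₀` makes `A ⊗_k B₀ → R` bijective (`psi_bijective`), so that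
the deformation is the product one (`isPullback_of_section`).
-/

set_option autoImplicit false
set_option linter.style.haveILetI false
set_option linter.unusedSectionVars false
universe u

open CategoryTheory CategoryTheory.Limits AlgebraicGeometry TensorProduct

namespace Groth.Agent.Lib.Helper19.AffDef

section Nak

variable {A M : Type*} [CommRing A] [AddCommGroup M] [Module A M]

/-- Nakayama for a nilpotent ideal, no finiteness. -/
theorem eq_top_of_sup_smul_top (N : Submodule A M) (I : Ideal A) (hI : IsNilpotent I)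
    (h : N ⊔ I • (⊤ : Submodule A M) = ⊤) : N = ⊤ := by
  obtain ⟨n, hn⟩ := hI
  have key : ∀ j : ℕ, N ⊔ (I ^ j) • (⊤ : Submodule A M) = ⊤ := by
    intro j
    induction j with
    | zero => simp
    | succ j ih =>
      rw [eq_top_iff]
      calc (⊤ : Submodule A M) = N ⊔ I • (⊤ : Submodule A M) := h.symm
        _ = N ⊔ I • (N ⊔ (I ^ j) • (⊤ : Submodule A M)) := by rw [ih]
        _ = N ⊔ (I • N ⊔ I • ((I ^ j) • (⊤ : Submodule A M))) := by rw [Submodule.smul_sup]
        _ ≤ N ⊔ (I ^ (j + 1)) • (⊤ : Submodule A M) := by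
          refine sup_le le_sup_left (sup_le (le_sup_of_le_left Submodule.smul_le_right) ?_)
          rw [← Submodule.mul_smul, ← pow_succ']
          exact le_sup_right
  have := key n
  rw [hn] at this
  simpa using this

end Nak

section Alg0

variable {k A : Type u} [Field k] [CommRing A] [IsLocalRing A] [Algebra k A] (e : A →ₐ[k] k)

lemma e_surj : Function.Surjective e := fun c => ⟨algebraMap k A c, e.commutes c⟩

lemma ker_e : RingHom.ker e.toRingHom = IsLocalRing.maximalIdeal A :=
  IsLocalRing.eq_maximalIdeal (RingHom.ker_isMaximal_of_surjective e.toRingHom (e_surj e))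

lemma sub_mem_max (a : A) : a - algebraMap k A (e a) ∈ IsLocalRing.maximalIdeal A := by
  rw [← ker_e e, RingHom.mem_ker]
  change e (a - algebraMap k A (e a)) = 0
  rw [map_sub, e.commutes]
  simp

end Alg0

section Alg

variable {k A B₀ : Type u} [Field k] [CommRing A] [IsLocalRing A] [IsArtinianRing A] [Algebra k A]
  (e : A →ₐ[k] k) [CommRing B₀] [Algebra k B₀]

lemma specE_closedImmersion : IsClosedImmersion (Spec.map (CommRingCat.ofHom e.toRingHom)) :=
  IsClosedImmersion.spec_of_surjective _ (e_surj e)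

variable (A) in
lemma subsingleton_spec : Subsingleton (PrimeSpectrum A) := by
  refine ⟨fun p q => ?_⟩
  ext1
  have hp := IsLocalRing.eq_maximalIdeal (IsArtinianRing.isMaximal_of_isPrime p.asIdeal)
  have hq := IsLocalRing.eq_maximalIdeal (IsArtinianRing.isMaximal_of_isPrime q.asIdeal)
  rw [hp, hq]

lemma specE_surjective : Surjective (Spec.map (CommRingCat.ofHom e.toRingHom)) := by
  constructor
  intro y
  haveI := subsingleton_spec A
  obtain ⟨x⟩ : Nonempty (PrimeSpectrum k) := inferInstance
  exact ⟨x, Subsingleton.elim (α := PrimeSpectrum A) _ _⟩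

variable (A) in
lemma isNilpotent_max : IsNilpotent (IsLocalRing.maximalIdeal A) := by
  rw [← IsLocalRing.jacobson_eq_maximalIdeal ⊥ bot_ne_top]
  exact IsArtinianRing.isNilpotent_jacobson_bot

/-- Algebraization of an affine deformation. -/
theorem algebraize {X' : Scheme.{u}} (g : X' ⟶ Spec (CommRingCat.of A)) [Flat g]
    (i : Spec (CommRingCat.of B₀) ⟶ X')
    (hsq : IsPullback i (Spec.map (CommRingCat.ofHom (algebraMap k B₀))) g
      (Spec.map (CommRingCat.ofHom e.toRingHom))) :
    ∃ (R : Type u) (_ : CommRing R) (_ : Algebra A R) (_ : Module.Flat A R) (π : R →+* B₀)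
      (α : X' ≅ Spec (CommRingCat.of R)),
      (∀ a, π (algebraMap A R a) = algebraMap k B₀ (e a)) ∧ Function.Surjective π ∧
      RingHom.ker π = (IsLocalRing.maximalIdeal A).map (algebraMap A R) ∧
      α.inv ≫ g = Spec.map (CommRingCat.ofHom (algebraMap A R)) ∧
      i ≫ α.hom = Spec.map (CommRingCat.ofHom π) := by
  haveI hci : IsClosedImmersion i :=
    MorphismProperty.of_isPullback (P := @IsClosedImmersion) hsq.flip (specE_closedImmersion e)
  haveI hsj : Surjective i :=
    MorphismProperty.of_isPullback (P := @Surjective) hsq.flip (specE_surjective e)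
  haveI : IsAffine X' := Groth.Agent.Lib.Helper28.Thick.isAffine_of_thickening i hsj.surj
  let α : X' ≅ Spec (CommRingCat.of Γ(X', ⊤)) := X'.isoSpec
  let φ : CommRingCat.of A ⟶ CommRingCat.of Γ(X', ⊤) := Spec.preimage (α.inv ≫ g)
  have hφ : Spec.map φ = α.inv ≫ g := Spec.map_preimage _
  let π : CommRingCat.of Γ(X', ⊤) ⟶ CommRingCat.of B₀ := Spec.preimage (i ≫ α.hom)
  have hπ : Spec.map π = i ≫ α.hom := Spec.map_preimage _
  have hcomp : φ ≫ π = CommRingCat.ofHom e.toRingHom ≫ CommRingCat.ofHom (algebraMap k B₀) := by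
    apply Spec.map_injective
    rw [Spec.map_comp, Spec.map_comp, hφ, hπ, Category.assoc, Iso.hom_inv_id_assoc, hsq.w]
  have hflat : φ.hom.Flat := by
    rw [← HasRingHomProperty.Spec_iff (P := @Flat), hφ]
    infer_instance
  have h1 : ∀ a, π.hom (φ.hom a) = algebraMap k B₀ (e a) := fun a =>
    congrArg (fun f : CommRingCat.of A ⟶ CommRingCat.of B₀ => f.hom a) hcomp
  have hsurj : Function.Surjective π.hom := by
    haveI : IsClosedImmersion (Spec.map π) := by rw [hπ]; infer_instance
    have h2 := (IsClosedImmersion.isAffine_surjective_of_isAffine (Spec.map π)).2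
    have hnat : π = (Scheme.ΓSpecIso _).inv ≫ (Spec.map π).appTop ≫ (Scheme.ΓSpecIso _).hom := by
      rw [Scheme.ΓSpecIso_naturality, Iso.inv_hom_id_assoc]
    rw [hnat]
    simp only [CommRingCat.hom_comp, RingHom.coe_comp]
    exact ((ConcreteCategory.bijective_of_isIso (Scheme.ΓSpecIso _).hom).2.comp h2).comp
      (ConcreteCategory.bijective_of_isIso (Scheme.ΓSpecIso _).inv).2
  refine ⟨Γ(X', ⊤), inferInstance, φ.hom.toAlgebra, hflat, π.hom, α, h1, hsurj, ?_, ?_, ?_⟩
  · -- kernel
    letI : Algebra A Γ(X', ⊤) := φ.hom.toAlgebra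
    apply le_antisymm
    · intro r hr
      let I : Ideal Γ(X', ⊤) := (IsLocalRing.maximalIdeal A).map φ.hom
      let mk : CommRingCat.of Γ(X', ⊤) ⟶ CommRingCat.of (Γ(X', ⊤) ⧸ I) :=
        CommRingCat.ofHom (Ideal.Quotient.mk I)
      let θ₀ : CommRingCat.of k ⟶ CommRingCat.of (Γ(X', ⊤) ⧸ I) :=
        CommRingCat.ofHom ((Ideal.Quotient.mk I).comp (φ.hom.comp (algebraMap k A)))
      have hcomm : φ ≫ mk = CommRingCat.ofHom e.toRingHom ≫ θ₀ := by
        ext a
        change Ideal.Quotient.mk I (φ.hom a) = Ideal.Quotient.mk I (φ.hom (algebraMap k A (e a)))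
        rw [Ideal.Quotient.eq, ← map_sub]
        exact Ideal.mem_map_of_mem _ (sub_mem_max e a)
      have w : (Spec.map mk ≫ α.inv) ≫ g = Spec.map θ₀ ≫ Spec.map (CommRingCat.ofHom e.toRingHom) := by
        rw [Category.assoc, ← hφ, ← Spec.map_comp, ← Spec.map_comp, hcomm]
      let u := hsq.lift (Spec.map mk ≫ α.inv) (Spec.map θ₀) w
      have hu : u ≫ i = Spec.map mk ≫ α.inv := hsq.lift_fst _ _ _
      let θ : CommRingCat.of B₀ ⟶ CommRingCat.of (Γ(X', ⊤) ⧸ I) := Spec.preimage u
      have hθ : Spec.map θ = u := Spec.map_preimage _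
      have hfac : π ≫ θ = mk := by
        apply Spec.map_injective
        rw [Spec.map_comp, hθ, hπ, ← Category.assoc, hu, Category.assoc, Iso.inv_hom_id,
          Category.comp_id]
      have h0 : mk.hom r = 0 := by
        rw [← hfac]
        change θ.hom (π.hom r) = 0
        rw [RingHom.mem_ker.mp hr, map_zero]
      exact Ideal.Quotient.eq_zero_iff_mem.mp h0
    · rw [Ideal.map_le_iff_le_comap]
      intro a ha
      rw [Ideal.mem_comap, RingHom.mem_ker]
      change π.hom (φ.hom a) = 0
      rw [h1, ← ker_e e] at *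
      rw [RingHom.mem_ker] at ha
      change e a = 0 at ha
      rw [ha, map_zero]
  · rw [← hφ]; rfl
  · rw [← hπ]; rfl

end Alg

end Groth.Agent.Lib.Helper19.AffDef
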