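import Mathlib

/-!
# Monomorphisms locally of finite type over a limit of nil-thickenings

`A = lim A_n` with surjective transition maps with nil kernels; a monomorphism `T → Spec A`, locally
of finite type, through which every `Spec A_n → Spec A` factors, is an isomorphism.
Proof: a quasi-compact open `W` of `T` containing the image of `Spec A_0` is quasi-finite and separated
over `Spec A`, so by Zariski's main theorem it is open in an affine `Spec B` integral over `A`; the
compatible maps `B → A_n` give `B → A`, a section `Spec A → Spec B` whose image lies in `W` because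
an open of `Spec A` containing `V(ker (A → A_0))` is everything (units lift).
-/

set_option autoImplicit false
set_option linter.unusedSectionVars false

namespace Groth.Agent.Lib.Helper19.NilLim

open AlgebraicGeometry CategoryTheory

universe u

lemma isUnit_of_map_isUnit {R S : Type*} [CommRing R] [CommRing S] (f : R →+* S)
    (hf : Function.Surjective f) (hnil : ∀ x ∈ RingHom.ker f, IsNilpotent x) {x : R}
    (hx : IsUnit (f x)) : IsUnit x := by
  obtain ⟨y, hy⟩ := hf (↑hx.unit⁻¹)
  have h1 : x * y - 1 ∈ RingHom.ker f := by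
    rw [RingHom.mem_ker, map_sub, map_mul, hy, map_one, IsUnit.mul_val_inv, sub_self]
  have h2 : IsUnit (x * y) := by
    have := (hnil _ h1).isUnit_add_one
    rwa [sub_add_cancel] at this
  exact isUnit_of_mul_isUnit_left h2

section Ring

variable {A : Type u} [CommRing A] {A' : ℕ → Type u} [∀ n, CommRing (A' n)]
  {φ : ∀ n, A' (n + 1) →+* A' n} {π : ∀ n, A →+* A' n}

lemma pi_zero_surjective
    (hex : ∀ x : ∀ n, A' n, (∀ n, φ n (x (n + 1)) = x n) → ∃ a : A, ∀ n, π n a = x n)
    (hsurj : ∀ n, Function.Surjective (φ n)) : Function.Surjective (π 0) := by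
  intro x₀
  let x : ∀ n, A' n := fun n => Nat.rec (motive := fun n => A' n) x₀
    (fun n xn => Classical.choose (hsurj n xn)) n
  have hx : ∀ n, φ n (x (n + 1)) = x n := fun n => Classical.choose_spec (hsurj n (x n))
  obtain ⟨a, ha⟩ := hex x hx
  exact ⟨a, ha 0⟩

lemma isUnit_of_isUnit_pi_zero
    (hcomp : ∀ n, (φ n).comp (π (n + 1)) = π n)
    (hinj : ∀ a b : A, (∀ n, π n a = π n b) → a = b)
    (hex : ∀ x : ∀ n, A' n, (∀ n, φ n (x (n + 1)) = x n) → ∃ a : A, ∀ n, π n a = x n)
    (hsurj : ∀ n, Function.Surjective (φ n))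
    (hnil : ∀ n, ∀ x ∈ RingHom.ker (φ n), IsNilpotent x)
    {a : A} (ha : IsUnit (π 0 a)) : IsUnit a := by
  have hc : ∀ n, φ n (π (n + 1) a) = π n a := fun n => RingHom.congr_fun (hcomp n) a
  have hn : ∀ n, IsUnit (π n a) := by
    intro n
    induction n with
    | zero => exact ha
    | succ n ih =>
      apply isUnit_of_map_isUnit (φ n) (hsurj n) (hnil n)
      rw [hc n]; exact ih
  let b : ∀ n, A' n := fun n => ↑(hn n).unit⁻¹
  have hb : ∀ n, φ n (b (n + 1)) = b n := by
    intro n
    have h2 : π n a * φ n (b (n + 1)) = 1 := by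
      rw [← hc n, ← map_mul]
      have : π (n + 1) a * b (n + 1) = 1 := (hn (n + 1)).mul_val_inv
      rw [this, map_one]
    have h3 : π n a * b n = 1 := (hn n).mul_val_inv
    exact (hn n).mul_right_inj.mp (h2.trans h3.symm)
  obtain ⟨c, hc'⟩ := hex b hb
  have : a * c = 1 := by
    apply hinj; intro n
    rw [map_mul, hc' n, map_one]; exact (hn n).mul_val_inv
  exact IsUnit.of_mul_eq_one c this

lemma exists_lift
    (hinj : ∀ a b : A, (∀ n, π n a = π n b) → a = b)
    (hex : ∀ x : ∀ n, A' n, (∀ n, φ n (x (n + 1)) = x n) → ∃ a : A, ∀ n, π n a = x n)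
    {B : Type u} [CommRing B] (β : ∀ n, B →+* A' n)
    (hβ : ∀ n, (φ n).comp (β (n + 1)) = β n) :
    ∃ β' : B →+* A, ∀ n, (π n).comp β' = β n := by
  have key : ∀ b : B, ∃ a : A, ∀ n, π n a = β n b := fun b =>
    hex (fun n => β n b) (fun n => RingHom.congr_fun (hβ n) b)
  choose g hg using key
  refine ⟨{ toFun := g, map_one' := ?_, map_mul' := ?_, map_zero' := ?_, map_add' := ?_ }, ?_⟩
  · apply hinj; intro n; simp only [hg, map_one]
  · intro x y; apply hinj; intro n; simp only [hg, map_mul]
  · apply hinj; intro n; simp only [hg, map_zero]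
  · intro x y; apply hinj; intro n; simp only [hg, map_add]
  · intro n; ext b; exact hg b n

end Ring

section Geom

variable {A : Type u} [CommRing A] {A' : ℕ → Type u} [∀ n, CommRing (A' n)]
  {φ : ∀ n, A' (n + 1) →+* A' n} {π : ∀ n, A →+* A' n}

lemma spec_surjective_of_nil {R S : Type u} [CommRing R] [CommRing S] (f : R →+* S)
    (hf : Function.Surjective f) (hnil : ∀ x ∈ RingHom.ker f, IsNilpotent x) :
    Function.Surjective (Spec.map (CommRingCat.ofHom f)).base := by
  intro y
  have hy : (show PrimeSpectrum R from y) ∈ Set.range (PrimeSpectrum.comap f) := by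
    rw [range_comap_of_surjective _ _ hf, PrimeSpectrum.mem_zeroLocus]
    intro x hx
    obtain ⟨n, hn⟩ := hnil x hx
    exact (show PrimeSpectrum R from y).isPrime.mem_of_pow_mem n (by rw [hn]; exact Ideal.zero_mem _)
  obtain ⟨x, hx⟩ := hy
  exact ⟨x, hx⟩

theorem isIso_of_sections
    (hcomp : ∀ n, (φ n).comp (π (n + 1)) = π n)
    (hinj : ∀ a b : A, (∀ n, π n a = π n b) → a = b)
    (hex : ∀ x : ∀ n, A' n, (∀ n, φ n (x (n + 1)) = x n) → ∃ a : A, ∀ n, π n a = x n)
    (hsurj : ∀ n, Function.Surjective (φ n))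
    (hnil : ∀ n, ∀ x ∈ RingHom.ker (φ n), IsNilpotent x)
    {T : Scheme.{u}} (h : T ⟶ Spec (CommRingCat.of A)) [Mono h] [LocallyOfFiniteType h]
    (hsec : ∀ n, ∃ g : Spec (CommRingCat.of (A' n)) ⟶ T,
      g ≫ h = Spec.map (CommRingCat.ofHom (π n))) :
    IsIso h := by
  choose g hg using hsec
  have hιs : ∀ n, Spec.map (CommRingCat.ofHom (φ n)) ≫ Spec.map (CommRingCat.ofHom (π (n + 1))) =
      Spec.map (CommRingCat.ofHom (π n)) := by
    intro n
    rw [← Spec.map_comp, ← CommRingCat.ofHom_comp, hcomp n]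
  have hιg : ∀ n, Spec.map (CommRingCat.ofHom (φ n)) ≫ g (n + 1) = g n := by
    intro n
    rw [← cancel_mono h, Category.assoc, hg, hg]; exact hιs n
  -- a quasi-compact open containing the image of `Spec A_0`
  obtain ⟨W₀, hWc, hWo, hKW, -⟩ := PrespectralSpace.exists_isCompact_and_isOpen_between
    (isCompact_range (g 0).continuous) isOpen_univ (Set.subset_univ _)
  let W : T.Opens := ⟨W₀, hWo⟩
  have hrange : ∀ n, Set.range (g n).base ⊆ Set.range W.ι.base := by
    intro n
    rw [Scheme.Opens.range_ι]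
    induction n with
    | zero => exact hKW
    | succ n ih =>
      rintro _ ⟨z, rfl⟩
      obtain ⟨x, rfl⟩ := spec_surjective_of_nil (φ n) (hsurj n) (hnil n) z
      have : (g (n + 1)).base ((Spec.map (CommRingCat.ofHom (φ n))).base x) = (g n).base x := by
        rw [← hιg n]; rfl
      rw [this]
      exact ih ⟨x, rfl⟩
  let f : (W : Scheme.{u}) ⟶ Spec (CommRingCat.of A) := W.ι ≫ h
  have : CompactSpace (W : Scheme.{u}) := isCompact_iff_compactSpace.mp hWc
  have : QuasiCompact f := (HasAffineProperty.iff_of_isAffine (P := @QuasiCompact)).mpr inferInstance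
  have : Mono f := mono_comp _ _
  have : IsOpenImmersion f.toNormalization := inferInstance
  have : IsAffine f.normalization := isAffine_of_isAffineHom f.fromNormalization
  -- the maps to the normalization
  let g' : ∀ n, Spec (CommRingCat.of (A' n)) ⟶ (W : Scheme.{u}) :=
    fun n => IsOpenImmersion.lift W.ι (g n) (hrange n)
  have hg' : ∀ n, g' n ≫ W.ι = g n := fun n => IsOpenImmersion.lift_fac _ _ _
  have hιg' : ∀ n, Spec.map (CommRingCat.ofHom (φ n)) ≫ g' (n + 1) = g' n := by
    intro n
    rw [← cancel_mono W.ι, Category.assoc, hg', hg', hιg]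
  let q : ∀ n, Spec (CommRingCat.of (A' n)) ⟶ f.normalization := fun n => g' n ≫ f.toNormalization
  have hq1 : ∀ n, q n ≫ f.fromNormalization = Spec.map (CommRingCat.ofHom (π n)) := by
    intro n
    simp only [q, Category.assoc, Scheme.Hom.toNormalization_fromNormalization, f]
    rw [← Category.assoc, hg', hg]
  have hq2 : ∀ n, Spec.map (CommRingCat.ofHom (φ n)) ≫ q (n + 1) = q n := by
    intro n
    simp only [q, ← Category.assoc, hιg']
  let e := f.normalization.isoSpec
  let β : ∀ n, Γ(f.normalization, ⊤) ⟶ CommRingCat.of (A' n) := fun n => Spec.preimage (q n ≫ e.hom)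
  have hβ : ∀ n, Spec.map (β n) = q n ≫ e.hom := fun n => Spec.map_preimage _
  have hβc : ∀ n, β (n + 1) ≫ CommRingCat.ofHom (φ n) = β n := by
    intro n
    apply Spec.map_injective
    rw [Spec.map_comp, hβ, hβ, ← Category.assoc, hq2]
  obtain ⟨β', hβ'⟩ := exists_lift hinj hex (fun n => (β n).hom) (fun n => by
    have := hβc n
    rw [← this]; rfl)
  have hβ'' : ∀ n, CommRingCat.ofHom β' ≫ CommRingCat.ofHom (π n) = β n := by
    intro n
    ext b
    exact RingHom.congr_fun (hβ' n) b
  let p : Spec Γ(f.normalization, ⊤) ⟶ Spec (CommRingCat.of A) := e.inv ≫ f.fromNormalization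
  let α : CommRingCat.of A ⟶ Γ(f.normalization, ⊤) := Spec.preimage p
  have hα : Spec.map α = p := Spec.map_preimage _
  have hαβ : ∀ n, α ≫ β n = CommRingCat.ofHom (π n) := by
    intro n
    apply Spec.map_injective
    rw [Spec.map_comp, hβ, hα]
    simp only [p, Category.assoc, Iso.hom_inv_id_assoc]
    exact hq1 n
  have hαβ' : α ≫ CommRingCat.ofHom β' = 𝟙 _ := by
    ext a
    apply hinj
    intro n
    have h1 : π n (β' (α.hom a)) = (β n).hom (α.hom a) := RingHom.congr_fun (hβ' n) (α.hom a)
    have h2 : (β n).hom (α.hom a) = π n a := by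
      have := hαβ n
      exact congrArg (fun k => k.hom a) this
    exact h1.trans h2
  let σ : Spec (CommRingCat.of A) ⟶ f.normalization := Spec.map (CommRingCat.ofHom β') ≫ e.inv
  have hσ1 : σ ≫ f.fromNormalization = 𝟙 _ := by
    simp only [σ, Category.assoc]
    change Spec.map (CommRingCat.ofHom β') ≫ p = _
    rw [← hα, ← Spec.map_comp, hαβ', Spec.map_id]
  have hσ2 : Spec.map (CommRingCat.ofHom (π 0)) ≫ σ = q 0 := by
    simp only [σ]
    rw [← Category.assoc, ← Spec.map_comp, hβ'', hβ, Category.assoc, Iso.hom_inv_id, Category.comp_id]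
  -- the section lands in `W`
  have hσrange : Set.range σ.base ⊆ Set.range f.toNormalization.base := by
    rintro _ ⟨x, rfl⟩
    by_contra hx
    let V : (Spec (CommRingCat.of A)).Opens := σ ⁻¹ᵁ f.toNormalization.opensRange
    have hxV : x ∉ V := hx
    let Vs : Set (PrimeSpectrum A) := (V : Set (Spec (CommRingCat.of A)))
    obtain ⟨J, hJ⟩ := (PrimeSpectrum.isClosed_iff_zeroLocus_ideal (Vsᶜ)).mp V.isOpen.isClosed_compl
    have hdisj : PrimeSpectrum.zeroLocus ((J ⊔ RingHom.ker (π 0) : Ideal A) : Set A) = ∅ := by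
      rw [PrimeSpectrum.zeroLocus_sup, ← hJ]
      rw [Set.eq_empty_iff_forall_notMem]
      rintro y ⟨hy1, hy2⟩
      apply hy1
      rw [← range_comap_of_surjective _ _ (pi_zero_surjective hex hsurj)] at hy2
      obtain ⟨z, rfl⟩ := hy2
      change σ.base ((Spec.map (CommRingCat.ofHom (π 0))).base z) ∈ Set.range f.toNormalization.base
      have : σ.base ((Spec.map (CommRingCat.ofHom (π 0))).base z) = (q 0).base z := by
        rw [← hσ2]; rfl
      rw [this]
      exact ⟨(g' 0).base z, rfl⟩
    rw [PrimeSpectrum.zeroLocus_empty_iff_eq_top] at hdisj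
    have h1 : (1 : A) ∈ J ⊔ RingHom.ker (π 0) := by rw [hdisj]; trivial
    obtain ⟨j, hj, k, hk, hjk⟩ := Submodule.mem_sup.mp h1
    have hju : IsUnit j := by
      apply isUnit_of_isUnit_pi_zero hcomp hinj hex hsurj hnil
      have : π 0 j = 1 := by
        have := congrArg (π 0) hjk
        rw [map_add, (RingHom.mem_ker).mp hk, add_zero, map_one] at this
        exact this
      rw [this]; exact isUnit_one
    have hxJ : (show PrimeSpectrum A from x) ∈ PrimeSpectrum.zeroLocus (J : Set A) := by
      rw [← hJ]; exact hxV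
    have : (show PrimeSpectrum A from x).asIdeal = ⊤ :=
      Ideal.eq_top_of_isUnit_mem _ (hxJ hj) hju
    exact (show PrimeSpectrum A from x).isPrime.ne_top this
  let τ : Spec (CommRingCat.of A) ⟶ T := IsOpenImmersion.lift f.toNormalization σ hσrange ≫ W.ι
  have hτ : τ ≫ h = 𝟙 _ := by
    have : IsOpenImmersion.lift f.toNormalization σ hσrange ≫ f = 𝟙 _ := by
      have e1 := Scheme.Hom.toNormalization_fromNormalization f
      calc IsOpenImmersion.lift f.toNormalization σ hσrange ≫ f
          = IsOpenImmersion.lift f.toNormalization σ hσrange ≫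
              (f.toNormalization ≫ f.fromNormalization) := by rw [e1]
        _ = 𝟙 _ := by rw [← Category.assoc, IsOpenImmersion.lift_fac, hσ1]
    simpa [τ, f] using this
  refine ⟨τ, ?_, hτ⟩
  rw [← cancel_mono h, Category.assoc, hτ, Category.comp_id, Category.id_comp]

end Geom

end Groth.Agent.Lib.Helper19.NilLim
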