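import Mathlib
import Groth.Prelude.Def_ArtFun2
import Groth.Agent.Lib.Helper19.ArtFunBasic
import Groth.Agent.Lib.Helper19.ArtFunLength

/-!
# The double of a small extension (helper19)

For a small extension `μ : B → A` with kernel `(t)`:
* `exists_double`: an object `G` with `π₁ π₂ : G → B`, `δ : G → k[ε]` realising `G` both as
  `B ×_A B` and as `B ×_k k[ε]`;
* `isVersal_of_smallExt`: versality may be tested on small extensions.
-/

set_option autoImplicit false
universe u v

open CategoryTheory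

namespace Groth.Agent.Lib.Helper19.ArtFunDouble

open ArtFun ArtFun.Art Groth.Agent.Lib.Helper19.ArtFunBasic Groth.Agent.Lib.Helper19.ArtFunLength

variable {Λ : Type u} {k : Type u} [CommRing Λ] [Field k] [Algebra Λ k]

/-- The second structure map of the double of a small extension. -/
theorem exists_delta {B A G : Art Λ k} (μ : B ⟶ A) (hμ : IsSmallExt μ) (π₁ π₂ : G ⟶ B)
    (hG : IsFibreProd π₁ π₂ μ μ) :
    ∃ δ : G ⟶ dual Λ k, IsFibreProd π₁ δ (toBase B) (toBase (dual Λ k)) := by
  classical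
  obtain ⟨hsurj, hne, ⟨t, ht⟩, hkill⟩ := hμ
  have ht' : RingHom.ker μ.toAlgHom = Ideal.span {t} := ht
  have htker : t ∈ RingHom.ker μ.toAlgHom := by rw [ht']; exact Ideal.subset_span rfl
  have htm : t ∈ IsLocalRing.maximalIdeal B := ker_le_maximalIdeal μ htker
  have ht0 : t ≠ 0 := by
    intro h
    apply hne
    rw [ht', h]
    exact Ideal.span_singleton_eq_bot.mpr rfl
  have hmt : ∀ b ∈ IsLocalRing.maximalIdeal B, b * t = 0 := by
    intro b hb
    have : b * t ∈ IsLocalRing.maximalIdeal B * RingHom.ker μ.toAlgHom :=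
      Ideal.mul_mem_mul hb htker
    rw [hkill] at this
    exact this
  have hex : ∀ g : G, ∃ b : B, π₂ g - π₁ g = b * t := by
    intro g
    have : π₂ g - π₁ g ∈ RingHom.ker μ.toAlgHom := by
      rw [RingHom.mem_ker, map_sub, sub_eq_zero]
      exact (hG.w_apply g).symm
    rw [ht'] at this
    obtain ⟨b, hb⟩ := Ideal.mem_span_singleton'.mp this
    exact ⟨b, hb.symm⟩
  let c : G → k := fun g => B.res (hex g).choose
  have hc : ∀ (g : G) (b : B), π₂ g - π₁ g = b * t → c g = B.res b := by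
    intro g b hb
    have h1 : π₂ g - π₁ g = (hex g).choose * t := (hex g).choose_spec
    have h2 : ((hex g).choose - b) * t = 0 := by rw [sub_mul, ← h1, ← hb, sub_self]
    by_contra hne'
    have hu : IsUnit ((hex g).choose - b) := by
      by_contra hnu
      have : (hex g).choose - b ∈ IsLocalRing.maximalIdeal B := (IsLocalRing.mem_maximalIdeal _).2 hnu
      rw [mem_maximalIdeal_iff, map_sub, sub_eq_zero] at this
      exact hne' this
    exact ht0 (hu.mul_right_eq_zero.mp h2)
  have ht2 : t * t = 0 := hmt t htm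
  let δ₀ : G →ₐ[Λ] DualNumber k :=
    { toFun := fun g => (G.res g, c g)
      map_one' := by
        refine TrivSqZeroExt.ext (map_one G.res) ?_
        change c 1 = 0
        rw [hc 1 0 (by rw [map_one, map_one, sub_self, zero_mul]), map_zero]
      map_mul' := by
        intro g g'
        obtain ⟨b, hb⟩ := hex g
        obtain ⟨b', hb'⟩ := hex g'
        refine TrivSqZeroExt.ext (map_mul G.res g g') ?_
        change c (g * g') = G.res g • c g' + MulOpposite.op (G.res g') • c g
        have h1 : π₂ (g * g') - π₁ (g * g') = (π₁ g * b' + π₁ g' * b) * t := by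
          rw [map_mul, map_mul]
          have e1 : π₂ g = π₁ g + b * t := by rw [← hb]; ring
          have e2 : π₂ g' = π₁ g' + b' * t := by rw [← hb']; ring
          rw [e1, e2]
          linear_combination (b * b') * ht2
        rw [hc _ _ h1, hc g b hb, hc g' b' hb', op_smul_eq_smul, smul_eq_mul, smul_eq_mul, map_add,
          map_mul, map_mul, res_app, res_app]
      map_zero' := by
        refine TrivSqZeroExt.ext (map_zero G.res) ?_
        change c 0 = 0
        rw [hc 0 0 (by rw [map_zero, map_zero, sub_self, zero_mul]), map_zero]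
      map_add' := by
        intro g g'
        obtain ⟨b, hb⟩ := hex g
        obtain ⟨b', hb'⟩ := hex g'
        refine TrivSqZeroExt.ext (map_add G.res g g') ?_
        change c (g + g') = c g + c g'
        have h1 : π₂ (g + g') - π₁ (g + g') = (b + b') * t := by
          rw [map_add, map_add, add_mul, ← hb, ← hb']; ring
        rw [hc _ _ h1, hc g b hb, hc g' b' hb', map_add]
      commutes' := by
        intro l
        refine TrivSqZeroExt.ext (G.res.commutes l) ?_
        change c (algebraMap Λ G l) = 0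
        have h1 : π₂ (algebraMap Λ G l) - π₁ (algebraMap Λ G l) = 0 * t := by
          have e1 : π₂ (algebraMap Λ G l) = algebraMap Λ B l := π₂.toAlgHom.commutes l
          have e2 : π₁ (algebraMap Λ G l) = algebraMap Λ B l := π₁.toAlgHom.commutes l
          rw [e1, e2, sub_self, zero_mul]
        rw [hc _ _ h1, map_zero] }
  let δ : G ⟶ dual Λ k := ⟨δ₀, AlgHom.ext fun g => rfl⟩
  have hδ : ∀ g, δ g = (G.res g, c g) := fun g => rfl
  refine ⟨δ, ?_, ?_, ?_⟩
  · rw [eq_toBase (π₁ ≫ toBase B), eq_toBase (δ ≫ toBase _)]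
  · intro g₁ g₂ h1 h2
    apply hG.inj g₁ g₂ h1
    obtain ⟨b₁, hb₁⟩ := hex g₁
    obtain ⟨b₂, hb₂⟩ := hex g₂
    have hcc : c g₁ = c g₂ := congrArg TrivSqZeroExt.snd h2
    rw [hc g₁ b₁ hb₁, hc g₂ b₂ hb₂] at hcc
    have hbm : b₁ - b₂ ∈ IsLocalRing.maximalIdeal B := by
      rw [mem_maximalIdeal_iff, map_sub, hcc, sub_self]
    have h3 : (b₁ - b₂) * t = 0 := hmt _ hbm
    have e1 : π₂ g₁ = π₁ g₁ + b₁ * t := by rw [← hb₁]; ring
    have e2 : π₂ g₂ = π₁ g₂ + b₂ * t := by rw [← hb₂]; ring
    rw [e1, e2, h1]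
    linear_combination h3
  · intro b d hbd
    have hbd' : B.res b = d.fst := hbd
    obtain ⟨c', hc'⟩ := B.res_surjective d.snd
    have hμeq : μ b = μ (b + c' * t) := by
      rw [map_add, map_mul]
      have : μ t = 0 := htker
      rw [this, mul_zero, add_zero]
    obtain ⟨g, hg1, hg2⟩ := hG.surj b (b + c' * t) hμeq
    refine ⟨g, hg1, ?_⟩
    have h1 : π₂ g - π₁ g = c' * t := by rw [hg1, hg2]; ring
    rw [hδ, hc g c' h1, hc']
    refine TrivSqZeroExt.ext ?_ rfl
    change G.res g = d.fst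
    rw [← res_app π₁ g, hg1, hbd']

variable [IsNoetherianRing Λ] [Module.Finite Λ k]

/-- The double of a small extension. -/
theorem exists_double {B A : Art Λ k} (μ : B ⟶ A) (hμ : IsSmallExt μ) :
    ∃ (G : Art Λ k) (π₁ π₂ : G ⟶ B) (δ : G ⟶ dual Λ k), IsFibreProd π₁ π₂ μ μ ∧
      IsFibreProd π₁ δ (toBase B) (toBase (dual Λ k)) := by
  obtain ⟨G, π₁, π₂, hG⟩ := exists_isFibreProd μ μ hμ.1
  obtain ⟨δ, hδ⟩ := exists_delta μ hμ π₁ π₂ hG
  exact ⟨G, π₁, π₂, δ, hG, hδ⟩

/-- Versality may be tested on small extensions. -/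
theorem isVersal_of_smallExt {F : Art Λ k ⥤ Type v} {R : Type u} [CommRing R] [Algebra Λ R]
    {resR : R →ₐ[Λ] k} (ξ : Family R resR F)
    (h : ∀ ⦃B A : Art Λ k⦄ (μ : B ⟶ A), IsSmallExt μ →
      ∀ (φ : HomSet R resR A) (y : F.obj B), F.map μ y = ξ.app A φ →
        ∃ ψ : HomSet R resR B, HomSet.map μ ψ = φ ∧ ξ.app B ψ = y) :
    IsVersal ξ := by
  intro B A μ hμ
  refine surjective_induction (fun A B μ => ∀ (φ : HomSet R resR A) (y : F.obj B),
    F.map μ y = ξ.app A φ → ∃ ψ : HomSet R resR B, HomSet.map μ ψ = φ ∧ ξ.app B ψ = y)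
    ?_ ?_ ?_ μ hμ
  · intro A B e he φ y hy
    haveI := he
    refine ⟨HomSet.map (inv e) φ, ?_, ?_⟩
    · apply Subtype.ext
      apply AlgHom.ext
      intro r
      change (inv e ≫ e) (φ.1 r) = φ.1 r
      rw [IsIso.inv_hom_id]
      rfl
    · rw [ξ.natural, ← hy]
      change (F.map e ≫ F.map (inv e)) y = y
      rw [← F.map_comp, IsIso.hom_inv_id, F.map_id]
      rfl
  · intro A B p hp
    exact h p hp
  · intro A B C p q hp hq φ y hy
    have hy' : F.map q (F.map p y) = ξ.app A φ := by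
      rw [← hy, F.map_comp]; rfl
    obtain ⟨ψ', hψ'1, hψ'2⟩ := hq φ (F.map p y) hy'
    obtain ⟨ψ, hψ1, hψ2⟩ := hp ψ' y hψ'2.symm
    refine ⟨ψ, ?_, hψ2⟩
    rw [← hψ'1, ← hψ1]
    rfl

end Groth.Agent.Lib.Helper19.ArtFunDouble
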