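import Mathlib
import Groth.Prelude.Def_ArtFun2
import Groth.Agent.Lib.Helper19.ArtFunBasic

/-!
# The tangent space of a functor of Artin rings (helper19)

* `tsz Λ k M`: the square-zero extension `k ⊕ M` as an object; `dual Λ k = tsz Λ k k` and
  `dual2 Λ k = tsz Λ k (k × k)` hold by `rfl`; `tszHom f` for a linear map `f`;
* `isFibreProd_tsz`: `k ⊕ (M × N) = (k ⊕ M) ×_k (k ⊕ N)`;
* under `H0` and `Heps`: `pair`, `add`, and the `TangentStr` on `F(k[ε])` (`tangentStr`).
-/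

set_option autoImplicit false
universe u v

open CategoryTheory

namespace Groth.Agent.Lib.Helper19.ArtFunTangent

open ArtFun ArtFun.Art

variable {Λ : Type u} {k : Type u} [CommRing Λ] [Field k] [Algebra Λ k]

section Tsz

variable (Λ k)
variable (M : Type u) [AddCommGroup M] [Module k M] [Module kᵐᵒᵖ M] [SMulCommClass k kᵐᵒᵖ M]
  [IsCentralScalar k M] [Module Λ M] [IsScalarTower Λ k M] [IsScalarTower Λ kᵐᵒᵖ M]
  [Module.Finite k M]

/-- The square-zero extension `k ⊕ M` as an object. -/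
def tsz : Art Λ k :=
  { carrier := TrivSqZeroExt k M
    isLocalRing := isLocalRing_tsze k M
    isArtinianRing := isArtinianRing_tsze k M
    res := TrivSqZeroExt.fstHom Λ k M
    res_surjective := fun a => ⟨TrivSqZeroExt.inl a, rfl⟩ }

end Tsz

theorem dual_eq : dual Λ k = tsz Λ k k := rfl
theorem dual2_eq : dual2 Λ k = tsz Λ k (k × k) := rfl

section TszHom

variable {M N P : Type u} [AddCommGroup M] [Module k M] [Module kᵐᵒᵖ M] [SMulCommClass k kᵐᵒᵖ M]
  [IsCentralScalar k M] [Module Λ M] [IsScalarTower Λ k M] [IsScalarTower Λ kᵐᵒᵖ M]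
  [Module.Finite k M]
  [AddCommGroup N] [Module k N] [Module kᵐᵒᵖ N] [SMulCommClass k kᵐᵒᵖ N]
  [IsCentralScalar k N] [Module Λ N] [IsScalarTower Λ k N] [IsScalarTower Λ kᵐᵒᵖ N]
  [Module.Finite k N]
  [AddCommGroup P] [Module k P] [Module kᵐᵒᵖ P] [SMulCommClass k kᵐᵒᵖ P]
  [IsCentralScalar k P] [Module Λ P] [IsScalarTower Λ k P] [IsScalarTower Λ kᵐᵒᵖ P]
  [Module.Finite k P]

/-- The morphism `k ⊕ M → k ⊕ N` of a linear map. -/
def tszHom (f : M →ₗ[k] N) : tsz Λ k M ⟶ tsz Λ k N := ⟨tszeMap f, AlgHom.ext fun _ => rfl⟩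

theorem tszHom_comp (f : M →ₗ[k] N) (g : N →ₗ[k] P) :
    (tszHom f : tsz Λ k M ⟶ tsz Λ k N) ≫ tszHom g = tszHom (g.comp f) := rfl

theorem tszHom_id : (tszHom (LinearMap.id : M →ₗ[k] M) : tsz Λ k M ⟶ tsz Λ k M) = 𝟙 _ := rfl

theorem tszHom_apply (f : M →ₗ[k] N) (x : TrivSqZeroExt k M) :
    (tszHom f : tsz Λ k M ⟶ tsz Λ k N) x = (x.fst, f x.snd) := rfl

theorem tszHom_congr {f g : M →ₗ[k] N} (h : ∀ m, f m = g m) :
    (tszHom f : tsz Λ k M ⟶ tsz Λ k N) = tszHom g := by
  rw [LinearMap.ext h]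

/-- `k ⊕ (M × N)` is the fibre product of `k ⊕ M` and `k ⊕ N` over `k`. -/
theorem isFibreProd_tsz :
    IsFibreProd (tszHom (LinearMap.fst k M N) : tsz Λ k (M × N) ⟶ tsz Λ k M)
      (tszHom (LinearMap.snd k M N)) (toBase (tsz Λ k M)) (toBase (tsz Λ k N)) where
  w := by rw [eq_toBase (tszHom (LinearMap.fst k M N) ≫ toBase _),
    eq_toBase (tszHom (LinearMap.snd k M N) ≫ toBase _)]
  inj b₁ b₂ h₁ h₂ := by
    have e₁ : b₁.fst = b₂.fst := by have e := congrArg TrivSqZeroExt.fst h₁; exact e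
    have e₂ : b₁.snd.1 = b₂.snd.1 := by have e := congrArg TrivSqZeroExt.snd h₁; exact e
    have e₃ : b₁.snd.2 = b₂.snd.2 := by have e := congrArg TrivSqZeroExt.snd h₂; exact e
    exact TrivSqZeroExt.ext e₁ (Prod.ext e₂ e₃)
  surj a' a'' h := by
    have h' : a'.fst = a''.fst := h
    exact ⟨(a'.fst, (a'.snd, a''.snd)), TrivSqZeroExt.ext rfl rfl, TrivSqZeroExt.ext h' rfl⟩

end TszHom

theorem scale_eq (c : k) : (scale c : dual Λ k ⟶ dual Λ k) = tszHom (c • LinearMap.id) := rfl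
theorem pr₁_eq : (pr₁ : dual2 Λ k ⟶ dual Λ k) = tszHom (LinearMap.fst k k k) := rfl
theorem pr₂_eq : (pr₂ : dual2 Λ k ⟶ dual Λ k) = tszHom (LinearMap.snd k k k) := rfl
theorem plus_eq :
    (plus : dual2 Λ k ⟶ dual Λ k) = tszHom (LinearMap.fst k k k + LinearMap.snd k k k) := rfl
theorem toBase_baseToDual :
    (toBase (dual Λ k) ≫ baseToDual : dual Λ k ⟶ dual Λ k) = tszHom 0 := rfl

section Functor

variable {F : Art Λ k ⥤ Type v}

theorem map_map {X Y Z : Art Λ k} (f : X ⟶ Y) (g : Y ⟶ Z) (w : F.obj X) :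
    F.map g (F.map f w) = F.map (f ≫ g) w := by
  rw [F.map_comp]; rfl

theorem map_id' (X : Art Λ k) (w : F.obj X) : F.map (𝟙 X) w = w := by
  rw [F.map_id]; rfl

variable {M : Type u} [AddCommGroup M] [Module k M] [Module kᵐᵒᵖ M] [SMulCommClass k kᵐᵒᵖ M]
  [IsCentralScalar k M] [Module Λ M] [IsScalarTower Λ k M] [IsScalarTower Λ kᵐᵒᵖ M]
  [Module.Finite k M]

/-- joint injectivity of the two projections of `k ⊕ (M × k)` -/
theorem inj_pair (h2 : Heps F) (z z' : F.obj (tsz Λ k (M × k)))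
    (h₁ : F.map (tszHom (LinearMap.fst k M k)) z = F.map (tszHom (LinearMap.fst k M k)) z')
    (h₂ : F.map (tszHom (LinearMap.snd k M k) : tsz Λ k (M × k) ⟶ tsz Λ k k) z =
      F.map (tszHom (LinearMap.snd k M k) : tsz Λ k (M × k) ⟶ tsz Λ k k) z') : z = z' := by
  have hsq : IsFibreProd (tszHom (LinearMap.fst k M k) : tsz Λ k (M × k) ⟶ tsz Λ k M)
      (tszHom (LinearMap.snd k M k) : tsz Λ k (M × k) ⟶ dual Λ k) (toBase (tsz Λ k M))
      (toBase (dual Λ k)) := isFibreProd_tsz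
  apply (h2 _ _ hsq).1
  exact FibProd.ext h₁ h₂

/-- joint surjectivity -/
theorem surj_pair (h0 : H0 F) (h2 : Heps F) (x : F.obj (tsz Λ k M)) (y : F.obj (dual Λ k)) :
    ∃ z : F.obj (tsz Λ k (M × k)), F.map (tszHom (LinearMap.fst k M k)) z = x ∧
      F.map (tszHom (LinearMap.snd k M k) : tsz Λ k (M × k) ⟶ tsz Λ k k) z = y := by
  have hsq : IsFibreProd (tszHom (LinearMap.fst k M k) : tsz Λ k (M × k) ⟶ tsz Λ k M)
      (tszHom (LinearMap.snd k M k) : tsz Λ k (M × k) ⟶ dual Λ k) (toBase (tsz Λ k M))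
      (toBase (dual Λ k)) := isFibreProd_tsz
  haveI := h0.2
  obtain ⟨z, hz⟩ := (h2 _ _ hsq).2 ⟨(x, y), Subsingleton.elim _ _⟩
  exact ⟨z, congrArg (fun t => t.1.1) hz, congrArg (fun t => t.1.2) hz⟩

end Functor

section Structure

variable {F : Art Λ k ⥤ Type v} (h0 : H0 F) (h2 : Heps F)

/-- the element of `F(k[ε₁, ε₂])` with given projections -/
noncomputable def pair (x y : F.obj (dual Λ k)) : F.obj (dual2 Λ k) :=
  (surj_pair (M := k) h0 h2 x y).choose

theorem pair_fst (x y : F.obj (dual Λ k)) : F.map pr₁ (pair h0 h2 x y) = x :=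
  (surj_pair (M := k) h0 h2 x y).choose_spec.1

theorem pair_snd (x y : F.obj (dual Λ k)) : F.map pr₂ (pair h0 h2 x y) = y :=
  (surj_pair (M := k) h0 h2 x y).choose_spec.2

theorem pair_unique (x y : F.obj (dual Λ k)) (z : F.obj (dual2 Λ k)) (h₁ : F.map pr₁ z = x)
    (h₂ : F.map pr₂ z = y) : z = pair h0 h2 x y := by
  apply inj_pair (M := k) h2
  · exact h₁.trans (pair_fst h0 h2 x y).symm
  · exact h₂.trans (pair_snd h0 h2 x y).symm

/-- addition on the tangent space -/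
noncomputable def add (x y : F.obj (dual Λ k)) : F.obj (dual Λ k) := F.map plus (pair h0 h2 x y)

theorem add_eq (z : F.obj (dual2 Λ k)) : add h0 h2 (F.map pr₁ z) (F.map pr₂ z) = F.map plus z := by
  unfold add
  rw [← pair_unique h0 h2 _ _ z rfl rfl]

/-- the workhorse: addition computed through a map into `k[ε₁, ε₂]` -/
theorem add_of {X : Art Λ k} (h : X ⟶ dual2 Λ k) (w : F.obj X) :
    add h0 h2 (F.map (h ≫ pr₁) w) (F.map (h ≫ pr₂) w) = F.map (h ≫ plus) w := by
  rw [← map_map, ← map_map, ← map_map, add_eq]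

/-- the zero tangent vector -/
noncomputable def zero : F.obj (dual Λ k) := F.map baseToDual h0.1.some

theorem map_zeroHom (x : F.obj (dual Λ k)) :
    F.map (toBase (dual Λ k) ≫ baseToDual) x = zero h0 := by
  haveI := h0.2
  rw [← map_map]
  unfold zero
  congr 1
  exact Subsingleton.elim _ _

theorem add_comm' (x y : F.obj (dual Λ k)) : add h0 h2 x y = add h0 h2 y x := by
  let sw : dual2 Λ k ⟶ dual2 Λ k := tszHom ((LinearMap.snd k k k).prod (LinearMap.fst k k k))
  have h1 : sw ≫ pr₁ = pr₂ := rfl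
  have h2' : sw ≫ pr₂ = pr₁ := rfl
  have h3 : sw ≫ plus = (plus : dual2 Λ k ⟶ dual Λ k) := by
    apply Art.hom_ext
    apply AlgHom.ext
    intro z
    exact TrivSqZeroExt.ext rfl (add_comm _ _)
  have := add_of h0 h2 sw (pair h0 h2 x y)
  rw [h1, h2', h3, pair_fst, pair_snd] at this
  rw [this]
  rfl

theorem zero_add' (x : F.obj (dual Λ k)) : add h0 h2 (zero h0) x = x := by
  let i₂ : dual Λ k ⟶ dual2 Λ k := tszHom (LinearMap.inr k k k)
  have h1 : i₂ ≫ pr₁ = toBase (dual Λ k) ≫ baseToDual := rfl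
  have h2' : i₂ ≫ pr₂ = 𝟙 _ := rfl
  have h3 : i₂ ≫ plus = 𝟙 (dual Λ k) := by
    apply Art.hom_ext
    apply AlgHom.ext
    intro z
    exact TrivSqZeroExt.ext rfl (zero_add _)
  have := add_of h0 h2 i₂ x
  rw [h1, h2', h3, map_zeroHom, map_id'] at this
  exact this

theorem add_zero' (x : F.obj (dual Λ k)) : add h0 h2 x (zero h0) = x := by
  rw [add_comm', zero_add']

/-- negation -/
noncomputable def neg (x : F.obj (dual Λ k)) : F.obj (dual Λ k) := F.map (scale (-1)) x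

theorem add_neg' (x : F.obj (dual Λ k)) : add h0 h2 x (neg x) = zero h0 := by
  let δ : dual Λ k ⟶ dual2 Λ k :=
    tszHom ((LinearMap.id : k →ₗ[k] k).prod ((-1 : k) • (LinearMap.id : k →ₗ[k] k)))
  have h1 : δ ≫ pr₁ = 𝟙 _ := rfl
  have h2' : δ ≫ pr₂ = scale (-1) := rfl
  have h3 : δ ≫ plus = toBase (dual Λ k) ≫ baseToDual := by
    apply Art.hom_ext
    apply AlgHom.ext
    intro z
    refine TrivSqZeroExt.ext rfl ?_
    change z.snd + (-1 : k) • z.snd = 0
    rw [neg_one_smul, add_neg_cancel]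
  have := add_of h0 h2 δ x
  rw [h1, h2', h3, map_zeroHom, map_id'] at this
  exact this

theorem add_assoc' (x y z : F.obj (dual Λ k)) :
    add h0 h2 (add h0 h2 x y) z = add h0 h2 x (add h0 h2 y z) := by
  obtain ⟨w, hw1, hw2⟩ := surj_pair (M := k × k) h0 h2 (pair h0 h2 x y) z
  let p₁₂ : tsz Λ k ((k × k) × k) ⟶ dual2 Λ k := tszHom (LinearMap.fst k (k × k) k)
  let q₃ : tsz Λ k ((k × k) × k) ⟶ dual Λ k := tszHom (LinearMap.snd k (k × k) k)
  have hw1' : F.map p₁₂ w = pair h0 h2 x y := hw1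
  have hw2' : F.map q₃ w = z := hw2
  let p₂₃ : tsz Λ k ((k × k) × k) ⟶ dual2 Λ k :=
    tszHom (((LinearMap.snd k k k).comp (LinearMap.fst k (k × k) k)).prod
      (LinearMap.snd k (k × k) k))
  let a₁₂ : tsz Λ k ((k × k) × k) ⟶ dual2 Λ k :=
    tszHom (((LinearMap.fst k k k + LinearMap.snd k k k).comp (LinearMap.fst k (k × k) k)).prod
      (LinearMap.snd k (k × k) k))
  let a₂₃ : tsz Λ k ((k × k) × k) ⟶ dual2 Λ k :=
    tszHom (((LinearMap.fst k k k).comp (LinearMap.fst k (k × k) k)).prod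
      ((LinearMap.snd k k k).comp (LinearMap.fst k (k × k) k) + LinearMap.snd k (k × k) k))
  have hp₂₃ : F.map p₂₃ w = pair h0 h2 y z := by
    apply pair_unique
    · rw [map_map]
      have : p₂₃ ≫ pr₁ = p₁₂ ≫ pr₂ := rfl
      rw [this, ← map_map, hw1', pair_snd]
    · rw [map_map]
      have : p₂₃ ≫ pr₂ = q₃ := rfl
      rw [this, hw2']
  have e1 := add_of h0 h2 a₁₂ w
  have e2 := add_of h0 h2 a₂₃ w
  have h11 : a₁₂ ≫ pr₁ = p₁₂ ≫ plus := rfl
  have h12 : a₁₂ ≫ pr₂ = q₃ := rfl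
  have h21 : a₂₃ ≫ pr₁ = p₁₂ ≫ pr₁ := rfl
  have h22 : a₂₃ ≫ pr₂ = p₂₃ ≫ plus := rfl
  have h3 : a₁₂ ≫ plus = a₂₃ ≫ plus := by
    apply Art.hom_ext
    apply AlgHom.ext
    intro t
    refine TrivSqZeroExt.ext rfl ?_
    change (t.snd.1.1 + t.snd.1.2) + t.snd.2 = t.snd.1.1 + (t.snd.1.2 + t.snd.2)
    rw [add_assoc]
  rw [h11, h12, ← map_map, hw1', hw2'] at e1
  rw [h21, h22, ← map_map, ← map_map (f := p₂₃), hw1', hp₂₃, pair_fst] at e2
  change add h0 h2 (add h0 h2 x y) z = _ at e1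
  change add h0 h2 x (add h0 h2 y z) = _ at e2
  rw [e1, e2, h3]

/-- scalar multiplication -/
noncomputable def smul (c : k) (x : F.obj (dual Λ k)) : F.obj (dual Λ k) := F.map (scale c) x

theorem smul_add' (c : k) (x y : F.obj (dual Λ k)) :
    smul c (add h0 h2 x y) = add h0 h2 (smul c x) (smul c y) := by
  let s : dual2 Λ k ⟶ dual2 Λ k := tszHom (c • (LinearMap.id : k × k →ₗ[k] k × k))
  have h1 : s ≫ pr₁ = pr₁ ≫ scale c := rfl
  have h2' : s ≫ pr₂ = pr₂ ≫ scale c := rfl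
  have h3 : s ≫ plus = plus ≫ scale c := by
    apply Art.hom_ext
    apply AlgHom.ext
    intro t
    refine TrivSqZeroExt.ext rfl ?_
    change c • t.snd.1 + c • t.snd.2 = c • (t.snd.1 + t.snd.2)
    rw [smul_add]
  have := add_of h0 h2 s (pair h0 h2 x y)
  rw [h1, h2', h3, ← map_map, ← map_map, ← map_map, pair_fst, pair_snd] at this
  exact this.symm

theorem add_smul' (c d : k) (x : F.obj (dual Λ k)) :
    smul (c + d) x = add h0 h2 (smul c x) (smul d x) := by
  let Δ : dual Λ k ⟶ dual2 Λ k :=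
    tszHom ((c • (LinearMap.id : k →ₗ[k] k)).prod (d • (LinearMap.id : k →ₗ[k] k)))
  have h1 : Δ ≫ pr₁ = scale c := rfl
  have h2' : Δ ≫ pr₂ = scale d := rfl
  have h3 : Δ ≫ plus = scale (c + d) := by
    apply Art.hom_ext
    apply AlgHom.ext
    intro t
    refine TrivSqZeroExt.ext rfl ?_
    change c • t.snd + d • t.snd = (c + d) • t.snd
    rw [add_smul]
  have := add_of h0 h2 Δ x
  rw [h1, h2', h3] at this
  exact this.symm

theorem one_smul' (x : F.obj (dual Λ k)) : smul (1 : k) x = x := by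
  have : (scale (1 : k) : dual Λ k ⟶ dual Λ k) = 𝟙 _ := by
    apply Art.hom_ext
    apply AlgHom.ext
    intro t
    refine TrivSqZeroExt.ext rfl ?_
    change (1 : k) • t.snd = t.snd
    rw [one_smul]
  unfold smul
  rw [this, map_id']

theorem mul_smul' (c d : k) (x : F.obj (dual Λ k)) : smul (c * d) x = smul c (smul d x) := by
  have : (scale (c * d) : dual Λ k ⟶ dual Λ k) = scale d ≫ scale c := by
    apply Art.hom_ext
    apply AlgHom.ext
    intro t
    refine TrivSqZeroExt.ext rfl ?_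
    change (c * d) • t.snd = c • (d • t.snd)
    rw [mul_smul]
  unfold smul
  rw [this, map_map]

theorem smul_zero' (c : k) : smul c (zero h0 : F.obj (dual Λ k)) = zero h0 := by
  unfold smul zero
  rw [map_map]
  have : (baseToDual ≫ scale c : base Λ k ⟶ dual Λ k) = baseToDual := by
    apply Art.hom_ext
    apply AlgHom.ext
    intro t
    refine TrivSqZeroExt.ext rfl ?_
    change c • (0 : k) = 0
    rw [smul_zero]
  rw [this]

theorem zero_smul' (x : F.obj (dual Λ k)) : smul (0 : k) x = zero h0 := by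
  have : (scale (0 : k) : dual Λ k ⟶ dual Λ k) = toBase (dual Λ k) ≫ baseToDual := by
    apply Art.hom_ext
    apply AlgHom.ext
    intro t
    refine TrivSqZeroExt.ext rfl ?_
    change (0 : k) • t.snd = 0
    rw [zero_smul]
  unfold smul
  rw [this, map_zeroHom]

/-- the additive group structure on the tangent space -/
noncomputable def addCommGroupT : AddCommGroup (F.obj (dual Λ k)) :=
  letI : Add (F.obj (dual Λ k)) := ⟨add h0 h2⟩
  letI : Zero (F.obj (dual Λ k)) := ⟨zero h0⟩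
  letI : Neg (F.obj (dual Λ k)) := ⟨neg⟩
  { AddGroup.ofLeftAxioms (add_assoc' h0 h2) (zero_add' h0 h2) (fun x => by
      change add h0 h2 (neg x) x = zero h0
      rw [add_comm', add_neg']) with
    add_comm := add_comm' h0 h2 }

/-- the vector space structure on the tangent space -/
noncomputable def moduleT :
    @Module k (F.obj (dual Λ k)) _ (addCommGroupT h0 h2).toAddCommMonoid :=
  letI := addCommGroupT h0 h2
  { smul := smul
    one_smul := one_smul'
    mul_smul := mul_smul'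
    smul_zero := smul_zero' h0
    smul_add := smul_add' h0 h2
    add_smul := add_smul' h0 h2
    zero_smul := zero_smul' h0 }

/-- The tangent space structure. -/
noncomputable def tangentStr : TangentStr F where
  addCommGroup := addCommGroupT h0 h2
  module := moduleT h0 h2
  smul_eq := fun _ _ => rfl
  add_eq := add_eq h0 h2

end Structure

end Groth.Agent.Lib.Helper19.ArtFunTangent
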