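import Mathlib
import Groth.Prelude.Def_Smoothing

/-!
# Elementary standard elements with respect to arbitrary rows and columns

`Smoothing.IsElementaryStandard` asks for the leading `c × c` Jacobian minor (first `c` relations,
first `c` variables).  Permuting relations and variables shows that any choice of `c` relations and
`c` variables works.
-/

namespace Groth.Agent.Lib.Helper19.ElemStdPerm

open MvPolynomial Smoothing

universe u

variable {R A : Type u} [CommRing R] [CommRing A] [Algebra R A]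

/-- An embedding `Fin c ↪ Fin n` extends to a permutation of `Fin n` along `Fin.castLE`. -/
lemma exists_perm_castLE {c n : ℕ} (hcn : c ≤ n) (g : Fin c ↪ Fin n) :
    ∃ τ : Equiv.Perm (Fin n), ∀ k : Fin c, τ (Fin.castLE hcn k) = g k := by
  classical
  have hinj : Function.Injective (Fin.castLE hcn) := Fin.castLE_injective hcn
  let e : {x // x ∈ Set.range (Fin.castLE hcn)} ≃ {x // x ∈ Set.range g} :=
    (Equiv.ofInjective _ hinj).symm.trans (Equiv.ofInjective _ g.injective)
  refine ⟨e.extendSubtype, fun k => ?_⟩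
  rw [Equiv.extendSubtype_apply_of_mem e _ ⟨k, rfl⟩]
  simp only [e, Equiv.trans_apply]
  rw [Equiv.ofInjective_symm_apply]
  rfl

/-- Elementary standard elements are strictly standard. -/
lemma isStrictlyStandard_of_isElementaryStandard {a : A} (ha : IsElementaryStandard R A a) :
    IsStrictlyStandard R A a := by
  obtain ⟨P, ⟨a', ha'⟩, htail⟩ := ha
  refine ⟨P, ?_, htail⟩
  rw [ha']
  exact Ideal.mul_mem_left _ a' (Ideal.subset_span ⟨Fin.castLE P.hcn, rfl⟩)

/-- An element which is a multiple of the image of the Jacobian minor with respect to any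
injective choice of `c` relations and `c` variables, and kills all relations modulo the chosen
ones and the square of the relation ideal, is elementary standard. -/
theorem isElementaryStandard_of_rows_cols {n m c : ℕ} (f : Fin m → MvPolynomial (Fin n) R)
    (φ : MvPolynomial (Fin n) R →ₐ[R] A) (hφ : Function.Surjective φ)
    (hker : RingHom.ker φ.toRingHom = Ideal.span (Set.range f))
    (rows : Fin c ↪ Fin m) (cols : Fin c ↪ Fin n) (a a' : A)
    (ha : a = a' * φ (jacobianMinor f rows cols))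
    (htail : ∀ a₁ : MvPolynomial (Fin n) R, φ a₁ = a → ∀ ℓ : Fin m,
      a₁ * f ℓ ∈ Ideal.span (Set.range (f ∘ rows)) ⊔ Ideal.span (Set.range f) ^ 2) :
    IsElementaryStandard R A a := by
  classical
  have hcn : c ≤ n := by simpa using Fintype.card_le_of_embedding cols
  have hcm : c ≤ m := by simpa using Fintype.card_le_of_embedding rows
  obtain ⟨τ, hτ⟩ := exists_perm_castLE hcn cols
  obtain ⟨ρ, hρ⟩ := exists_perm_castLE hcm rows
  let e : MvPolynomial (Fin n) R ≃ₐ[R] MvPolynomial (Fin n) R := renameEquiv R τ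
  have he : ∀ p, e p = rename τ p := fun p => rfl
  let rel' : Fin m → MvPolynomial (Fin n) R := fun j => e.symm (f (ρ j))
  have hrange : Set.range rel' = e.symm '' Set.range f := by
    ext x
    constructor
    · rintro ⟨j, rfl⟩; exact ⟨f (ρ j), ⟨ρ j, rfl⟩, rfl⟩
    · rintro ⟨_, ⟨ℓ, rfl⟩, rfl⟩; exact ⟨ρ.symm ℓ, by simp [rel']⟩
  have hmemspan : ∀ x, x ∈ Ideal.span (Set.range rel') ↔ e x ∈ Ideal.span (Set.range f) := by
    intro x
    constructor
    · intro hx
      have h1 := Ideal.mem_map_of_mem (e : MvPolynomial (Fin n) R →+* MvPolynomial (Fin n) R) hx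
      rw [Ideal.map_span, hrange, Set.image_image] at h1
      simpa using h1
    · intro hx
      have h1 := Ideal.mem_map_of_mem
        (e.symm : MvPolynomial (Fin n) R →+* MvPolynomial (Fin n) R) hx
      rw [Ideal.map_span] at h1
      have h1' : x ∈ Ideal.span (e.symm '' Set.range f) := by simpa using h1
      rwa [← hrange] at h1'
  let P : MarkedPresentation R A :=
    { n := n, m := m, c := c, hcn := hcn, hcm := hcm
      rel := rel'
      hom := φ.comp e.toAlgHom
      surj := hφ.comp e.surjective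
      ker_eq := by
        ext x
        rw [hmemspan x, ← hker]
        simp [RingHom.mem_ker] }
  refine ⟨P, ⟨a', ?_⟩, ?_⟩
  · rw [ha]
    congr 1
    show φ (jacobianMinor f rows cols) = φ (e (jacobianMinor rel' (Fin.castLE hcm) (Fin.castLE hcn)))
    congr 1
    unfold jacobianMinor
    rw [AlgEquiv.map_det]
    congr 1
    ext j k
    simp only [AlgEquiv.mapMatrix_apply, Matrix.map_apply, Matrix.of_apply, rel']
    rw [hρ j, ← hτ k, he, ← pderiv_rename τ.injective, ← he, AlgEquiv.apply_symm_apply]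
  · intro a₁ ha₁ j hj
    have h1 := htail (e a₁) ha₁ (ρ j)
    have h2 := Ideal.mem_map_of_mem
      (e.symm : MvPolynomial (Fin n) R →+* MvPolynomial (Fin n) R) h1
    rw [Ideal.map_sup, Ideal.map_pow, Ideal.map_span, Ideal.map_span] at h2
    have h3 : (e.symm : MvPolynomial (Fin n) R →+* MvPolynomial (Fin n) R) (e a₁ * f (ρ j)) =
        a₁ * rel' j := by
      simp [rel']
    rw [h3] at h2
    obtain ⟨y, hy, z, hz, hyz⟩ := Submodule.mem_sup.mp h2
    rw [← hyz]
    refine add_mem (Ideal.mem_sup_left (Ideal.span_mono ?_ hy))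
      (Ideal.mem_sup_right (Ideal.pow_right_mono (Ideal.span_mono ?_) 2 hz))
    · rintro _ ⟨_, ⟨k, rfl⟩, rfl⟩
      refine ⟨Fin.castLE hcm k, ?_, ?_⟩
      · show ((Fin.castLE hcm k : Fin m) : ℕ) < c
        simp
      · show rel' (Fin.castLE hcm k) = _
        simp [rel', hρ k]
    · rintro _ ⟨_, ⟨ℓ, rfl⟩, rfl⟩
      refine ⟨ρ.symm ℓ, ?_⟩
      show rel' (ρ.symm ℓ) = _
      simp [rel']

/-- The tail condition is stable under multiplication. -/
lemma tail_mul (P : MarkedPresentation R A) (a : A) (htail : KillsTail P a) (μ : A)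
    (b₁ : MvPolynomial (Fin P.n) R) (hb₁ : P.hom b₁ = a * μ) (ℓ : Fin P.m) :
    b₁ * P.rel ℓ ∈ Ideal.span (Set.range (P.rel ∘ Fin.castLEEmb P.hcm)) ⊔
      Ideal.span (Set.range P.rel) ^ 2 := by
  obtain ⟨a₁, ha₁⟩ := P.surj a
  obtain ⟨μ₁, hμ₁⟩ := P.surj μ
  have hI : b₁ - a₁ * μ₁ ∈ Ideal.span (Set.range P.rel) := by
    rw [← P.ker_eq, RingHom.mem_ker]
    show P.hom (b₁ - a₁ * μ₁) = 0
    rw [map_sub, map_mul, hb₁, ha₁, hμ₁, sub_self]
  have hrel : P.rel ℓ ∈ Ideal.span (Set.range P.rel) := Ideal.subset_span ⟨ℓ, rfl⟩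
  have hsplit : b₁ * P.rel ℓ = (b₁ - a₁ * μ₁) * P.rel ℓ + μ₁ * (a₁ * P.rel ℓ) := by ring
  rw [hsplit]
  refine add_mem (Ideal.mem_sup_right ?_) (Ideal.mul_mem_left _ μ₁ ?_)
  · rw [pow_two]; exact Ideal.mul_mem_mul hI hrel
  · by_cases hℓ : (ℓ : ℕ) < P.c
    · refine Ideal.mem_sup_left (Ideal.mul_mem_left _ a₁ (Ideal.subset_span ?_))
      exact ⟨⟨ℓ, hℓ⟩, by simp [Fin.castLEEmb]⟩
    · have h1 := htail a₁ ha₁ ℓ (not_lt.mp hℓ)
      obtain ⟨y, hy, z, hz, hyz⟩ := Submodule.mem_sup.mp h1
      rw [← hyz]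
      refine add_mem (Ideal.mem_sup_left (Ideal.span_mono ?_ hy)) (Ideal.mem_sup_right hz)
      rintro _ ⟨j', hj', rfl⟩
      exact ⟨⟨j', hj'⟩, by simp [Fin.castLEEmb]⟩

end Groth.Agent.Lib.Helper19.ElemStdPerm
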