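import Mathlib
import Groth.Prelude.Def_Smoothing
import Groth.Agent.S2032
import Groth.Agent.Lib.Helper19.ElemStdPerm

/-!
# Lifting standard smooth algebras along `R → R/I`

If `A₀` is standard smooth over `R/I`, there is a smooth `R`-algebra `A` with `A/IA ≅ A₀`
(lift the relations and invert the Jacobian determinant).
-/

namespace Groth.Agent.Lib.Helper19.LiftStd

open MvPolynomial Smoothing

universe u

section

variable {R : Type u} [CommRing R] (I : Ideal R) {A₀ : Type u} [CommRing A₀] [Algebra (R ⧸ I) A₀]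
  {n c : ℕ} (P : Algebra.SubmersivePresentation (R ⧸ I) A₀ (Fin n) (Fin c))
  (f : Fin c → MvPolynomial (Fin n) R)
  (hf : ∀ j, MvPolynomial.map (Ideal.Quotient.mk I) (f j) = P.relation j)

/-- `R[x] → A₀`. -/
noncomputable def psi : MvPolynomial (Fin n) R →+* A₀ :=
  eval₂Hom ((algebraMap (R ⧸ I) A₀).comp (Ideal.Quotient.mk I)) P.val

lemma psi_eq (p : MvPolynomial (Fin n) R) :
    psi I P p = algebraMap P.Ring A₀ (MvPolynomial.map (Ideal.Quotient.mk I) p) := by
  rw [P.algebraMap_apply, aeval_def, psi, coe_eval₂Hom, eval₂_map]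

include hf in
lemma psi_f (j : Fin c) : psi I P (f j) = 0 := by
  rw [psi_eq, hf, P.algebraMap_apply, P.aeval_val_relation]

include hf in
lemma psi_minor : psi I P (jacobianMinor f (fun j => j) P.map) = P.jacobian := by
  classical
  rw [P.jacobian_eq_jacobiMatrix_det, jacobianMinor, RingHom.map_det, RingHom.map_det,
    ← Matrix.det_transpose]
  congr 1
  ext i j
  simp only [Matrix.transpose_apply, RingHom.mapMatrix_apply, Matrix.map_apply, Matrix.of_apply,
    P.jacobiMatrix_apply]
  rw [psi_eq, ← pderiv_map, hf]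

/-- `R[x]/(f)`. -/
abbrev B1 := MvPolynomial (Fin n) R ⧸ Ideal.span (Set.range f)

/-- The image of the Jacobian minor. -/
noncomputable def elt : B1 f := Ideal.Quotient.mk _ (jacobianMinor f (fun j => j) P.map)

lemma isElementaryStandard_elt : IsElementaryStandard R (B1 f) (elt I P f) := by
  refine ElemStdPerm.isElementaryStandard_of_rows_cols f (Ideal.Quotient.mkₐ R _)
    (Ideal.Quotient.mkₐ_surjective R _) ?_ (Function.Embedding.refl _) ⟨P.map, P.map_inj⟩ _ 1
    (by rw [one_mul]; rfl) ?_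
  · ext x
    rw [RingHom.mem_ker]
    exact Ideal.Quotient.eq_zero_iff_mem
  · intro a₁ _ ℓ
    exact Ideal.mem_sup_left (Ideal.mul_mem_left _ _ (Ideal.subset_span ⟨ℓ, rfl⟩))

/-- The localization `(R[x]/(f))_Δ`. -/
abbrev Bl := Localization.Away (elt I P f)

/-- `B₁ → A₀`. -/
noncomputable def rho1 : B1 f →+* A₀ :=
  Ideal.Quotient.lift _ (psi I P) (fun p hp => by
    have h : Ideal.span (Set.range f) ≤ RingHom.ker (psi I P) :=
      Ideal.span_le.mpr (by rintro _ ⟨j, rfl⟩; exact psi_f I P f hf j)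
    exact h hp)

lemma rho1_mk (p : MvPolynomial (Fin n) R) :
    rho1 I P f hf (Ideal.Quotient.mk _ p) = psi I P p := rfl

lemma isUnit_rho1_elt : IsUnit (rho1 I P f hf (elt I P f)) := by
  show IsUnit (psi I P (jacobianMinor f (fun j => j) P.map))
  rw [psi_minor I P f hf]
  exact P.jacobian_isUnit

/-- `B → A₀`. -/
noncomputable def rho : Bl I P f →+* A₀ :=
  IsLocalization.Away.lift (elt I P f) (isUnit_rho1_elt I P f hf)

lemma rho_algebraMap (x : B1 f) :
    rho I P f hf (algebraMap (B1 f) (Bl I P f) x) = rho1 I P f hf x :=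
  IsLocalization.Away.lift_eq _ _ _

lemma rho_algebraMap_R (r : R) :
    rho I P f hf (algebraMap R (Bl I P f) r) = algebraMap (R ⧸ I) A₀ (Ideal.Quotient.mk I r) := by
  rw [IsScalarTower.algebraMap_apply R (B1 f) (Bl I P f), rho_algebraMap]
  show psi I P (C r) = _
  rw [psi, eval₂Hom_C, RingHom.comp_apply]

lemma rho_mem (x : Bl I P f) (hx : x ∈ I.map (algebraMap R (Bl I P f))) :
    rho I P f hf x = 0 := by
  have h : I.map (algebraMap R (Bl I P f)) ≤ RingHom.ker (rho I P f hf) := by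
    rw [Ideal.map_le_iff_le_comap]
    intro r hr
    show rho I P f hf (algebraMap R (Bl I P f) r) = 0
    rw [rho_algebraMap_R, Ideal.Quotient.eq_zero_iff_mem.mpr hr, map_zero]
  exact h hx

/-- `B/IB → A₀`. -/
noncomputable def Theta : (Bl I P f ⧸ I.map (algebraMap R (Bl I P f))) →+* A₀ :=
  Ideal.Quotient.lift _ (rho I P f hf) (rho_mem I P f hf)

lemma Theta_mk (x : Bl I P f) :
    Theta I P f hf (Ideal.Quotient.mk _ x) = rho I P f hf x := rfl

/-- the class of `xᵢ` in `B/IB`. -/
noncomputable def xq (i : Fin n) : Bl I P f ⧸ I.map (algebraMap R (Bl I P f)) :=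
  Ideal.Quotient.mk _ (algebraMap (B1 f) (Bl I P f) (Ideal.Quotient.mk _ (X i)))

/-- `(R/I)[x] → B/IB`. -/
noncomputable def chi :
    MvPolynomial (Fin n) (R ⧸ I) →+* (Bl I P f ⧸ I.map (algebraMap R (Bl I P f))) :=
  eval₂Hom (algebraMap (R ⧸ I) _) (xq I P f)

lemma chi_map (p : MvPolynomial (Fin n) R) :
    chi I P f (MvPolynomial.map (Ideal.Quotient.mk I) p) =
      Ideal.Quotient.mk _ (algebraMap (B1 f) (Bl I P f) (Ideal.Quotient.mk _ p)) := by
  have h : (chi I P f).comp (MvPolynomial.map (Ideal.Quotient.mk I)) =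
      ((Ideal.Quotient.mk (I.map (algebraMap R (Bl I P f)))).comp
        (algebraMap (B1 f) (Bl I P f))).comp (Ideal.Quotient.mk (Ideal.span (Set.range f))) := by
    refine MvPolynomial.ringHom_ext (fun r => ?_) (fun i => ?_)
    · show chi I P f (MvPolynomial.map (Ideal.Quotient.mk I) (C r)) =
        Ideal.Quotient.mk _ (algebraMap (B1 f) (Bl I P f) (Ideal.Quotient.mk _ (C r)))
      rw [map_C, chi, eval₂Hom_C]
      show Ideal.Quotient.mk _ (algebraMap R (Bl I P f) r) = _
      rw [IsScalarTower.algebraMap_apply R (B1 f) (Bl I P f)]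
      rfl
    · show chi I P f (MvPolynomial.map (Ideal.Quotient.mk I) (X i)) = _
      rw [map_X, chi, eval₂Hom_X']
      rfl
  exact RingHom.congr_fun h p

include hf in
lemma chi_mem (p : P.Ring) (hp : p ∈ P.ker) : chi I P f p = 0 := by
  have h : P.ker ≤ RingHom.ker (chi I P f) := by
    rw [← P.span_range_relation_eq_ker]
    refine Ideal.span_le.mpr ?_
    rintro _ ⟨j, rfl⟩
    show chi I P f (P.relation j) = 0
    have hm : f j ∈ Ideal.span (Set.range f) := Ideal.subset_span ⟨j, rfl⟩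
    rw [← hf j, chi_map, Ideal.Quotient.eq_zero_iff_mem.mpr hm, map_zero, map_zero]
  exact h hp

/-- `(R/I)[x]/ker → B/IB`. -/
noncomputable def Psi1 : P.Quotient →+* (Bl I P f ⧸ I.map (algebraMap R (Bl I P f))) :=
  Ideal.Quotient.lift P.ker (chi I P f) (chi_mem I P f hf)

lemma Psi1_mk (p : P.Ring) : Psi1 I P f hf (Ideal.Quotient.mk P.ker p) = chi I P f p := rfl

/-- `A₀ → B/IB`. -/
noncomputable def Psi : A₀ →+* (Bl I P f ⧸ I.map (algebraMap R (Bl I P f))) :=
  (Psi1 I P f hf).comp P.quotientEquiv.symm.toAlgHom.toRingHom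

lemma Psi_apply (x : A₀) : Psi I P f hf x = Psi1 I P f hf (P.quotientEquiv.symm x) := rfl

lemma Theta_Psi1_mk (p : P.Ring) :
    Theta I P f hf (Psi1 I P f hf (Ideal.Quotient.mk P.ker p)) = algebraMap P.Ring A₀ p := by
  have h : ((Theta I P f hf).comp (Psi1 I P f hf)).comp (Ideal.Quotient.mk P.ker) =
      algebraMap P.Ring A₀ := by
    refine MvPolynomial.ringHom_ext (fun r => ?_) (fun i => ?_)
    · obtain ⟨r, rfl⟩ := Ideal.Quotient.mk_surjective r
      show Theta I P f hf (chi I P f (C (Ideal.Quotient.mk I r))) =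
        algebraMap P.Ring A₀ (C (Ideal.Quotient.mk I r))
      rw [chi, eval₂Hom_C]
      show rho I P f hf (algebraMap R (Bl I P f) r) = _
      rw [rho_algebraMap_R, P.algebraMap_apply, aeval_C]
    · show Theta I P f hf (chi I P f (X i)) = algebraMap P.Ring A₀ (X i)
      rw [chi, eval₂Hom_X']
      show rho I P f hf (algebraMap (B1 f) (Bl I P f) (Ideal.Quotient.mk _ (X i))) = _
      rw [rho_algebraMap]
      show psi I P (X i) = _
      rw [psi_eq, map_X]
  exact RingHom.congr_fun h p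

lemma Theta_Psi (x : A₀) : Theta I P f hf (Psi I P f hf x) = x := by
  obtain ⟨y, rfl⟩ := P.quotientEquiv.surjective x
  obtain ⟨p, rfl⟩ := Ideal.Quotient.mk_surjective y
  rw [Psi_apply, AlgEquiv.symm_apply_apply, Theta_Psi1_mk]
  rfl

lemma Psi_algebraMap_ring (p : P.Ring) :
    Psi I P f hf (algebraMap P.Ring A₀ p) = chi I P f p := by
  have h1 : P.quotientEquiv.symm (algebraMap P.Ring A₀ p) = Ideal.Quotient.mk P.ker p :=
    (AlgEquiv.symm_apply_eq _).mpr rfl
  rw [Psi_apply, h1, Psi1_mk]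

lemma Psi_Theta : (Psi I P f hf).comp (Theta I P f hf) = RingHom.id _ := by
  refine Ideal.Quotient.ringHom_ext ?_
  refine IsLocalization.ringHom_ext (Submonoid.powers (elt I P f)) ?_
  refine Ideal.Quotient.ringHom_ext ?_
  refine MvPolynomial.ringHom_ext (fun r => ?_) (fun i => ?_)
  · show Psi I P f hf (rho I P f hf (algebraMap (B1 f) (Bl I P f)
      (Ideal.Quotient.mk _ (C r)))) =
      Ideal.Quotient.mk _ (algebraMap (B1 f) (Bl I P f) (Ideal.Quotient.mk _ (C r)))
    rw [rho_algebraMap, rho1_mk, psi_eq, Psi_algebraMap_ring, chi_map]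
  · show Psi I P f hf (rho I P f hf (algebraMap (B1 f) (Bl I P f)
      (Ideal.Quotient.mk _ (X i)))) =
      Ideal.Quotient.mk _ (algebraMap (B1 f) (Bl I P f) (Ideal.Quotient.mk _ (X i)))
    rw [rho_algebraMap, rho1_mk, psi_eq, Psi_algebraMap_ring, chi_map]

end

/-- A standard smooth `R/I`-algebra lifts to a smooth `R`-algebra. -/
theorem exists_lift {R : Type u} [CommRing R] (I : Ideal R) {A₀ : Type u} [CommRing A₀]
    [Algebra (R ⧸ I) A₀] [Algebra.IsStandardSmooth (R ⧸ I) A₀] :
    ∃ (A : Type u) (_ : CommRing A) (_ : Algebra R A), Algebra.Smooth R A ∧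
      Nonempty ((A ⧸ I.map (algebraMap R A)) ≃ₐ[R ⧸ I] A₀) := by
  classical
  obtain ⟨ι, σ, hσ, hι, ⟨P₀⟩⟩ := Algebra.IsStandardSmooth.out (R := R ⧸ I) (S := A₀)
  cases nonempty_fintype ι
  cases nonempty_fintype σ
  let P := P₀.reindex (Fintype.equivFin ι).symm (Fintype.equivFin σ).symm
  have hsurj := MvPolynomial.map_surjective (σ := Fin (Fintype.card ι)) (Ideal.Quotient.mk I)
    Ideal.Quotient.mk_surjective
  choose f hf using fun j => hsurj (P.relation j)
  have helem := isElementaryStandard_elt I P f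
  have : Algebra.FinitePresentation R (B1 f) :=
    Algebra.FinitePresentation.quotient (Submodule.fg_span (Set.finite_range f))
  have : Algebra.IsStandardSmooth R (Bl I P f) := Groth.Agent.S2032.result (elt I P f) helem
  refine ⟨Bl I P f, inferInstance, inferInstance, inferInstance, ⟨?_⟩⟩
  refine AlgEquiv.ofRingEquiv (f := RingEquiv.ofRingHom (Theta I P f hf) (Psi I P f hf)
    (RingHom.ext (Theta_Psi I P f hf)) (Psi_Theta I P f hf)) (fun x => ?_)
  obtain ⟨r, rfl⟩ := Ideal.Quotient.mk_surjective x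
  show rho I P f hf (algebraMap R (Bl I P f) r) = algebraMap (R ⧸ I) A₀ (Ideal.Quotient.mk I r)
  exact rho_algebraMap_R I P f hf r

end Groth.Agent.Lib.Helper19.LiftStd
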