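import Mathlib

/-!
# Spreading out a basis from `V(J)` to a principal open neighbourhood

Let `M` be a finite projective `B`-module, `J` an ideal of `B` and `m₁, …, mₙ ∈ M` elements whose
images form a basis of `M / J M` over `B / J`.  Then there is `Δ ∈ 1 + J` such that the images of
the `mᵢ` form a basis of `M_Δ` over `B_Δ`.
-/

namespace Groth.Agent.Lib.Helper19.LocBasis

open Submodule

variable {B : Type*} [CommRing B] {M : Type*} [AddCommGroup M] [Module B M]

/-- Nakayama: if `span (mᵢ) + J M = M` with `M` finite, some `r ∈ 1 + J` maps `M` into the span. -/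
theorem exists_smul_mem_span (J : Ideal B) [Module.Finite B M] {ι : Type*} (m : ι → M)
    (hspan : span B (Set.range m) ⊔ J • (⊤ : Submodule B M) = ⊤) :
    ∃ r : B, r - 1 ∈ J ∧ ∀ x : M, r • x ∈ span B (Set.range m) := by
  set N := span B (Set.range m) with hN
  have hfg : (⊤ : Submodule B (M ⧸ N)).FG := Module.Finite.fg_top
  have hle : (⊤ : Submodule B (M ⧸ N)) ≤ J • ⊤ := by
    intro y _
    obtain ⟨x, rfl⟩ := N.mkQ_surjective y
    have hx : x ∈ N ⊔ J • (⊤ : Submodule B M) := by rw [hspan]; exact mem_top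
    obtain ⟨a, ha, b, hb, rfl⟩ := mem_sup.mp hx
    have h1 : N.mkQ (a + b) = N.mkQ b := by
      rw [map_add, mkQ_apply, (Submodule.Quotient.mk_eq_zero N).mpr ha, zero_add]
    rw [h1]
    have h2 : N.mkQ b ∈ (J • (⊤ : Submodule B M)).map N.mkQ := mem_map_of_mem hb
    rw [Submodule.map_smul''] at h2
    exact (smul_mono_right J (le_top : Submodule.map N.mkQ ⊤ ≤ ⊤)) h2
  obtain ⟨r, hr1, hr2⟩ :=
    Submodule.exists_sub_one_mem_and_smul_eq_zero_of_fg_of_le_smul J ⊤ hfg hle
  refine ⟨r, hr1, fun x => ?_⟩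
  have h3 := hr2 (N.mkQ x) mem_top
  rwa [← map_smul, mkQ_apply, Submodule.Quotient.mk_eq_zero] at h3

/-- The main spreading-out statement, in elementary form. -/
theorem exists_localization_data (J : Ideal B) [Module.Finite B M] [Module.Projective B M]
    {n : ℕ} (m : Fin n → M)
    (hspan : span B (Set.range m) ⊔ J • (⊤ : Submodule B M) = ⊤)
    (hinj : ∀ c : Fin n → B, ∑ i, c i • m i ∈ J • (⊤ : Submodule B M) → ∀ i, c i ∈ J) :
    ∃ Δ : B, Δ - 1 ∈ J ∧ (∀ x : M, ∃ c : Fin n → B, Δ • x = ∑ i, c i • m i) ∧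
      (∀ c : Fin n → B, ∑ i, c i • m i = 0 → ∀ i, Δ * c i = 0) := by
  classical
  obtain ⟨r, hr1, hr2⟩ := exists_smul_mem_span J m hspan
  let ψ : (Fin n → B) →ₗ[B] M := Fintype.linearCombination B m
  have hψ : ∀ c, ψ c = ∑ i, c i • m i := fun c => Fintype.linearCombination_apply B m c
  have hrange : LinearMap.range ψ = span B (Set.range m) := Fintype.range_linearCombination B m
  have hr3 : ∀ x : M, (r • (LinearMap.id : M →ₗ[B] M)) x ∈ LinearMap.range ψ := fun x => by
    rw [hrange]; simpa using hr2 x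
  let g : M →ₗ[B] LinearMap.range ψ := (r • (LinearMap.id : M →ₗ[B] M)).codRestrict _ hr3
  obtain ⟨s, hs⟩ := Module.projective_lifting_property ψ.rangeRestrict g
    ψ.surjective_rangeRestrict
  have hs' : ∀ x, ψ (s x) = r • x := fun x => by
    have h := congrArg Subtype.val (LinearMap.congr_fun hs x)
    simpa [g] using h
  let Θ : Matrix (Fin n) (Fin n) B := LinearMap.toMatrix' (s ∘ₗ ψ)
  have hΘ : ∀ v, Θ.mulVec v = s (ψ v) := fun v => by
    simp only [Θ, LinearMap.toMatrix'_mulVec, LinearMap.comp_apply]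
  have hψsingle : ∀ j, ψ (Pi.single j 1) = m j := fun j => by
    rw [hψ, Finset.sum_eq_single j]
    · simp
    · intro i _ hij; simp [hij]
    · intro h; exact absurd (Finset.mem_univ j) h
  have hΘij : ∀ i j, Θ i j = s (m j) i := fun i j => by
    simp only [Θ, LinearMap.toMatrix'_apply, LinearMap.comp_apply]
    rw [hψsingle]
  have hmod : ∀ i j, (if i = j then r else 0) - Θ i j ∈ J := by
    intro i j
    have h0 : ∑ k, (r • (Pi.single j 1 : Fin n → B) - s (m j)) k • m k ∈
        J • (⊤ : Submodule B M) := by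
      rw [← hψ, map_sub, map_smul, hψsingle, hs', sub_self]; exact zero_mem _
    have h1 := hinj _ h0 i
    rw [hΘij]
    have : (r • (Pi.single j 1 : Fin n → B) - s (m j)) i = (if i = j then r else 0) - s (m j) i := by
      simp [Pi.single_apply]
    rwa [this] at h1
  have hr1' : Ideal.Quotient.mk J r = 1 := by
    rw [← map_one (Ideal.Quotient.mk J)]; exact Ideal.Quotient.eq.mpr hr1
  have hdet : Θ.det - 1 ∈ J := by
    rw [← Ideal.Quotient.eq, map_one, RingHom.map_det]
    have : (Ideal.Quotient.mk J).mapMatrix Θ = 1 := by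
      ext i j
      rw [RingHom.mapMatrix_apply, Matrix.map_apply, Matrix.one_apply]
      have h2 := Ideal.Quotient.eq.mpr (hmod i j)
      rw [← h2]
      split_ifs <;> simp [hr1']
    rw [this, Matrix.det_one]
  have hker : ∀ v : Fin n → B, ψ v = 0 → Θ.det • v = 0 := fun v hv => by
    have h1 : Θ.mulVec v = 0 := by rw [hΘ, hv, map_zero]
    have h2 : (Θ.adjugate * Θ).mulVec v = 0 := by
      rw [← Matrix.mulVec_mulVec, h1, Matrix.mulVec_zero]
    rwa [Matrix.adjugate_mul, Matrix.smul_mulVec, Matrix.one_mulVec] at h2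
  refine ⟨r * Θ.det, ?_, ?_, ?_⟩
  · have : r * Θ.det - 1 = r * (Θ.det - 1) + (r - 1) := by ring
    rw [this]; exact J.add_mem (J.mul_mem_left _ hdet) hr1
  · intro x
    refine ⟨Θ.det • s x, ?_⟩
    rw [← hψ, map_smul, hs', smul_smul, mul_comm]
  · intro c hc i
    have h1 := congrFun (hker c (by rw [hψ]; exact hc)) i
    rw [Pi.smul_apply, smul_eq_mul, Pi.zero_apply] at h1
    rw [mul_assoc, h1, mul_zero]

/-- From the elementary data, a basis of the localized module. -/
theorem exists_basis_of_localization {n : ℕ} (m : Fin n → M) (Δ : B)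
    (h1 : ∀ x : M, ∃ c : Fin n → B, Δ • x = ∑ i, c i • m i)
    (h2 : ∀ c : Fin n → B, ∑ i, c i • m i = 0 → ∀ i, Δ * c i = 0)
    (B' : Type*) [CommRing B'] [Algebra B B'] [IsLocalization.Away Δ B']
    {M' : Type*} [AddCommGroup M'] [Module B M'] [Module B' M'] [IsScalarTower B B' M']
    (f : M →ₗ[B] M') [IsLocalizedModule (Submonoid.powers Δ) f] :
    ∃ b : Module.Basis (Fin n) B' M', ∀ i, b i = f (m i) := by
  classical
  have hΔ : IsUnit (algebraMap B B' Δ) := IsLocalization.Away.algebraMap_isUnit Δ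
  have hunit : ∀ t : Submonoid.powers Δ, IsUnit (algebraMap B B' (t : B)) := fun t =>
    IsLocalization.map_units B' t
  have hli : LinearIndependent B' (fun i => f (m i)) := by
    rw [Fintype.linearIndependent_iff]
    intro g hg i
    obtain ⟨t, ht⟩ := IsLocalization.exist_integer_multiples_of_finite (Submonoid.powers Δ) g
    choose c hc using ht
    have h0 : f (∑ j, c j • m j) = 0 := by
      rw [map_sum]
      have h3 : ∀ j, f (c j • m j) = (t : B) • (g j • f (m j)) := fun j => by
        rw [map_smul, ← algebraMap_smul B' (c j) (f (m j)), hc j, smul_assoc]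
      simp_rw [h3, ← Finset.smul_sum, hg, smul_zero]
    obtain ⟨u, hu⟩ := (IsLocalizedModule.eq_zero_iff (Submonoid.powers Δ) f).mp h0
    have h3 : ∑ j, ((u : B) * c j) • m j = 0 := by
      rw [← hu, Submonoid.smul_def, Finset.smul_sum]
      simp_rw [mul_smul]
    have h4 := h2 _ h3 i
    have h5 : algebraMap B B' (Δ * ((u : B) * c i)) = 0 := by rw [h4, map_zero]
    rw [map_mul, map_mul, hc i, Algebra.smul_def] at h5
    have h6 := (hΔ.mul_right_eq_zero).mp h5
    have h7 := ((hunit u).mul_right_eq_zero).mp h6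
    exact ((hunit t).mul_right_eq_zero).mp h7
  have hsp : ⊤ ≤ Submodule.span B' (Set.range fun i => f (m i)) := by
    intro y _
    obtain ⟨⟨x, t⟩, hxt⟩ := IsLocalizedModule.surj (Submonoid.powers Δ) f y
    obtain ⟨c, hc⟩ := h1 x
    have h6 : (Δ * (t : B)) • y ∈ Submodule.span B' (Set.range fun i => f (m i)) := by
      have h7 : (Δ * (t : B)) • y = ∑ i, algebraMap B B' (c i) • f (m i) := by
        have hxt' : (t : B) • y = f x := hxt
        rw [mul_smul, hxt', ← map_smul, hc, map_sum]
        simp_rw [map_smul, algebraMap_smul]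
      rw [h7]
      exact Submodule.sum_mem _ fun i _ =>
        Submodule.smul_mem _ _ (Submodule.subset_span ⟨i, rfl⟩)
    have hu : IsUnit (algebraMap B B' (Δ * (t : B))) := by
      rw [map_mul]; exact hΔ.mul (hunit t)
    have h8 : y = ((hu.unit⁻¹ : B'ˣ) : B') • ((Δ * (t : B)) • y) := by
      rw [← algebraMap_smul B' (Δ * (t : B)) y, smul_smul]
      have : ((hu.unit⁻¹ : B'ˣ) : B') * algebraMap B B' (Δ * (t : B)) = 1 := by
        simp
      rw [this, one_smul]
    rw [h8]; exact Submodule.smul_mem _ _ h6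
  exact ⟨Module.Basis.mk hli hsp, fun i => Module.Basis.mk_apply hli hsp i⟩

end Groth.Agent.Lib.Helper19.LocBasis
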