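import Mathlib
import Groth.Agent.Lib.Helper19.LocBasis

/-!
# A smooth algebra is a retract of a standard smooth algebra

For `A` smooth over `R` with presentation `R[x₁..xₙ] → A`, the conormal sequence splits; let `E`
be the idempotent `n × n` matrix over `A` projecting `Aⁿ` onto the image of `I/I²`.  Put
`B₀ = A[y₁..yₙ]/((1 - Eᵀ) y)` (the symmetric algebra of the conormal module).  Then
`d(xᵢ + yᵢ)` is a basis of `Ω[B₀/R]` along the zero section, hence on a principal open
neighbourhood `D(Δ)` of it, and `(B₀)_Δ` is standard smooth over `R`.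
-/

namespace Groth.Agent.Lib.Helper19.SmoothRetract

open MvPolynomial KaehlerDifferential

universe u

lemma span_D_of_adjoin_eq_top {R S : Type*} [CommRing R] [CommRing S] [Algebra R S] (s : Set S)
    (hs : Algebra.adjoin R s = ⊤) : Submodule.span S ((D R S) '' s) = ⊤ := by
  rw [eq_top_iff, ← KaehlerDifferential.span_range_derivation R S, Submodule.span_le]
  rintro _ ⟨x, rfl⟩
  have hx : x ∈ Algebra.adjoin R s := by rw [hs]; exact Algebra.mem_top
  refine Algebra.adjoin_induction
    (p := fun x _ => D R S x ∈ Submodule.span S ((D R S) '' s)) ?_ ?_ ?_ ?_ hx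
  · exact fun x hx => Submodule.subset_span ⟨x, hx, rfl⟩
  · intro r; rw [Derivation.map_algebraMap]; exact zero_mem _
  · intro x y _ _ hx hy; rw [map_add]; exact add_mem hx hy
  · intro x y _ _ hx hy
    rw [Derivation.leibniz]
    exact add_mem (Submodule.smul_mem _ _ hy) (Submodule.smul_mem _ _ hx)

lemma map_eq_zero_of_mem_smul {R B A : Type*} [CommRing R] [CommRing B] [CommRing A]
    [Algebra R B] [Algebra R A] [Algebra B A] [IsScalarTower R B A] (x : Ω[B⁄R])
    (hx : x ∈ RingHom.ker (algebraMap B A) • (⊤ : Submodule B Ω[B⁄R])) :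
    KaehlerDifferential.map R R B A x = 0 := by
  refine Submodule.smul_induction_on hx (fun r hr y _ => ?_)
    (fun x y hx hy => by rw [map_add, hx, hy, add_zero])
  rw [map_smul, ← algebraMap_smul A r, (RingHom.mem_ker).mp hr, zero_smul]

lemma g1_lemma {R A B : Type*} [CommRing R] [CommRing A] [CommRing B] [Algebra R A]
    [Algebra R B] [Algebra A B] [IsScalarTower R A B] (π : B →ₐ[A] A) {n : ℕ}
    (c : Fin n → B) (w : Fin n → B)
    (hsum : ∑ i, c i • D R B (w i) ∈
      RingHom.ker π.toRingHom • (⊤ : Submodule B Ω[B⁄R])) :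
    ∑ i, π (c i) • D R A (π (w i)) = 0 := by
  letI : Algebra B A := π.toRingHom.toAlgebra
  haveI : IsScalarTower R B A := IsScalarTower.of_algebraMap_eq (fun r => by
    show algebraMap R A r = π (algebraMap R B r)
    rw [IsScalarTower.algebraMap_apply R A B, π.commutes]
    rfl)
  have h := map_eq_zero_of_mem_smul (R := R) (B := B) (A := A) _ hsum
  rw [map_sum] at h
  rw [← h]
  refine Finset.sum_congr rfl fun i _ => ?_
  rw [map_smul, KaehlerDifferential.map_D, ← algebraMap_smul A (c i)]
  rfl

section Construction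

variable {R A : Type u} [CommRing R] [CommRing A] [Algebra R A] {n : ℕ} (E : Fin n → Fin n → A)

/-- The linear relations `yⱼ - ∑ᵢ Eᵢⱼ yᵢ`. -/
noncomputable def relL (j : Fin n) : MvPolynomial (Fin n) A := X j - ∑ i, C (E i j) * X i

/-- The ideal generated by the relations. -/
noncomputable def idealL : Ideal (MvPolynomial (Fin n) A) := Ideal.span (Set.range (relL E))

/-- The vector bundle `A[y]/((1 - Eᵀ) y)`. -/
abbrev B0 := MvPolynomial (Fin n) A ⧸ idealL E

/-- The class of `yᵢ`. -/
noncomputable def ybar (i : Fin n) : B0 E := Ideal.Quotient.mk (idealL E) (X i)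

lemma ybar_eq (j : Fin n) : ybar E j = ∑ i, algebraMap A (B0 E) (E i j) * ybar E i := by
  have h : Ideal.Quotient.mk (idealL E) (relL E j) = 0 :=
    Ideal.Quotient.eq_zero_iff_mem.mpr (Ideal.subset_span ⟨j, rfl⟩)
  rw [relL, map_sub, sub_eq_zero, map_sum] at h
  rw [ybar, h]
  refine Finset.sum_congr rfl fun i _ => ?_
  rw [map_mul]; rfl

/-- The endomorphism `yⱼ ↦ ∑ᵢ Eᵢⱼ yᵢ` of the polynomial ring. -/
noncomputable def sigT : MvPolynomial (Fin n) A →ₐ[A] MvPolynomial (Fin n) A :=
  aeval (fun j => ∑ i, C (E i j) * X i)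

variable {E}

lemma sigT_relL (hE1 : ∀ k j, ∑ i, E k i * E i j = E k j) (j : Fin n) :
    sigT E (relL E j) = 0 := by
  simp only [sigT, relL, map_sub, map_sum, map_mul, aeval_X, aeval_C, MvPolynomial.algebraMap_eq]
  rw [sub_eq_zero]
  simp_rw [Finset.mul_sum]
  rw [Finset.sum_comm]
  refine Finset.sum_congr rfl fun k _ => ?_
  rw [← hE1 k j, map_sum, Finset.sum_mul]
  refine Finset.sum_congr rfl fun i _ => ?_
  rw [map_mul]; ring

/-- The section `B₀ → A[y]`. -/
noncomputable def sig (hE1 : ∀ k j, ∑ i, E k i * E i j = E k j) :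
    B0 E →ₐ[A] MvPolynomial (Fin n) A :=
  Ideal.Quotient.liftₐ (idealL E) (sigT E) (fun a ha => by
    have h : idealL E ≤ RingHom.ker (sigT E).toRingHom :=
      Ideal.span_le.mpr (by rintro _ ⟨j, rfl⟩; exact sigT_relL hE1 j)
    exact h ha)

lemma sig_mk (hE1 : ∀ k j, ∑ i, E k i * E i j = E k j) (p : MvPolynomial (Fin n) A) :
    sig hE1 (Ideal.Quotient.mk (idealL E) p) = sigT E p := rfl

lemma mk_sig (hE1 : ∀ k j, ∑ i, E k i * E i j = E k j) (b : B0 E) :
    Ideal.Quotient.mk (idealL E) (sig hE1 b) = b := by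
  have h : (Ideal.Quotient.mkₐ A (idealL E)).comp (sig hE1) = AlgHom.id A (B0 E) := by
    refine Ideal.Quotient.algHom_ext A (MvPolynomial.algHom_ext fun j => ?_)
    show Ideal.Quotient.mk (idealL E) (sigT E (X j)) = ybar E j
    rw [ybar_eq, sigT, aeval_X, map_sum]
    refine Finset.sum_congr rfl fun i _ => ?_
    rw [map_mul]; rfl
  exact AlgHom.congr_fun h b

lemma formallySmooth_B0 (hE1 : ∀ k j, ∑ i, E k i * E i j = E k j) :
    Algebra.FormallySmooth A (B0 E) := by
  refine Algebra.FormallySmooth.of_split (Ideal.Quotient.mkₐ A (idealL E))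
    ((Ideal.Quotient.mkₐ A _).comp (sig hE1)) ?_
  refine AlgHom.ext fun b => ?_
  rw [AlgHom.comp_apply, AlgHom.comp_apply, Ideal.Quotient.mkₐ_eq_mk, AlgHom.kerSquareLift_mk,
    Ideal.Quotient.mkₐ_eq_mk]
  exact mk_sig hE1 b

variable (E)

lemma finitePresentation_B0 : Algebra.FinitePresentation A (B0 E) :=
  Algebra.FinitePresentation.quotient (Submodule.fg_span (Set.finite_range _))

/-- The zero section `B₀ → A`. -/
noncomputable def piE : B0 E →ₐ[A] A :=
  Ideal.Quotient.liftₐ (idealL E) (aeval (fun _ => (0 : A))) (fun a ha => by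
    have h : idealL E ≤ RingHom.ker (aeval (R := A) (fun _ : Fin n => (0 : A))).toRingHom :=
      Ideal.span_le.mpr (by
        rintro _ ⟨j, rfl⟩
        simp [relL, RingHom.mem_ker])
    exact h ha)

lemma piE_ybar (i : Fin n) : piE E (ybar E i) = 0 := by
  show aeval (R := A) (fun _ : Fin n => (0 : A)) (X i) = 0
  rw [aeval_X]

variable {E}

/-- The vertical derivation `B₀ → B₀ⁿ`. -/
noncomputable def d2 (hE1 : ∀ k j, ∑ i, E k i * E i j = E k j) :
    Derivation A (B0 E) (Fin n → B0 E) where
  toLinearMap := LinearMap.pi fun k =>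
    (Ideal.Quotient.mkₐ A (idealL E)).toLinearMap ∘ₗ (pderiv k).toLinearMap ∘ₗ
      (sig hE1).toLinearMap
  map_one_eq_zero' := by
    funext k
    show Ideal.Quotient.mk (idealL E) (pderiv k (sig hE1 1)) = 0
    rw [map_one, Derivation.map_one_eq_zero, map_zero]
  leibniz' a b := by
    funext k
    show Ideal.Quotient.mk (idealL E) (pderiv k (sig hE1 (a * b))) =
      a * Ideal.Quotient.mk (idealL E) (pderiv k (sig hE1 b)) +
        b * Ideal.Quotient.mk (idealL E) (pderiv k (sig hE1 a))
    rw [map_mul, Derivation.leibniz, map_add, smul_eq_mul, smul_eq_mul, map_mul, map_mul,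
      mk_sig, mk_sig]

lemma d2_apply (hE1 : ∀ k j, ∑ i, E k i * E i j = E k j) (b : B0 E) (k : Fin n) :
    d2 hE1 b k = Ideal.Quotient.mk (idealL E) (pderiv k (sig hE1 b)) := rfl

lemma d2_ybar (hE1 : ∀ k j, ∑ i, E k i * E i j = E k j) (j k : Fin n) :
    d2 hE1 (ybar E j) k = algebraMap A (B0 E) (E k j) := by
  classical
  rw [d2_apply, ybar, sig_mk, sigT, aeval_X, map_sum]
  simp_rw [pderiv_C_mul, pderiv_X, Pi.single_apply]
  rw [Finset.sum_eq_single k]
  · simp; rfl
  · intro i _ hik; simp [hik]
  · intro h; exact absurd (Finset.mem_univ k) h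

variable (E)

theorem main_construction [Algebra.Smooth R A] (v : Fin n → A)
    (hv : Algebra.adjoin R (Set.range v) = ⊤)
    (hE1 : ∀ k j, ∑ i, E k i * E i j = E k j)
    (hE2 : ∀ j, ∑ i, E i j • D R A (v i) = 0)
    (hE3 : ∀ a : Fin n → A, ∑ i, a i • D R A (v i) = 0 → ∀ k, ∑ i, E k i * a i = a k) :
    ∃ (B : Type u) (_ : CommRing B) (_ : Algebra R B) (_ : Algebra A B)
      (_ : IsScalarTower R A B),
      Algebra.Smooth A B ∧ Nonempty (B →ₐ[A] A) ∧ Algebra.IsStandardSmooth R B := by
  classical
  haveI : Algebra.FormallySmooth A (B0 E) := formallySmooth_B0 hE1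
  haveI : Algebra.FinitePresentation A (B0 E) := finitePresentation_B0 E
  haveI : Algebra.Smooth A (B0 E) := ⟨inferInstance, inferInstance⟩
  haveI : Algebra.Smooth R (B0 E) := Algebra.Smooth.comp R A (B0 E)
  let xb : Fin n → B0 E := fun i => algebraMap A (B0 E) (v i)
  let m : Fin n → Ω[B0 E⁄R] := fun i => D R (B0 E) (xb i + ybar E i)
  let J : Ideal (B0 E) := RingHom.ker (piE E).toRingHom
  have hyJ : ∀ i, ybar E i ∈ J := fun i => piE_ybar E i
  -- generation
  have hadj : Algebra.adjoin R (Set.range xb ∪ Set.range (ybar E)) = ⊤ := by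
    rw [eq_top_iff]
    rintro b -
    obtain ⟨p, rfl⟩ := Ideal.Quotient.mk_surjective b
    induction p using MvPolynomial.induction_on with
    | C a =>
      have ha : a ∈ Algebra.adjoin R (Set.range v) := by rw [hv]; exact Algebra.mem_top
      refine Algebra.adjoin_induction
        (p := fun a _ => (Ideal.Quotient.mk (idealL E) (C a) : B0 E) ∈
          Algebra.adjoin R (Set.range xb ∪ Set.range (ybar E))) ?_ ?_ ?_ ?_ ha
      · rintro _ ⟨i, rfl⟩; exact Algebra.subset_adjoin (Or.inl ⟨i, rfl⟩)
      · intro r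
        have : (Ideal.Quotient.mk (idealL E) (C (algebraMap R A r)) : B0 E) =
            algebraMap R (B0 E) r := by
          rw [IsScalarTower.algebraMap_apply R A (B0 E)]; rfl
        rw [this]; exact Subalgebra.algebraMap_mem _ r
      · intro x y _ _ hx hy; rw [C_add, map_add]; exact add_mem hx hy
      · intro x y _ _ hx hy; rw [C_mul, map_mul]; exact mul_mem hx hy
    | add p q hp hq => rw [map_add]; exact add_mem hp hq
    | mul_X p i hp =>
      rw [map_mul]; exact mul_mem hp (Algebra.subset_adjoin (Or.inr ⟨i, rfl⟩))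
  -- relations among differentials
  have h3a : ∀ j, ∑ i, algebraMap A (B0 E) (E i j) • D R (B0 E) (xb i) = 0 := by
    intro j
    have h := congrArg (KaehlerDifferential.map R R A (B0 E)) (hE2 j)
    rw [map_sum, map_zero] at h
    rw [← h]
    refine Finset.sum_congr rfl fun i _ => ?_
    rw [map_smul, KaehlerDifferential.map_D]
    exact algebraMap_smul (B0 E) (E i j) (D R (B0 E) (xb i))
  have h3b : ∀ j, D R (B0 E) (ybar E j) =
      ∑ i, (algebraMap A (B0 E) (E i j) • D R (B0 E) (ybar E i) +
        ybar E i • D R (B0 E) (algebraMap A (B0 E) (E i j))) := by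
    intro j
    conv_lhs => rw [ybar_eq E j]
    rw [map_sum]
    refine Finset.sum_congr rfl fun i _ => ?_
    rw [Derivation.leibniz]
  set N : Submodule (B0 E) Ω[B0 E⁄R] :=
    Submodule.span (B0 E) (Set.range m) ⊔ J • (⊤ : Submodule (B0 E) Ω[B0 E⁄R]) with hN
  have hyN : ∀ j, D R (B0 E) (ybar E j) ∈ N := by
    intro j
    have key : D R (B0 E) (ybar E j) = ∑ i, algebraMap A (B0 E) (E i j) • m i +
        ∑ i, ybar E i • D R (B0 E) (algebraMap A (B0 E) (E i j)) := by
      have h4 : ∀ i, algebraMap A (B0 E) (E i j) • m i =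
          algebraMap A (B0 E) (E i j) • D R (B0 E) (xb i) +
            algebraMap A (B0 E) (E i j) • D R (B0 E) (ybar E i) := fun i => by
        show algebraMap A (B0 E) (E i j) • D R (B0 E) (xb i + ybar E i) = _
        rw [map_add]
        exact smul_add (algebraMap A (B0 E) (E i j)) (D R (B0 E) (xb i)) (D R (B0 E) (ybar E i))
      have h5 : ∑ i, algebraMap A (B0 E) (E i j) • m i =
          ∑ i, algebraMap A (B0 E) (E i j) • D R (B0 E) (ybar E i) := by
        simp_rw [h4, Finset.sum_add_distrib, h3a j, zero_add]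
      rw [h3b j, Finset.sum_add_distrib, h5]
    rw [key]
    exact add_mem
      (Submodule.mem_sup_left (Submodule.sum_mem _ fun i _ =>
        Submodule.smul_mem _ _ (Submodule.subset_span ⟨i, rfl⟩)))
      (Submodule.mem_sup_right (Submodule.sum_mem _ fun i _ =>
        Submodule.smul_mem_smul (hyJ i) Submodule.mem_top))
  have hxN : ∀ j, D R (B0 E) (xb j) ∈ N := by
    intro j
    have h4 : D R (B0 E) (xb j) = m j - D R (B0 E) (ybar E j) := by
      simp only [m, map_add, add_sub_cancel_right]
    rw [h4]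
    exact sub_mem (Submodule.mem_sup_left (Submodule.subset_span ⟨j, rfl⟩)) (hyN j)
  have hspan : Submodule.span (B0 E) (Set.range m) ⊔
      J • (⊤ : Submodule (B0 E) Ω[B0 E⁄R]) = ⊤ := by
    rw [eq_top_iff]
    intro x _
    have hx : x ∈ Submodule.span (B0 E)
        ((D R (B0 E)) '' (Set.range xb ∪ Set.range (ybar E))) := by
      rw [span_D_of_adjoin_eq_top (R := R) _ hadj]; exact Submodule.mem_top
    refine (Submodule.span_le (p := N)).mpr ?_ hx
    rintro _ ⟨b, hb, rfl⟩
    rcases hb with ⟨i, rfl⟩ | ⟨i, rfl⟩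
    · exact hxN i
    · exact hyN i
  -- independence
  let g2 : Ω[B0 E⁄R] →ₗ[B0 E] (Fin n → B0 E) :=
    ((d2 hE1).restrictScalars R).liftKaehlerDifferential
  have hg2m : ∀ i k, g2 (m i) k = algebraMap A (B0 E) (E k i) := by
    intro i k
    have h4 : g2 (m i) = d2 hE1 (xb i + ybar E i) :=
      Derivation.liftKaehlerDifferential_comp_D _ _
    rw [h4, map_add, Pi.add_apply,
      show d2 hE1 (xb i) = 0 from Derivation.map_algebraMap _ _, Pi.zero_apply, zero_add,
      d2_ybar]
  have hg2J : ∀ x ∈ J • (⊤ : Submodule (B0 E) Ω[B0 E⁄R]), ∀ k, piE E (g2 x k) = 0 := by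
    intro x hx
    refine Submodule.smul_induction_on hx (fun r hr y _ k => ?_) (fun x y hx hy k => ?_)
    · rw [map_smul, Pi.smul_apply, smul_eq_mul, map_mul, (show piE E r = 0 from hr), zero_mul]
    · rw [map_add, Pi.add_apply, map_add, hx k, hy k, add_zero]
  have hinj : ∀ c : Fin n → B0 E,
      ∑ i, c i • m i ∈ J • (⊤ : Submodule (B0 E) Ω[B0 E⁄R]) → ∀ i, c i ∈ J := by
    intro c hc
    have h1 : ∀ k, ∑ i, E k i * piE E (c i) = 0 := by
      intro k
      have h4 := hg2J _ hc k
      rw [map_sum, Finset.sum_apply, map_sum] at h4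
      rw [← h4]
      refine Finset.sum_congr rfl fun i _ => ?_
      rw [map_smul, Pi.smul_apply, hg2m, smul_eq_mul, map_mul, AlgHom.commutes, mul_comm]
      rfl
    have h2 : ∑ i, piE E (c i) • D R A (v i) = 0 := by
      have h4 := g1_lemma (R := R) (piE E) c (fun i => xb i + ybar E i) hc
      have h5 : ∀ i, piE E (xb i + ybar E i) = v i := fun i => by
        rw [map_add, piE_ybar, add_zero]
        exact (piE E).commutes (v i)
      simpa only [h5] using h4
    have h3 := hE3 _ h2
    intro k
    show piE E (c k) = 0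
    rw [← h3 k]; exact h1 k
  -- spread out
  obtain ⟨Δ, hΔJ, hΔ1, hΔ2⟩ := LocBasis.exists_localization_data J m hspan hinj
  have hπΔ : piE E Δ = 1 := by
    have h4 : piE E (Δ - 1) = 0 := hΔJ
    rwa [map_sub, map_one, sub_eq_zero] at h4
  obtain ⟨bas, hbas⟩ := LocBasis.exists_basis_of_localization m Δ hΔ1 hΔ2 (Localization.Away Δ)
    (KaehlerDifferential.map R R (B0 E) (Localization.Away Δ))
  have : Algebra.Smooth (B0 E) (Localization.Away Δ) := Algebra.Smooth.of_isLocalization_Away Δ
  have : Algebra.Smooth A (Localization.Away Δ) := Algebra.Smooth.comp A (B0 E) _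
  have : Algebra.Smooth R (Localization.Away Δ) := Algebra.Smooth.comp R (B0 E) _
  refine ⟨Localization.Away Δ, inferInstance, inferInstance, inferInstance, inferInstance,
    inferInstance, ⟨?_⟩, ?_⟩
  · exact IsLocalization.Away.liftAlgHom (S := Localization.Away Δ) Δ (f := piE E)
      (by rw [hπΔ]; exact isUnit_one)
  · refine Algebra.IsStandardSmooth.of_basis_kaehlerDifferential bas ?_
    rintro _ ⟨i, rfl⟩
    exact ⟨algebraMap _ _ (xb i + ybar E i), by rw [hbas i, KaehlerDifferential.map_D]⟩

end Construction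

/-- **Stacks 07CI**: a smooth algebra is a retract of a smooth algebra over it which is standard
smooth over the base. -/
theorem exists_smooth_retract_isStandardSmooth {R A : Type u} [CommRing R] [CommRing A]
    [Algebra R A] [Algebra.Smooth R A] :
    ∃ (B : Type u) (_ : CommRing B) (_ : Algebra R B) (_ : Algebra A B)
      (_ : IsScalarTower R A B),
      Algebra.Smooth A B ∧ Nonempty (B →ₐ[A] A) ∧ Algebra.IsStandardSmooth R B := by
  classical
  obtain ⟨n, ⟨P⟩⟩ := (Algebra.FiniteType.iff_exists_generators (R := R) (S := A)).mp inferInstance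
  have : Algebra.FormallySmooth R P.toExtension.Ring := by
    change Algebra.FormallySmooth R (MvPolynomial (Fin n) R); infer_instance
  obtain ⟨l, hl⟩ :=
    (Algebra.Extension.formallySmooth_iff_split_injection P.toExtension).mp inferInstance
  have hex : Function.Exact P.toExtension.cotangentComplex P.toExtension.toKaehler :=
    P.toExtension.exact_cotangentComplex_toKaehler
  let b := P.cotangentSpaceBasis
  let ε : P.toExtension.CotangentSpace →ₗ[A] P.toExtension.CotangentSpace :=
    P.toExtension.cotangentComplex ∘ₗ l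
  have hlc : ∀ k, l (P.toExtension.cotangentComplex k) = k := fun k => LinearMap.congr_fun hl k
  have hεε : ∀ t, ε (ε t) = ε t := fun t => by simp only [ε, LinearMap.comp_apply, hlc]
  have hεK : ∀ t, P.toExtension.toKaehler (ε t) = 0 := fun t => hex.apply_apply_eq_zero (l t)
  have hεfix : ∀ t, P.toExtension.toKaehler t = 0 → ε t = t := fun t ht => by
    obtain ⟨k, rfl⟩ := (hex t).mp ht
    simp only [ε, LinearMap.comp_apply, hlc]
  let E : Fin n → Fin n → A := fun k j => b.repr (ε (b j)) k
  have hcoord : ∀ (a : Fin n → A) (k : Fin n),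
      b.repr (ε (∑ i, a i • b i)) k = ∑ i, E k i * a i := by
    intro a k
    rw [map_sum, map_sum, Finsupp.finsetSum_apply]
    refine Finset.sum_congr rfl fun i _ => ?_
    rw [map_smul, map_smul, Finsupp.smul_apply, smul_eq_mul, mul_comm]
  have hsr : ∀ j, ∑ i, E i j • b i = ε (b j) := fun j => b.sum_repr (ε (b j))
  have htK : ∀ a : Fin n → A, P.toExtension.toKaehler (∑ i, a i • b i) =
      ∑ i, a i • D R A (P.val i) := by
    intro a
    rw [map_sum]
    refine Finset.sum_congr rfl fun i _ => ?_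
    rw [map_smul, Algebra.Generators.toKaehler_cotangentSpaceBasis]
  have hE1 : ∀ k j, ∑ i, E k i * E i j = E k j := by
    intro k j
    rw [← hcoord (fun i => E i j) k, hsr, hεε]
  have hE2 : ∀ j, ∑ i, E i j • D R A (P.val i) = 0 := by
    intro j
    rw [← htK, hsr, hεK]
  have hE3 : ∀ a : Fin n → A, ∑ i, a i • D R A (P.val i) = 0 →
      ∀ k, ∑ i, E k i * a i = a k := by
    intro a ha k
    rw [← htK] at ha
    rw [← hcoord, hεfix _ ha]
    exact congrFun (b.repr_sum_self a) k
  have hv : Algebra.adjoin R (Set.range P.val) = ⊤ := by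
    rw [Algebra.adjoin_range_eq_range_aeval]
    exact (AlgHom.range_eq_top _).mpr P.aeval_val_surjective
  exact main_construction E P.val hv hE1 hE2 hE3

end Groth.Agent.Lib.Helper19.SmoothRetract
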