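import Mathlib
import Groth.Prelude.Def_Smoothing
import Groth.Agent.S2025
import Groth.Agent.Lib.Helper19.LiftStd

/-!
# Square-zero step for ind-smoothness: factorization through `B/J` with `B` smooth, `J ⊆ IB`
-/

namespace Groth.Agent.Lib.Helper19.IndSmoothSq

open MvPolynomial TensorProduct Smoothing

universe u

section Adjust

variable {R Λ A B : Type u} [CommRing R] [CommRing Λ] [Algebra R Λ] (I : Ideal R)
  [CommRing A] [Algebra R A] (φ : A →ₐ[R] Λ) [CommRing B] [Algebra R B]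
  (β : B →ₐ[R] Λ) {p q : ℕ} (PA : Algebra.Presentation R A (Fin p) (Fin q)) (b : Fin p → B)

theorem adjust_aux [Algebra.Smooth R B]
    (hrelB : ∀ r, aeval b (PA.relation r) ∈ I.map (algebraMap R B))
    (σ : Type) [Finite σ] (βp : MvPolynomial σ B →ₐ[R] Λ)
    (e : Fin p → MvPolynomial σ B)
    (heI : ∀ l, e l ∈ I.map (algebraMap R (MvPolynomial σ B)))
    (heβ : ∀ l, βp (C (b l) + e l) = φ (PA.val l)) :
    ∃ (B' : Type u) (_ : CommRing B') (_ : Algebra R B'), Algebra.Smooth R B' ∧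
      ∃ J : Ideal B', J ≤ I.map (algebraMap R B') ∧ J.FG ∧
        ∃ (g : A →ₐ[R] B' ⧸ J) (k : (B' ⧸ J) →ₐ[R] Λ), k.comp g = φ := by
  classical
  haveI : Algebra.Smooth B (MvPolynomial σ B) := ⟨inferInstance, inferInstance⟩
  haveI : Algebra.Smooth R (MvPolynomial σ B) := Algebra.Smooth.comp R B _
  obtain ⟨b', hb'⟩ : ∃ b' : Fin p → MvPolynomial σ B, ∀ l, b' l = C (b l) + e l :=
    ⟨_, fun _ => rfl⟩
  have hC3 : βp.comp (aeval b') = φ.comp (aeval PA.val) := by
    refine MvPolynomial.algHom_ext fun l => ?_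
    rw [AlgHom.comp_apply, AlgHom.comp_apply, aeval_X, aeval_X, hb']
    exact heβ l
  have hC2 : (Ideal.Quotient.mkₐ R (I.map (algebraMap R (MvPolynomial σ B)))).comp (aeval b') =
      ((Ideal.Quotient.mkₐ R (I.map (algebraMap R (MvPolynomial σ B)))).comp
          (IsScalarTower.toAlgHom R B (MvPolynomial σ B))).comp (aeval b) := by
    refine MvPolynomial.algHom_ext fun l => ?_
    rw [AlgHom.comp_apply, AlgHom.comp_apply, aeval_X, aeval_X, hb']
    show Ideal.Quotient.mk _ (C (b l) + e l) = Ideal.Quotient.mk _ (C (b l))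
    rw [Ideal.Quotient.eq, add_sub_cancel_left]
    exact heI l
  have hrelBp : ∀ r, aeval b' (PA.relation r) ∈ I.map (algebraMap R (MvPolynomial σ B)) := by
    intro r
    rw [← Ideal.Quotient.eq_zero_iff_mem]
    have h4 := AlgHom.congr_fun hC2 (PA.relation r)
    rw [AlgHom.comp_apply, AlgHom.comp_apply, AlgHom.comp_apply] at h4
    refine h4.trans ?_
    show Ideal.Quotient.mk _ (C (aeval b (PA.relation r))) = 0
    rw [Ideal.Quotient.eq_zero_iff_mem]
    have h5 : (I.map (algebraMap R B)).map (C : B →+* MvPolynomial σ B) ≤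
        I.map (algebraMap R (MvPolynomial σ B)) := by
      rw [Ideal.map_map, ← MvPolynomial.algebraMap_eq, ← IsScalarTower.algebraMap_eq]
    exact h5 (Ideal.mem_map_of_mem _ (hrelB r))
  obtain ⟨J, hJ⟩ : ∃ J : Ideal (MvPolynomial σ B),
      J = Ideal.span (Set.range fun r => aeval b' (PA.relation r)) := ⟨_, rfl⟩
  have hJle : J ≤ I.map (algebraMap R (MvPolynomial σ B)) := by
    rw [hJ]
    exact Ideal.span_le.mpr (by rintro _ ⟨r, rfl⟩; exact hrelBp r)
  have hJfg : J.FG := by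
    rw [hJ]
    exact Submodule.fg_span (Set.finite_range _)
  have hJmem : ∀ r, aeval b' (PA.relation r) ∈ J := by
    intro r
    rw [hJ]
    exact Ideal.subset_span ⟨r, rfl⟩
  have hJker : ∀ x ∈ J, βp x = 0 := by
    intro x hx
    have h6 : J ≤ RingHom.ker βp.toRingHom := by
      rw [hJ]
      refine Ideal.span_le.mpr ?_
      rintro _ ⟨r, rfl⟩
      show βp (aeval b' (PA.relation r)) = 0
      have h4 := AlgHom.congr_fun hC3 (PA.relation r)
      rw [AlgHom.comp_apply, AlgHom.comp_apply, PA.aeval_val_relation, map_zero] at h4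
      exact h4
    exact h6 hx
  have hker : RingHom.ker (aeval (R := R) PA.val).toRingHom ≤
      RingHom.ker ((Ideal.Quotient.mkₐ R J).comp (aeval b')).toRingHom := by
    have h1 : RingHom.ker (aeval (R := R) PA.val).toRingHom =
        Ideal.span (Set.range PA.relation) := by
      rw [PA.span_range_relation_eq_ker, PA.ker_eq_ker_aeval_val]; rfl
    rw [h1]
    refine Ideal.span_le.mpr ?_
    rintro _ ⟨r, rfl⟩
    show Ideal.Quotient.mk J (aeval b' (PA.relation r)) = 0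
    exact Ideal.Quotient.eq_zero_iff_mem.mpr (hJmem r)
  refine ⟨MvPolynomial σ B, inferInstance, inferInstance, inferInstance, J, hJle, hJfg,
    AlgHom.liftOfSurjective (aeval PA.val) PA.aeval_val_surjective
      ((Ideal.Quotient.mkₐ R J).comp (aeval b')) hker,
    Ideal.Quotient.liftₐ J βp hJker, ?_⟩
  refine AlgHom.ext fun a => ?_
  obtain ⟨x, rfl⟩ := PA.aeval_val_surjective a
  rw [AlgHom.comp_apply, AlgHom.liftOfSurjective_apply]
  show βp (aeval b' x) = φ (aeval PA.val x)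
  exact AlgHom.congr_fun hC3 x

theorem adjust [Algebra.Smooth R B]
    (hrelB : ∀ r, aeval b (PA.relation r) ∈ I.map (algebraMap R B))
    (hK1 : ∀ l, φ (PA.val l) - β (b l) ∈ I.map (algebraMap R Λ)) :
    ∃ (B' : Type u) (_ : CommRing B') (_ : Algebra R B'), Algebra.Smooth R B' ∧
      ∃ J : Ideal B', J ≤ I.map (algebraMap R B') ∧ J.FG ∧
        ∃ (g : A →ₐ[R] B' ⧸ J) (k : (B' ⧸ J) →ₐ[R] Λ), k.comp g = φ := by
  classical
  have hdec : ∀ l, ∃ (K : ℕ) (ν : Fin K → Λ) (i : Fin K → R), (∀ k, i k ∈ I) ∧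
      φ (PA.val l) - β (b l) = ∑ k, ν k * algebraMap R Λ (i k) := by
    intro l
    obtain ⟨K, ν, gk, hsum⟩ := Submodule.mem_span_set'.mp (hK1 l)
    have h2 : ∀ k, ∃ i : R, i ∈ I ∧ algebraMap R Λ i = (gk k : Λ) := fun k => (gk k).2
    choose i hiI hi using h2
    refine ⟨K, ν, i, hiI, ?_⟩
    rw [← hsum]
    refine Finset.sum_congr rfl fun k _ => ?_
    rw [hi, smul_eq_mul]
  choose K ν ii hiiI hdec' using hdec
  have hCalg : ∀ i : R, (C (algebraMap R B i) : MvPolynomial (Σ l : Fin p, Fin (K l)) B) =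
      algebraMap R _ i := fun i => by
    rw [IsScalarTower.algebraMap_apply R B (MvPolynomial (Σ l : Fin p, Fin (K l)) B),
      MvPolynomial.algebraMap_eq]
  refine adjust_aux I φ PA b hrelB (Σ l : Fin p, Fin (K l))
    (MvPolynomial.aevalTower β (fun s => ν s.1 s.2))
    (fun l => ∑ k, C (algebraMap R B (ii l k)) * X ⟨l, k⟩) (fun l => ?_) (fun l => ?_)
  · refine Ideal.sum_mem _ fun k _ => Ideal.mul_mem_right _ _ ?_
    rw [hCalg]
    exact Ideal.mem_map_of_mem _ (hiiI l k)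
  · have h3 := hdec' l
    rw [sub_eq_iff_eq_add'] at h3
    rw [map_add, map_sum, aevalTower_C, h3]
    congr 1
    refine Finset.sum_congr rfl fun k _ => ?_
    rw [map_mul, aevalTower_C, aevalTower_X, AlgHom.commutes, mul_comm]

end Adjust

theorem main {R Λ A : Type u} [CommRing R] [CommRing Λ] [Algebra R Λ] (I : Ideal R)
    (hI : I ^ 2 = ⊥) (h : Smoothing.IndSmooth (R ⧸ I) (Λ ⧸ I.map (algebraMap R Λ)))
    [CommRing A] [Algebra R A] [Algebra.FinitePresentation R A] (φ : A →ₐ[R] Λ) :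
    ∃ (B : Type u) (_ : CommRing B) (_ : Algebra R B), Algebra.Smooth R B ∧
      ∃ J : Ideal B, J ≤ I.map (algebraMap R B) ∧ J.FG ∧
        ∃ (g : A →ₐ[R] B ⧸ J) (k : (B ⧸ J) →ₐ[R] Λ), k.comp g = φ := by
  classical
  -- reduce mod `I`
  obtain ⟨fT, hfT⟩ : ∃ fT : (R ⧸ I) ⊗[R] A →ₐ[R ⧸ I] (Λ ⧸ I.map (algebraMap R Λ)),
      ∀ a : A, fT (1 ⊗ₜ a) = Ideal.Quotient.mk (I.map (algebraMap R Λ)) (φ a) :=
    ⟨Algebra.TensorProduct.lift (Algebra.ofId (R ⧸ I) (Λ ⧸ I.map (algebraMap R Λ)))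
      ((Ideal.Quotient.mkₐ R (I.map (algebraMap R Λ))).comp φ) (fun _ _ => Commute.all _ _),
      fun a => by rw [Algebra.TensorProduct.lift_tmul, map_one, one_mul]; rfl⟩
  obtain ⟨B₀, _, _, hB₀, g₀, h₀, hgh₀⟩ :=
    h ((R ⧸ I) ⊗[R] A) (Algebra.FinitePresentation.baseChange _) fT
  haveI := hB₀
  obtain ⟨Bb, _, _, _, _, -, ⟨r⟩, hstd⟩ := Groth.Agent.S2025.result (R := R ⧸ I) (A := B₀)
  haveI := hstd
  obtain ⟨gb, hb, hhg⟩ : ∃ (gb : (R ⧸ I) ⊗[R] A →ₐ[R ⧸ I] Bb)
      (hb : Bb →ₐ[R ⧸ I] (Λ ⧸ I.map (algebraMap R Λ))), ∀ t, hb (gb t) = fT t := by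
    refine ⟨(IsScalarTower.toAlgHom (R ⧸ I) B₀ Bb).comp g₀,
      h₀.comp (r.restrictScalars (R ⧸ I)), fun t => ?_⟩
    show h₀ (r (algebraMap B₀ Bb (g₀ t))) = fT t
    rw [r.commutes, ← hgh₀]; rfl
  -- lift the standard smooth algebra
  obtain ⟨B, _, _, hBsm, ⟨θ⟩⟩ := LiftStd.exists_lift I (A₀ := Bb)
  haveI := hBsm
  haveI : Algebra.FormallySmooth R B := hBsm.1
  -- the map `B → Λ/IΛ` and its lift
  obtain ⟨ge, hge⟩ : ∃ ge : B →ₐ[R] (Λ ⧸ I.map (algebraMap R Λ)),
      ∀ x, ge x = hb (θ (Ideal.Quotient.mk (I.map (algebraMap R B)) x)) := by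
    refine ⟨{ toRingHom := hb.toRingHom.comp (θ.toAlgHom.toRingHom.comp
                (Ideal.Quotient.mk (I.map (algebraMap R B))))
              commutes' := fun x => ?_ }, fun _ => rfl⟩
    show hb (θ (Ideal.Quotient.mk (I.map (algebraMap R B)) (algebraMap R B x))) =
      algebraMap R (Λ ⧸ I.map (algebraMap R Λ)) x
    have h1 : Ideal.Quotient.mk (I.map (algebraMap R B)) (algebraMap R B x) =
        algebraMap (R ⧸ I) (B ⧸ I.map (algebraMap R B)) (Ideal.Quotient.mk I x) := rfl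
    rw [h1, θ.commutes, hb.commutes]
    rfl
  have hnil : IsNilpotent (I.map (algebraMap R Λ)) :=
    ⟨2, by rw [← Ideal.map_pow, hI, Ideal.map_bot]; rfl⟩
  obtain ⟨β, hβ⟩ : ∃ β : B →ₐ[R] Λ,
      ∀ x, Ideal.Quotient.mk (I.map (algebraMap R Λ)) (β x) = ge x :=
    ⟨Algebra.FormallySmooth.lift _ hnil ge, Algebra.FormallySmooth.mk_lift _ hnil ge⟩
  -- the map `A → B/IB`
  obtain ⟨Γ, hΓ⟩ : ∃ Γ : A →ₐ[R] (B ⧸ I.map (algebraMap R B)), ∀ a, θ (Γ a) = gb (1 ⊗ₜ a) := by
    refine ⟨((θ.symm.toAlgHom.comp gb).restrictScalars R).comp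
      Algebra.TensorProduct.includeRight, fun a => ?_⟩
    show θ (θ.symm (gb (1 ⊗ₜ a))) = _
    rw [AlgEquiv.apply_symm_apply]
  -- presentation of `A`
  obtain ⟨PA⟩ : Nonempty (Algebra.Presentation R A
      (Fin (Algebra.Presentation.ofFinitePresentationVars R A))
      (Fin (Algebra.Presentation.ofFinitePresentationRels R A))) :=
    ⟨Algebra.Presentation.ofFinitePresentation R A⟩
  choose b hb' using fun l => Ideal.Quotient.mk_surjective (Γ (PA.val l))
  have hK1 : ∀ l, φ (PA.val l) - β (b l) ∈ I.map (algebraMap R Λ) := fun l => by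
    rw [← Ideal.Quotient.eq]
    calc Ideal.Quotient.mk (I.map (algebraMap R Λ)) (φ (PA.val l))
        = fT (1 ⊗ₜ PA.val l) := (hfT _).symm
      _ = hb (gb (1 ⊗ₜ PA.val l)) := (hhg _).symm
      _ = hb (θ (Γ (PA.val l))) := by rw [hΓ]
      _ = hb (θ (Ideal.Quotient.mk (I.map (algebraMap R B)) (b l))) := by rw [hb' l]
      _ = Ideal.Quotient.mk (I.map (algebraMap R Λ)) (β (b l)) := by rw [hβ, hge]
  have hC1 : (Ideal.Quotient.mkₐ R (I.map (algebraMap R B))).comp (aeval b) =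
      Γ.comp (aeval PA.val) := by
    refine MvPolynomial.algHom_ext fun l => ?_
    rw [AlgHom.comp_apply, AlgHom.comp_apply, aeval_X, aeval_X]
    exact hb' l
  have hrelB : ∀ r, aeval b (PA.relation r) ∈ I.map (algebraMap R B) := by
    intro r
    rw [← Ideal.Quotient.eq_zero_iff_mem]
    have h4 := AlgHom.congr_fun hC1 (PA.relation r)
    rw [AlgHom.comp_apply, AlgHom.comp_apply, PA.aeval_val_relation, map_zero] at h4
    exact h4
  exact adjust I φ β PA b hrelB hK1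

end Groth.Agent.Lib.Helper19.IndSmoothSq
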