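import Mathlib
import Groth.Prelude.Def_Smoothing
import Groth.Agent.Lib.Helper19.IndSmoothSq

/-!
# Ind-smoothness lifts along nilpotent thickenings (flat case)

Nilpotent versions of the square-zero steps, and the iteration on powers of `I`.
-/

namespace Groth.Agent.Lib.Helper19.IndSmoothNil

open MvPolynomial TensorProduct Smoothing

universe u

theorem mainNil {R Λ A : Type u} [CommRing R] [CommRing Λ] [Algebra R Λ] (I : Ideal R)
    (hI : IsNilpotent I) (h : Smoothing.IndSmooth (R ⧸ I) (Λ ⧸ I.map (algebraMap R Λ)))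
    [CommRing A] [Algebra R A] [Algebra.FinitePresentation R A] (φ : A →ₐ[R] Λ) :
    ∃ (B : Type u) (_ : CommRing B) (_ : Algebra R B), Algebra.Smooth R B ∧
      ∃ J : Ideal B, J ≤ I.map (algebraMap R B) ∧ J.FG ∧
        ∃ (g : A →ₐ[R] B ⧸ J) (k : (B ⧸ J) →ₐ[R] Λ), k.comp g = φ := by
  classical
  -- reduce mod `I`
  obtain ⟨fT, hfT⟩ : ∃ fT : (R ⧸ I) ⊗[R] A →ₐ[R ⧸ I] (Λ ⧸ I.map (algebraMap R Λ)),
      ∀ a : A, fT (1 ⊗ₜ a) = Ideal.Quotient.mk (I.map (algebraMap R Λ)) (φ a) :=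
    ⟨Algebra.TensorProduct.lift (Algebra.ofId (R ⧸ I) (Λ ⧸ I.map (algebraMap R Λ)))
      ((Ideal.Quotient.mkₐ R (I.map (algebraMap R Λ))).comp φ) (fun _ _ => Commute.all _ _),
      fun a => by rw [Algebra.TensorProduct.lift_tmul, map_one, one_mul]; rfl⟩
  obtain ⟨B₀, _, _, hB₀, g₀, h₀, hgh₀⟩ :=
    h ((R ⧸ I) ⊗[R] A) (Algebra.FinitePresentation.baseChange _) fT
  haveI := hB₀
  obtain ⟨Bb, _, _, _, _, -, ⟨r⟩, hstd⟩ := Groth.Agent.S2025.result (R := R ⧸ I) (A := B₀)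
  haveI := hstd
  obtain ⟨gb, hb, hhg⟩ : ∃ (gb : (R ⧸ I) ⊗[R] A →ₐ[R ⧸ I] Bb)
      (hb : Bb →ₐ[R ⧸ I] (Λ ⧸ I.map (algebraMap R Λ))), ∀ t, hb (gb t) = fT t := by
    refine ⟨(IsScalarTower.toAlgHom (R ⧸ I) B₀ Bb).comp g₀,
      h₀.comp (r.restrictScalars (R ⧸ I)), fun t => ?_⟩
    show h₀ (r (algebraMap B₀ Bb (g₀ t))) = fT t
    rw [r.commutes, ← hgh₀]; rfl
  -- lift the standard smooth algebra
  obtain ⟨B, _, _, hBsm, ⟨θ⟩⟩ := LiftStd.exists_lift I (A₀ := Bb)
  haveI := hBsm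
  haveI : Algebra.FormallySmooth R B := hBsm.1
  -- the map `B → Λ/IΛ` and its lift
  obtain ⟨ge, hge⟩ : ∃ ge : B →ₐ[R] (Λ ⧸ I.map (algebraMap R Λ)),
      ∀ x, ge x = hb (θ (Ideal.Quotient.mk (I.map (algebraMap R B)) x)) := by
    refine ⟨{ toRingHom := hb.toRingHom.comp (θ.toAlgHom.toRingHom.comp
                (Ideal.Quotient.mk (I.map (algebraMap R B))))
              commutes' := fun x => ?_ }, fun _ => rfl⟩
    show hb (θ (Ideal.Quotient.mk (I.map (algebraMap R B)) (algebraMap R B x))) =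
      algebraMap R (Λ ⧸ I.map (algebraMap R Λ)) x
    have h1 : Ideal.Quotient.mk (I.map (algebraMap R B)) (algebraMap R B x) =
        algebraMap (R ⧸ I) (B ⧸ I.map (algebraMap R B)) (Ideal.Quotient.mk I x) := rfl
    rw [h1, θ.commutes, hb.commutes]
    rfl
  have hnil : IsNilpotent (I.map (algebraMap R Λ)) := by
    obtain ⟨n, hn⟩ := hI
    exact ⟨n, by rw [← Ideal.map_pow, hn]; exact Ideal.map_bot⟩
  obtain ⟨β, hβ⟩ : ∃ β : B →ₐ[R] Λ,
      ∀ x, Ideal.Quotient.mk (I.map (algebraMap R Λ)) (β x) = ge x :=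
    ⟨Algebra.FormallySmooth.lift _ hnil ge, Algebra.FormallySmooth.mk_lift _ hnil ge⟩
  -- the map `A → B/IB`
  obtain ⟨Γ, hΓ⟩ : ∃ Γ : A →ₐ[R] (B ⧸ I.map (algebraMap R B)), ∀ a, θ (Γ a) = gb (1 ⊗ₜ a) := by
    refine ⟨((θ.symm.toAlgHom.comp gb).restrictScalars R).comp
      Algebra.TensorProduct.includeRight, fun a => ?_⟩
    show θ (θ.symm (gb (1 ⊗ₜ a))) = _
    rw [AlgEquiv.apply_symm_apply]
  -- presentation of `A`
  obtain ⟨PA⟩ : Nonempty (Algebra.Presentation R A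
      (Fin (Algebra.Presentation.ofFinitePresentationVars R A))
      (Fin (Algebra.Presentation.ofFinitePresentationRels R A))) :=
    ⟨Algebra.Presentation.ofFinitePresentation R A⟩
  choose b hb' using fun l => Ideal.Quotient.mk_surjective (Γ (PA.val l))
  have hK1 : ∀ l, φ (PA.val l) - β (b l) ∈ I.map (algebraMap R Λ) := fun l => by
    rw [← Ideal.Quotient.eq]
    calc Ideal.Quotient.mk (I.map (algebraMap R Λ)) (φ (PA.val l))
        = fT (1 ⊗ₜ PA.val l) := (hfT _).symm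
      _ = hb (gb (1 ⊗ₜ PA.val l)) := (hhg _).symm
      _ = hb (θ (Γ (PA.val l))) := by rw [hΓ]
      _ = hb (θ (Ideal.Quotient.mk (I.map (algebraMap R B)) (b l))) := by rw [hb' l]
      _ = Ideal.Quotient.mk (I.map (algebraMap R Λ)) (β (b l)) := by rw [hβ, hge]
  have hC1 : (Ideal.Quotient.mkₐ R (I.map (algebraMap R B))).comp (aeval b) =
      Γ.comp (aeval PA.val) := by
    refine MvPolynomial.algHom_ext fun l => ?_
    rw [AlgHom.comp_apply, AlgHom.comp_apply, aeval_X, aeval_X]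
    exact hb' l
  have hrelB : ∀ r, aeval b (PA.relation r) ∈ I.map (algebraMap R B) := by
    intro r
    rw [← Ideal.Quotient.eq_zero_iff_mem]
    have h4 := AlgHom.congr_fun hC1 (PA.relation r)
    rw [AlgHom.comp_apply, AlgHom.comp_apply, PA.aeval_val_relation, map_zero] at h4
    exact h4
  exact IndSmoothSq.adjust I φ β PA b hrelB hK1


section

variable {R Λ B : Type u} [CommRing R] [CommRing Λ] [Algebra R Λ] (I : Ideal R)
  (hI : IsNilpotent I) (h : Smoothing.IndSmooth (R ⧸ I) (Λ ⧸ I.map (algebraMap R Λ)))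
  [CommRing B] [Algebra R B] [Algebra.Smooth R B] (φ : B →ₐ[R] Λ)

include hI h in
theorem lemmaA {A'' : Type u} [CommRing A''] [Algebra R A''] [Algebra.FinitePresentation R A'']
    (ι : B →ₐ[R] A'') (φ'' : A'' →ₐ[R] Λ) (hφ : φ''.comp ι = φ) :
    ∃ (D : Type u) (_ : CommRing D) (_ : Algebra R D), Algebra.Smooth R D ∧
      ∃ (J' : Ideal D) (α : B →ₐ[R] D) (β : D →ₐ[R] Λ) (g : A'' →ₐ[R] D ⧸ J'),
        J' ≤ I.map (algebraMap R D) ∧ (∀ b, Ideal.Quotient.mk J' (α b) = g (ι b)) ∧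
          ∀ b, β (α b) = φ b := by
  obtain ⟨D, _, _, hDsm, J', hJ'le, -, g, k, hkg⟩ := mainNil I hI h φ''
  haveI := hDsm
  haveI : Algebra.FormallySmooth R B := (inferInstance : Algebra.Smooth R B).1
  have hnil : IsNilpotent J' := by
    obtain ⟨n, hn⟩ := hI
    refine ⟨n, ?_⟩
    have hID : (I.map (algebraMap R D)) ^ n = ⊥ := by
      rw [← Ideal.map_pow, hn]; exact Ideal.map_bot
    rw [Ideal.zero_eq_bot, ← le_bot_iff, ← hID]
    exact Ideal.pow_right_mono hJ'le n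
  refine ⟨D, inferInstance, inferInstance, hDsm, J',
    Algebra.FormallySmooth.lift J' hnil (g.comp ι), k.comp (Ideal.Quotient.mkₐ R J'), g, hJ'le,
    fun b => ?_, fun b => ?_⟩
  · exact Algebra.FormallySmooth.mk_lift J' hnil (g.comp ι) b
  · show k (Ideal.Quotient.mk J' (Algebra.FormallySmooth.lift J' hnil (g.comp ι) b)) = φ b
    rw [Algebra.FormallySmooth.mk_lift, ← hφ]
    exact AlgHom.congr_fun hkg (ι b)

include hI h in
theorem lemmaB (σ ρ : Type) [Finite σ] [Finite ρ] (relp : ρ → MvPolynomial σ B)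
    (φp : MvPolynomial σ B →ₐ[R] Λ) (hφpC : ∀ b, φp (C b) = φ b)
    (hφprel : ∀ s, φp (relp s) = 0) :
    ∃ (D : Type u) (_ : CommRing D) (_ : Algebra R D), Algebra.Smooth R D ∧
      ∃ (J' : Ideal D) (α : B →ₐ[R] D) (β : D →ₐ[R] Λ) (gp : MvPolynomial σ B →ₐ[R] D ⧸ J'),
        J' ≤ I.map (algebraMap R D) ∧ (∀ b, gp (C b) = Ideal.Quotient.mk J' (α b)) ∧
          (∀ s, gp (relp s) = 0) ∧ ∀ b, β (α b) = φ b := by
  classical
  haveI : Algebra.FinitePresentation R B := (inferInstance : Algebra.Smooth R B).2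
  obtain ⟨𝔞, h𝔞⟩ : ∃ 𝔞 : Ideal (MvPolynomial σ B), 𝔞 = Ideal.span (Set.range relp) := ⟨_, rfl⟩
  have h𝔞fg : 𝔞.FG := by rw [h𝔞]; exact Submodule.fg_span (Set.finite_range relp)
  haveI : Algebra.FinitePresentation R (MvPolynomial σ B ⧸ 𝔞) :=
    Algebra.FinitePresentation.quotient h𝔞fg
  have hmem : ∀ s, relp s ∈ 𝔞 := fun s => by rw [h𝔞]; exact Ideal.subset_span ⟨s, rfl⟩
  have hker : ∀ x ∈ 𝔞, φp x = 0 := by
    intro x hx
    have h6 : 𝔞 ≤ RingHom.ker φp.toRingHom := by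
      rw [h𝔞]; exact Ideal.span_le.mpr (by rintro _ ⟨s, rfl⟩; exact hφprel s)
    exact h6 hx
  obtain ⟨D, _, _, hDsm, J', α, β, g, hJ'le, hαg, hβα⟩ := lemmaA I hI h φ
    ((Ideal.Quotient.mkₐ R 𝔞).comp (IsScalarTower.toAlgHom R B (MvPolynomial σ B)))
    (Ideal.Quotient.liftₐ 𝔞 φp hker) (AlgHom.ext fun b => hφpC b)
  refine ⟨D, inferInstance, inferInstance, hDsm, J', α, β, g.comp (Ideal.Quotient.mkₐ R 𝔞),
    hJ'le, fun b => (hαg b).symm, fun s => ?_, hβα⟩
  show g (Ideal.Quotient.mk 𝔞 (relp s)) = 0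
  rw [Ideal.Quotient.eq_zero_iff_mem.mpr (hmem s), map_zero]

include hI h in
theorem kill_step [Module.Flat R Λ] (e : ℕ) (J : Ideal B)
    (hJ : J ≤ (I ^ e).map (algebraMap R B)) (hJfg : J.FG) (hφJ : ∀ x ∈ J, φ x = 0) :
    ∃ (B' : Type u) (_ : CommRing B') (_ : Algebra R B'), Algebra.Smooth R B' ∧
      ∃ (α : B →ₐ[R] B') (β : B' →ₐ[R] Λ), (∀ b, β (α b) = φ b) ∧
        J.map α ≤ (I ^ (e + 1)).map (algebraMap R B') := by
  classical
  obtain ⟨T, jj, hjj⟩ := Submodule.fg_iff_exists_fin_generating_family.mp hJfg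
  have hjmem : ∀ t, jj t ∈ J := fun t => by rw [← hjj]; exact Submodule.subset_span ⟨t, rfl⟩
  have hdec : ∀ t, ∃ (K : ℕ) (be : Fin K → B) (i : Fin K → R), (∀ k, i k ∈ I ^ e) ∧
      jj t = ∑ k, be k * algebraMap R B (i k) := by
    intro t
    obtain ⟨K, ν, gk, hsum⟩ := Submodule.mem_span_set'.mp (hJ (hjmem t))
    have h2 : ∀ k, ∃ i : R, i ∈ I ^ e ∧ algebraMap R B i = (gk k : B) := fun k => (gk k).2
    choose i hiI hi using h2
    refine ⟨K, ν, i, hiI, ?_⟩
    rw [← hsum]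
    refine Finset.sum_congr rfl fun k _ => ?_
    rw [hi, smul_eq_mul]
  choose K be ii hiiI hjdec using hdec
  have hrel : ∀ t, ∑ k, ii t k • φ (be t k) = 0 := fun t => by
    have h3 := hφJ _ (hjmem t)
    rw [hjdec t, map_sum] at h3
    rw [← h3]
    refine Finset.sum_congr rfl fun k _ => ?_
    rw [map_mul, AlgHom.commutes, Algebra.smul_def, mul_comm]
  have htriv : ∀ t, Module.IsTrivialRelation (ii t) (fun k => φ (be t k)) := fun t =>
    Module.Flat.isTrivialRelation_of_sum_smul_eq_zero (R := R) (M := Λ) (f := ii t)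
      (x := fun k => φ (be t k)) (hrel t)
  choose kk a μ hμ0 ha using htriv
  have hμ : ∀ t k, φ (be t k) = ∑ j, a t k j • μ t j := fun t k => hμ0 t k
  obtain ⟨D, _, _, hDsm, J', α, β, gp, hJ'le, hgpC, hgprel, hβα⟩ := lemmaB I hI h φ
    (Σ t : Fin T, Fin (kk t)) (Σ t : Fin T, Fin (K t))
    (fun s => C (be s.1 s.2) - ∑ m, C (algebraMap R B (a s.1 s.2 m)) * X ⟨s.1, m⟩)
    (MvPolynomial.aevalTower φ (fun s => μ s.1 s.2)) (fun b => aevalTower_C _ _ b)
    (fun s => by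
      rw [map_sub, map_sum, aevalTower_C, hμ s.1 s.2, sub_eq_zero]
      refine Finset.sum_congr rfl fun m _ => ?_
      rw [map_mul, aevalTower_C, aevalTower_X, AlgHom.commutes, Algebra.smul_def])
  have hCalg : ∀ i : R, (C (algebraMap R B i) : MvPolynomial (Σ t : Fin T, Fin (kk t)) B) =
      algebraMap R _ i := fun i => by
    rw [IsScalarTower.algebraMap_apply R B (MvPolynomial (Σ t : Fin T, Fin (kk t)) B),
      MvPolynomial.algebraMap_eq]
  have hαj : ∀ t, α (jj t) ∈ (I ^ (e + 1)).map (algebraMap R D) := by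
    intro t
    choose c hc using fun m : Fin (kk t) =>
      Ideal.Quotient.mk_surjective (gp (X (⟨t, m⟩ : Σ t : Fin T, Fin (kk t))))
    have hd : ∀ k, α (be t k) - ∑ m, algebraMap R D (a t k m) * c m ∈ J' := by
      intro k
      rw [← Ideal.Quotient.eq, ← hgpC, map_sum]
      have h1 := hgprel ⟨t, k⟩
      rw [map_sub, sub_eq_zero, map_sum] at h1
      rw [h1]
      refine Finset.sum_congr rfl fun m _ => ?_
      rw [map_mul, hCalg, AlgHom.commutes, map_mul, hc m]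
      rfl
    have h2 : ∀ k, α (be t k * algebraMap R B (ii t k)) =
        (∑ m, algebraMap R D (a t k m) * c m) * algebraMap R D (ii t k) +
          (α (be t k) - ∑ m, algebraMap R D (a t k m) * c m) * algebraMap R D (ii t k) := by
      intro k
      rw [map_mul, AlgHom.commutes]; ring
    have h7 : ∑ k, (∑ m, algebraMap R D (a t k m) * c m) * algebraMap R D (ii t k) = 0 := by
      simp_rw [Finset.sum_mul]
      rw [Finset.sum_comm]
      refine Finset.sum_eq_zero fun m _ => ?_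
      have h5 : ∀ k, algebraMap R D (a t k m) * c m * algebraMap R D (ii t k) =
          algebraMap R D (ii t k * a t k m) * c m := fun k => by rw [map_mul]; ring
      simp_rw [h5]
      rw [← Finset.sum_mul, ← map_sum, ha t m, map_zero, zero_mul]
    have h8 : (I.map (algebraMap R D)) * ((I ^ e).map (algebraMap R D)) =
        (I ^ (e + 1)).map (algebraMap R D) := by
      rw [← Ideal.map_mul, ← pow_succ']
    rw [hjdec t, map_sum]
    simp_rw [h2]
    rw [Finset.sum_add_distrib, h7, zero_add]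
    refine Ideal.sum_mem _ fun k _ => ?_
    rw [← h8]
    exact Ideal.mul_mem_mul (hJ'le (hd k)) (Ideal.mem_map_of_mem _ (hiiI t k))
  refine ⟨D, inferInstance, inferInstance, hDsm, α, β, hβα, ?_⟩
  rw [Ideal.map_le_iff_le_comap, ← hjj]
  exact Ideal.span_le.mpr (by rintro _ ⟨t, rfl⟩; exact hαj t)

end

section

variable {R Λ : Type u} [CommRing R] [CommRing Λ] [Algebra R Λ] (I : Ideal R)
  (hI : IsNilpotent I) (h : Smoothing.IndSmooth (R ⧸ I) (Λ ⧸ I.map (algebraMap R Λ)))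

include hI h in
theorem kill_all [Module.Flat R Λ] (n : ℕ) (hn : I ^ n = ⊥) (m : ℕ) :
    ∀ (B : Type u) [CommRing B] [Algebra R B] [Algebra.Smooth R B] (φ : B →ₐ[R] Λ)
      (J : Ideal B), J ≤ (I ^ (n - m)).map (algebraMap R B) → J.FG → (∀ x ∈ J, φ x = 0) →
      ∃ (B' : Type u) (_ : CommRing B') (_ : Algebra R B'), Algebra.Smooth R B' ∧
        ∃ (α : B →ₐ[R] B') (β : B' →ₐ[R] Λ), (∀ b, β (α b) = φ b) ∧ ∀ x ∈ J, α x = 0 := by
  induction m with
  | zero =>
    intro B _ _ hB φ J hJ _ _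
    refine ⟨B, inferInstance, inferInstance, hB, AlgHom.id R B, φ, fun _ => rfl, fun x hx => ?_⟩
    have h1 := hJ hx
    rw [Nat.sub_zero, hn, Ideal.map_bot] at h1
    exact h1
  | succ m ih =>
    intro B _ _ hB φ J hJ hJfg hφJ
    obtain ⟨D₁, _, _, hD₁, α₁, β₁, hβα₁, hJ₁⟩ := kill_step I hI h φ (n - (m + 1)) J hJ hJfg hφJ
    haveI := hD₁
    have hle : (I ^ (n - (m + 1) + 1)).map (algebraMap R D₁) ≤
        (I ^ (n - m)).map (algebraMap R D₁) :=
      Ideal.map_mono (Ideal.pow_le_pow_right (by omega))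
    have hφJ₁ : ∀ x ∈ J.map α₁, β₁ x = 0 := by
      intro x hx
      have h6 : J.map α₁ ≤ RingHom.ker β₁.toRingHom := by
        rw [Ideal.map_le_iff_le_comap]
        intro y hy
        show β₁ (α₁ y) = 0
        rw [hβα₁]; exact hφJ y hy
      exact h6 hx
    obtain ⟨D₂, _, _, hD₂, α₂, β₂, hβα₂, hα₂⟩ :=
      ih D₁ β₁ (J.map α₁) (hJ₁.trans hle) (hJfg.map _) hφJ₁
    refine ⟨D₂, inferInstance, inferInstance, hD₂, α₂.comp α₁, β₂, fun b => ?_, fun x hx => ?_⟩
    · rw [AlgHom.comp_apply, hβα₂, hβα₁]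
    · rw [AlgHom.comp_apply]
      exact hα₂ _ (Ideal.mem_map_of_mem _ hx)

include hI h in
theorem indSmooth_of_nilpotent [Module.Flat R Λ] : Smoothing.IndSmooth R Λ := by
  intro A _ _ hfp f
  haveI := hfp
  obtain ⟨n, hn⟩ := id hI
  obtain ⟨B, _, _, hB, J, hJle, hJfg, g, k, hkg⟩ := mainNil I hI h f
  haveI := hB
  have hJ' : J ≤ (I ^ (n - (n - 1))).map (algebraMap R B) := by
    refine hJle.trans (Ideal.map_mono ?_)
    calc I = I ^ 1 := (pow_one I).symm
      _ ≤ I ^ (n - (n - 1)) := Ideal.pow_le_pow_right (by omega)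
  obtain ⟨D, _, _, hD, α, β, hβα, hαJ⟩ := kill_all I hI h n hn (n - 1) B
    (k.comp (Ideal.Quotient.mkₐ R J)) J hJ' hJfg (fun x hx => by
      show k (Ideal.Quotient.mk J x) = 0
      rw [Ideal.Quotient.eq_zero_iff_mem.mpr hx, map_zero])
  refine ⟨D, inferInstance, inferInstance, hD, (Ideal.Quotient.liftₐ J α hαJ).comp g, β, ?_⟩
  refine AlgHom.ext fun a => ?_
  obtain ⟨x, hx⟩ := Ideal.Quotient.mk_surjective (g a)
  rw [AlgHom.comp_apply, AlgHom.comp_apply, ← hx]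
  show β (α x) = f a
  rw [hβα, ← hkg]
  show k (Ideal.Quotient.mk J x) = k (g a)
  rw [hx]

end

end Groth.Agent.Lib.Helper19.IndSmoothNil
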