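import Mathlib

/-!
# Jacobian data of a finitely presented algebra

For `A` finitely presented over `R` we extract generators `v₁..vₙ` and a "Jacobian matrix"
`Jm` (`n × m`) over `A` such that `0 → im Jm → Aⁿ → Ω[A/R] → 0` is exact in coordinates.
-/

namespace Groth.Agent.Lib.Helper19.JacData

open MvPolynomial KaehlerDifferential

universe u

universe v w

lemma cotangent_span {R : Type u} {S : Type v} [CommRing R] [CommRing S] [Algebra R S]
    (Q : Algebra.Extension.{w} R S) {σ : Type*} (rel : σ → Q.Ring)
    (hrel : Ideal.span (Set.range rel) = Q.ker) (hmem : ∀ j, rel j ∈ Q.ker)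
    (x : Q.Cotangent) :
    x ∈ Submodule.span S
      (Set.range fun j => Algebra.Extension.Cotangent.mk (P := Q) ⟨rel j, hmem j⟩) := by
  have hle : Ideal.span (Set.range rel) ≤ Q.ker := le_of_eq hrel
  have key : ∀ (z : Q.Ring) (hz : z ∈ Ideal.span (Set.range rel)),
      Algebra.Extension.Cotangent.mk (P := Q) ⟨z, hle hz⟩ ∈ Submodule.span S
        (Set.range fun j => Algebra.Extension.Cotangent.mk (P := Q) ⟨rel j, hmem j⟩) := by
    intro z hz
    induction hz using Submodule.span_induction with
    | mem z hz =>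
      obtain ⟨j, rfl⟩ := hz
      exact Submodule.subset_span ⟨j, rfl⟩
    | zero =>
      have h0 : (⟨0, hle (Submodule.zero_mem _)⟩ : Q.ker) = 0 := rfl
      rw [h0, map_zero]
      exact Submodule.zero_mem _
    | add x y hx hy ihx ihy =>
      have h0 : (⟨x + y, hle (Submodule.add_mem _ hx hy)⟩ : Q.ker) =
          ⟨x, hle hx⟩ + ⟨y, hle hy⟩ := rfl
      rw [h0, map_add]
      exact add_mem ihx ihy
    | smul r x hx ih =>
      have h0 : (⟨r • x, hle (Submodule.smul_mem _ r hx)⟩ : Q.ker) =
          r • (⟨x, hle hx⟩ : Q.ker) := rfl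
      rw [h0, map_smul, ← algebraMap_smul S r]
      exact Submodule.smul_mem _ _ ih
  obtain ⟨y, rfl⟩ := Algebra.Extension.Cotangent.mk_surjective x
  have hy : y.1 ∈ Ideal.span (Set.range rel) := by
    rw [hrel]; exact y.2
  exact key y.1 hy

theorem exists_jacobian_data {R A : Type u} [CommRing R] [CommRing A] [Algebra R A]
    [Algebra.FinitePresentation R A] :
    ∃ (n m : ℕ) (v : Fin n → A) (Jm : Fin n → Fin m → A),
      Algebra.adjoin R (Set.range v) = ⊤ ∧
      (∀ j, ∑ i, Jm i j • D R A (v i) = 0) ∧
      (∀ c : Fin n → A, ∑ i, c i • D R A (v i) = 0 →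
        ∃ w : Fin m → A, ∀ i, c i = ∑ j, Jm i j * w j) := by
  classical
  let P := Algebra.Presentation.ofFinitePresentation R A
  let G := P.toGenerators
  let b := G.cotangentSpaceBasis
  have hex : Function.Exact G.toExtension.cotangentComplex G.toExtension.toKaehler :=
    G.toExtension.exact_cotangentComplex_toKaehler
  let g0 : Fin _ → G.toExtension.Cotangent := fun j =>
    Algebra.Extension.Cotangent.mk (P := G.toExtension) ⟨P.relation j, P.relation_mem_ker j⟩
  let g : Fin _ → G.toExtension.CotangentSpace := fun j => G.toExtension.cotangentComplex (g0 j)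
  have htK : ∀ a : Fin _ → A, G.toExtension.toKaehler (∑ i, a i • b i) =
      ∑ i, a i • D R A (G.val i) := by
    intro a
    rw [map_sum]
    refine Finset.sum_congr rfl fun i _ => ?_
    rw [map_smul, Algebra.Generators.toKaehler_cotangentSpaceBasis]
  have hspan : ∀ x : G.toExtension.Cotangent, x ∈ Submodule.span A (Set.range g0) :=
    cotangent_span G.toExtension P.relation P.span_range_relation_eq_ker P.relation_mem_ker
  refine ⟨_, _, G.val, fun i j => b.repr (g j) i, ?_, ?_, ?_⟩
  · rw [Algebra.adjoin_range_eq_range_aeval]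
    exact (AlgHom.range_eq_top _).mpr G.aeval_val_surjective
  · intro j
    rw [← htK, b.sum_repr (g j)]
    exact hex.apply_apply_eq_zero (g0 j)
  · intro c hc
    rw [← htK] at hc
    obtain ⟨x, hx⟩ := (hex _).mp hc
    obtain ⟨w, hw⟩ := (Submodule.mem_span_range_iff_exists_fun A).mp (hspan x)
    refine ⟨w, fun i => ?_⟩
    have h1 : ∑ i, c i • b i = ∑ j, w j • g j := by
      rw [← hx, ← hw, map_sum]
      refine Finset.sum_congr rfl fun j _ => ?_
      rw [map_smul]
    have h2 : c i = b.repr (∑ j, w j • g j) i := by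
      rw [← h1]; exact (congrFun (b.repr_sum_self c) i).symm
    rw [h2, map_sum, Finsupp.finsetSum_apply]
    refine Finset.sum_congr rfl fun j _ => ?_
    rw [map_smul, Finsupp.smul_apply, smul_eq_mul, mul_comm]

end Groth.Agent.Lib.Helper19.JacData
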