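import Mathlib
import Groth.Agent.Lib.Helper19.SmoothRetract

/-!
# Clearing denominators in `A_a`: localizing Jacobian data
-/

namespace Groth.Agent.Lib.Helper19.LocClear

open KaehlerDifferential

variable {A : Type*} [CommRing A] (a : A) (A' : Type*) [CommRing A'] [Algebra A A']
  [IsLocalization.Away a A']

lemma clear_vec {m : ℕ} (w' : Fin m → A') :
    ∃ (k : ℕ) (c : Fin m → A), ∀ j, algebraMap A A' (c j) = algebraMap A A' a ^ k * w' j := by
  obtain ⟨⟨_, k, rfl⟩, hint⟩ :=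
    IsLocalization.exist_integer_multiples_of_finite (Submonoid.powers a) w'
  have hint' : ∀ i, ∃ x, algebraMap A A' x = (a ^ k) • w' i := fun i => hint i
  choose c hc using hint'
  refine ⟨k, c, fun j => ?_⟩
  rw [hc j, Algebra.smul_def, map_pow]

lemma kill_vec {n : ℕ} (x : Fin n → A) (h : ∀ i, algebraMap A A' (x i) = 0) :
    ∃ k : ℕ, ∀ i, a ^ k * x i = 0 := by
  have h1 : ∀ i, ∃ k : ℕ, a ^ k * x i = 0 := fun i => by
    obtain ⟨⟨_, k, rfl⟩, hk⟩ :=
      (IsLocalization.map_eq_zero_iff (Submonoid.powers a) A' (x i)).mp (h i)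
    exact ⟨k, hk⟩
  choose ki hki using h1
  refine ⟨∑ i, ki i, fun i => ?_⟩
  obtain ⟨d, hd⟩ := Nat.exists_eq_add_of_le
    (Finset.single_le_sum (fun _ _ => Nat.zero_le _) (Finset.mem_univ i) : ki i ≤ ∑ i, ki i)
  rw [hd, pow_add, mul_comm (a ^ ki i), mul_assoc, hki i, mul_zero]

lemma clear_ker {n m : ℕ} (Jm : Fin n → Fin m → A) (w' : Fin m → A')
    (h : ∀ i, ∑ j, algebraMap A A' (Jm i j) * w' j = 0) :
    ∃ (k : ℕ) (c : Fin m → A), (∀ i, ∑ j, Jm i j * c j = 0) ∧
      ∀ j, algebraMap A A' (c j) = algebraMap A A' a ^ k * w' j := by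
  obtain ⟨k₀, c₀, hc₀⟩ := clear_vec a A' w'
  have hx : ∀ i, algebraMap A A' (∑ j, Jm i j * c₀ j) = 0 := by
    intro i
    rw [map_sum]
    have h2 : ∀ j, algebraMap A A' (Jm i j * c₀ j) =
        algebraMap A A' a ^ k₀ * (algebraMap A A' (Jm i j) * w' j) := fun j => by
      rw [map_mul, hc₀]; ring
    simp_rw [h2]
    rw [← Finset.mul_sum, h i, mul_zero]
  obtain ⟨k₁, hk₁⟩ := kill_vec a A' (fun i => ∑ j, Jm i j * c₀ j) hx
  refine ⟨k₁ + k₀, fun j => a ^ k₁ * c₀ j, fun i => ?_, fun j => ?_⟩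
  · have h2 : ∀ j, Jm i j * (a ^ k₁ * c₀ j) = a ^ k₁ * (Jm i j * c₀ j) := fun j => by ring
    simp_rw [h2]
    rw [← Finset.mul_sum]
    exact hk₁ i
  · rw [map_mul, map_pow, hc₀, pow_add, mul_assoc]

variable {R : Type*} [CommRing R] [Algebra R A] [Algebra R A'] [IsScalarTower R A A']

lemma map_sum_smul_D {n : ℕ} (c : Fin n → A) (v : Fin n → A) :
    KaehlerDifferential.map R R A A' (∑ i, c i • D R A (v i)) =
      ∑ i, algebraMap A A' (c i) • D R A' (algebraMap A A' (v i)) := by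
  rw [map_sum]
  refine Finset.sum_congr rfl fun i _ => ?_
  rw [map_smul, KaehlerDifferential.map_D]
  exact (algebraMap_smul A' (c i) (D R A' (algebraMap A A' (v i)))).symm

lemma J1_loc {n m : ℕ} (v : Fin n → A) (Jm : Fin n → Fin m → A)
    (h : ∀ j, ∑ i, Jm i j • D R A (v i) = 0) (j : Fin m) :
    ∑ i, algebraMap A A' (Jm i j) • D R A' (algebraMap A A' (v i)) = 0 := by
  rw [← map_sum_smul_D (R := R) A' (fun i => Jm i j) v, h j, map_zero]

include a in
lemma J2_loc {n m : ℕ} (v : Fin n → A) (Jm : Fin n → Fin m → A)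
    (hJ2 : ∀ c : Fin n → A, ∑ i, c i • D R A (v i) = 0 →
      ∃ w : Fin m → A, ∀ i, c i = ∑ j, Jm i j * w j)
    (c' : Fin n → A') (hc' : ∑ i, c' i • D R A' (algebraMap A A' (v i)) = 0) :
    ∃ w' : Fin m → A', ∀ i, c' i = ∑ j, algebraMap A A' (Jm i j) * w' j := by
  obtain ⟨k₀, c₀, hc₀⟩ := clear_vec a A' c'
  have h1 : KaehlerDifferential.map R R A A' (∑ i, c₀ i • D R A (v i)) = 0 := by
    rw [map_sum_smul_D]
    simp_rw [hc₀, mul_smul]
    rw [← Finset.smul_sum, hc', smul_zero]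
  obtain ⟨⟨_, k₂, rfl⟩, hk₂⟩ := (IsLocalizedModule.eq_zero_iff (Submonoid.powers a)
    (KaehlerDifferential.map R R A A')).mp h1
  have h2 : ∑ i, (a ^ k₂ * c₀ i) • D R A (v i) = 0 := by
    simp_rw [mul_smul]
    rw [← Finset.smul_sum]
    exact hk₂
  obtain ⟨w, hw⟩ := hJ2 _ h2
  let u : A' := IsLocalization.Away.invSelf a
  have hu : algebraMap A A' a * u = 1 := IsLocalization.Away.mul_invSelf a
  refine ⟨fun j => u ^ (k₂ + k₀) * algebraMap A A' (w j), fun i => ?_⟩
  have h3 : ∑ j, algebraMap A A' (Jm i j) * algebraMap A A' (w j) =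
      algebraMap A A' a ^ k₂ * (algebraMap A A' a ^ k₀ * c' i) := by
    rw [← hc₀, ← map_pow, ← map_mul, hw i, map_sum]
    simp_rw [map_mul]
  have h4 : ∀ j, algebraMap A A' (Jm i j) * (u ^ (k₂ + k₀) * algebraMap A A' (w j)) =
      u ^ (k₂ + k₀) * (algebraMap A A' (Jm i j) * algebraMap A A' (w j)) := fun j => by ring
  simp_rw [h4]
  rw [← Finset.mul_sum, h3, ← mul_assoc (algebraMap A A' a ^ k₂), ← pow_add, ← mul_assoc,
    ← mul_pow, mul_comm u, hu, one_pow, one_mul]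

include a in
lemma J3_loc {n : ℕ} (v : Fin n → A) (hv : Algebra.adjoin R (Set.range v) = ⊤) :
    Submodule.span A' (Set.range fun i => D R A' (algebraMap A A' (v i))) = ⊤ := by
  have h1 := KaehlerDifferential.span_range_map_derivation_of_isLocalization R A A'
    (Submonoid.powers a)
  rw [eq_top_iff, ← h1, Submodule.span_le]
  rintro _ ⟨x, rfl⟩
  have hx : D R A x ∈ Submodule.span A ((D R A) '' Set.range v) := by
    rw [SmoothRetract.span_D_of_adjoin_eq_top (R := R) _ hv]; exact Submodule.mem_top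
  show KaehlerDifferential.map R R A A' (D R A x) ∈
    Submodule.span A' (Set.range fun i => D R A' (algebraMap A A' (v i)))
  refine Submodule.span_induction (p := fun y _ => KaehlerDifferential.map R R A A' y ∈
    Submodule.span A' (Set.range fun i => D R A' (algebraMap A A' (v i)))) ?_ ?_ ?_ ?_ hx
  · rintro _ ⟨_, ⟨i, rfl⟩, rfl⟩
    rw [KaehlerDifferential.map_D]
    exact Submodule.subset_span ⟨i, rfl⟩
  · rw [map_zero]; exact zero_mem _
  · intro y z _ _ hy hz; rw [map_add]; exact add_mem hy hz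
  · intro r y _ hy
    rw [map_smul, ← algebraMap_smul A' r]
    exact Submodule.smul_mem _ _ hy

end Groth.Agent.Lib.Helper19.LocClear
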