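import Mathlib
import Groth.Prelude.Def_Smoothing
import Groth.Agent.S2026
import Groth.Agent.Lib.Helper19.JacData
import Groth.Agent.Lib.Helper19.LocClear

/-!
# Strictly standard elements: `A_a` is smooth with stably free differentials
-/

namespace Groth.Agent.Lib.Helper19.StrictStd

open MvPolynomial KaehlerDifferential Smoothing

universe u

/-- Jacobian data for given generators and relations. -/
theorem jacobian_data {R A : Type u} [CommRing R] [CommRing A] [Algebra R A] {n m : ℕ}
    (G : Algebra.Generators R A (Fin n)) (f : Fin m → G.Ring)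
    (hker : Ideal.span (Set.range f) = G.ker) :
    (∀ j, ∑ i, aeval G.val (pderiv i (f j)) • D R A (G.val i) = 0) ∧
    (∀ c : Fin n → A, ∑ i, c i • D R A (G.val i) = 0 →
      ∃ w : Fin m → A, ∀ i, c i = ∑ j, aeval G.val (pderiv i (f j)) * w j) := by
  classical
  let b := G.cotangentSpaceBasis
  have hex : Function.Exact G.toExtension.cotangentComplex G.toExtension.toKaehler :=
    G.toExtension.exact_cotangentComplex_toKaehler
  have hmem : ∀ j, f j ∈ G.toExtension.ker := fun j => by
    have h1 : f j ∈ Ideal.span (Set.range f) := Ideal.subset_span ⟨j, rfl⟩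
    rw [hker] at h1
    exact h1
  let g0 : Fin m → G.toExtension.Cotangent := fun j =>
    Algebra.Extension.Cotangent.mk (P := G.toExtension) ⟨f j, hmem j⟩
  let g : Fin m → G.toExtension.CotangentSpace := fun j => G.toExtension.cotangentComplex (g0 j)
  have hrepr : ∀ i j, b.repr (g j) i = aeval G.val (pderiv i (f j)) := by
    intro i j
    show b.repr (G.toExtension.cotangentComplex
      (Algebra.Extension.Cotangent.mk (P := G.toExtension) ⟨f j, hmem j⟩)) i = _
    rw [Algebra.Extension.cotangentComplex_mk]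
    exact G.cotangentSpaceBasis_repr_one_tmul (f j) i
  have htK : ∀ a : Fin n → A, G.toExtension.toKaehler (∑ i, a i • b i) =
      ∑ i, a i • D R A (G.val i) := by
    intro a
    rw [map_sum]
    refine Finset.sum_congr rfl fun i _ => ?_
    rw [map_smul, Algebra.Generators.toKaehler_cotangentSpaceBasis]
  have hspan : ∀ x : G.toExtension.Cotangent, x ∈ Submodule.span A (Set.range g0) :=
    JacData.cotangent_span G.toExtension f hker hmem
  refine ⟨fun j => ?_, fun c hc => ?_⟩
  · simp_rw [← hrepr]
    rw [← htK, b.sum_repr (g j)]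
    exact hex.apply_apply_eq_zero (g0 j)
  · rw [← htK] at hc
    obtain ⟨x, hx⟩ := (hex _).mp hc
    obtain ⟨w, hw⟩ := (Submodule.mem_span_range_iff_exists_fun A).mp (hspan x)
    refine ⟨w, fun i => ?_⟩
    have h1 : ∑ i, c i • b i = ∑ j, w j • g j := by
      rw [← hx, ← hw, map_sum]
      refine Finset.sum_congr rfl fun j _ => ?_
      rw [map_smul]
    have h2 : c i = b.repr (∑ j, w j • g j) i := by
      rw [← h1]; exact (congrFun (b.repr_sum_self c) i).symm
    rw [h2, map_sum, Finsupp.finsetSum_apply]
    refine Finset.sum_congr rfl fun j _ => ?_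
    rw [map_smul, Finsupp.smul_apply, smul_eq_mul, mul_comm, hrepr]

section Col

variable {R A : Type u} [CommRing R] [CommRing A] [Algebra R A] {n : ℕ}
  (φ : MvPolynomial (Fin n) R →ₐ[R] A)

/-- column vector of the images of the partial derivatives -/
noncomputable def col (x : MvPolynomial (Fin n) R) : Fin n → A := fun i => φ (pderiv i x)

lemma col_add (x y : MvPolynomial (Fin n) R) : col φ (x + y) = col φ x + col φ y := by
  funext i; simp [col]

lemma col_zero : col φ 0 = 0 := by funext i; simp [col]

lemma col_mul_of_ker (p y : MvPolynomial (Fin n) R) (hy : φ y = 0) :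
    col φ (p * y) = φ p • col φ y := by
  funext i
  simp only [col, Pi.smul_apply, smul_eq_mul]
  rw [Derivation.leibniz, map_add, smul_eq_mul, smul_eq_mul, map_mul, map_mul, hy, zero_mul,
    add_zero]

lemma col_eq_zero_of_mem_sq (K : Ideal (MvPolynomial (Fin n) R)) (hK : ∀ x ∈ K, φ x = 0)
    (w : MvPolynomial (Fin n) R) (hw : w ∈ K ^ 2) : col φ w = 0 := by
  rw [pow_two] at hw
  refine Submodule.mul_induction_on hw (fun u hu v hv => ?_) (fun x y hx hy => ?_)
  · rw [col_mul_of_ker φ u v (hK v hv), hK u hu, zero_smul]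
  · rw [col_add, hx, hy, add_zero]

lemma col_mem_of_mem_span (K : Ideal (MvPolynomial (Fin n) R)) (hK : ∀ x ∈ K, φ x = 0)
    (s : Set (MvPolynomial (Fin n) R)) (hs : s ⊆ K) (N : Submodule A (Fin n → A))
    (hN : ∀ x ∈ s, col φ x ∈ N) (y : MvPolynomial (Fin n) R) (hy : y ∈ Ideal.span s) :
    φ y = 0 ∧ col φ y ∈ N := by
  induction hy using Submodule.span_induction with
  | mem x hx => exact ⟨hK x (hs hx), hN x hx⟩
  | zero => exact ⟨map_zero _, by rw [col_zero]; exact zero_mem _⟩
  | add x y _ _ hx hy =>
    exact ⟨by rw [map_add, hx.1, hy.1, add_zero], by rw [col_add]; exact add_mem hx.2 hy.2⟩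
  | smul r x _ hx =>
    refine ⟨by rw [smul_eq_mul, map_mul, hx.1, mul_zero], ?_⟩
    rw [smul_eq_mul, col_mul_of_ker φ r x hx.1]
    exact Submodule.smul_mem _ _ hx.2

end Col

theorem tail_cols {R A : Type u} [CommRing R] [CommRing A] [Algebra R A]
    (P : MarkedPresentation R A) (a : A) (htail : KillsTail P a) (j : Fin P.m) :
    ∃ p : Fin P.c → A, ∀ i, a * P.hom (pderiv i (P.rel j)) =
      ∑ k, p k * P.hom (pderiv i (P.rel (Fin.castLE P.hcm k))) := by
  classical
  obtain ⟨a', ha'⟩ := P.surj a
  have hK : ∀ x ∈ Ideal.span (Set.range P.rel), P.hom x = 0 := fun x hx => by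
    have h1 : x ∈ RingHom.ker P.hom.toRingHom := by rw [P.ker_eq]; exact hx
    exact h1
  let N : Submodule A (Fin P.n → A) := Submodule.span A
    (Set.range fun k : Fin P.c => col P.hom (P.rel (Fin.castLE P.hcm k)))
  have hlead : P.rel '' {j' : Fin P.m | (j' : ℕ) < P.c} ⊆ Ideal.span (Set.range P.rel) := by
    rintro _ ⟨j', -, rfl⟩; exact Ideal.subset_span ⟨j', rfl⟩
  have hleadN : ∀ x ∈ P.rel '' {j' : Fin P.m | (j' : ℕ) < P.c}, col P.hom x ∈ N := by
    rintro _ ⟨j', hj', rfl⟩
    have e : Fin.castLE P.hcm ⟨j', hj'⟩ = j' := Fin.ext rfl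
    refine Submodule.subset_span ⟨⟨j', hj'⟩, ?_⟩
    show col P.hom (P.rel (Fin.castLE P.hcm ⟨j', hj'⟩)) = _
    rw [e]
  have hmem : a' * P.rel j ∈ Ideal.span (P.rel '' {j' : Fin P.m | (j' : ℕ) < P.c}) ⊔
      Ideal.span (Set.range P.rel) ^ 2 := by
    by_cases hj : P.c ≤ (j : ℕ)
    · exact htail a' ha' j hj
    · exact Ideal.mem_sup_left (Ideal.mul_mem_left _ _
        (Ideal.subset_span ⟨j, not_le.mp hj, rfl⟩))
  obtain ⟨y, hy, w, hw, hyw⟩ := Submodule.mem_sup.mp hmem
  have h1 : col P.hom (a' * P.rel j) ∈ N := by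
    rw [← hyw, col_add, col_eq_zero_of_mem_sq P.hom _ hK w hw, add_zero]
    exact (col_mem_of_mem_span P.hom _ hK _ hlead N hleadN y hy).2
  rw [col_mul_of_ker P.hom a' (P.rel j) (hK _ (Ideal.subset_span ⟨j, rfl⟩)), ha'] at h1
  obtain ⟨p, hp⟩ := (Submodule.mem_span_range_iff_exists_fun A).mp h1
  refine ⟨p, fun i => ?_⟩
  have h2 := congrFun hp i
  simp only [Finset.sum_apply, Pi.smul_apply, smul_eq_mul, col] at h2
  exact h2.symm

theorem stably_free {S Ω : Type u} [CommRing S] [AddCommGroup Ω] [Module S Ω] {n c : ℕ}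
    (d : Fin n → Ω) (hd : Submodule.span S (Set.range d) = ⊤) (J : Matrix (Fin n) (Fin c) S)
    (ha : ∀ k, ∑ i, J i k • d i = 0)
    (hb : ∀ x : Fin n → S, ∑ i, x i • d i = 0 → ∃ w : Fin c → S, ∀ i, x i = ∑ k, J i k * w k)
    (lam : (Fin c → Fin n) → S) (hlam : ∑ cols, lam cols * (J.submatrix cols id).det = 1) :
    Nonempty ((Ω × (Fin c → S)) ≃ₗ[S] (Fin n → S)) := by
  classical
  let π : (Fin n → S) →ₗ[S] Ω := Fintype.linearCombination S d
  have hπ : ∀ x, π x = ∑ i, x i • d i := fun x => Fintype.linearCombination_apply S d x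
  have hπsurj : Function.Surjective π := by
    rw [← LinearMap.range_eq_top, Fintype.range_linearCombination, hd]
  obtain ⟨L, hL⟩ : ∃ L : (Fin n → S) →ₗ[S] (Fin c → S), ∀ x, L x =
      ∑ cols : Fin c → Fin n, lam cols •
        (Matrix.adjugate (J.submatrix cols id)).mulVec (x ∘ cols) := by
    refine ⟨∑ cols : Fin c → Fin n, lam cols •
      ((Matrix.mulVecLin (Matrix.adjugate (J.submatrix cols id))) ∘ₗ
        (LinearMap.funLeft S S cols)), fun x => ?_⟩
    rw [LinearMap.sum_apply]
    rfl
  have hLJ : ∀ w, L (J.mulVec w) = w := by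
    intro w
    rw [hL]
    have h1 : ∀ cols : Fin c → Fin n, lam cols •
        (Matrix.adjugate (J.submatrix cols id)).mulVec ((J.mulVec w) ∘ cols) =
        (lam cols * (J.submatrix cols id).det) • w := by
      intro cols
      have h2 : (J.mulVec w) ∘ cols = (J.submatrix cols id).mulVec w := by
        funext l; rfl
      rw [h2, Matrix.mulVec_mulVec, Matrix.adjugate_mul, Matrix.smul_mulVec, Matrix.one_mulVec,
        smul_smul]
    simp_rw [h1]
    rw [← Finset.sum_smul, hlam, one_smul]
  have hπJ : ∀ w, π (J.mulVec w) = 0 := by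
    intro w
    rw [hπ]
    have h1 : ∀ i, (J.mulVec w) i • d i = ∑ k, w k • (J i k • d i) := by
      intro i
      show (∑ k, J i k * w k) • d i = _
      rw [Finset.sum_smul]
      refine Finset.sum_congr rfl fun k _ => ?_
      rw [mul_comm, mul_smul]
    simp_rw [h1]
    rw [Finset.sum_comm]
    refine Finset.sum_eq_zero fun k _ => ?_
    rw [← Finset.smul_sum, ha k, smul_zero]
  have hinj : Function.Injective (π.prod L) := by
    rw [injective_iff_map_eq_zero]
    intro x hx
    have h1 : π x = 0 := congrArg Prod.fst hx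
    have h2 : L x = 0 := congrArg Prod.snd hx
    rw [hπ] at h1
    obtain ⟨w, hw⟩ := hb x h1
    have h3 : x = J.mulVec w := funext fun i => hw i
    rw [h3, hLJ] at h2
    rw [h3, h2, Matrix.mulVec_zero]
  have hsurj : Function.Surjective (π.prod L) := by
    rintro ⟨ω, w⟩
    obtain ⟨x₀, hx₀⟩ := hπsurj ω
    refine ⟨x₀ + J.mulVec (w - L x₀), ?_⟩
    show (π (x₀ + J.mulVec (w - L x₀)), L (x₀ + J.mulVec (w - L x₀))) = (ω, w)
    rw [map_add, map_add, hπJ, hLJ, hx₀, add_zero, add_sub_cancel]
  exact ⟨(LinearEquiv.ofBijective (π.prod L) ⟨hinj, hsurj⟩).symm⟩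

theorem main {R A : Type u} [CommRing R] [CommRing A] [Algebra R A] (a : A)
    (ha : Smoothing.IsStrictlyStandard R A a) :
    Algebra.Smooth R (Localization.Away a) ∧ ∃ p q : ℕ,
      Nonempty ((Ω[Localization.Away a⁄R] × (Fin p → Localization.Away a))
        ≃ₗ[Localization.Away a] (Fin q → Localization.Away a)) := by
  classical
  obtain ⟨P, hmin, htail⟩ := id ha
  haveI : Algebra.FinitePresentation R A :=
    Algebra.FinitePresentation.of_surjective P.surj
      (by rw [P.ker_eq]; exact Submodule.fg_span (Set.finite_range _))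
  refine ⟨?_, P.c, P.n, ?_⟩
  · rw [← Algebra.basicOpen_subset_smoothLocus_iff_smooth]
    intro x hx
    by_contra hns
    have h1 : a ∈ Smoothing.singularIdeal R A := by
      rw [(Groth.Agent.S2026.result (R := R) (A := A)).1]
      exact Ideal.le_radical (Ideal.subset_span ha)
    have h2 := (PrimeSpectrum.mem_vanishingIdeal _ _).mp h1 x hns
    exact hx h2
  · have hsurjG : Function.Surjective (aeval (R := R) (fun i => P.hom (X i))) := by
      have h1 : aeval (R := R) (fun i => P.hom (X i)) = P.hom :=
        MvPolynomial.algHom_ext fun i => by rw [aeval_X]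
      rw [h1]; exact P.surj
    obtain ⟨G, hGval⟩ : ∃ G : Algebra.Generators R A (Fin P.n), G.val = fun i => P.hom (X i) :=
      ⟨Algebra.Generators.ofSurjective (fun i => P.hom (X i)) hsurjG, rfl⟩
    have hG : aeval (R := R) G.val = P.hom := by
      rw [hGval]
      exact MvPolynomial.algHom_ext fun i => by rw [aeval_X]
    have hkerG : Ideal.span (Set.range P.rel) = G.ker := by
      rw [G.ker_eq_ker_aeval_val, hG, ← P.ker_eq]; rfl
    obtain ⟨hJ1, hJ2⟩ := jacobian_data G P.rel hkerG
    simp only [hG] at hJ1 hJ2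
    have hv : Algebra.adjoin R (Set.range G.val) = ⊤ := by
      rw [Algebra.adjoin_range_eq_range_aeval]
      exact (AlgHom.range_eq_top _).mpr G.aeval_val_surjective
    -- localize
    have hspan' := LocClear.J3_loc (R := R) a (Localization.Away a) G.val hv
    have hJ1' := LocClear.J1_loc (R := R) (Localization.Away a) G.val
      (fun i j => P.hom (pderiv i (P.rel j))) hJ1
    have hJ2' := LocClear.J2_loc (R := R) a (Localization.Away a) G.val
      (fun i j => P.hom (pderiv i (P.rel j))) hJ2
    obtain ⟨u, hu⟩ : ∃ u : Localization.Away a, algebraMap A (Localization.Away a) a * u = 1 :=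
      ⟨IsLocalization.Away.invSelf a, IsLocalization.Away.mul_invSelf a⟩
    -- tail columns
    have hF4 : ∀ j, ∃ p' : Fin P.c → Localization.Away a, ∀ i,
        algebraMap A (Localization.Away a) (P.hom (pderiv i (P.rel j))) =
          ∑ k, algebraMap A (Localization.Away a)
            (P.hom (pderiv i (P.rel (Fin.castLE P.hcm k)))) * p' k := by
      intro j
      obtain ⟨p, hp⟩ := tail_cols P a htail j
      refine ⟨fun k => u * algebraMap A (Localization.Away a) (p k), fun i => ?_⟩
      have h1 := congrArg (algebraMap A (Localization.Away a)) (hp i)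
      rw [map_mul, map_sum] at h1
      have h2 : ∀ k, algebraMap A (Localization.Away a)
          (P.hom (pderiv i (P.rel (Fin.castLE P.hcm k)))) *
            (u * algebraMap A (Localization.Away a) (p k)) =
          u * algebraMap A (Localization.Away a)
            (p k * P.hom (pderiv i (P.rel (Fin.castLE P.hcm k)))) := fun k => by
        rw [map_mul]; ring
      simp_rw [h2]
      rw [← Finset.mul_sum, ← h1, ← mul_assoc, mul_comm u, hu, one_mul]
    choose p' hp' using hF4
    -- minors
    obtain ⟨lam, hlam⟩ := Ideal.mem_span_range_iff_exists_fun.mp hmin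
    obtain ⟨Jc, hJc⟩ : ∃ Jc : Matrix (Fin P.n) (Fin P.c) (Localization.Away a), ∀ i k,
        Jc i k = algebraMap A (Localization.Away a)
          (P.hom (pderiv i (P.rel (Fin.castLE P.hcm k)))) := ⟨Matrix.of fun i k => _, fun _ _ => rfl⟩
    have hminor : ∀ cols : Fin P.c → Fin P.n, algebraMap A (Localization.Away a)
        (P.hom (jacobianMinor P.rel (Fin.castLE P.hcm) cols)) = (Jc.submatrix cols id).det := by
      intro cols
      rw [← Matrix.det_transpose, jacobianMinor]
      have h1 : algebraMap A (Localization.Away a) (P.hom (Matrix.det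
          (Matrix.of fun j k : Fin P.c => pderiv (cols k) (P.rel (Fin.castLE P.hcm j))))) =
          ((algebraMap A (Localization.Away a)).comp (P.hom : _ →+* A)) (Matrix.det
          (Matrix.of fun j k : Fin P.c => pderiv (cols k) (P.rel (Fin.castLE P.hcm j)))) := rfl
      rw [h1, RingHom.map_det]
      congr 1
      ext j k
      rw [Matrix.transpose_apply, Matrix.submatrix_apply, hJc]
      rfl
    refine stably_free (S := Localization.Away a) (Ω := Ω[Localization.Away a⁄R])
      (fun i => D R (Localization.Away a) (algebraMap A (Localization.Away a) (G.val i)))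
      hspan' Jc (fun k => ?_) (fun x hx => ?_)
      (fun cols => u * algebraMap A (Localization.Away a) (lam cols)) ?_
    · simp_rw [hJc]
      exact hJ1' (Fin.castLE P.hcm k)
    · obtain ⟨w', hw'⟩ := hJ2' x hx
      refine ⟨fun k => ∑ j, p' j k * w' j, fun i => ?_⟩
      rw [hw' i]
      have h3 : ∀ j, algebraMap A (Localization.Away a) (P.hom (pderiv i (P.rel j))) * w' j =
          ∑ k, Jc i k * (p' j k * w' j) := fun j => by
        rw [hp' j i, Finset.sum_mul]
        refine Finset.sum_congr rfl fun k _ => ?_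
        rw [hJc]; ring
      simp_rw [h3]
      rw [Finset.sum_comm]
      refine Finset.sum_congr rfl fun k _ => ?_
      rw [Finset.mul_sum]
    · have h1 := congrArg (algebraMap A (Localization.Away a)) hlam
      rw [map_sum] at h1
      have h2 : ∀ cols : Fin P.c → Fin P.n,
          u * algebraMap A (Localization.Away a) (lam cols) * (Jc.submatrix cols id).det =
          u * algebraMap A (Localization.Away a)
            (lam cols * P.hom (jacobianMinor P.rel (Fin.castLE P.hcm) cols)) := fun cols => by
        rw [map_mul, hminor]; ring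
      simp_rw [h2]
      rw [← Finset.mul_sum, h1, mul_comm, hu]

end Groth.Agent.Lib.Helper19.StrictStd
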