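import Mathlib

/-!
# Splitting of the first fundamental sequence, and transport of freeness of differentials
-/

namespace Groth.Agent.Lib.Helper19.KaehlerSplit

open KaehlerDifferential TensorProduct

/-- For `B` formally smooth over `A`, the first fundamental sequence is split exact. -/
theorem nonempty_kaehler_prod {R A B : Type*} [CommRing R] [CommRing A] [CommRing B]
    [Algebra R A] [Algebra R B] [Algebra A B] [IsScalarTower R A B]
    [Algebra.FormallySmooth A B] :
    Nonempty (Ω[B⁄R] ≃ₗ[B] (B ⊗[A] Ω[A⁄R]) × Ω[B⁄A]) := by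
  have hex : Function.Exact (mapBaseChange R A B) (KaehlerDifferential.map R A B B) :=
    KaehlerDifferential.exact_mapBaseChange_map R A B
  have hsurj : Function.Surjective (KaehlerDifferential.map R A B B) :=
    KaehlerDifferential.map_surjective R A B
  have hinj : Function.Injective (mapBaseChange R A B) := by
    rw [injective_iff_map_eq_zero]
    intro x hx
    obtain ⟨y, rfl⟩ := (Algebra.H1Cotangent.exact_δ_mapBaseChange R A B x).mp hx
    rw [Subsingleton.elim y 0, map_zero]
  obtain ⟨l, hl⟩ := Module.projective_lifting_property (KaehlerDifferential.map R A B B)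
    LinearMap.id hsurj
  exact ⟨(hex.splitSurjectiveEquiv hinj ⟨l, hl⟩).1⟩

/-- Freeness of the module of differentials is invariant under algebra isomorphisms. -/
theorem free_kaehler_of_algEquiv {R S S' : Type*} [CommRing R] [CommRing S] [CommRing S']
    [Algebra R S] [Algebra R S'] (e : S ≃ₐ[R] S') [Module.Free S Ω[S⁄R]] :
    Module.Free S' Ω[S'⁄R] := by
  letI : Algebra S S' := e.toAlgHom.toRingHom.toAlgebra
  haveI : IsScalarTower R S S' := IsScalarTower.of_algebraMap_eq (fun r => (e.commutes r).symm)
  letI : Algebra S' S := e.symm.toAlgHom.toRingHom.toAlgebra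
  haveI : IsScalarTower R S' S :=
    IsScalarTower.of_algebraMap_eq (fun r => (e.symm.commutes r).symm)
  let α : Ω[S⁄R] →ₗ[S] Ω[S'⁄R] := KaehlerDifferential.map R R S S'
  let β : Ω[S'⁄R] →ₗ[S'] Ω[S⁄R] := KaehlerDifferential.map R R S' S
  let σ : S →+* S' := e
  let σ' : S' →+* S := e.symm
  haveI : RingHomInvPair σ σ' := ⟨by ext; simp [σ, σ'], by ext; simp [σ, σ']⟩
  haveI : RingHomInvPair σ' σ := ⟨by ext; simp [σ, σ'], by ext; simp [σ, σ']⟩
  have hαs : ∀ (s : S) (x : Ω[S⁄R]), α (s • x) = σ s • α x := fun s x => by
    rw [map_smul]; exact (algebraMap_smul S' s (α x)).symm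
  have hβs : ∀ (s' : S') (y : Ω[S'⁄R]), β (s' • y) = σ' s' • β y := fun s' y => by
    rw [map_smul]; exact (algebraMap_smul S s' (β y)).symm
  have hβα : ∀ x, β (α x) = x := by
    intro x
    have hx : x ∈ Submodule.span S (Set.range (D R S)) := by
      rw [KaehlerDifferential.span_range_derivation]; trivial
    refine Submodule.span_induction (p := fun x _ => β (α x) = x) ?_ ?_ ?_ ?_ hx
    · rintro _ ⟨s, rfl⟩
      show β (KaehlerDifferential.map R R S S' (D R S s)) = _
      rw [KaehlerDifferential.map_D]
      show KaehlerDifferential.map R R S' S (D R S' (e s)) = _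
      rw [KaehlerDifferential.map_D]
      show D R S (e.symm (e s)) = _
      rw [e.symm_apply_apply]
    · simp
    · intro x y _ _ hx hy; rw [map_add, map_add, hx, hy]
    · intro s x _ hx
      rw [hαs, hβs, hx]
      simp [σ, σ']
  have hαβ : ∀ y, α (β y) = y := by
    intro y
    have hy : y ∈ Submodule.span S' (Set.range (D R S')) := by
      rw [KaehlerDifferential.span_range_derivation]; trivial
    refine Submodule.span_induction (p := fun y _ => α (β y) = y) ?_ ?_ ?_ ?_ hy
    · rintro _ ⟨s, rfl⟩
      show α (KaehlerDifferential.map R R S' S (D R S' s)) = _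
      rw [KaehlerDifferential.map_D]
      show KaehlerDifferential.map R R S S' (D R S (e.symm s)) = _
      rw [KaehlerDifferential.map_D]
      show D R S' (e (e.symm s)) = _
      rw [e.apply_symm_apply]
    · simp
    · intro x y _ _ hx hy; rw [map_add, map_add, hx, hy]
    · intro s x _ hx
      rw [hβs, hαs, hx]
      simp [σ, σ']
  let E : Ω[S⁄R] ≃ₛₗ[σ] Ω[S'⁄R] :=
    { toFun := α
      map_add' := α.map_add
      map_smul' := hαs
      invFun := β
      left_inv := hβα
      right_inv := hαβ }
  exact Module.Free.of_equiv E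

end Groth.Agent.Lib.Helper19.KaehlerSplit
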