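import Mathlib
import Groth.Agent.Lib.Helper19.SmoothRetract

/-!
# Differentials of the vector bundle `B0 E` of a split surjection `κ : Aᵐ → N`

With `E` the matrix of the idempotent `s ∘ κ`, `Ω[B0 E / A] ≅ B0 E ⊗[A] N`.
-/

namespace Groth.Agent.Lib.Helper19.VBundle

open MvPolynomial KaehlerDifferential TensorProduct
open Groth.Agent.Lib.Helper19.SmoothRetract

universe u

variable {A : Type u} [CommRing A] {m : ℕ} {N : Type u} [AddCommGroup N] [Module A N]
  (κ : (Fin m → A) →ₗ[A] N) (s : N →ₗ[A] (Fin m → A))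

/-- The matrix of `s ∘ κ`. -/
def matE : Fin m → Fin m → A := fun i j => s (κ (Pi.single j 1)) i

lemma eps_apply (v : Fin m → A) (k : Fin m) : s (κ v) k = ∑ i, matE κ s k i * v i := by
  classical
  have hv : v = ∑ i, v i • (Pi.single i 1 : Fin m → A) := by
    ext j
    rw [Finset.sum_apply, Finset.sum_eq_single j]
    · simp
    · intro i _ hij; simp [Pi.single_apply, Ne.symm hij]
    · intro h; exact absurd (Finset.mem_univ j) h
  conv_lhs => rw [hv]
  rw [map_sum, map_sum, Finset.sum_apply]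
  refine Finset.sum_congr rfl fun i _ => ?_
  rw [map_smul, map_smul, Pi.smul_apply, smul_eq_mul, mul_comm]
  rfl

lemma matE_idem (hκs : ∀ n, κ (s n) = n) (k j : Fin m) :
    ∑ i, matE κ s k i * matE κ s i j = matE κ s k j := by
  rw [← eps_apply κ s (fun i => matE κ s i j) k]
  show s (κ (s (κ (Pi.single j 1)))) k = s (κ (Pi.single j 1)) k
  rw [hκs]

lemma sum_matE_smul_single (j : Fin m) :
    ∑ k, matE κ s k j • (Pi.single k 1 : Fin m → A) = s (κ (Pi.single j 1)) := by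
  classical
  ext i
  rw [Finset.sum_apply, Finset.sum_eq_single i]
  · simp [matE]
  · intro k _ hki; simp [Pi.single_apply, Ne.symm hki]
  · intro h; exact absurd (Finset.mem_univ i) h

lemma adjoin_ybar (E : Fin m → Fin m → A) :
    Algebra.adjoin A (Set.range (ybar E)) = ⊤ := by
  rw [eq_top_iff]
  rintro b -
  obtain ⟨p, rfl⟩ := Ideal.Quotient.mk_surjective b
  induction p using MvPolynomial.induction_on with
  | C a => exact Subalgebra.algebraMap_mem _ a
  | add p q hp hq => rw [map_add]; exact add_mem hp hq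
  | mul_X p i hp => rw [map_mul]; exact mul_mem hp (Algebra.subset_adjoin ⟨i, rfl⟩)

variable (hκs : ∀ n, κ (s n) = n)

/-- The linear map `z ↦ ∑ₖ zₖ • (1 ⊗ κ eₖ)`. -/
noncomputable def Lam : (Fin m → B0 (matE κ s)) →ₗ[B0 (matE κ s)] (B0 (matE κ s)) ⊗[A] N :=
  Fintype.linearCombination (B0 (matE κ s))
    (fun k => (1 : B0 (matE κ s)) ⊗ₜ[A] κ (Pi.single k 1))

/-- The forward map `Ω[B0 E / A] → B0 E ⊗ N`. -/
noncomputable def fwd : Ω[B0 (matE κ s)⁄A] →ₗ[B0 (matE κ s)] (B0 (matE κ s)) ⊗[A] N :=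
  ((Lam κ s).compDer (d2 (matE_idem κ s hκs))).liftKaehlerDifferential

/-- The backward map on `N`. -/
noncomputable def bwd0 : N →ₗ[A] Ω[B0 (matE κ s)⁄A] :=
  (Fintype.linearCombination A
    (fun j => D A (B0 (matE κ s)) (ybar (matE κ s) j))) ∘ₗ s

/-- The backward map `B0 E ⊗ N → Ω[B0 E / A]`. -/
noncomputable def bwd : (B0 (matE κ s)) ⊗[A] N →ₗ[B0 (matE κ s)] Ω[B0 (matE κ s)⁄A] :=
  (bwd0 κ s).liftBaseChange (B0 (matE κ s))

lemma one_tmul_smul (x : A) (n : N) :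
    algebraMap A (B0 (matE κ s)) x • ((1 : B0 (matE κ s)) ⊗ₜ[A] n) =
      (1 : B0 (matE κ s)) ⊗ₜ[A] (x • n) := by
  rw [TensorProduct.smul_tmul', smul_eq_mul, mul_one, Algebra.algebraMap_eq_smul_one,
    TensorProduct.smul_tmul]

include hκs in
lemma fwd_D_ybar (j : Fin m) :
    fwd κ s hκs (D A (B0 (matE κ s)) (ybar (matE κ s) j)) =
      (1 : B0 (matE κ s)) ⊗ₜ[A] κ (Pi.single j 1) := by
  have h1 : fwd κ s hκs (D A (B0 (matE κ s)) (ybar (matE κ s) j)) =
      Lam κ s (d2 (matE_idem κ s hκs) (ybar (matE κ s) j)) :=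
    Derivation.liftKaehlerDifferential_comp_D _ _
  rw [h1, Lam, Fintype.linearCombination_apply]
  simp_rw [d2_ybar, one_tmul_smul]
  rw [← TensorProduct.tmul_sum]
  congr 1
  simp_rw [← map_smul]
  rw [← map_sum, sum_matE_smul_single, hκs]

lemma bwd_one_tmul (n : N) :
    bwd κ s ((1 : B0 (matE κ s)) ⊗ₜ[A] n) =
      ∑ j, s n j • D A (B0 (matE κ s)) (ybar (matE κ s) j) := by
  rw [bwd, LinearMap.liftBaseChange_tmul, one_smul, bwd0, LinearMap.comp_apply,
    Fintype.linearCombination_apply]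

lemma D_ybar_eq (j : Fin m) :
    D A (B0 (matE κ s)) (ybar (matE κ s) j) =
      ∑ i, matE κ s i j • D A (B0 (matE κ s)) (ybar (matE κ s) i) := by
  conv_lhs => rw [ybar_eq (matE κ s) j]
  rw [map_sum]
  refine Finset.sum_congr rfl fun i _ => ?_
  rw [← Algebra.smul_def, Derivation.map_smul]

lemma sum_smul_single (v : Fin m → A) : ∑ k, v k • (Pi.single k 1 : Fin m → A) = v := by
  classical
  ext i
  rw [Finset.sum_apply, Finset.sum_eq_single i]
  · simp
  · intro k _ hki; simp [Pi.single_apply, Ne.symm hki]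
  · intro h; exact absurd (Finset.mem_univ i) h

include hκs in
lemma bwd_comp_fwd : (bwd κ s) ∘ₗ (fwd κ s hκs) = LinearMap.id := by
  apply Derivation.liftKaehlerDifferential_unique
  refine Derivation.ext_of_adjoin_eq_top (Set.range (ybar (matE κ s))) (adjoin_ybar _) ?_
  rintro _ ⟨j, rfl⟩
  show bwd κ s (fwd κ s hκs (D A _ (ybar (matE κ s) j))) = D A _ (ybar (matE κ s) j)
  rw [fwd_D_ybar, bwd_one_tmul]
  exact (D_ybar_eq κ s j).symm

include hκs in
lemma fwd_bwd_one_tmul (n : N) :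
    fwd κ s hκs (bwd κ s ((1 : B0 (matE κ s)) ⊗ₜ[A] n)) = (1 : B0 (matE κ s)) ⊗ₜ[A] n := by
  rw [bwd_one_tmul, map_sum]
  have h : ∀ j, fwd κ s hκs (s n j • D A (B0 (matE κ s)) (ybar (matE κ s) j)) =
      (1 : B0 (matE κ s)) ⊗ₜ[A] (s n j • κ (Pi.single j 1)) := by
    intro j
    rw [← algebraMap_smul (B0 (matE κ s)) (s n j), map_smul, fwd_D_ybar, one_tmul_smul]
  simp_rw [h]
  rw [← TensorProduct.tmul_sum]
  congr 1
  simp_rw [← map_smul]
  rw [← map_sum, sum_smul_single, hκs]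

include hκs in
lemma fwd_comp_bwd : (fwd κ s hκs) ∘ₗ (bwd κ s) = LinearMap.id := by
  refine TensorProduct.AlgebraTensorModule.ext fun b n => ?_
  have hb : b ⊗ₜ[A] n = b • ((1 : B0 (matE κ s)) ⊗ₜ[A] n) := by
    rw [TensorProduct.smul_tmul', smul_eq_mul, mul_one]
  rw [hb, map_smul, LinearMap.comp_apply, fwd_bwd_one_tmul κ s hκs n, LinearMap.id_apply]

/-- `Ω[B0 E / A] ≃ B0 E ⊗[A] N`. -/
noncomputable def kaehlerEquiv :
    Ω[B0 (matE κ s)⁄A] ≃ₗ[B0 (matE κ s)] (B0 (matE κ s)) ⊗[A] N :=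
  LinearEquiv.ofLinearMap (fwd κ s hκs) (bwd κ s) (fwd_comp_bwd κ s hκs) (bwd_comp_fwd κ s hκs)

end Groth.Agent.Lib.Helper19.VBundle
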