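import Mathlib
import Groth.Agent.Lib.Helper19.SmoothRetract
import Groth.Agent.Lib.Helper19.VBundle
import Groth.Agent.Lib.Helper19.KaehlerSplit
import Groth.Agent.Lib.Helper19.JacData
import Groth.Agent.Lib.Helper19.LocClear

/-!
# A finitely presented algebra is a retract of a finite type algebra whose differentials are
free over the smooth locus (Stacks 07CH-style)

`C = Sym_A(im Jac) = A[y₁..yₘ]/(∑ cⱼ yⱼ : c ∈ ker Jac)`.  Over a principal open `D(a)` on which
`A` is smooth, `C_a` is the symmetric algebra of the (projective) conormal module `N`, and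
`Ω[C_a/R] ≅ C_a ⊗ (Ω[A_a/R] ⊕ N) ≅ C_aⁿ`.
-/

namespace Groth.Agent.Lib.Helper19.RetractFree

open MvPolynomial KaehlerDifferential TensorProduct
open Groth.Agent.Lib.Helper19.SmoothRetract

universe u

section Cw

variable {A : Type u} [CommRing A] {m : ℕ}

/-- The linear form `∑ cⱼ yⱼ`. -/
noncomputable def linForm (c : Fin m → A) : MvPolynomial (Fin m) A := ∑ j, C (c j) * X j

/-- The ideal generated by the linear forms with coefficient vectors in `W`. -/
noncomputable def idealW (W : Set (Fin m → A)) : Ideal (MvPolynomial (Fin m) A) :=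
  Ideal.span (linForm '' W)

/-- `A[y]/(∑ cⱼ yⱼ : c ∈ W)`. -/
abbrev Cw (W : Set (Fin m → A)) := MvPolynomial (Fin m) A ⧸ idealW W

/-- The zero section. -/
noncomputable def retr (W : Set (Fin m → A)) : Cw W →ₐ[A] A :=
  Ideal.Quotient.liftₐ (idealW W) (aeval (fun _ => (0 : A))) (fun p hp => by
    have h : idealW W ≤ RingHom.ker (aeval (R := A) (fun _ : Fin m => (0 : A))).toRingHom :=
      Ideal.span_le.mpr (by
        rintro _ ⟨c, -, rfl⟩
        simp [linForm, RingHom.mem_ker])
    exact h hp)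

lemma finiteType_Cw (W : Set (Fin m → A)) : Algebra.FiniteType A (Cw W) :=
  Algebra.FiniteType.of_surjective (Ideal.Quotient.mkₐ A (idealW W))
    (Ideal.Quotient.mkₐ_surjective A _)

end Cw

section PartC

variable {A : Type u} [CommRing A] {m : ℕ} (W : Set (Fin m → A)) (a : A)
  (E : Fin m → Fin m → Localization.Away a)

/-- `C_a`. -/
abbrev Ca := Localization.Away (algebraMap A (Cw W) a)

/-- `A[y] → B0 E`. -/
noncomputable def phi0 : MvPolynomial (Fin m) A →+* B0 E :=
  eval₂Hom ((algebraMap (Localization.Away a) (B0 E)).comp (algebraMap A (Localization.Away a)))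
    (ybar E)

lemma phi0_C (x : A) :
    phi0 a E (C x) = algebraMap (Localization.Away a) (B0 E) (algebraMap A _ x) := by
  rw [phi0, eval₂Hom_C]; rfl

lemma phi0_X (j : Fin m) : phi0 a E (X j) = ybar E j := by
  rw [phi0, eval₂Hom_X']

variable {W a E}

lemma phi0_linForm_eq_zero
    (hW1 : ∀ c ∈ W, ∀ k, ∑ i, E k i * algebraMap A (Localization.Away a) (c i) = 0)
    (c : Fin m → A) (hc : c ∈ W) : phi0 a E (linForm c) = 0 := by
  rw [linForm, map_sum]
  have h1 : ∀ j, phi0 a E (C (c j) * X j) =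
      ∑ i, algebraMap (Localization.Away a) (B0 E) (E i j * algebraMap A _ (c j)) *
        ybar E i := by
    intro j
    rw [map_mul, phi0_C, phi0_X]
    conv_lhs => rw [ybar_eq E j]
    rw [Finset.mul_sum]
    refine Finset.sum_congr rfl fun i _ => ?_
    rw [map_mul]; ring
  simp_rw [h1]
  rw [Finset.sum_comm]
  refine Finset.sum_eq_zero fun i _ => ?_
  rw [← Finset.sum_mul, ← map_sum, hW1 c hc i, map_zero, zero_mul]

lemma phi0_mem (hW1 : ∀ c ∈ W, ∀ k, ∑ i, E k i * algebraMap A (Localization.Away a) (c i) = 0)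
    (p : MvPolynomial (Fin m) A) (hp : p ∈ idealW W) : phi0 a E p = 0 := by
  have h : idealW W ≤ RingHom.ker (phi0 a E) :=
    Ideal.span_le.mpr (by
      rintro _ ⟨c, hc, rfl⟩
      exact phi0_linForm_eq_zero hW1 c hc)
  exact h hp

/-- `C → B0 E`. -/
noncomputable def phi
    (hW1 : ∀ c ∈ W, ∀ k, ∑ i, E k i * algebraMap A (Localization.Away a) (c i) = 0) :
    Cw W →+* B0 E :=
  Ideal.Quotient.lift (idealW W) (phi0 a E) (phi0_mem hW1)

lemma phi_mk (hW1 : ∀ c ∈ W, ∀ k, ∑ i, E k i * algebraMap A (Localization.Away a) (c i) = 0)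
    (p : MvPolynomial (Fin m) A) :
    phi hW1 (Ideal.Quotient.mk (idealW W) p) = phi0 a E p := rfl

lemma phi_algebraMap
    (hW1 : ∀ c ∈ W, ∀ k, ∑ i, E k i * algebraMap A (Localization.Away a) (c i) = 0) (x : A) :
    phi hW1 (algebraMap A (Cw W) x) =
      algebraMap (Localization.Away a) (B0 E) (algebraMap A _ x) :=
  phi0_C a E x

lemma isUnit_phi
    (hW1 : ∀ c ∈ W, ∀ k, ∑ i, E k i * algebraMap A (Localization.Away a) (c i) = 0) :
    IsUnit (phi hW1 (algebraMap A (Cw W) a)) := by
  rw [phi_algebraMap]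
  exact (IsLocalization.Away.algebraMap_isUnit (S := Localization.Away a) a).map _

/-- `C_a → B0 E`. -/
noncomputable def Fhom
    (hW1 : ∀ c ∈ W, ∀ k, ∑ i, E k i * algebraMap A (Localization.Away a) (c i) = 0) :
    Ca W a →+* B0 E :=
  IsLocalization.Away.lift (algebraMap A (Cw W) a) (isUnit_phi hW1)

lemma Fhom_algebraMap
    (hW1 : ∀ c ∈ W, ∀ k, ∑ i, E k i * algebraMap A (Localization.Away a) (c i) = 0)
    (x : Cw W) : Fhom hW1 (algebraMap (Cw W) (Ca W a) x) = phi hW1 x :=
  IsLocalization.Away.lift_eq _ _ _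

variable (W a)

/-- `A_a → C_a`. -/
noncomputable def psi0 : Localization.Away a →+* Ca W a :=
  IsLocalization.Away.lift a (g := (algebraMap (Cw W) (Ca W a)).comp (algebraMap A (Cw W)))
    (IsLocalization.Away.algebraMap_isUnit (S := Ca W a) (algebraMap A (Cw W) a))

lemma psi0_algebraMap (x : A) :
    psi0 W a (algebraMap A _ x) = algebraMap (Cw W) (Ca W a) (algebraMap A (Cw W) x) :=
  IsLocalization.Away.lift_eq _ _ _

/-- `A_a[y] → C_a`. -/
noncomputable def psi1 : MvPolynomial (Fin m) (Localization.Away a) →+* Ca W a :=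
  eval₂Hom (psi0 W a)
    (fun j => algebraMap (Cw W) (Ca W a) (Ideal.Quotient.mk (idealW W) (X j)))

lemma psi1_C (r : Localization.Away a) : psi1 W a (C r) = psi0 W a r := by
  rw [psi1, eval₂Hom_C]

lemma psi1_X (j : Fin m) :
    psi1 W a (X j) = algebraMap (Cw W) (Ca W a) (Ideal.Quotient.mk (idealW W) (X j)) := by
  rw [psi1, eval₂Hom_X']

variable {W a}

lemma key_poly (j : Fin m) (k : ℕ) (c : Fin m → A)
    (hc : ∀ i, algebraMap A (Localization.Away a) (c i) =
      algebraMap A (Localization.Away a) a ^ k *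
        ((Pi.single j 1 : Fin m → Localization.Away a) i - E i j)) :
    linForm (fun i => algebraMap A (Localization.Away a) (c i)) =
      C (algebraMap A (Localization.Away a) a ^ k) * relL E j := by
  classical
  have hX : (X j : MvPolynomial (Fin m) (Localization.Away a)) =
      ∑ i, C ((Pi.single j 1 : Fin m → Localization.Away a) i) * X i := by
    rw [Finset.sum_eq_single j]
    · rw [Pi.single_eq_same, C_1, one_mul]
    · intro i _ hij; rw [Pi.single_eq_of_ne hij, C_0, zero_mul]
    · intro h; exact absurd (Finset.mem_univ j) h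
  unfold linForm relL
  conv_rhs => rw [hX]
  rw [← Finset.sum_sub_distrib, Finset.mul_sum]
  refine Finset.sum_congr rfl fun i _ => ?_
  show C (algebraMap A (Localization.Away a) (c i)) * X i = _
  rw [hc i, C_mul, C_sub]
  ring

lemma psi1_relL
    (hW2 : ∀ j, ∃ (k : ℕ) (c : Fin m → A), c ∈ W ∧
      ∀ i, algebraMap A (Localization.Away a) (c i) =
        algebraMap A (Localization.Away a) a ^ k *
          ((Pi.single j 1 : Fin m → Localization.Away a) i - E i j)) (j : Fin m) :
    psi1 W a (relL E j) = 0 := by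
  obtain ⟨k, c, hcW, hc⟩ := hW2 j
  have h1 : psi1 W a (linForm (fun i => algebraMap A (Localization.Away a) (c i))) = 0 := by
    have h2 : psi1 W a (linForm fun i => algebraMap A (Localization.Away a) (c i)) =
        algebraMap (Cw W) (Ca W a) (Ideal.Quotient.mk (idealW W) (linForm c)) := by
      unfold linForm
      rw [map_sum, map_sum, map_sum]
      refine Finset.sum_congr rfl fun i _ => ?_
      rw [map_mul, map_mul, map_mul, psi1_C, psi1_X, psi0_algebraMap]
      rfl
    have hmem : linForm c ∈ idealW W := Ideal.subset_span (Set.mem_image_of_mem _ hcW)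
    rw [h2, Ideal.Quotient.eq_zero_iff_mem.mpr hmem, map_zero]
  rw [key_poly j k c hc, map_mul] at h1
  have hu : IsUnit (psi1 W a (C (algebraMap A (Localization.Away a) a ^ k))) := by
    rw [psi1_C, map_pow, psi0_algebraMap]
    exact (IsLocalization.Away.algebraMap_isUnit (S := Ca W a) (algebraMap A (Cw W) a)).pow k
  exact hu.mul_right_eq_zero.mp h1

lemma psi1_mem
    (hW2 : ∀ j, ∃ (k : ℕ) (c : Fin m → A), c ∈ W ∧
      ∀ i, algebraMap A (Localization.Away a) (c i) =
        algebraMap A (Localization.Away a) a ^ k *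
          ((Pi.single j 1 : Fin m → Localization.Away a) i - E i j))
    (p : MvPolynomial (Fin m) (Localization.Away a)) (hp : p ∈ idealL E) : psi1 W a p = 0 := by
  have h : idealL E ≤ RingHom.ker (psi1 W a) :=
    Ideal.span_le.mpr (by
      rintro _ ⟨j, rfl⟩
      exact psi1_relL hW2 j)
  exact h hp

/-- `B0 E → C_a`. -/
noncomputable def Ghom
    (hW2 : ∀ j, ∃ (k : ℕ) (c : Fin m → A), c ∈ W ∧
      ∀ i, algebraMap A (Localization.Away a) (c i) =
        algebraMap A (Localization.Away a) a ^ k *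
          ((Pi.single j 1 : Fin m → Localization.Away a) i - E i j)) :
    B0 E →+* Ca W a :=
  Ideal.Quotient.lift (idealL E) (psi1 W a) (psi1_mem hW2)

lemma Ghom_mk
    (hW2 : ∀ j, ∃ (k : ℕ) (c : Fin m → A), c ∈ W ∧
      ∀ i, algebraMap A (Localization.Away a) (c i) =
        algebraMap A (Localization.Away a) a ^ k *
          ((Pi.single j 1 : Fin m → Localization.Away a) i - E i j))
    (p : MvPolynomial (Fin m) (Localization.Away a)) :
    Ghom hW2 (Ideal.Quotient.mk (idealL E) p) = psi1 W a p := rfl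

lemma F_comp_G
    (hW1 : ∀ c ∈ W, ∀ k, ∑ i, E k i * algebraMap A (Localization.Away a) (c i) = 0)
    (hW2 : ∀ j, ∃ (k : ℕ) (c : Fin m → A), c ∈ W ∧
      ∀ i, algebraMap A (Localization.Away a) (c i) =
        algebraMap A (Localization.Away a) a ^ k *
          ((Pi.single j 1 : Fin m → Localization.Away a) i - E i j)) :
    (Fhom hW1).comp (Ghom hW2) = RingHom.id (B0 E) := by
  have h : (Fhom hW1).comp (psi0 W a) = algebraMap (Localization.Away a) (B0 E) := by
    refine IsLocalization.ringHom_ext (Submonoid.powers a) (RingHom.ext fun x => ?_)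
    show Fhom hW1 (psi0 W a (algebraMap A (Localization.Away a) x)) =
      algebraMap (Localization.Away a) (B0 E) (algebraMap A (Localization.Away a) x)
    rw [psi0_algebraMap, Fhom_algebraMap, phi_algebraMap]
  refine Ideal.Quotient.ringHom_ext (MvPolynomial.ringHom_ext (fun r => ?_) (fun j => ?_))
  · show Fhom hW1 (Ghom hW2 (Ideal.Quotient.mk (idealL E) (C r))) =
      Ideal.Quotient.mk (idealL E) (C r)
    rw [Ghom_mk, psi1_C]
    exact RingHom.congr_fun h r
  · show Fhom hW1 (Ghom hW2 (Ideal.Quotient.mk (idealL E) (X j))) =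
      Ideal.Quotient.mk (idealL E) (X j)
    rw [Ghom_mk, psi1_X, Fhom_algebraMap, phi_mk, phi0_X]
    rfl

lemma G_comp_F
    (hW1 : ∀ c ∈ W, ∀ k, ∑ i, E k i * algebraMap A (Localization.Away a) (c i) = 0)
    (hW2 : ∀ j, ∃ (k : ℕ) (c : Fin m → A), c ∈ W ∧
      ∀ i, algebraMap A (Localization.Away a) (c i) =
        algebraMap A (Localization.Away a) a ^ k *
          ((Pi.single j 1 : Fin m → Localization.Away a) i - E i j)) :
    (Ghom hW2).comp (Fhom hW1) = RingHom.id (Ca W a) := by
  refine IsLocalization.ringHom_ext (Submonoid.powers (algebraMap A (Cw W) a)) ?_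
  refine Ideal.Quotient.ringHom_ext (MvPolynomial.ringHom_ext (fun x => ?_) (fun j => ?_))
  · show Ghom hW2 (Fhom hW1 (algebraMap (Cw W) (Ca W a) (Ideal.Quotient.mk _ (C x)))) =
      algebraMap (Cw W) (Ca W a) (Ideal.Quotient.mk _ (C x))
    rw [Fhom_algebraMap, phi_mk, phi0_C]
    show Ghom hW2 (Ideal.Quotient.mk (idealL E) (C (algebraMap A (Localization.Away a) x))) = _
    rw [Ghom_mk, psi1_C, psi0_algebraMap]
    rfl
  · show Ghom hW2 (Fhom hW1 (algebraMap (Cw W) (Ca W a) (Ideal.Quotient.mk _ (X j)))) =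
      algebraMap (Cw W) (Ca W a) (Ideal.Quotient.mk _ (X j))
    rw [Fhom_algebraMap, phi_mk, phi0_X]
    show Ghom hW2 (Ideal.Quotient.mk (idealL E) (X j)) = _
    rw [Ghom_mk, psi1_X]

/-- `C_a ≃ B0 E` as `R`-algebras. -/
noncomputable def equivCa {R : Type u} [CommRing R] [Algebra R A]
    (hW1 : ∀ c ∈ W, ∀ k, ∑ i, E k i * algebraMap A (Localization.Away a) (c i) = 0)
    (hW2 : ∀ j, ∃ (k : ℕ) (c : Fin m → A), c ∈ W ∧
      ∀ i, algebraMap A (Localization.Away a) (c i) =
        algebraMap A (Localization.Away a) a ^ k *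
          ((Pi.single j 1 : Fin m → Localization.Away a) i - E i j)) :
    Ca W a ≃ₐ[R] B0 E :=
  AlgEquiv.ofRingEquiv
    (f := RingEquiv.ofRingHom (Fhom hW1) (Ghom hW2) (F_comp_G hW1 hW2) (G_comp_F hW1 hW2))
    (fun r => by
      show Fhom hW1 (algebraMap R (Ca W a) r) = algebraMap R (B0 E) r
      rw [IsScalarTower.algebraMap_apply R (Cw W) (Ca W a),
        IsScalarTower.algebraMap_apply R A (Cw W), Fhom_algebraMap, phi_algebraMap,
        IsScalarTower.algebraMap_apply R (Localization.Away a) (B0 E),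
        IsScalarTower.algebraMap_apply R A (Localization.Away a)])

end PartC

section Split

variable {R S : Type u} [CommRing R] [CommRing S] [Algebra R S] {n m : ℕ}

theorem exists_split_data [Module.Projective S Ω[S⁄R]] (v : Fin n → S)
    (Jm : Fin n → Fin m → S)
    (hspan : Submodule.span S (Set.range fun i => D R S (v i)) = ⊤)
    (hJ1 : ∀ j, ∑ i, Jm i j • D R S (v i) = 0)
    (hJ2 : ∀ c : Fin n → S, ∑ i, c i • D R S (v i) = 0 →
      ∃ w : Fin m → S, ∀ i, c i = ∑ j, Jm i j * w j) :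
    ∃ (N : Type u) (_ : AddCommGroup N) (_ : Module S N) (κ : (Fin m → S) →ₗ[S] N)
      (s : N →ₗ[S] (Fin m → S)),
      (∀ x, κ (s x) = x) ∧ (∀ w, κ w = 0 ↔ ∀ i, ∑ j, Jm i j * w j = 0) ∧
      Nonempty ((Fin n → S) ≃ₗ[S] N × Ω[S⁄R]) := by
  classical
  let π : (Fin n → S) →ₗ[S] Ω[S⁄R] := Fintype.linearCombination S (fun i => D R S (v i))
  have hπ : ∀ c, π c = ∑ i, c i • D R S (v i) := fun c =>
    Fintype.linearCombination_apply S _ c
  have hπsurj : Function.Surjective π := by
    rw [← LinearMap.range_eq_top, Fintype.range_linearCombination, hspan]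
  let Jl : (Fin m → S) →ₗ[S] (Fin n → S) :=
    { toFun := fun w i => ∑ j, Jm i j * w j
      map_add' := fun w w' => by funext i; simp [mul_add, Finset.sum_add_distrib]
      map_smul' := fun r w => by funext i; simp [Finset.mul_sum, mul_left_comm] }
  have hJlπ : ∀ w, π (Jl w) = 0 := by
    intro w
    rw [hπ]
    have h1 : ∀ i, (Jl w) i • D R S (v i) = ∑ j, w j • (Jm i j • D R S (v i)) := by
      intro i
      show (∑ j, Jm i j * w j) • D R S (v i) = _
      rw [Finset.sum_smul]
      refine Finset.sum_congr rfl fun j _ => ?_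
      rw [mul_comm, mul_smul]
    simp_rw [h1]
    rw [Finset.sum_comm]
    refine Finset.sum_eq_zero fun j _ => ?_
    rw [← Finset.smul_sum, hJ1 j, smul_zero]
  let κ : (Fin m → S) →ₗ[S] LinearMap.ker π :=
    Jl.codRestrict (LinearMap.ker π) (fun w => LinearMap.mem_ker.mpr (hJlπ w))
  have hκsurj : Function.Surjective κ := by
    rintro ⟨c, hc⟩
    rw [LinearMap.mem_ker, hπ] at hc
    obtain ⟨w, hw⟩ := hJ2 c hc
    exact ⟨w, Subtype.ext (funext fun i => (hw i).symm)⟩
  obtain ⟨t, ht⟩ := Module.projective_lifting_property π LinearMap.id hπsurj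
  have htapp : ∀ ω, π (t ω) = ω := fun ω => LinearMap.congr_fun ht ω
  let r : (Fin n → S) →ₗ[S] LinearMap.ker π :=
    LinearMap.codRestrict (LinearMap.ker π) (LinearMap.id - t ∘ₗ π) (fun x => by
      rw [LinearMap.mem_ker, LinearMap.sub_apply, map_sub, LinearMap.id_apply,
        LinearMap.comp_apply, htapp, sub_self])
  have hN : Module.Projective S (LinearMap.ker π) := by
    refine Module.Projective.of_split (LinearMap.ker π).subtype r ?_
    refine LinearMap.ext fun x => Subtype.ext ?_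
    show (x : Fin n → S) - t (π x) = x
    rw [LinearMap.mem_ker.mp x.2, map_zero, sub_zero]
  obtain ⟨s, hs⟩ := Module.projective_lifting_property κ LinearMap.id hκsurj
  refine ⟨LinearMap.ker π, inferInstance, inferInstance, κ, s,
    fun x => LinearMap.congr_fun hs x, fun w => ⟨fun h i => ?_, fun h => ?_⟩, ?_⟩
  · exact congrArg (fun y : LinearMap.ker π => (y : Fin n → S) i) h
  · exact Subtype.ext (funext fun i => h i)
  · exact ⟨((LinearMap.exact_subtype_ker_map π).splitSurjectiveEquiv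
      (Submodule.injective_subtype _) ⟨t, ht⟩).1⟩

theorem free_kaehler_B0 {N : Type u} [AddCommGroup N] [Module S N]
    (κ : (Fin m → S) →ₗ[S] N) (s : N →ₗ[S] (Fin m → S)) (hκs : ∀ x, κ (s x) = x)
    (e0 : (Fin n → S) ≃ₗ[S] N × Ω[S⁄R]) :
    Module.Free (B0 (VBundle.matE κ s)) Ω[B0 (VBundle.matE κ s)⁄R] := by
  classical
  have hE1 := VBundle.matE_idem κ s hκs
  have : Algebra.FormallySmooth S (B0 (VBundle.matE κ s)) := formallySmooth_B0 hE1
  obtain ⟨e1⟩ := KaehlerSplit.nonempty_kaehler_prod (R := R) (A := S)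
    (B := B0 (VBundle.matE κ s))
  let e2 := VBundle.kaehlerEquiv κ s hκs
  let e3 : (B0 (VBundle.matE κ s)) ⊗[S] (Fin n → S) ≃ₗ[B0 (VBundle.matE κ s)]
      (B0 (VBundle.matE κ s)) ⊗[S] (N × Ω[S⁄R]) :=
    TensorProduct.AlgebraTensorModule.congr
      (LinearEquiv.refl (B0 (VBundle.matE κ s)) (B0 (VBundle.matE κ s))) e0
  let e4 : (B0 (VBundle.matE κ s)) ⊗[S] (N × Ω[S⁄R]) ≃ₗ[B0 (VBundle.matE κ s)]
      ((B0 (VBundle.matE κ s)) ⊗[S] N) × ((B0 (VBundle.matE κ s)) ⊗[S] Ω[S⁄R]) :=
    TensorProduct.prodRight S (B0 (VBundle.matE κ s)) (B0 (VBundle.matE κ s)) N Ω[S⁄R]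
  let e5 : (((B0 (VBundle.matE κ s)) ⊗[S] N) × ((B0 (VBundle.matE κ s)) ⊗[S] Ω[S⁄R]))
      ≃ₗ[B0 (VBundle.matE κ s)]
      (((B0 (VBundle.matE κ s)) ⊗[S] Ω[S⁄R]) × Ω[B0 (VBundle.matE κ s)⁄S]) :=
    (LinearEquiv.prodComm (B0 (VBundle.matE κ s)) ((B0 (VBundle.matE κ s)) ⊗[S] N)
      ((B0 (VBundle.matE κ s)) ⊗[S] Ω[S⁄R])).trans
      (LinearEquiv.prodCongr (LinearEquiv.refl (B0 (VBundle.matE κ s))
        ((B0 (VBundle.matE κ s)) ⊗[S] Ω[S⁄R])) e2.symm)
  let e6 : (B0 (VBundle.matE κ s)) ⊗[S] (Fin n → S) ≃ₗ[B0 (VBundle.matE κ s)]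
      (Fin n → B0 (VBundle.matE κ s)) :=
    TensorProduct.piScalarRight S (B0 (VBundle.matE κ s)) (B0 (VBundle.matE κ s)) (Fin n)
  have : Module.Free (B0 (VBundle.matE κ s)) ((B0 (VBundle.matE κ s)) ⊗[S] (Fin n → S)) :=
    Module.Free.of_equiv e6.symm
  exact Module.Free.of_equiv (e3.trans (e4.trans (e5.trans e1.symm)))

end Split

/-- Main theorem. -/
theorem main {R A : Type u} [CommRing R] [CommRing A] [Algebra R A]
    [Algebra.FinitePresentation R A] :
    ∃ (C : Type u) (_ : CommRing C) (_ : Algebra A C) (_ : Algebra R C) (_ : IsScalarTower R A C),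
      Algebra.FiniteType A C ∧ Nonempty (C →ₐ[A] A) ∧
      ∀ a : A, Algebra.Smooth R (Localization.Away a) →
        Module.Free (Localization.Away (algebraMap A C a))
          Ω[Localization.Away (algebraMap A C a)⁄R] := by
  classical
  obtain ⟨n, m, v, Jm, hv, hJ1, hJ2⟩ := JacData.exists_jacobian_data (R := R) (A := A)
  let W : Set (Fin m → A) := {c | ∀ i, ∑ j, Jm i j * c j = 0}
  refine ⟨Cw W, inferInstance, inferInstance, inferInstance, inferInstance, finiteType_Cw W,
    ⟨retr W⟩, ?_⟩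
  intro a hsm
  have : Algebra.FormallySmooth R (Localization.Away a) := hsm.1
  have hspan' := LocClear.J3_loc (R := R) a (Localization.Away a) v hv
  have hJ1' := LocClear.J1_loc (R := R) (Localization.Away a) v Jm hJ1
  have hJ2' := LocClear.J2_loc (R := R) a (Localization.Away a) v Jm hJ2
  obtain ⟨N, _, _, κ, s, hκs, hκ0, ⟨e0⟩⟩ := exists_split_data (R := R)
    (S := Localization.Away a) (fun i => algebraMap A _ (v i))
    (fun i j => algebraMap A _ (Jm i j)) hspan' hJ1' hJ2'
  have hW1 : ∀ c ∈ W, ∀ k,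
      ∑ i, VBundle.matE κ s k i * algebraMap A (Localization.Away a) (c i) = 0 := by
    intro c hc k
    rw [← VBundle.eps_apply κ s (fun i => algebraMap A _ (c i)) k]
    have h0 : κ (fun i => algebraMap A (Localization.Away a) (c i)) = 0 := by
      rw [hκ0]
      intro i
      have h1 := congrArg (algebraMap A (Localization.Away a)) (hc i)
      rw [map_sum, map_zero] at h1
      simpa only [map_mul] using h1
    rw [h0, map_zero]; rfl
  have hW2 : ∀ j, ∃ (k : ℕ) (c : Fin m → A), c ∈ W ∧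
      ∀ i, algebraMap A (Localization.Away a) (c i) =
        algebraMap A (Localization.Away a) a ^ k *
          ((Pi.single j 1 : Fin m → Localization.Away a) i - VBundle.matE κ s i j) := by
    intro j
    have hker : κ (Pi.single j 1 - s (κ (Pi.single j 1))) = 0 := by
      rw [map_sub, hκs, sub_self]
    obtain ⟨k, c, hc1, hc2⟩ := LocClear.clear_ker a (Localization.Away a) Jm _
      ((hκ0 _).mp hker)
    exact ⟨k, c, hc1, fun i => hc2 i⟩
  have hfree := free_kaehler_B0 (R := R) κ s hκs e0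
  exact KaehlerSplit.free_kaehler_of_algEquiv (equivCa (R := R) hW1 hW2).symm

end Groth.Agent.Lib.Helper19.RetractFree
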