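import Groth.Agent.Lib.Helper19.Unip5
import Groth.Prelude.Def_LieHopf

/-!
# Unipotent groups in characteristic zero, II: invariant derivations (helper19)

* `IsEpsDer`, `exists_epsDer_ne_zero`.
* `eq_counit_smul_one_of_epsDer_zero`: a function killed by all invariant derivations is constant.
* `eq_zero_of_invariant_pred`: the enveloping algebra of the Lie algebra is dense in the dual of `A`;
  `cfm_eq_zero_of_invariant_pred`, `mem_fixedPts_of_epsDer_zero`, `isSubcomod_of_epsDer_stable`,
  `coact_comp_of_epsDer_comm`.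
* `opT_mul_of_isEpsDer`, `opT_idem_eq_zero`, `idem_eq_zero_or_one`.
* bridge to `LieHopf.Lie`: `lieFun`, `toLie`.
-/

set_option autoImplicit false
universe u v w

open TensorProduct

namespace Groth.Agent.Lib.Helper19.Unip

open Groth.Agent.Lib.Helper19.Reynolds
open Groth.Agent.Lib.Helper19.Coalg
open Groth.Agent.Lib.Helper19.LinearGrp

section LslLemmas

variable {K : Type u} [Field K] {M : Type*} {N : Type*} [AddCommGroup M] [Module K M]
  [AddCommGroup N] [Module K N]

lemma lsl_sub_left (φ ψ : M →ₗ[K] K) (t : M ⊗[K] N) : lsl (φ - ψ) t = lsl φ t - lsl ψ t := by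
  simp [lsl, LinearMap.rTensor_sub]

lemma lsl_smul_left (c : K) (φ : M →ₗ[K] K) (t : M ⊗[K] N) : lsl (c • φ) t = c • lsl φ t := by
  simp [lsl, LinearMap.rTensor_smul]

end LslLemmas

section EpsDer

variable {K : Type u} {A : Type v} [Field K] [CommRing A] [Bialgebra K A]

/-- `ε`-derivations, as linear forms -/
def IsEpsDer (ξ : A →ₗ[K] K) : Prop :=
  ∀ a b : A, ξ (a * b) = Coalgebra.counit (R := K) a * ξ b + Coalgebra.counit (R := K) b * ξ a

lemma IsEpsDer.map_one {ξ : A →ₗ[K] K} (h : IsEpsDer ξ) : ξ 1 = 0 := by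
  have h1 := h 1 1
  rw [mul_one, Bialgebra.counit_one, one_mul] at h1
  linear_combination (-1 : K) * h1

lemma exists_epsDer_ne_zero (y : A) (hy : Coalgebra.counit (R := K) y = 0)
    (hy2 : y ∉ augI K A * augI K A) : ∃ ξ : A →ₗ[K] K, IsEpsDer ξ ∧ ξ y ≠ 0 := by
  set S : Submodule K A :=
    Submodule.span K {(1 : A)} ⊔ (augI K A * augI K A).restrictScalars K with hS
  have hyS : y ∉ S := by
    intro hmem
    obtain ⟨u, hu, z, hz, hyz⟩ := Submodule.mem_sup.1 hmem
    obtain ⟨c, rfl⟩ := Submodule.mem_span_singleton.1 hu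
    have hz' : z ∈ augI K A * augI K A := hz
    have hzε : Coalgebra.counit (R := K) z = 0 := (mem_augI z).1 (Ideal.mul_le_right hz')
    rw [← hyz, map_add, map_smul, Bialgebra.counit_one, hzε, add_zero, smul_eq_mul, mul_one] at hy
    rw [hy, zero_smul, zero_add] at hyz
    rw [← hyz] at hy2
    exact hy2 hz'
  obtain ⟨ξ, hξy, hξS⟩ := Submodule.exists_le_ker_of_notMem hyS
  refine ⟨ξ, ?_, hξy⟩
  have h1 : ξ 1 = 0 :=
    LinearMap.mem_ker.1 (hξS (Submodule.mem_sup_left (Submodule.subset_span rfl)))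
  have hI2 : ∀ z ∈ augI K A * augI K A, ξ z = 0 := fun z hz =>
    LinearMap.mem_ker.1 (hξS (Submodule.mem_sup_right hz))
  intro a b
  set a₀ := a - Coalgebra.counit (R := K) a • (1 : A) with ha₀
  set b₀ := b - Coalgebra.counit (R := K) b • (1 : A) with hb₀
  have ha₀I : a₀ ∈ augI K A := by
    rw [mem_augI, ha₀, map_sub, map_smul, Bialgebra.counit_one, smul_eq_mul, mul_one, sub_self]
  have hb₀I : b₀ ∈ augI K A := by
    rw [mem_augI, hb₀, map_sub, map_smul, Bialgebra.counit_one, smul_eq_mul, mul_one, sub_self]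
  have hab : a * b = (Coalgebra.counit (R := K) a * Coalgebra.counit (R := K) b) • (1 : A) +
      Coalgebra.counit (R := K) a • b₀ + Coalgebra.counit (R := K) b • a₀ + a₀ * b₀ := by
    rw [ha₀, hb₀]
    simp only [Algebra.smul_def, mul_one, map_mul]
    ring
  have hξa : ξ a = ξ a₀ := by rw [ha₀, map_sub, map_smul, h1, smul_zero, sub_zero]
  have hξb : ξ b = ξ b₀ := by rw [hb₀, map_sub, map_smul, h1, smul_zero, sub_zero]
  rw [hab, map_add, map_add, map_add, map_smul, map_smul, map_smul, h1,
    hI2 _ (Ideal.mul_mem_mul ha₀I hb₀I), hξa, hξb]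
  simp only [smul_eq_mul]
  ring

lemma opT_one (ξ : A →ₗ[K] K) : opT K A A ξ (1 : A) = ξ 1 • (1 : A) := by
  rw [opT_regular_apply, Bialgebra.comul_one, Algebra.TensorProduct.one_def, slice_tmul]

/-- left step: the left operators `L_h`, `h 1 = 0`, lower the filtration -/
lemma cfm_utFilt_step (h : A →ₗ[K] K) (h1 : h 1 = 0) (r : ℕ) (a : A)
    (ha : a ∈ utFilt K A (r + 1)) : cfm (C := A) (V := A) h a ∈ utFilt K A r := by
  unfold utFilt at ha
  induction ha using Submodule.span_induction with
  | mem x hx =>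
    obtain ⟨n, M, i, j, hM, hij, rfl⟩ := hx
    have hop : cfm (C := A) (V := A) h (M i j) = ∑ l, h (M i l) • M l j := by
      rw [cfm_apply]
      show lsl h (Coalgebra.comul (R := K) (M i j)) = _
      rw [hM.comul, map_sum]
      simp only [lsl_tmul]
    rw [hop]
    apply Submodule.sum_mem
    intro l _
    by_cases hl1 : i < l
    · apply Submodule.smul_mem
      have := Fin.lt_def.1 hl1
      exact Submodule.subset_span ⟨n, M, l, j, hM, by omega, rfl⟩
    · rcases eq_or_lt_of_le (not_lt.1 hl1) with h2 | h2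
      · subst h2
        rw [hM.diag, h1, zero_smul]
        exact zero_mem _
      · rw [hM.lower i l h2, map_zero, zero_smul]
        exact zero_mem _
  | zero =>
    rw [map_zero]
    exact zero_mem _
  | add x y _ _ hx hy =>
    rw [map_add]
    exact add_mem hx hy
  | smul c x _ hx =>
    rw [map_smul]
    exact Submodule.smul_mem _ c hx

/-- A function killed by all invariant derivations is constant (characteristic zero, unipotent). -/
theorem eq_counit_smul_one_of_epsDer_zero [CharZero K] (hut : utSpan K A = ⊤) :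
    ∀ r : ℕ, ∀ a ∈ utFilt K A r, (∀ ξ : A →ₗ[K] K, IsEpsDer ξ → opT K A A ξ a = 0) →
      a = Coalgebra.counit (R := K) a • (1 : A) := by
  intro r
  induction r with
  | zero =>
    intro a ha _
    rw [utFilt_zero] at ha
    obtain ⟨c, rfl⟩ := Submodule.mem_span_singleton.1 ha
    rw [map_smul, Bialgebra.counit_one, smul_eq_mul, mul_one]
  | succ r ih =>
    intro a ha hB
    have hL : ∀ h : A →ₗ[K] K, h 1 = 0 → cfm (C := A) (V := A) h a = h a • (1 : A) := by
      intro h h1
      have h2 := ih _ (cfm_utFilt_step h h1 r a ha)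
        (fun ξ hξ => by rw [← cfm_opT, hB ξ hξ, map_zero])
      rw [counit_cfm] at h2
      exact h2
    have e1 : ∀ h : A →ₗ[K] K, lsl h (Coalgebra.comul (R := K) a) =
        h a • (1 : A) + h 1 • a - (h 1 * Coalgebra.counit (R := K) a) • (1 : A) := by
      intro h
      set h₀ : A →ₗ[K] K := h - h 1 • Coalgebra.counit (R := K) (A := A) with hh₀
      have hh₀1 : h₀ 1 = 0 := by
        rw [hh₀, LinearMap.sub_apply, LinearMap.smul_apply, Bialgebra.counit_one, smul_eq_mul,
          mul_one, sub_self]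
      have h3 : lsl h₀ (Coalgebra.comul (R := K) a) = h₀ a • (1 : A) := hL h₀ hh₀1
      have h4 : lsl (Coalgebra.counit (R := K) (A := A)) (Coalgebra.comul (R := K) a) = a :=
        cfm_counit_regular a
      have h5 : lsl h₀ (Coalgebra.comul (R := K) a) =
          lsl h (Coalgebra.comul (R := K) a) - h 1 • a := by
        rw [hh₀, lsl_sub_left, lsl_smul_left, h4]
      have h6 : h₀ a = h a - h 1 * Coalgebra.counit (R := K) a := by
        rw [hh₀, LinearMap.sub_apply, LinearMap.smul_apply, smul_eq_mul]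
      rw [h5, h6, sub_smul] at h3
      rw [sub_eq_iff_eq_add] at h3
      rw [h3]
      abel
    set a' := a - Coalgebra.counit (R := K) a • (1 : A) with ha'
    have hεa' : Coalgebra.counit (R := K) a' = 0 := by
      rw [ha', map_sub, map_smul, Bialgebra.counit_one, smul_eq_mul, mul_one, sub_self]
    have hprim : Coalgebra.comul (R := K) a' = a' ⊗ₜ[K] (1 : A) + (1 : A) ⊗ₜ[K] a' := by
      rw [← sub_eq_zero]
      apply eq_zero_of_lsl_eq_zero
      intro h
      have hΔ : Coalgebra.comul (R := K) a' = Coalgebra.comul (R := K) a -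
          Coalgebra.counit (R := K) a • ((1 : A) ⊗ₜ[K] (1 : A)) := by
        rw [ha', map_sub, map_smul, Bialgebra.comul_one, Algebra.TensorProduct.one_def]
      rw [map_sub, map_add, hΔ, map_sub, map_smul, lsl_tmul, lsl_tmul, lsl_tmul, e1 h, ha',
        map_sub, map_smul]
      simp only [smul_eq_mul]
      module
    have hξa' : ∀ ξ : A →ₗ[K] K, IsEpsDer ξ → ξ a' = 0 := by
      intro ξ hξ
      have h7 : opT K A A ξ a' = 0 := by
        rw [ha', map_sub, map_smul, hB ξ hξ, opT_one, hξ.map_one, zero_smul, smul_zero, sub_zero]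
      rw [opT_regular_apply, hprim, map_add, slice_tmul, slice_tmul, hξ.map_one, zero_smul,
        zero_add] at h7
      have h8 := congrArg (Coalgebra.counit (R := K)) h7
      rw [map_smul, Bialgebra.counit_one, smul_eq_mul, mul_one, map_zero] at h8
      exact h8
    have hmem : a' ∈ augI K A * augI K A := by
      by_contra hnot
      obtain ⟨ξ, hξ, hne⟩ := exists_epsDer_ne_zero a' hεa' hnot
      exact hne (hξa' ξ hξ)
    have h0 : a' = 0 := primitive_eq_zero_of_mem_sq hut a' hprim hmem
    rw [ha'] at h0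
    exact sub_eq_zero.1 h0

/-- Density of the enveloping algebra of the Lie algebra in the dual of `A`, in predicate form. -/
theorem eq_zero_of_invariant_pred [CharZero K] (hut : utSpan K A = ⊤) (P : A → Prop)
    (hε : ∀ b, P b → Coalgebra.counit (R := K) b = 0)
    (hstep : ∀ (b : A) (ξ : A →ₗ[K] K), IsEpsDer ξ → P b → P (opT K A A ξ b))
    (a : A) (ha : P a) : a = 0 := by
  have key : ∀ r : ℕ, ∀ b ∈ utFilt K A r, P b → b = 0 := by
    intro r
    induction r with
    | zero =>
      intro b hb hP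
      rw [utFilt_zero] at hb
      obtain ⟨c, rfl⟩ := Submodule.mem_span_singleton.1 hb
      have h1 := hε _ hP
      rw [map_smul, Bialgebra.counit_one, smul_eq_mul, mul_one] at h1
      rw [h1, zero_smul]
    | succ r ih =>
      intro b hb hP
      have hB : ∀ ξ : A →ₗ[K] K, IsEpsDer ξ → opT K A A ξ b = 0 := fun ξ hξ =>
        ih _ ((isF1_utFilt hut).step ξ hξ.map_one r b hb) (hstep b ξ hξ hP)
      have h1 := eq_counit_smul_one_of_epsDer_zero hut (r + 1) b hb hB
      rw [h1, hε b hP, zero_smul]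
  obtain ⟨r, hr⟩ := (isF1_utFilt hut).exh a
  exact key r a hr ha

section Comod

variable {V : Type w} [AddCommGroup V] [Module K V] [HopfRep.Comod K A V]

theorem cfm_eq_zero_of_invariant_pred [CharZero K] (hut : utSpan K A = ⊤) (φ : V →ₗ[K] K)
    (P : V → Prop) (hφ : ∀ w, P w → φ w = 0)
    (hstep : ∀ (w : V) (ξ : A →ₗ[K] K), IsEpsDer ξ → P w → P (opT K A V ξ w))
    (v : V) (hv : P v) : cfm (C := A) φ v = 0 := by
  refine eq_zero_of_invariant_pred hut (fun b => ∃ w, P w ∧ b = cfm (C := A) φ w) ?_ ?_ _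
    ⟨v, hv, rfl⟩
  · rintro b ⟨w, hw, rfl⟩
    rw [counit_cfm]
    exact hφ w hw
  · rintro b ξ hξ ⟨w, hw, rfl⟩
    exact ⟨opT K A V ξ w, hstep w ξ hξ hw, (cfm_opT φ ξ w).symm⟩

/-- a subspace stable under the Lie algebra is a subcomodule -/
theorem isSubcomod_of_epsDer_stable [CharZero K] (hut : utSpan K A = ⊤) (W : Submodule K V)
    (hW : ∀ ξ : A →ₗ[K] K, IsEpsDer ξ → ∀ w ∈ W, opT K A V ξ w ∈ W) :
    HopfRep.IsSubcomod (k := K) (A := A) W := by
  rw [isSubcomod_iff]
  intro f w hw
  by_contra hnot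
  obtain ⟨φ, hφ1, hφ2⟩ := Submodule.exists_le_ker_of_notMem hnot
  apply hφ1
  rw [← apply_cfm, cfm_eq_zero_of_invariant_pred hut φ (fun w => w ∈ W)
    (fun w hw => LinearMap.mem_ker.1 (hφ2 hw)) (fun w ξ hξ hw => hW ξ hξ w hw) w hw, map_zero]

/-- a vector killed by the Lie algebra is invariant -/
theorem mem_fixedPts_of_epsDer_zero [CharZero K] (hut : utSpan K A = ⊤) (v : V)
    (hv : ∀ ξ : A →ₗ[K] K, IsEpsDer ξ → opT K A V ξ v = 0) :
    v ∈ HopfRep.fixedPts K A V := by
  have hc : ∀ φ : V →ₗ[K] K, cfm (C := A) φ v = φ v • (1 : A) := by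
    intro φ
    rw [← sub_eq_zero]
    refine eq_zero_of_invariant_pred hut
      (fun b => b = cfm (C := A) φ v - φ v • (1 : A) ∨ b = 0) ?_ ?_ _ (Or.inl rfl)
    · rintro b (rfl | rfl)
      · rw [map_sub, counit_cfm, map_smul, Bialgebra.counit_one, smul_eq_mul, mul_one, sub_self]
      · rw [map_zero]
    · rintro b ξ hξ (rfl | rfl)
      · right
        rw [map_sub, ← cfm_opT, hv ξ hξ, map_zero, map_smul, opT_one, hξ.map_one, zero_smul,
          smul_zero, sub_zero]
      · right
        rw [map_zero]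
  rw [mem_fixedPts_iff_opT]
  intro g
  apply eq_of_forall_apply_eq (K := K)
  intro φ
  rw [← apply_cfm, hc φ, map_smul, map_smul, smul_eq_mul, smul_eq_mul, mul_comm]

variable {V₂ : Type w} [AddCommGroup V₂] [Module K V₂] [HopfRep.Comod K A V₂]

/-- a linear map commuting with the Lie algebra is a comodule map -/
theorem coact_comp_of_epsDer_comm [CharZero K] (hut : utSpan K A = ⊤) (e : V →ₗ[K] V₂)
    (he : ∀ ξ : A →ₗ[K] K, IsEpsDer ξ → ∀ w, opT K A V₂ ξ (e w) = e (opT K A V ξ w)) (w : V) :
    HopfRep.Comod.coact (k := K) (A := A) (e w) =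
      e.rTensor A (HopfRep.Comod.coact (k := K) (A := A) w) := by
  rw [← sub_eq_zero]
  apply eq_zero_of_lsl_eq_zero
  intro φ
  rw [map_sub, lsl_rTensor, ← cfm_apply, ← cfm_apply]
  refine eq_zero_of_invariant_pred hut
    (fun b => ∃ w, b = cfm (C := A) φ (e w) - cfm (C := A) (φ ∘ₗ e) w) ?_ ?_ _ ⟨w, rfl⟩
  · rintro b ⟨w, rfl⟩
    rw [map_sub, counit_cfm, counit_cfm, LinearMap.comp_apply, sub_self]
  · rintro b ξ hξ ⟨w, rfl⟩
    refine ⟨opT K A V ξ w, ?_⟩
    rw [map_sub, ← cfm_opT, ← cfm_opT, he ξ hξ]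

end Comod

/-- the right operator of an `ε`-derivation is a derivation -/
lemma opT_mul_of_isEpsDer {ξ : A →ₗ[K] K} (hξ : IsEpsDer ξ) (a b : A) :
    opT K A A ξ (a * b) = a * opT K A A ξ b + opT K A A ξ a * b := by
  rw [opT_regular_apply, opT_regular_apply, opT_regular_apply, Bialgebra.comul_mul]
  have key : ∀ s t : A ⊗[K] A, slice ξ (s * t) =
      slice (Coalgebra.counit (R := K) (A := A)) s * slice ξ t +
        slice ξ s * slice (Coalgebra.counit (R := K) (A := A)) t := by
    intro s t
    induction s using TensorProduct.induction_on with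
    | zero => simp
    | add s₁ s₂ h₁ h₂ =>
      rw [add_mul, map_add, h₁, h₂, map_add, map_add]
      ring
    | tmul a₁ a₂ =>
      induction t using TensorProduct.induction_on with
      | zero => simp
      | add t₁ t₂ h₁ h₂ =>
        rw [mul_add, map_add, h₁, h₂, map_add, map_add]
        ring
      | tmul b₁ b₂ =>
        rw [Algebra.TensorProduct.tmul_mul_tmul, slice_tmul, slice_tmul, slice_tmul, slice_tmul,
          slice_tmul, hξ a₂ b₂]
        simp only [Algebra.smul_def, map_add, map_mul]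
        ring
  have h1 : ∀ c : A, slice (Coalgebra.counit (R := K) (A := A)) (Coalgebra.comul (R := K) c) = c :=
    fun c => opT_counit (C := A) (V := A) c
  rw [key, h1, h1]

lemma opT_idem_eq_zero {ξ : A →ₗ[K] K} (hξ : IsEpsDer ξ) (e : A) (he : IsIdempotentElem e) :
    opT K A A ξ e = 0 := by
  have h1 : opT K A A ξ e = e * opT K A A ξ e + opT K A A ξ e * e := by
    have h := opT_mul_of_isEpsDer hξ e e
    rw [he.eq] at h
    exact h
  have h2 : e * opT K A A ξ e = 0 := by
    have h3 : e * opT K A A ξ e = e * (e * opT K A A ξ e + opT K A A ξ e * e) := by rw [← h1]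
    have h4 : e * (e * opT K A A ξ e + opT K A A ξ e * e) =
        e * e * opT K A A ξ e + e * e * opT K A A ξ e := by ring
    rw [h4, he.eq] at h3
    linear_combination (-1 : A) * h3
  calc opT K A A ξ e = e * opT K A A ξ e + opT K A A ξ e * e := h1
    _ = 0 := by rw [mul_comm (opT K A A ξ e) e, h2, add_zero]

/-- In characteristic zero a unipotent group is connected. -/
theorem idem_eq_zero_or_one [CharZero K] (hut : utSpan K A = ⊤) (e : A)
    (he : IsIdempotentElem e) : e = 0 ∨ e = 1 := by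
  obtain ⟨r, hr⟩ := (isF1_utFilt hut).exh e
  have h1 := eq_counit_smul_one_of_epsDer_zero hut r e hr (fun ξ hξ => opT_idem_eq_zero hξ e he)
  have h2 : Coalgebra.counit (R := K) e * Coalgebra.counit (R := K) e =
      Coalgebra.counit (R := K) e := by
    have := congrArg (Bialgebra.counitAlgHom K A) he.eq
    rw [map_mul] at this
    exact this
  have h3 : Coalgebra.counit (R := K) e = 0 ∨ Coalgebra.counit (R := K) e = 1 := by
    have h4 : Coalgebra.counit (R := K) e * (Coalgebra.counit (R := K) e - 1) = 0 := by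
      rw [mul_sub, h2, mul_one, sub_self]
    rcases mul_eq_zero.1 h4 with h | h
    · exact Or.inl h
    · exact Or.inr (sub_eq_zero.1 h)
  rcases h3 with h | h
  · left
    rw [h1, h, zero_smul]
  · right
    rw [h1, h, one_smul]

end EpsDer

end Groth.Agent.Lib.Helper19.Unip
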