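import Mathlib
import Groth.Agent.Lib.Helper19.Unip6

/-!
# The graded pieces `I^n/I^(n+1)` of the augmentation ideal of a commutative bialgebra (helper19)

Key step of Cartier's theorem: if `n!` is invertible, the monomials of degree `n` in a basis of
`I/I^2` are linearly independent modulo `I^(n+1)`.  The proof uses the derivations
`D_ξ = (id ⊗ ξ) ∘ Δ` attached to `ε`-derivations `ξ`, and Euler's identity.
-/

set_option autoImplicit false
universe u v

open TensorProduct

namespace Groth.Agent.Lib.Helper19.Cartier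

open Groth.Agent.Lib.Helper19.Reynolds
open Groth.Agent.Lib.Helper19.Coalg
open Groth.Agent.Lib.Helper19.Unip

section Deriv

variable {k : Type u} [CommRing k] {A : Type v} [CommRing A] [Algebra k A]

/-- a derivation maps `I^(m+1)` into `I^m` -/
lemma derivation_mem_pow (D : Derivation k A A) (I : Ideal A) :
    ∀ (m : ℕ) (a : A), a ∈ I ^ (m + 1) → D a ∈ I ^ m := by
  intro m
  induction m with
  | zero =>
    intro a _
    rw [pow_zero, Ideal.one_eq_top]
    exact Submodule.mem_top
  | succ m ih =>
    intro a ha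
    rw [pow_succ] at ha
    refine Submodule.mul_induction_on ha ?_ ?_
    · intro b hb y hy
      rw [Derivation.leibniz]
      refine Ideal.add_mem _ ?_ ?_
      · rw [smul_eq_mul]
        exact Ideal.mul_mem_right _ _ hb
      · rw [smul_eq_mul, pow_succ']
        exact Ideal.mul_mem_mul hy (ih b hb)
    · intro y z hy hz
      rw [map_add]
      exact Ideal.add_mem _ hy hz

/-- chain rule -/
lemma derivation_aeval {σ : Type*} [Fintype σ] [DecidableEq σ] (D : Derivation k A A) (x : σ → A)
    (p : MvPolynomial σ k) :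
    D (MvPolynomial.aeval x p) =
      ∑ j, MvPolynomial.aeval x (MvPolynomial.pderiv j p) * D (x j) := by
  induction p using MvPolynomial.induction_on with
  | C a => simp
  | add p q hp hq => simp only [map_add, hp, hq, add_mul, Finset.sum_add_distrib]
  | mul_X p i hp =>
    rw [map_mul, MvPolynomial.aeval_X, Derivation.leibniz, hp]
    have h1 : ∀ j, MvPolynomial.aeval x (MvPolynomial.pderiv j (p * MvPolynomial.X i)) * D (x j) =
        x i * (MvPolynomial.aeval x (MvPolynomial.pderiv j p) * D (x j)) +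
          MvPolynomial.aeval x p * (if j = i then D (x j) else 0) := by
      intro j
      rw [MvPolynomial.pderiv_mul, map_add, map_mul, map_mul, MvPolynomial.aeval_X]
      by_cases h : j = i
      · subst h
        rw [MvPolynomial.pderiv_X_self, map_one, if_pos rfl]
        ring
      · rw [MvPolynomial.pderiv_X_of_ne (Ne.symm h), map_zero, if_neg h]
        ring
    rw [Finset.sum_congr rfl (fun j _ => h1 j), Finset.sum_add_distrib, ← Finset.mul_sum,
      ← Finset.mul_sum, Finset.sum_ite_eq', if_pos (Finset.mem_univ i)]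
    simp only [smul_eq_mul]
    ring

/-- a homogeneous polynomial of degree `n` in elements of `I` lies in `I^n` -/
lemma aeval_mem_pow {σ : Type*} (I : Ideal A) (x : σ → A) (hx : ∀ j, x j ∈ I) {n : ℕ}
    {p : MvPolynomial σ k} (hp : p.IsHomogeneous n) : MvPolynomial.aeval x p ∈ I ^ n := by
  have h : MvPolynomial.aeval x p =
      ∑ v ∈ p.support, MvPolynomial.aeval x (MvPolynomial.monomial v (MvPolynomial.coeff v p)) := by
    conv_lhs => rw [← p.support_sum_monomial_coeff]
    rw [map_sum]
  rw [h]
  refine Ideal.sum_mem _ fun d hd => ?_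
  rw [MvPolynomial.aeval_monomial]
  refine Ideal.mul_mem_left _ _ ?_
  have hdeg := hp.degree_eq_sum_deg_support hd
  rw [hdeg]
  unfold Finsupp.prod
  rw [← Finset.prod_pow_eq_pow_sum]
  exact Ideal.prod_mem_prod fun i _ => Ideal.pow_mem_pow (hx i) _

end Deriv

section Bialg

variable {k : Type u} [Field k] {A : Type v} [CommRing A] [Bialgebra k A]

/-- a linear form killing `1` and `I^2` is an `ε`-derivation -/
lemma isEpsDer_of_vanish (ξ : A →ₗ[k] k) (h1 : ξ 1 = 0)
    (hI2 : ∀ z ∈ augI k A * augI k A, ξ z = 0) : IsEpsDer ξ := by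
  intro a b
  set a₀ := a - Coalgebra.counit (R := k) a • (1 : A) with ha₀
  set b₀ := b - Coalgebra.counit (R := k) b • (1 : A) with hb₀
  have ha₀I : a₀ ∈ augI k A := by
    rw [mem_augI, ha₀, map_sub, map_smul, Bialgebra.counit_one, smul_eq_mul, mul_one, sub_self]
  have hb₀I : b₀ ∈ augI k A := by
    rw [mem_augI, hb₀, map_sub, map_smul, Bialgebra.counit_one, smul_eq_mul, mul_one, sub_self]
  have hab : a * b = (Coalgebra.counit (R := k) a * Coalgebra.counit (R := k) b) • (1 : A) +
      Coalgebra.counit (R := k) a • b₀ + Coalgebra.counit (R := k) b • a₀ + a₀ * b₀ := by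
    rw [ha₀, hb₀]
    simp only [Algebra.smul_def, mul_one, map_mul]
    ring
  have hξa : ξ a = ξ a₀ := by rw [ha₀, map_sub, map_smul, h1, smul_zero, sub_zero]
  have hξb : ξ b = ξ b₀ := by rw [hb₀, map_sub, map_smul, h1, smul_zero, sub_zero]
  rw [hab, map_add, map_add, map_add, map_smul, map_smul, map_smul, h1,
    hI2 _ (Ideal.mul_mem_mul ha₀I hb₀I), hξa, hξb]
  simp only [smul_eq_mul]
  ring

/-- the derivation `(id ⊗ ξ) ∘ Δ` attached to an `ε`-derivation -/
noncomputable def derOf (ξ : A →ₗ[k] k) (hξ : IsEpsDer ξ) : Derivation k A A where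
  toLinearMap := opT k A A ξ
  map_one_eq_zero' := by
    show opT k A A ξ 1 = 0
    rw [opT_one, hξ.map_one, zero_smul]
  leibniz' a b := by
    show opT k A A ξ (a * b) = a • opT k A A ξ b + b • opT k A A ξ a
    rw [opT_mul_of_isEpsDer hξ, smul_eq_mul, smul_eq_mul]
    ring

lemma derOf_apply (ξ : A →ₗ[k] k) (hξ : IsEpsDer ξ) (a : A) :
    derOf ξ hξ a = opT k A A ξ a := rfl

lemma counit_opT (ξ : A →ₗ[k] k) (a : A) :
    Coalgebra.counit (R := k) (opT k A A ξ a) = ξ a := by
  rw [apply_opT_regular]
  have h2 : TensorProduct.map (Coalgebra.counit (R := k) (A := A)) ξ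
      (Coalgebra.comul (R := k) a) = (1 : k) ⊗ₜ[k] ξ a := by
    rw [← LinearMap.lTensor_comp_rTensor, LinearMap.comp_apply, Coalgebra.rTensor_counit_comul,
      LinearMap.lTensor_tmul]
  show LinearMap.mul' k k (TensorProduct.map (Coalgebra.counit (R := k) (A := A)) ξ
      (Coalgebra.comul (R := k) a)) = ξ a
  rw [h2, LinearMap.mul'_apply, one_mul]

/-- **Independence.** -/
theorem eq_zero_of_aeval_mem_pow {r : ℕ} (x : Fin r → A) (hxI : ∀ j, x j ∈ augI k A)
    (D : Fin r → Derivation k A A)
    (hD : ∀ i j, Coalgebra.counit (R := k) (D i (x j)) = if i = j then 1 else 0) :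
    ∀ n : ℕ, (n.factorial : k) ≠ 0 → ∀ p : MvPolynomial (Fin r) k, p.IsHomogeneous n →
      MvPolynomial.aeval x p ∈ augI k A ^ (n + 1) → p = 0 := by
  intro n
  induction n with
  | zero =>
    intro _ p hp hmem
    rw [← MvPolynomial.totalDegree_zero_iff_isHomogeneous,
      MvPolynomial.totalDegree_eq_zero_iff_eq_C] at hp
    rw [hp, MvPolynomial.aeval_C, zero_add, pow_one, mem_augI, Bialgebra.counit_algebraMap] at hmem
    rw [hp, hmem, map_zero]
  | succ n ih =>
    intro hfac p hp hmem
    have hfac' : ((n.factorial : ℕ) : k) ≠ 0 ∧ ((n + 1 : ℕ) : k) ≠ 0 := by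
      rw [Nat.factorial_succ, Nat.cast_mul] at hfac
      exact ⟨right_ne_zero_of_mul hfac, left_ne_zero_of_mul hfac⟩
    have hpdh : ∀ j, (MvPolynomial.pderiv j p).IsHomogeneous n := by
      intro j
      have h := hp.pderiv (i := j)
      rwa [Nat.add_sub_cancel] at h
    have hpd : ∀ i, MvPolynomial.pderiv i p = 0 := by
      intro i
      apply ih hfac'.1 _ (hpdh i)
      have h1 : D i (MvPolynomial.aeval x p) ∈ augI k A ^ (n + 1) :=
        derivation_mem_pow (D i) _ (n + 1) _ hmem
      rw [derivation_aeval] at h1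
      have h2 : ∀ j, MvPolynomial.aeval x (MvPolynomial.pderiv j p) * D i (x j) -
          (if i = j then MvPolynomial.aeval x (MvPolynomial.pderiv j p) else 0) ∈
            augI k A ^ (n + 1) := by
        intro j
        have hu : D i (x j) - (if i = j then (1 : A) else 0) ∈ augI k A := by
          rw [mem_augI, map_sub, hD]
          split_ifs <;> simp
        have hq : MvPolynomial.aeval x (MvPolynomial.pderiv j p) ∈ augI k A ^ n :=
          aeval_mem_pow _ x hxI (hpdh j)
        have h3 := Ideal.mul_mem_mul hq hu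
        rw [← pow_succ] at h3
        convert h3 using 1
        split_ifs <;> ring
      have h3 : ∑ j, (MvPolynomial.aeval x (MvPolynomial.pderiv j p) * D i (x j) -
          (if i = j then MvPolynomial.aeval x (MvPolynomial.pderiv j p) else 0)) ∈
            augI k A ^ (n + 1) := Ideal.sum_mem _ fun j _ => h2 j
      rw [Finset.sum_sub_distrib, Finset.sum_ite_eq, if_pos (Finset.mem_univ i)] at h3
      have h4 := Ideal.sub_mem _ h1 h3
      rwa [sub_sub_cancel] at h4
    have heuler := hp.sum_X_mul_pderiv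
    simp only [hpd, mul_zero, Finset.sum_const_zero] at heuler
    have h5 : ((n + 1 : ℕ) : k) • p = 0 := by
      rw [Nat.cast_smul_eq_nsmul]
      exact heuler.symm
    rcases smul_eq_zero.1 h5 with h | h
    · exact absurd h hfac'.2
    · exact h

/-- **Spanning.** -/
theorem exists_homogeneous_sub_mem {r : ℕ} (x : Fin r → A) (hxI : ∀ j, x j ∈ augI k A)
    (S1 : ∀ y ∈ augI k A, ∃ c : Fin r → k, y - ∑ j, c j • x j ∈ augI k A ^ 2) :
    ∀ (n : ℕ) (a : A), a ∈ augI k A ^ n → ∃ p : MvPolynomial (Fin r) k,
      p.IsHomogeneous n ∧ a - MvPolynomial.aeval x p ∈ augI k A ^ (n + 1) := by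
  intro n
  induction n with
  | zero =>
    intro a _
    refine ⟨MvPolynomial.C (Coalgebra.counit (R := k) a), MvPolynomial.isHomogeneous_C _ _, ?_⟩
    rw [MvPolynomial.aeval_C, zero_add, pow_one, mem_augI, map_sub, Bialgebra.counit_algebraMap,
      sub_self]
  | succ n ih =>
    intro a ha
    rw [pow_succ] at ha
    refine Submodule.mul_induction_on ha ?_ ?_
    · intro b hb y hy
      obtain ⟨pb, hpb, hb'⟩ := ih b hb
      obtain ⟨c, hc⟩ := S1 y hy
      set q : MvPolynomial (Fin r) k := ∑ j, MvPolynomial.C (c j) * MvPolynomial.X j with hq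
      have hqh : q.IsHomogeneous 1 :=
        MvPolynomial.IsHomogeneous.sum _ _ _ fun j _ => MvPolynomial.isHomogeneous_C_mul_X _ _
      have hqe : MvPolynomial.aeval x q = ∑ j, c j • x j := by
        rw [hq, map_sum]
        refine Finset.sum_congr rfl fun j _ => ?_
        rw [map_mul, MvPolynomial.aeval_C, MvPolynomial.aeval_X, Algebra.smul_def]
      refine ⟨pb * q, hpb.mul hqh, ?_⟩
      have e : b * y - MvPolynomial.aeval x (pb * q) =
          (b - MvPolynomial.aeval x pb) * y +
            MvPolynomial.aeval x pb * (y - MvPolynomial.aeval x q) := by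
        rw [map_mul]
        ring
      rw [e]
      refine Ideal.add_mem _ ?_ ?_
      · have h := Ideal.mul_mem_mul hb' hy
        rwa [← pow_succ] at h
      · have h1 : MvPolynomial.aeval x pb ∈ augI k A ^ n := aeval_mem_pow _ x hxI hpb
        rw [hqe]
        have h := Ideal.mul_mem_mul h1 hc
        rwa [← pow_add] at h
    · rintro y z ⟨p₁, hp₁, h₁⟩ ⟨p₂, hp₂, h₂⟩
      refine ⟨p₁ + p₂, hp₁.add hp₂, ?_⟩
      have e : y + z - MvPolynomial.aeval x (p₁ + p₂) =
          (y - MvPolynomial.aeval x p₁) + (z - MvPolynomial.aeval x p₂) := by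
        rw [map_add]
        ring
      rw [e]
      exact Ideal.add_mem _ h₁ h₂

end Bialg

section Count

variable {k : Type u} [Field k] {A : Type v} [CommRing A] [Algebra k A]

/-- exponents of total degree `m` -/
noncomputable def T (r m : ℕ) : Finset (Fin r →₀ ℕ) :=
  (Finset.univ : Finset (Fin r)).finsuppAntidiag m

lemma mem_T {r m : ℕ} {d : Fin r →₀ ℕ} : d ∈ T r m ↔ d.degree = m := by
  rw [T, Finset.mem_finsuppAntidiag, Finsupp.degree_eq_sum]
  exact ⟨fun h => h.1, fun h => ⟨h, Finset.subset_univ _⟩⟩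

lemma card_T (r m : ℕ) : (T r m).card = (r + m - 1).choose m := by
  rw [T, Finset.card_finsuppAntidiag_nat_eq_choose, Finset.card_univ, Fintype.card_fin]

variable {r : ℕ} (x : Fin r → A) (I : Ideal A)

/-- the classes of the monomials of degree `m` in `A ⧸ I^(m+1)` -/
noncomputable def vfam (m : ℕ) (d : ↥(T r m)) : A ⧸ I ^ (m + 1) :=
  Ideal.Quotient.mk (I ^ (m + 1)) (MvPolynomial.aeval x (MvPolynomial.monomial d.1 (1 : k)))

/-- the transition map -/
noncomputable def piL (m : ℕ) : (A ⧸ I ^ (m + 1)) →ₗ[k] (A ⧸ I ^ m) :=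
  (Ideal.Quotient.factorₐ k (Ideal.pow_le_pow_right (Nat.le_succ m))).toLinearMap

lemma piL_mk (m : ℕ) (a : A) :
    piL (k := k) I m (Ideal.Quotient.mk _ a) = Ideal.Quotient.mk _ a := rfl

lemma piL_surjective (m : ℕ) : Function.Surjective (piL (k := k) I m) := by
  intro y
  obtain ⟨a, rfl⟩ := Ideal.Quotient.mk_surjective y
  exact ⟨Ideal.Quotient.mk _ a, rfl⟩

lemma mk_smul (J : Ideal A) (c : k) (a : A) :
    Ideal.Quotient.mk J (c • a) = c • Ideal.Quotient.mk J a :=
  map_smul (Ideal.Quotient.mkₐ k J) c a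

lemma mk_aeval_eq_sum (J : Ideal A) (p : MvPolynomial (Fin r) k) :
    Ideal.Quotient.mk J (MvPolynomial.aeval x p) =
      ∑ d ∈ p.support, MvPolynomial.coeff d p •
        Ideal.Quotient.mk J (MvPolynomial.aeval x (MvPolynomial.monomial d (1 : k))) := by
  conv_lhs => rw [← p.support_sum_monomial_coeff]
  rw [map_sum, map_sum]
  refine Finset.sum_congr rfl fun d _ => ?_
  have h : MvPolynomial.monomial d (MvPolynomial.coeff d p) =
      MvPolynomial.coeff d p • MvPolynomial.monomial d (1 : k) := by
    rw [MvPolynomial.smul_monomial, smul_eq_mul, mul_one]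
  rw [h, map_smul, mk_smul]

lemma ker_piL (hxI : ∀ j, x j ∈ I)
    (hS : ∀ (m : ℕ) (a : A), a ∈ I ^ m → ∃ p : MvPolynomial (Fin r) k,
      p.IsHomogeneous m ∧ a - MvPolynomial.aeval x p ∈ I ^ (m + 1))
    (m : ℕ) : LinearMap.ker (piL (k := k) I m) =
      Submodule.span k (Set.range (vfam (k := k) x I m)) := by
  apply le_antisymm
  · intro y hy
    obtain ⟨a, rfl⟩ := Ideal.Quotient.mk_surjective y
    rw [LinearMap.mem_ker, piL_mk, Ideal.Quotient.eq_zero_iff_mem] at hy
    obtain ⟨p, hp, hap⟩ := hS m a hy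
    have h1 : Ideal.Quotient.mk (I ^ (m + 1)) a =
        Ideal.Quotient.mk (I ^ (m + 1)) (MvPolynomial.aeval x p) := Ideal.Quotient.eq.2 hap
    rw [h1, mk_aeval_eq_sum]
    refine Submodule.sum_mem _ fun d hd => Submodule.smul_mem _ _ (Submodule.subset_span ?_)
    have hdeg : d.degree = m := by
      by_contra hne
      exact (MvPolynomial.mem_support_iff.1 hd) (hp.coeff_eq_zero hne)
    exact ⟨⟨d, mem_T.2 hdeg⟩, rfl⟩
  · apply Submodule.span_le.2
    rintro _ ⟨d, rfl⟩
    rw [SetLike.mem_coe, LinearMap.mem_ker]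
    unfold vfam
    rw [piL_mk, Ideal.Quotient.eq_zero_iff_mem]
    exact aeval_mem_pow I x hxI (MvPolynomial.isHomogeneous_monomial _ (mem_T.1 d.2))

lemma finite_quot (hxI : ∀ j, x j ∈ I)
    (hS : ∀ (m : ℕ) (a : A), a ∈ I ^ m → ∃ p : MvPolynomial (Fin r) k,
      p.IsHomogeneous m ∧ a - MvPolynomial.aeval x p ∈ I ^ (m + 1)) :
    ∀ m : ℕ, Module.Finite k (A ⧸ I ^ m) := by
  intro m
  induction m with
  | zero =>
    haveI : Subsingleton (A ⧸ I ^ 0) :=
      Ideal.Quotient.subsingleton_iff.2 (by rw [pow_zero, Ideal.one_eq_top])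
    exact Module.Finite.of_finite
  | succ m ih =>
    rw [Module.finite_def]
    refine Submodule.fg_of_fg_map_of_fg_inf_ker (piL (k := k) I m) ?_ ?_
    · rw [Submodule.map_top, LinearMap.range_eq_top.2 (piL_surjective I m)]
      exact ih.fg_top
    · rw [top_inf_eq, ker_piL x I hxI hS m]
      exact Submodule.fg_span (Set.finite_range _)

theorem finrank_of_span_indep (hxI : ∀ j, x j ∈ I)
    (hS : ∀ (m : ℕ) (a : A), a ∈ I ^ m → ∃ p : MvPolynomial (Fin r) k,
      p.IsHomogeneous m ∧ a - MvPolynomial.aeval x p ∈ I ^ (m + 1))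
    (n : ℕ)
    (hL : ∀ p : MvPolynomial (Fin r) k, p.IsHomogeneous n →
      MvPolynomial.aeval x p ∈ I ^ (n + 1) → p = 0) :
    Module.finrank k (A ⧸ I ^ (n + 1)) =
      Module.finrank k (A ⧸ I ^ n) + (r + n - 1).choose n := by
  haveI := finite_quot (k := k) x I hxI hS (n + 1)
  have h1 := LinearMap.finrank_range_add_finrank_ker (piL (k := k) I n)
  have hli : LinearIndependent k (vfam (k := k) x I n) := by
    rw [Fintype.linearIndependent_iff]
    intro g hg d₀
    set p : MvPolynomial (Fin r) k := ∑ d : ↥(T r n), MvPolynomial.monomial d.1 (g d) with hp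
    have hph : p.IsHomogeneous n :=
      MvPolynomial.IsHomogeneous.sum _ _ _ fun d _ =>
        MvPolynomial.isHomogeneous_monomial _ (mem_T.1 d.2)
    have hmem : MvPolynomial.aeval x p ∈ I ^ (n + 1) := by
      rw [← Ideal.Quotient.eq_zero_iff_mem, hp, map_sum, map_sum, ← hg]
      refine Finset.sum_congr rfl fun d _ => ?_
      have h : MvPolynomial.monomial d.1 (g d) = g d • MvPolynomial.monomial d.1 (1 : k) := by
        rw [MvPolynomial.smul_monomial, smul_eq_mul, mul_one]
      rw [h, map_smul, mk_smul]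
      rfl
    have hp0 := hL p hph hmem
    have hc : MvPolynomial.coeff d₀.1 p = g d₀ := by
      rw [hp, MvPolynomial.coeff_sum, Finset.sum_eq_single d₀]
      · rw [MvPolynomial.coeff_monomial, if_pos rfl]
      · intro d _ hne
        rw [MvPolynomial.coeff_monomial, if_neg]
        intro h
        exact hne (Subtype.ext h)
      · intro h
        exact absurd (Finset.mem_univ _) h
    rw [← hc, hp0, MvPolynomial.coeff_zero]
  rw [LinearMap.range_eq_top.2 (piL_surjective I n), finrank_top, ker_piL x I hxI hS n,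
    finrank_span_eq_card hli, Fintype.card_coe, card_T] at h1
  exact h1.symm

end Count

section Main

variable (k : Type u) [Field k] (A : Type v) [CommRing A] [Bialgebra k A]

/-- the `k`-linear version of `toCotangent` -/
noncomputable def tc : ↥(augI k A) →ₗ[k] (augI k A).Cotangent :=
  (augI k A).toCotangent.restrictScalars k

lemma tc_apply (y : ↥(augI k A)) : tc k A y = (augI k A).toCotangent y := rfl

/-- `a ↦ a - ε(a)` as a map to the augmentation ideal -/
noncomputable def proj : A →ₗ[k] ↥(augI k A) where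
  toFun a := ⟨a - algebraMap k A (Coalgebra.counit (R := k) a), by
    rw [mem_augI, map_sub, Bialgebra.counit_algebraMap, sub_self]⟩
  map_add' a b := by
    apply Subtype.ext
    simp only [map_add, Submodule.coe_add]
    ring
  map_smul' c a := by
    apply Subtype.ext
    show c • a - algebraMap k A (Coalgebra.counit (R := k) (c • a)) =
      c • (a - algebraMap k A (Coalgebra.counit (R := k) a))
    rw [map_smul, smul_eq_mul, map_mul, smul_sub,
      Algebra.smul_def c (algebraMap k A (Coalgebra.counit (R := k) a))]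

lemma proj_coe (a : A) :
    ((proj k A a : ↥(augI k A)) : A) = a - algebraMap k A (Coalgebra.counit (R := k) a) := rfl

lemma smul_cotangent (a : A) (z : (augI k A).Cotangent) :
    a • z = (Coalgebra.counit (R := k) a) • z := by
  obtain ⟨y, rfl⟩ := Ideal.toCotangent_surjective _ z
  rw [← algebraMap_smul A (Coalgebra.counit (R := k) a) ((augI k A).toCotangent y), ← map_smul,
    ← map_smul, Ideal.toCotangent_eq]
  have h : ((a • y : ↥(augI k A)) : A) -
      ((algebraMap k A (Coalgebra.counit (R := k) a) • y : ↥(augI k A)) : A) =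
      (a - algebraMap k A (Coalgebra.counit (R := k) a)) * (y : A) := by
    simp only [Submodule.coe_smul, smul_eq_mul]
    ring
  rw [h, pow_two]
  refine Ideal.mul_mem_mul ?_ y.2
  rw [mem_augI, map_sub, Bialgebra.counit_algebraMap, sub_self]

lemma finite_cotangent [IsNoetherianRing A] : Module.Finite k (augI k A).Cotangent := by
  haveI hfin : Module.Finite A (augI k A).Cotangent :=
    Module.Finite.of_surjective (augI k A).toCotangent (Ideal.toCotangent_surjective _)
  obtain ⟨S, hS⟩ := hfin.fg_top
  rw [Module.finite_def]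
  refine ⟨S, ?_⟩
  rw [eq_top_iff]
  rintro z -
  have hz : z ∈ Submodule.span A (S : Set (augI k A).Cotangent) := hS ▸ Submodule.mem_top
  induction hz using Submodule.span_induction with
  | mem y hy => exact Submodule.subset_span hy
  | zero => exact Submodule.zero_mem _
  | add y z _ _ hy hz => exact Submodule.add_mem _ hy hz
  | smul a y _ hy =>
    rw [smul_cotangent k A a y]
    exact Submodule.smul_mem _ _ hy

/-- **The graded pieces of the augmentation ideal.** -/
theorem finrank_quotient_pow_succ [IsNoetherianRing A] (n : ℕ) (hn : (n.factorial : k) ≠ 0) :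
    Module.finrank k (A ⧸ augI k A ^ (n + 1)) = Module.finrank k (A ⧸ augI k A ^ n) +
      (Module.finrank k (augI k A).Cotangent + n - 1).choose n := by
  classical
  haveI := finite_cotangent k A
  let b := Module.finBasis k (augI k A).Cotangent
  choose x0 hx0 using fun j => Ideal.toCotangent_surjective (augI k A) (b j)
  let x : Fin (Module.finrank k (augI k A).Cotangent) → A := fun j => (x0 j : A)
  have hxI : ∀ j, x j ∈ augI k A := fun j => (x0 j).2
  have S1 : ∀ y ∈ augI k A, ∃ c : Fin (Module.finrank k (augI k A).Cotangent) → k,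
      y - ∑ j, c j • x j ∈ augI k A ^ 2 := by
    intro y hy
    refine ⟨fun j => b.repr (tc k A ⟨y, hy⟩) j, ?_⟩
    have h1 : (augI k A).toCotangent
        (⟨y, hy⟩ - ∑ j, (b.repr (tc k A ⟨y, hy⟩) j) • x0 j) = 0 := by
      have h2 : tc k A (⟨y, hy⟩ - ∑ j, (b.repr (tc k A ⟨y, hy⟩) j) • x0 j) = 0 := by
        rw [map_sub, map_sum]
        simp only [map_smul, tc_apply, hx0]
        rw [← tc_apply, b.sum_repr, sub_self]
      exact h2
    have h3 := (Ideal.toCotangent_eq_zero _ _).1 h1
    have h4 : ((⟨y, hy⟩ - ∑ j, (b.repr (tc k A ⟨y, hy⟩) j) • x0 j : ↥(augI k A)) : A) =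
        y - ∑ j, (b.repr (tc k A ⟨y, hy⟩) j) • x j := by
      push_cast
      rfl
    rw [h4] at h3
    exact h3
  let ξ : Fin (Module.finrank k (augI k A).Cotangent) → (A →ₗ[k] k) :=
    fun i => (b.coord i) ∘ₗ (tc k A) ∘ₗ (proj k A)
  have hξ1 : ∀ i, ξ i 1 = 0 := by
    intro i
    have h : proj k A 1 = 0 := by
      apply Subtype.ext
      rw [proj_coe, Bialgebra.counit_one, map_one, sub_self]
      rfl
    show b.coord i (tc k A (proj k A 1)) = 0
    rw [h, map_zero, map_zero]
  have hξ2 : ∀ i, ∀ z ∈ augI k A * augI k A, ξ i z = 0 := by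
    intro i z hz
    have hz0 : Coalgebra.counit (R := k) z = 0 := (mem_augI z).1 (Ideal.mul_le_right hz)
    have h : tc k A (proj k A z) = 0 := by
      rw [tc_apply, Ideal.toCotangent_eq_zero, proj_coe, hz0, map_zero, sub_zero, pow_two]
      exact hz
    show b.coord i (tc k A (proj k A z)) = 0
    rw [h, map_zero]
  have hξx : ∀ i j, ξ i (x j) = if i = j then 1 else 0 := by
    intro i j
    have h : proj k A (x j) = x0 j := by
      apply Subtype.ext
      rw [proj_coe, (mem_augI _).1 (hxI j), map_zero, sub_zero]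
    show b.coord i (tc k A (proj k A (x j))) = _
    rw [h, tc_apply, hx0, Module.Basis.coord_apply, Module.Basis.repr_self, Finsupp.single_apply]
    by_cases hij : i = j
    · rw [if_pos hij, if_pos hij.symm]
    · rw [if_neg hij, if_neg (Ne.symm hij)]
  have hξD : ∀ i, IsEpsDer (ξ i) := fun i => isEpsDer_of_vanish (ξ i) (hξ1 i) (hξ2 i)
  let D : Fin (Module.finrank k (augI k A).Cotangent) → Derivation k A A :=
    fun i => derOf (ξ i) (hξD i)
  have hD : ∀ i j, Coalgebra.counit (R := k) (D i (x j)) = if i = j then 1 else 0 := by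
    intro i j
    show Coalgebra.counit (R := k) (opT k A A (ξ i) (x j)) = _
    rw [counit_opT, hξx]
  have hS := exists_homogeneous_sub_mem x hxI S1
  exact finrank_of_span_indep (k := k) x (augI k A) hxI hS n
    (eq_zero_of_aeval_mem_pow x hxI D hD n hn)

end Main

end Groth.Agent.Lib.Helper19.Cartier
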