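import Groth.Agent.Lib.Helper19.Unip1
import Mathlib.RingTheory.Bialgebra.TensorProduct
import Mathlib.RingTheory.Bialgebra.GroupLike
import Mathlib.LinearAlgebra.DirectSum.Finsupp

/-!
# Unipotent groups: base change, and homomorphisms from / to groups of multiplicative type (helper19)

* `utSpan_baseChange`: unitriangular coefficients span after any base change.
* `isCoconn_descend`: coconnectedness descends along a field extension.
* `IsCharFam`: a separating family of "characters" (convolution idempotent linear forms);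
  `IsCharFam.eq_one_of_isUTMat`, `IsCharFam.isTrivial`.
* `isCharFam_E₀`, `isCharFam_ER`: the coordinate forms of a group-like basis of `K ⊗ AM`.
* `isTrivial_of_diag_to_unip`: maps from a group of multiplicative type to a unipotent group.
-/

set_option autoImplicit false
universe u v w

open TensorProduct

namespace Groth.Agent.Lib.Helper19.Unip

open Groth.Agent.Lib.Helper19.Reynolds
open Groth.Agent.Lib.Helper19.Coalg

section BaseChange

variable {k : Type u} {A : Type v} [CommRing k] [CommRing A] [Bialgebra k A]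
variable (R : Type w) [CommRing R] [Algebra k R]

lemma IsUTMat.baseChange {n : ℕ} {M : Matrix (Fin n) (Fin n) A} (hM : IsUTMat k M) :
    IsUTMat R (fun i j => (1 : R) ⊗ₜ[k] M i j : Matrix (Fin n) (Fin n) (R ⊗[k] A)) where
  comul := fun i j => by
    show Coalgebra.comul (R := R) ((1 : R) ⊗ₜ[k] M i j) =
      ∑ l, ((1 : R) ⊗ₜ[k] M i l) ⊗ₜ[R] ((1 : R) ⊗ₜ[k] M l j)
    rw [TensorProduct.comul_tmul, CommSemiring.comul_apply, hM.comul, TensorProduct.tmul_sum,
      map_sum]
    simp only [AlgebraTensorModule.tensorTensorTensorComm_tmul]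
  counit := fun i j => by
    show Coalgebra.counit (R := R) ((1 : R) ⊗ₜ[k] M i j) = _
    rw [TensorProduct.counit_tmul, CommSemiring.counit_apply, hM.counit]
    split_ifs
    · rw [one_smul]
    · rw [zero_smul]
  lower := fun i j h => by
    show (1 : R) ⊗ₜ[k] M i j = 0
    rw [hM.lower i j h, TensorProduct.tmul_zero]
  diag := fun i => by
    show (1 : R) ⊗ₜ[k] M i i = 1
    rw [hM.diag, Algebra.TensorProduct.one_def]

theorem utSpan_baseChange (h : utSpan k A = ⊤) : utSpan R (R ⊗[k] A) = ⊤ := by
  have key : ∀ x : R ⊗[k] A, x ∈ utSpan R (R ⊗[k] A) := by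
    intro x
    induction x using TensorProduct.induction_on with
    | zero => exact zero_mem _
    | add x y hx hy => exact add_mem hx hy
    | tmul r a =>
      have ha : a ∈ utSpan k A := h ▸ Submodule.mem_top
      have h1 : (1 : R) ⊗ₜ[k] a ∈ utSpan R (R ⊗[k] A) := by
        unfold utSpan at ha
        induction ha using Submodule.span_induction with
        | mem x hx =>
          obtain ⟨n, M, i, j, hM, rfl⟩ := hx
          exact Submodule.subset_span ⟨n, _, i, j, hM.baseChange R, rfl⟩
        | zero =>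
          rw [TensorProduct.tmul_zero]
          exact zero_mem _
        | add x y _ _ hx hy =>
          rw [TensorProduct.tmul_add]
          exact add_mem hx hy
        | smul c x _ hx =>
          rw [TensorProduct.tmul_smul, ← algebraMap_smul R c ((1 : R) ⊗ₜ[k] x)]
          exact Submodule.smul_mem _ _ hx
      have h2 : r ⊗ₜ[k] a = r • ((1 : R) ⊗ₜ[k] a) := by
        rw [TensorProduct.smul_tmul', smul_eq_mul, mul_one]
      rw [h2]
      exact Submodule.smul_mem _ _ h1
  exact eq_top_iff.2 fun x _ => key x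

end BaseChange

section Descent

variable {k : Type u} {A : Type v} [Field k] [CommRing A] [Bialgebra k A]
variable (K : Type w) [Field K] [Algebra k K]

omit [CommRing A] [Bialgebra k A] in
lemma one_tmul_injective (N : Type*) [AddCommGroup N] [Module k N] :
    Function.Injective (fun x : N => (1 : K) ⊗ₜ[k] x) := by
  obtain ⟨π, hπ⟩ : ∃ π : K →ₗ[k] k, π 1 = 1 := by
    obtain ⟨g, hg⟩ := LinearMap.exists_leftInverse_of_injective (Algebra.linearMap k K)
      (LinearMap.ker_eq_bot.mpr (algebraMap k K).injective)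
    refine ⟨g, ?_⟩
    have := LinearMap.congr_fun hg 1
    simpa using this
  intro x y hxy
  have := congrArg (fun t => TensorProduct.lid k N (π.rTensor N t)) hxy
  simpa [hπ] using this

theorem isCoconn_descend (h : IsCoconn K (K ⊗[k] A)) : IsCoconn k A := by
  intro W hW hW0
  set W' : Submodule K (K ⊗[k] A) :=
    Submodule.span K ((fun a : A => (1 : K) ⊗ₜ[k] a) '' (W : Set A)) with hW'
  have hmem : ∀ w ∈ W, (1 : K) ⊗ₜ[k] w ∈ W' := fun w hw => Submodule.subset_span ⟨w, hw, rfl⟩
  have hsub : HopfRep.IsSubcomod (k := K) (A := K ⊗[k] A) W' := by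
    have aux : ∀ y : W ⊗[k] A, AlgebraTensorModule.tensorTensorTensorComm k K k K K K A A
        (((1 : K) ⊗ₜ[K] (1 : K)) ⊗ₜ[k] (W.subtype.rTensor A y)) ∈
        LinearMap.range (W'.subtype.rTensor (K ⊗[k] A)) := by
      intro y
      induction y using TensorProduct.induction_on with
      | zero =>
        rw [map_zero, TensorProduct.tmul_zero, map_zero]
        exact zero_mem _
      | tmul w a =>
        rw [LinearMap.rTensor_tmul, AlgebraTensorModule.tensorTensorTensorComm_tmul]
        exact ⟨(⟨(1 : K) ⊗ₜ[k] (w : A), hmem w w.2⟩ : W') ⊗ₜ[K] ((1 : K) ⊗ₜ[k] a), rfl⟩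
      | add x y hx hy =>
        rw [map_add, TensorProduct.tmul_add, map_add]
        exact add_mem hx hy
    have hle : W' ≤ Submodule.comap (HopfRep.Comod.coact (k := K) (A := K ⊗[k] A))
        (LinearMap.range (W'.subtype.rTensor (K ⊗[k] A))) := by
      apply Submodule.span_le.2
      rintro _ ⟨w, hw, rfl⟩
      rw [SetLike.mem_coe, Submodule.mem_comap]
      show Coalgebra.comul (R := K) ((1 : K) ⊗ₜ[k] w) ∈ _
      obtain ⟨y, hy⟩ := hW w hw
      have hy' : Coalgebra.comul (R := k) w = W.subtype.rTensor A y := hy.symm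
      rw [TensorProduct.comul_tmul, CommSemiring.comul_apply, hy']
      exact aux y
    exact fun w hw => hle hw
  have hne : W' ≠ ⊥ := by
    obtain ⟨w, hw, hw0⟩ := Submodule.exists_mem_ne_zero_of_ne_bot hW0
    intro hbot
    have h1 := hmem w hw
    rw [hbot, Submodule.mem_bot] at h1
    apply hw0
    apply one_tmul_injective (k := k) K A
    show (1 : K) ⊗ₜ[k] w = (1 : K) ⊗ₜ[k] (0 : A)
    rw [h1, TensorProduct.tmul_zero]
  have h1mem := h W' hsub hne
  have hker : W' ≤ LinearMap.ker (LinearMap.baseChange K W.mkQ) := by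
    apply Submodule.span_le.2
    rintro _ ⟨w, hw, rfl⟩
    rw [SetLike.mem_coe, LinearMap.mem_ker, LinearMap.baseChange_tmul, Submodule.mkQ_apply,
      (Submodule.Quotient.mk_eq_zero W).2 hw, TensorProduct.tmul_zero]
  have h1 := hker h1mem
  rw [LinearMap.mem_ker, Algebra.TensorProduct.one_def, LinearMap.baseChange_tmul] at h1
  have h2 : W.mkQ (1 : A) = 0 := by
    apply one_tmul_injective (k := k) K (A ⧸ W)
    show (1 : K) ⊗ₜ[k] W.mkQ (1 : A) = (1 : K) ⊗ₜ[k] (0 : A ⧸ W)
    rw [h1, TensorProduct.tmul_zero]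
  exact (Submodule.Quotient.mk_eq_zero W).1 h2

end Descent

section GroupLikeCoconn

variable {K : Type u} {A : Type v} [Field K] [CommRing A] [Bialgebra K A]

/-- In a coconnected bialgebra the only group-like element is `1`. -/
lemma groupLike_eq_one (h : IsCoconn K A) {g : A} (hg : IsGroupLikeElem K g) : g = 1 := by
  have hW : HopfRep.IsSubcomod (k := K) (A := A) (Submodule.span K {g}) := by
    have hle : Submodule.span K {g} ≤
        Submodule.comap (HopfRep.Comod.coact (k := K) (A := A) (V := A))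
        (LinearMap.range ((Submodule.span K {g}).subtype.rTensor A)) := by
      apply Submodule.span_le.2
      intro x hx
      rw [Set.mem_singleton_iff.1 hx, SetLike.mem_coe, Submodule.mem_comap]
      show Coalgebra.comul (R := K) g ∈ _
      rw [hg.comul_eq_tmul_self]
      exact ⟨(⟨g, Submodule.mem_span_singleton_self g⟩ : Submodule.span K {g}) ⊗ₜ[K] g, rfl⟩
    exact fun w hw => hle hw
  have hne : Submodule.span K {g} ≠ ⊥ := by
    rw [Ne, Submodule.span_singleton_eq_bot]
    exact hg.ne_zero
  obtain ⟨c, hc⟩ := Submodule.mem_span_singleton.1 (h _ hW hne)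
  have h1 := congrArg (Coalgebra.counit (R := K)) hc
  rw [map_smul, hg.counit_eq_one, Bialgebra.counit_one, smul_eq_mul, mul_one] at h1
  rw [h1, one_smul] at hc
  exact hc

end GroupLikeCoconn

section CharFam

variable {R : Type u} {H : Type v} {R' : Type w} [CommRing R] [CommRing H] [Bialgebra R H]
  [CommRing R'] [Algebra R R'] {ι : Type*}

/-- a separating family of convolution-idempotent linear forms with values `0` or `1` at `1` -/
structure IsCharFam (E : ι → H →ₗ[R] R') : Prop where
  sep : ∀ x, (∀ t, E t x = 0) → x = 0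
  idem : ∀ t x, LinearMap.mul' R R'
    (TensorProduct.map (E t) (E t) (Coalgebra.comul (R := R) x)) = E t x
  one : ∀ t, E t 1 = 0 ∨ E t 1 = 1

theorem IsCharFam.eq_one_of_isUTMat {E : ι → H →ₗ[R] R'} (hE : IsCharFam E) {n : ℕ}
    {N : Matrix (Fin n) (Fin n) H} (hN : IsUTMat R N) :
    ∀ i j, N i j = if i = j then 1 else 0 := by
  have key : ∀ d : ℕ, ∀ i j : Fin n, (i : ℕ) < j → (j : ℕ) - i = d → N i j = 0 := by
    intro d
    induction d using Nat.strong_induction_on with
    | _ d ih =>
      intro i j hij hd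
      have hne : i ≠ j := by
        intro h
        rw [h] at hij
        exact lt_irrefl _ hij
      have hΔ : Coalgebra.comul (R := R) (N i j) =
          (1 : H) ⊗ₜ[R] N i j + N i j ⊗ₜ[R] (1 : H) := by
        rw [hN.comul, Finset.sum_eq_add i j hne]
        · rw [hN.diag, hN.diag]
        · intro l _ hl
          by_cases h1 : l < i
          · rw [hN.lower i l h1, TensorProduct.zero_tmul]
          by_cases h2 : j < l
          · rw [hN.lower l j h2, TensorProduct.tmul_zero]
          have h1' : (i : ℕ) < l :=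
            lt_of_le_of_ne (Fin.le_def.1 (not_lt.1 h1)) (fun h => hl.1 (Fin.ext h.symm))
          have h2' : (l : ℕ) < j :=
            lt_of_le_of_ne (Fin.le_def.1 (not_lt.1 h2)) (fun h => hl.2 (Fin.ext h))
          rw [ih ((l : ℕ) - i) (by omega) i l h1' rfl, TensorProduct.zero_tmul]
        · intro h
          exact absurd (Finset.mem_univ i) h
        · intro h
          exact absurd (Finset.mem_univ j) h
      apply hE.sep
      intro t
      have h1 := hE.idem t (N i j)
      rw [hΔ, map_add, map_add, TensorProduct.map_tmul, TensorProduct.map_tmul,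
        LinearMap.mul'_apply, LinearMap.mul'_apply] at h1
      rcases hE.one t with h0 | h0
      · rw [h0, zero_mul, mul_zero, zero_add] at h1
        exact h1.symm
      · rw [h0, one_mul, mul_one] at h1
        exact add_eq_left.mp h1
  intro i j
  by_cases hij : i = j
  · rw [if_pos hij, hij, hN.diag]
  · rw [if_neg hij]
    rcases lt_or_gt_of_ne hij with h | h
    · exact key _ i j (Fin.lt_def.1 h) rfl
    · exact hN.lower i j h

theorem IsCharFam.isTrivial {U : Type*} [CommRing U] [Bialgebra R U] {E : ι → H →ₗ[R] R'}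
    (hE : IsCharFam E) (hU : utSpan R U = ⊤) (φ : U →ₐc[R] H) (a : U) :
    φ a = algebraMap R H (Coalgebra.counit (R := R) a) := by
  have hle : utSpan R U ≤ LinearMap.eqLocus (φ : U →ₐc[R] H).toLinearMap
      ((Algebra.linearMap R H) ∘ₗ Coalgebra.counit (R := R) (A := U)) := by
    apply Submodule.span_le.2
    rintro _ ⟨n, M, i, j, hM, rfl⟩
    rw [SetLike.mem_coe, LinearMap.mem_eqLocus]
    show φ (M i j) = algebraMap R H (Coalgebra.counit (R := R) (M i j))
    have h1 : φ (M i j) = if i = j then 1 else 0 := hE.eq_one_of_isUTMat (hM.map R φ) i j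
    rw [h1, hM.counit]
    split_ifs
    · rw [map_one]
    · rw [map_zero]
  exact hle (hU ▸ Submodule.mem_top)

end CharFam

section GroupLikeBasis

variable {k : Type u} [Field k] {K : Type v} [Field K] [Algebra k K]
  {AM : Type w} [CommRing AM] [Bialgebra k AM]
variable (hM : HopfRep.IsDiagonalizable K (K ⊗[k] AM))

/-- the basis of group-like elements of a diagonalizable bialgebra -/
noncomputable def glBasis :
    Module.Basis ({a : K ⊗[k] AM | IsGroupLikeElem K a} : Set (K ⊗[k] AM)) K (K ⊗[k] AM) :=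
  Module.Basis.mk (v := fun g => (g : K ⊗[k] AM))
    (linearIndepOn_isGroupLikeElem (R := K) (A := K ⊗[k] AM))
    (by
      have h1 : Set.range (fun g : ({a : K ⊗[k] AM | IsGroupLikeElem K a} : Set (K ⊗[k] AM)) =>
          (g : K ⊗[k] AM)) = {a : K ⊗[k] AM | IsGroupLikeElem K a} := Subtype.range_coe
      rw [h1]
      exact hM.ge)

lemma glBasis_apply (g : ({a : K ⊗[k] AM | IsGroupLikeElem K a} : Set (K ⊗[k] AM))) :
    glBasis hM g = (g : K ⊗[k] AM) := by
  unfold glBasis
  rw [Module.Basis.mk_apply]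

lemma isGroupLikeElem_glBasis (g : ({a : K ⊗[k] AM | IsGroupLikeElem K a} : Set (K ⊗[k] AM))) :
    IsGroupLikeElem K (glBasis hM g) := by
  rw [glBasis_apply]
  exact g.2

lemma coord_glBasis (g h : ({a : K ⊗[k] AM | IsGroupLikeElem K a} : Set (K ⊗[k] AM))) :
    (glBasis hM).coord g (glBasis hM h) = 0 ∨ (glBasis hM).coord g (glBasis hM h) = 1 := by
  classical
  rw [Module.Basis.coord_apply, Module.Basis.repr_self, Finsupp.single_apply]
  split_ifs
  · exact Or.inr rfl
  · exact Or.inl rfl

lemma coord_idem (g : ({a : K ⊗[k] AM | IsGroupLikeElem K a} : Set (K ⊗[k] AM)))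
    (x : K ⊗[k] AM) :
    LinearMap.mul' K K (TensorProduct.map ((glBasis hM).coord g) ((glBasis hM).coord g)
      (Coalgebra.comul (R := K) x)) = (glBasis hM).coord g x := by
  have : LinearMap.mul' K K ∘ₗ TensorProduct.map ((glBasis hM).coord g) ((glBasis hM).coord g) ∘ₗ
      (Coalgebra.comul (R := K) (A := K ⊗[k] AM)) = (glBasis hM).coord g := by
    apply (glBasis hM).ext
    intro h
    rw [LinearMap.comp_apply, LinearMap.comp_apply,
      (isGroupLikeElem_glBasis hM h).comul_eq_tmul_self, TensorProduct.map_tmul,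
      LinearMap.mul'_apply]
    rcases coord_glBasis hM g h with h0 | h0
    · rw [h0, mul_zero]
    · rw [h0, mul_one]
  exact LinearMap.congr_fun this x

lemma coord_one (g : ({a : K ⊗[k] AM | IsGroupLikeElem K a} : Set (K ⊗[k] AM))) :
    (glBasis hM).coord g 1 = 0 ∨ (glBasis hM).coord g 1 = 1 := by
  have h1 : (1 : K ⊗[k] AM) = glBasis hM ⟨1, IsGroupLikeElem.one⟩ := by
    rw [glBasis_apply]
  rw [h1]
  exact coord_glBasis hM g _

/-- the coordinate forms restricted to `AM` -/
noncomputable def E₀ (g : ({a : K ⊗[k] AM | IsGroupLikeElem K a} : Set (K ⊗[k] AM))) :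
    AM →ₗ[k] K :=
  ((glBasis hM).coord g).restrictScalars k ∘ₗ (TensorProduct.mk k K AM 1)

lemma E₀_apply (g : ({a : K ⊗[k] AM | IsGroupLikeElem K a} : Set (K ⊗[k] AM))) (m : AM) :
    E₀ hM g m = (glBasis hM).coord g ((1 : K) ⊗ₜ[k] m) := rfl

lemma E₀_idem (g : ({a : K ⊗[k] AM | IsGroupLikeElem K a} : Set (K ⊗[k] AM))) (m : AM) :
    LinearMap.mul' k K (TensorProduct.map (E₀ hM g) (E₀ hM g) (Coalgebra.comul (R := k) m)) =
      E₀ hM g m := by
  have h := coord_idem hM g ((1 : K) ⊗ₜ[k] m)
  rw [TensorProduct.comul_tmul, CommSemiring.comul_apply] at h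
  rw [E₀_apply, ← h]
  generalize Coalgebra.comul (R := k) m = t
  induction t using TensorProduct.induction_on with
  | zero => simp
  | tmul a b =>
    rw [AlgebraTensorModule.tensorTensorTensorComm_tmul, TensorProduct.map_tmul,
      TensorProduct.map_tmul, LinearMap.mul'_apply, LinearMap.mul'_apply]
    rfl
  | add x y hx hy => simp only [map_add, TensorProduct.tmul_add, hx, hy]

lemma E₀_one (g : ({a : K ⊗[k] AM | IsGroupLikeElem K a} : Set (K ⊗[k] AM))) :
    E₀ hM g 1 = 0 ∨ E₀ hM g 1 = 1 := by
  rw [E₀_apply, ← Algebra.TensorProduct.one_def]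
  exact coord_one hM g

lemma E₀_sep (m : AM) (h : ∀ g, E₀ hM g m = 0) : m = 0 := by
  apply one_tmul_injective (k := k) K AM
  show (1 : K) ⊗ₜ[k] m = (1 : K) ⊗ₜ[k] (0 : AM)
  rw [TensorProduct.tmul_zero]
  apply (glBasis hM).ext_elem
  intro g
  rw [map_zero, Finsupp.zero_apply]
  exact h g

theorem isCharFam_E₀ : IsCharFam (R := k) (H := AM) (R' := K) (E₀ hM) where
  sep := E₀_sep hM
  idem := E₀_idem hM
  one := E₀_one hM

variable (R : Type*) [CommRing R] [Algebra k R]

/-- the coordinate forms after base change to `R` -/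
noncomputable def ER (g : ({a : K ⊗[k] AM | IsGroupLikeElem K a} : Set (K ⊗[k] AM))) :
    R ⊗[k] AM →ₗ[R] R ⊗[k] K :=
  (E₀ hM g).baseChange R

lemma ER_tmul (g : ({a : K ⊗[k] AM | IsGroupLikeElem K a} : Set (K ⊗[k] AM))) (r : R) (m : AM) :
    ER hM R g (r ⊗ₜ[k] m) = r ⊗ₜ[k] E₀ hM g m := rfl

lemma ER_idem (g : ({a : K ⊗[k] AM | IsGroupLikeElem K a} : Set (K ⊗[k] AM)))
    (x : R ⊗[k] AM) :
    LinearMap.mul' R (R ⊗[k] K) (TensorProduct.map (ER hM R g) (ER hM R g)
      (Coalgebra.comul (R := R) x)) = ER hM R g x := by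
  induction x using TensorProduct.induction_on with
  | zero => simp
  | add x y hx hy => simp only [map_add, hx, hy]
  | tmul r m =>
    rw [TensorProduct.comul_tmul, CommSemiring.comul_apply, ER_tmul, ← E₀_idem hM g m]
    generalize Coalgebra.comul (R := k) m = t
    induction t using TensorProduct.induction_on with
    | zero => simp
    | tmul a b =>
      rw [AlgebraTensorModule.tensorTensorTensorComm_tmul, TensorProduct.map_tmul,
        TensorProduct.map_tmul, LinearMap.mul'_apply, LinearMap.mul'_apply, ER_tmul, ER_tmul,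
        Algebra.TensorProduct.tmul_mul_tmul, one_mul]
    | add x y hx hy => simp only [map_add, TensorProduct.tmul_add, hx, hy]

lemma ER_one (g : ({a : K ⊗[k] AM | IsGroupLikeElem K a} : Set (K ⊗[k] AM))) :
    ER hM R g 1 = 0 ∨ ER hM R g 1 = 1 := by
  rw [Algebra.TensorProduct.one_def, ER_tmul]
  rcases E₀_one hM g with h | h
  · left
    rw [h, TensorProduct.tmul_zero]
  · right
    rw [h, Algebra.TensorProduct.one_def]

lemma ER_sep (x : R ⊗[k] AM) (h : ∀ g, ER hM R g x = 0) : x = 0 := by
  classical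
  set Φ : AM →ₗ[k] (({a : K ⊗[k] AM | IsGroupLikeElem K a} : Set (K ⊗[k] AM)) →₀ K) :=
    ((glBasis hM).repr.toLinearMap.restrictScalars k) ∘ₗ (TensorProduct.mk k K AM 1) with hΦ
  have hΦinj : Function.Injective Φ := by
    intro a b hab
    apply one_tmul_injective (k := k) K AM
    exact (glBasis hM).repr.injective hab
  have hinj : Function.Injective (LinearMap.lTensor R Φ) :=
    Module.Flat.lTensor_preserves_injective_linearMap Φ hΦinj
  apply hinj
  rw [map_zero]
  apply (TensorProduct.finsuppRight k k R K _).injective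
  rw [map_zero]
  ext1 g
  rw [Finsupp.zero_apply, ← h g]
  generalize x = y
  induction y using TensorProduct.induction_on with
  | zero => simp
  | tmul r m =>
    rw [LinearMap.lTensor_tmul, TensorProduct.finsuppRight_apply_tmul_apply, ER_tmul]
    rfl
  | add a b ha hb => simp only [map_add, Finsupp.add_apply, ha, hb]

theorem isCharFam_ER : IsCharFam (R := R) (H := R ⊗[k] AM) (R' := R ⊗[k] K) (ER hM R) where
  sep := ER_sep hM R
  idem := ER_idem hM R
  one := ER_one hM R

include hM in
/-- every homomorphism from a group of multiplicative type to a unipotent group is trivial -/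
theorem isTrivial_of_diag_to_unip {AU : Type*} [CommRing AU] [Bialgebra k AU]
    (hU : utSpan k AU = ⊤) (ψ : AM →ₐc[k] AU) (m : AM) :
    ψ m = algebraMap k AU (Coalgebra.counit (R := k) m) := by
  have hco : IsCoconn K (K ⊗[k] AU) := isCoconn_of_isF1 (isF1_utFilt (utSpan_baseChange K hU))
  set ψ' : K ⊗[k] AM →ₐc[K] K ⊗[k] AU :=
    Bialgebra.TensorProduct.map (BialgHom.id K K) ψ with hψ'
  have hgl : ∀ g : K ⊗[k] AM, IsGroupLikeElem K g → ψ' g = 1 :=
    fun g hg => groupLike_eq_one hco (hg.map ψ')
  have heq : (ψ' : K ⊗[k] AM →ₐc[K] K ⊗[k] AU).toLinearMap =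
      (Algebra.linearMap K (K ⊗[k] AU)) ∘ₗ
        (Coalgebra.counit (R := K) (A := K ⊗[k] AM)) := by
    apply LinearMap.ext_on hM
    intro g hg
    have hg' : IsGroupLikeElem K g := hg
    rw [LinearMap.comp_apply, hg'.counit_eq_one]
    show ψ' g = algebraMap K _ 1
    rw [hgl g hg', map_one]
  have h1 : ψ' ((1 : K) ⊗ₜ[k] m) =
      algebraMap K (K ⊗[k] AU) (Coalgebra.counit (R := K) ((1 : K) ⊗ₜ[k] m)) :=
    LinearMap.congr_fun heq ((1 : K) ⊗ₜ[k] m)
  have h2 : ψ' ((1 : K) ⊗ₜ[k] m) = (1 : K) ⊗ₜ[k] ψ m :=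
    Bialgebra.TensorProduct.map_tmul _ _ _ _
  apply one_tmul_injective (k := k) K AU
  show (1 : K) ⊗ₜ[k] ψ m = (1 : K) ⊗ₜ[k] algebraMap k AU (Coalgebra.counit (R := k) m)
  rw [← h2, h1, TensorProduct.counit_tmul, CommSemiring.counit_apply,
    Algebra.TensorProduct.algebraMap_apply, Algebra.algebraMap_self, RingHom.id_apply,
    TensorProduct.smul_tmul, Algebra.algebraMap_eq_smul_one]

end GroupLikeBasis

end Groth.Agent.Lib.Helper19.Unip
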