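import Mathlib
import Groth.Agent.Lib.Helper19.Cartier1
import Groth.Agent.Lib.Helper19.Unip2

/-!
# Cartier's theorem for affine group schemes (helper19)

A finitely generated commutative Hopf algebra over a field of characteristic zero is reduced
(`isReduced_of_charZero`).  Consequently Hopf ideals are determined by their geometric points
(`hopfIdeal_le_of_points`).
-/

set_option autoImplicit false
universe u v

open TensorProduct

namespace Groth.Agent.Lib.Helper19.Cartier

open Groth.Agent.Lib.Helper19.Reynolds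
open Groth.Agent.Lib.Helper19.Coalg
open Groth.Agent.Lib.Helper19.Unip

section Coords

variable (k : Type u) [Field k] (A : Type v) [CommRing A] [Bialgebra k A]

/-- local coordinates at the unit section -/
theorem exists_coords [IsNoetherianRing A] :
    ∃ (r : ℕ) (x : Fin r → A), (∀ j, x j ∈ augI k A) ∧
      (∀ (n : ℕ) (a : A), a ∈ augI k A ^ n → ∃ p : MvPolynomial (Fin r) k,
        p.IsHomogeneous n ∧ a - MvPolynomial.aeval x p ∈ augI k A ^ (n + 1)) ∧
      (∀ n : ℕ, (n.factorial : k) ≠ 0 → ∀ p : MvPolynomial (Fin r) k, p.IsHomogeneous n →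
        MvPolynomial.aeval x p ∈ augI k A ^ (n + 1) → p = 0) := by
  classical
  haveI := finite_cotangent k A
  let b := Module.finBasis k (augI k A).Cotangent
  choose x0 hx0 using fun j => Ideal.toCotangent_surjective (augI k A) (b j)
  let x : Fin (Module.finrank k (augI k A).Cotangent) → A := fun j => (x0 j : A)
  have hxI : ∀ j, x j ∈ augI k A := fun j => (x0 j).2
  have S1 : ∀ y ∈ augI k A, ∃ c : Fin (Module.finrank k (augI k A).Cotangent) → k,
      y - ∑ j, c j • x j ∈ augI k A ^ 2 := by
    intro y hy
    refine ⟨fun j => b.repr (tc k A ⟨y, hy⟩) j, ?_⟩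
    have h1 : (augI k A).toCotangent
        (⟨y, hy⟩ - ∑ j, (b.repr (tc k A ⟨y, hy⟩) j) • x0 j) = 0 := by
      have h2 : tc k A (⟨y, hy⟩ - ∑ j, (b.repr (tc k A ⟨y, hy⟩) j) • x0 j) = 0 := by
        rw [map_sub, map_sum]
        simp only [map_smul, tc_apply, hx0]
        rw [← tc_apply, b.sum_repr, sub_self]
      exact h2
    have h3 := (Ideal.toCotangent_eq_zero _ _).1 h1
    have h4 : ((⟨y, hy⟩ - ∑ j, (b.repr (tc k A ⟨y, hy⟩) j) • x0 j : ↥(augI k A)) : A) =
        y - ∑ j, (b.repr (tc k A ⟨y, hy⟩) j) • x j := by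
      push_cast
      rfl
    rw [h4] at h3
    exact h3
  let ξ : Fin (Module.finrank k (augI k A).Cotangent) → (A →ₗ[k] k) :=
    fun i => (b.coord i) ∘ₗ (tc k A) ∘ₗ (proj k A)
  have hξ1 : ∀ i, ξ i 1 = 0 := by
    intro i
    have h : proj k A 1 = 0 := by
      apply Subtype.ext
      rw [proj_coe, Bialgebra.counit_one, map_one, sub_self]
      rfl
    show b.coord i (tc k A (proj k A 1)) = 0
    rw [h, map_zero, map_zero]
  have hξ2 : ∀ i, ∀ z ∈ augI k A * augI k A, ξ i z = 0 := by
    intro i z hz
    have hz0 : Coalgebra.counit (R := k) z = 0 := (mem_augI z).1 (Ideal.mul_le_right hz)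
    have h : tc k A (proj k A z) = 0 := by
      rw [tc_apply, Ideal.toCotangent_eq_zero, proj_coe, hz0, map_zero, sub_zero, pow_two]
      exact hz
    show b.coord i (tc k A (proj k A z)) = 0
    rw [h, map_zero]
  have hξx : ∀ i j, ξ i (x j) = if i = j then 1 else 0 := by
    intro i j
    have h : proj k A (x j) = x0 j := by
      apply Subtype.ext
      rw [proj_coe, (mem_augI _).1 (hxI j), map_zero, sub_zero]
    show b.coord i (tc k A (proj k A (x j))) = _
    rw [h, tc_apply, hx0, Module.Basis.coord_apply, Module.Basis.repr_self, Finsupp.single_apply]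
    by_cases hij : i = j
    · rw [if_pos hij, if_pos hij.symm]
    · rw [if_neg hij, if_neg (Ne.symm hij)]
  have hξD : ∀ i, IsEpsDer (ξ i) := fun i => isEpsDer_of_vanish (ξ i) (hξ1 i) (hξ2 i)
  let D : Fin (Module.finrank k (augI k A).Cotangent) → Derivation k A A :=
    fun i => derOf (ξ i) (hξD i)
  have hD : ∀ i j, Coalgebra.counit (R := k) (D i (x j)) = if i = j then 1 else 0 := by
    intro i j
    show Coalgebra.counit (R := k) (opT k A A (ξ i) (x j)) = _
    rw [counit_opT, hξx]
  exact ⟨_, x, hxI, exists_homogeneous_sub_mem x hxI S1, eq_zero_of_aeval_mem_pow x hxI D hD⟩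

/-- in characteristic zero, nilpotent elements lie in all powers of the augmentation ideal -/
theorem mem_pow_of_isNilpotent [CharZero k] [IsNoetherianRing A] (y : A) (hy : IsNilpotent y) :
    ∀ n : ℕ, y ∈ augI k A ^ n := by
  obtain ⟨r, x, hxI, hS, hL⟩ := exists_coords k A
  obtain ⟨m, hm⟩ := hy
  intro n
  induction n with
  | zero =>
    rw [pow_zero, Ideal.one_eq_top]
    exact Submodule.mem_top
  | succ n ih =>
    obtain ⟨p, hp, ht⟩ := hS n y ih
    have huI : MvPolynomial.aeval x p ∈ augI k A ^ n := aeval_mem_pow _ x hxI hp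
    rcases Nat.eq_zero_or_pos m with hm0 | hmpos
    · subst hm0
      rw [pow_zero] at hm
      have hy0 : y = 0 := by rw [← mul_one y, hm, mul_zero]
      rw [hy0]
      exact Ideal.zero_mem _
    · have hkey : (MvPolynomial.aeval x p) ^ m ∈ augI k A ^ (n * m + 1) := by
        have hgs := Commute.geom_sum₂_mul (Commute.all (MvPolynomial.aeval x p) y) m
        rw [hm, sub_zero] at hgs
        rw [← hgs]
        have h1 : (∑ i ∈ Finset.range m, (MvPolynomial.aeval x p) ^ i * y ^ (m - 1 - i)) ∈
            augI k A ^ (n * (m - 1)) := by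
          refine Ideal.sum_mem _ fun i hi => ?_
          have hi' : i < m := Finset.mem_range.1 hi
          have e : n * (m - 1) = n * i + n * (m - 1 - i) := by
            rw [← Nat.mul_add]
            congr 1
            omega
          rw [e, pow_add, pow_mul, pow_mul]
          exact Ideal.mul_mem_mul (Ideal.pow_mem_pow huI i) (Ideal.pow_mem_pow ih _)
        have h2 : MvPolynomial.aeval x p - y ∈ augI k A ^ (n + 1) := by
          have h := (Ideal.neg_mem_iff _).2 ht
          rwa [neg_sub] at h
        have h3 := Ideal.mul_mem_mul h1 h2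
        rw [← pow_add] at h3
        have e : n * (m - 1) + (n + 1) = n * m + 1 := by
          obtain ⟨m', rfl⟩ : ∃ m', m = m' + 1 := ⟨m - 1, by omega⟩
          simp only [Nat.add_sub_cancel]
          ring
        rwa [e] at h3
      have hpm : (p ^ m).IsHomogeneous (n * m) := hp.pow m
      have hzero : p ^ m = 0 := by
        apply hL (n * m) (Nat.cast_ne_zero.2 (Nat.factorial_ne_zero _)) (p ^ m) hpm
        rw [map_pow]
        exact hkey
      have hp0 : p = 0 := (pow_eq_zero_iff (by omega)).1 hzero
      rw [hp0, map_zero, sub_zero] at ht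
      exact ht

end Coords

section Krull

variable {A : Type v} [CommRing A]

lemma exists_mul_eq_self [IsNoetherianRing A] (I : Ideal A) (y : A) (hy : ∀ n : ℕ, y ∈ I ^ n) :
    ∃ i ∈ I, i * y = y := by
  have h : y ∈ (⨅ n : ℕ, I ^ n • ⊤ : Submodule A A) := by
    rw [Submodule.mem_iInf]
    intro n
    rw [smul_eq_mul, ← Ideal.one_eq_top, mul_one]
    exact hy n
  obtain ⟨r, hr⟩ := (Ideal.mem_iInf_smul_pow_eq_bot_iff I y).1 h
  exact ⟨r.1, r.2, hr⟩

end Krull

section Transl

variable {K : Type u} [Field K] {H : Type v} [CommRing H] [HopfAlgebra K H]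

/-- right translation by a point, as an algebra map -/
noncomputable def transl (g : H →ₐ[K] K) : H →ₐ[K] H :=
  (Algebra.TensorProduct.rid K K H).toAlgHom.comp
    ((Algebra.TensorProduct.map (AlgHom.id K H) g).comp (Bialgebra.comulAlgHom K H))

lemma transl_apply (g : H →ₐ[K] K) (a : H) : transl g a = opT K H H g.toLinearMap a := by
  rw [opT_regular_apply]
  show (Algebra.TensorProduct.rid K K H)
    (Algebra.TensorProduct.map (AlgHom.id K H) g (Coalgebra.comul (R := K) a)) = _
  generalize Coalgebra.comul (R := K) a = t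
  induction t using TensorProduct.induction_on with
  | zero => simp
  | tmul a b => simp
  | add s t hs ht => simp only [map_add, hs, ht]

lemma counit_transl (g : H →ₐ[K] K) (a : H) :
    Coalgebra.counit (R := K) (transl g a) = g a := by
  rw [transl_apply, counit_opT]
  rfl

lemma conv_antipode_right (g : H →ₐ[K] K) :
    conv g.toLinearMap (g.toLinearMap ∘ₗ HopfAlgebra.antipode K) =
      Coalgebra.counit (R := K) (A := H) := by
  ext a
  have key : ∀ t : H ⊗[K] H,
      LinearMap.mul' K K (TensorProduct.map g.toLinearMap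
        (g.toLinearMap ∘ₗ HopfAlgebra.antipode K) t) =
      g (LinearMap.mul' K H ((HopfAlgebra.antipode K).lTensor H t)) := by
    intro t
    induction t using TensorProduct.induction_on with
    | zero => simp
    | tmul a b => simp
    | add s t hs ht => simp only [map_add, hs, ht]
  show LinearMap.mul' K K (TensorProduct.map g.toLinearMap
      (g.toLinearMap ∘ₗ HopfAlgebra.antipode K) (Coalgebra.comul (R := K) a)) = _
  rw [key, HopfAlgebra.mul_antipode_lTensor_comul_apply, AlgHom.commutes]
  rfl

lemma conv_antipode_left (g : H →ₐ[K] K) :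
    conv (g.toLinearMap ∘ₗ HopfAlgebra.antipode K) g.toLinearMap =
      Coalgebra.counit (R := K) (A := H) := by
  ext a
  have key : ∀ t : H ⊗[K] H,
      LinearMap.mul' K K (TensorProduct.map (g.toLinearMap ∘ₗ HopfAlgebra.antipode K)
        g.toLinearMap t) =
      g (LinearMap.mul' K H ((HopfAlgebra.antipode K).rTensor H t)) := by
    intro t
    induction t using TensorProduct.induction_on with
    | zero => simp
    | tmul a b => simp
    | add s t hs ht => simp only [map_add, hs, ht]
  show LinearMap.mul' K K (TensorProduct.map (g.toLinearMap ∘ₗ HopfAlgebra.antipode K)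
      g.toLinearMap (Coalgebra.comul (R := K) a)) = _
  rw [key, HopfAlgebra.mul_antipode_rTensor_comul_apply, AlgHom.commutes]
  rfl

lemma transl_bijective (g : H →ₐ[K] K) : Function.Bijective (transl g) := by
  have hL : Function.LeftInverse (opT K H H (g.toLinearMap ∘ₗ HopfAlgebra.antipode K))
      (transl g) := by
    intro a
    rw [transl_apply, opT_comp, conv_antipode_left, opT_counit]
  have hR : Function.RightInverse (opT K H H (g.toLinearMap ∘ₗ HopfAlgebra.antipode K))
      (transl g) := by
    intro a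
    rw [transl_apply, opT_comp, conv_antipode_right, opT_counit]
  exact ⟨hL.injective, hR.surjective⟩

lemma exists_mul_eq_zero_of_isNilpotent [CharZero K] [IsNoetherianRing H] (y : H)
    (hy : IsNilpotent y) (g : H →ₐ[K] K) : ∃ s : H, s * y = 0 ∧ g s = 1 := by
  set e := AlgEquiv.ofBijective (transl g) (transl_bijective g) with he
  have hy' : IsNilpotent (e y) := hy.map e
  obtain ⟨i, hi, hiy⟩ := exists_mul_eq_self (augI K H) (e y)
    (mem_pow_of_isNilpotent K H (e y) hy')
  refine ⟨e.symm (1 - i), ?_, ?_⟩
  · have h : e (e.symm (1 - i) * y) = e 0 := by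
      rw [map_mul, AlgEquiv.apply_symm_apply, sub_mul, one_mul, hiy, sub_self, map_zero]
    exact e.injective h
  · have h1 : g (e.symm (1 - i)) = Coalgebra.counit (R := K) (e (e.symm (1 - i))) :=
      (counit_transl g (e.symm (1 - i))).symm
    rw [h1, AlgEquiv.apply_symm_apply, map_sub, Bialgebra.counit_one, (mem_augI i).1 hi, sub_zero]

/-- **Cartier's theorem**, algebraically closed case -/
theorem isReduced_of_isAlgClosed [IsAlgClosed K] [CharZero K] [Algebra.FiniteType K H] :
    IsReduced H := by
  haveI : IsNoetherianRing H := Algebra.FiniteType.isNoetherianRing K H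
  refine ⟨fun y hy => ?_⟩
  by_contra hy0
  let J : Ideal H := LinearMap.ker (LinearMap.toSpanSingleton H H y)
  have hJ : J ≠ ⊤ := by
    intro h
    have h1 : (1 : H) ∈ J := h ▸ Submodule.mem_top
    rw [LinearMap.mem_ker, LinearMap.toSpanSingleton_apply, one_smul] at h1
    exact hy0 h1
  obtain ⟨m, hm, hJm⟩ := Ideal.exists_le_maximal J hJ
  let _ := Ideal.Quotient.field m
  have hfin : Module.Finite K (H ⧸ m) := finite_of_finite_type_of_isJacobsonRing K (H ⧸ m)
  have hbij : Function.Bijective (algebraMap K (H ⧸ m)) :=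
    IsAlgClosed.algebraMap_bijective_of_isIntegral
  let e : K ≃ₐ[K] (H ⧸ m) := AlgEquiv.ofBijective (Algebra.ofId K (H ⧸ m)) hbij
  let g : H →ₐ[K] K := (e.symm : (H ⧸ m) →ₐ[K] K).comp (Ideal.Quotient.mkₐ K m)
  obtain ⟨s, hs0, hs1⟩ := exists_mul_eq_zero_of_isNilpotent y hy g
  have hsJ : s ∈ J := by
    rw [LinearMap.mem_ker, LinearMap.toSpanSingleton_apply, smul_eq_mul]
    exact hs0
  have hsm : s ∈ m := hJm hsJ
  have hgs : g s = 0 := by
    show e.symm (Ideal.Quotient.mk m s) = 0
    rw [Ideal.Quotient.eq_zero_iff_mem.2 hsm, map_zero]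
  rw [hgs] at hs1
  exact zero_ne_one hs1

end Transl

section General

/-- **Cartier's theorem**: a finitely generated commutative Hopf algebra over a field of
characteristic zero is reduced. -/
theorem isReduced_of_charZero (k : Type u) [Field k] [CharZero k] (A : Type v) [CommRing A]
    [HopfAlgebra k A] [Algebra.FiniteType k A] : IsReduced A := by
  haveI : CharZero (AlgebraicClosure k) :=
    charZero_of_injective_algebraMap (algebraMap k (AlgebraicClosure k)).injective
  haveI : IsReduced (AlgebraicClosure k ⊗[k] A) :=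
    isReduced_of_isAlgClosed (K := AlgebraicClosure k) (H := AlgebraicClosure k ⊗[k] A)
  refine ⟨fun y hy => ?_⟩
  have h1 : IsNilpotent ((1 : AlgebraicClosure k) ⊗ₜ[k] y) :=
    hy.map (Algebra.TensorProduct.includeRight : A →ₐ[k] AlgebraicClosure k ⊗[k] A)
  have h2 : (1 : AlgebraicClosure k) ⊗ₜ[k] y = 0 := IsReduced.eq_zero _ h1
  apply one_tmul_injective (k := k) (AlgebraicClosure k) A
  show (1 : AlgebraicClosure k) ⊗ₜ[k] y = (1 : AlgebraicClosure k) ⊗ₜ[k] (0 : A)
  rw [h2, TensorProduct.tmul_zero]

/-- a reduced finitely generated algebra over a field is separated by its geometric points -/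
lemma eq_zero_of_forall_algHom_eq_zero (k : Type u) [Field k] (B : Type v) [CommRing B]
    [Algebra k B] [Algebra.FiniteType k B] [IsReduced B] (b : B)
    (hb : ∀ f : B →ₐ[k] AlgebraicClosure k, f b = 0) : b = 0 := by
  haveI : IsJacobsonRing B := isJacobsonRing_of_finiteType (A := k)
  have hrad : (⊥ : Ideal B).IsRadical := by
    intro z hz
    obtain ⟨n, hn⟩ := hz
    rw [Ideal.mem_bot] at hn ⊢
    exact IsReduced.eq_zero z ⟨n, hn⟩
  have hjac : (⊥ : Ideal B).jacobson = ⊥ := IsJacobsonRing.out' _ hrad
  have hmem : b ∈ (⊥ : Ideal B).jacobson := by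
    unfold Ideal.jacobson
    rw [Ideal.mem_sInf]
    rintro m ⟨-, hm⟩
    let _ := Ideal.Quotient.field m
    have hfin : Module.Finite k (B ⧸ m) := finite_of_finite_type_of_isJacobsonRing k (B ⧸ m)
    let φ : (B ⧸ m) →ₐ[k] AlgebraicClosure k := IsAlgClosed.lift
    have h1 : φ (Ideal.Quotient.mk m b) = 0 := hb (φ.comp (Ideal.Quotient.mkₐ k m))
    have h2 : Ideal.Quotient.mk m b = 0 := by
      apply (φ : (B ⧸ m) →+* AlgebraicClosure k).injective
      rw [map_zero]
      exact h1
    exact Ideal.Quotient.eq_zero_iff_mem.1 h2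
  rw [hjac, Ideal.mem_bot] at hmem
  exact hmem

/-- Hopf ideals in characteristic zero are determined by their geometric points -/
theorem hopfIdeal_le_of_points (k : Type u) [Field k] [CharZero k] (A : Type v) [CommRing A]
    [HopfAlgebra k A] [Algebra.FiniteType k A] (I I' : Ideal A) [I.IsHopfIdeal k]
    (h : ∀ g : A →ₐ[k] AlgebraicClosure k, I ≤ RingHom.ker g → I' ≤ RingHom.ker g) : I' ≤ I := by
  haveI : Algebra.FiniteType k (A ⧸ I) :=
    Algebra.FiniteType.of_surjective (Ideal.Quotient.mkₐ k I) (Ideal.Quotient.mkₐ_surjective k I)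
  haveI : IsReduced (A ⧸ I) := isReduced_of_charZero k (A ⧸ I)
  intro a ha
  rw [← Ideal.Quotient.eq_zero_iff_mem]
  apply eq_zero_of_forall_algHom_eq_zero k (A ⧸ I)
  intro f
  have h1 : I ≤ RingHom.ker (f.comp (Ideal.Quotient.mkₐ k I)) := by
    intro i hi
    rw [RingHom.mem_ker]
    show f (Ideal.Quotient.mk I i) = 0
    rw [Ideal.Quotient.eq_zero_iff_mem.2 hi, map_zero]
  have h2 := h _ h1 ha
  rw [RingHom.mem_ker] at h2
  exact h2

end General

end Groth.Agent.Lib.Helper19.Cartier
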