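import Mathlib
import Groth.Prelude.Def_ArtFun2
import Groth.Prelude.Def_ArtFun5
import Groth.Prelude.Def_W4sfdMinVersal
import Groth.Agent.Lib.Helper19.ArtFunBasic
import Groth.Agent.Lib.Helper19.ArtFunTangent

/-!
# The functor `h_R`: fibre products and the tangent space (helper19)

* `hR_exists_lift`, `hR_lift_unique`: `h_R` preserves fibre products;
* `tszLift`: the algebra map `R → k ⊕ M` of a derivation-like map; `derHom`, `derHom2`;
* `derOf`: the derivation of an element of `h_R(k[ε])`;
* `tangentLin`: for a family `ξ` of `F` over `R` and a `TangentStr` on `F`, the `k`-linear map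
  `Der_Λ(R, k) → t_F`, with `tangentLin_apply` and `tangentLin_surjective`.
-/

set_option autoImplicit false
universe u v

open CategoryTheory

namespace Groth.Agent.Lib.Helper19.ArtFunHR

open ArtFun ArtFun.Art Groth.Agent.Lib.Helper19.ArtFunBasic Groth.Agent.Lib.Helper19.ArtFunTangent

variable {Λ : Type u} {k : Type u} [CommRing Λ] [Field k] [Algebra Λ k]

section FibreProd

variable {R : Type u} [CommRing R] [Algebra Λ R] {resR : R →ₐ[Λ] k}

theorem hR_exists_lift {B A A' A'' : Art Λ k} {p' : B ⟶ A'} {p'' : B ⟶ A''}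
    {f' : A' ⟶ A} {f'' : A'' ⟶ A} (h : IsFibreProd p' p'' f' f'')
    (u' : HomSet R resR A') (u'' : HomSet R resR A'')
    (hu : HomSet.map f' u' = HomSet.map f'' u'') :
    ∃ v : HomSet R resR B, HomSet.map p' v = u' ∧ HomSet.map p'' v = u'' := by
  have hφ : f'.toAlgHom.comp u'.1 = f''.toAlgHom.comp u''.1 := congrArg Subtype.val hu
  obtain ⟨ψ, h1, h2⟩ := exists_lift_of_isFibreProd h u'.1 u''.1 hφ
  have hres : B.res.comp ψ = resR := by
    rw [← p'.res_comp, AlgHom.comp_assoc, h1, u'.2]
  exact ⟨⟨ψ, hres⟩, Subtype.ext h1, Subtype.ext h2⟩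

theorem hR_lift_unique {B A A' A'' : Art Λ k} {p' : B ⟶ A'} {p'' : B ⟶ A''}
    {f' : A' ⟶ A} {f'' : A'' ⟶ A} (h : IsFibreProd p' p'' f' f'')
    (v₁ v₂ : HomSet R resR B) (h1 : HomSet.map p' v₁ = HomSet.map p' v₂)
    (h2 : HomSet.map p'' v₁ = HomSet.map p'' v₂) : v₁ = v₂ := by
  apply Subtype.ext
  apply AlgHom.ext
  intro r
  apply h.inj
  · exact AlgHom.congr_fun (congrArg Subtype.val h1) r
  · exact AlgHom.congr_fun (congrArg Subtype.val h2) r

end FibreProd

section Lift

variable {R : Type u} [CommRing R] [Algebra Λ R] (resR : R →ₐ[Λ] k)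
variable {M : Type u} [AddCommGroup M] [Module k M] [Module kᵐᵒᵖ M] [SMulCommClass k kᵐᵒᵖ M]
  [IsCentralScalar k M] [Module Λ M] [IsScalarTower Λ k M] [IsScalarTower Λ kᵐᵒᵖ M]

/-- The algebra map `R → k ⊕ M`, `r ↦ (res r, D r)`, of a derivation-like map. -/
def tszLift (D : R →ₗ[Λ] M) (hD : ∀ r s, D (r * s) = resR r • D s + resR s • D r) :
    R →ₐ[Λ] TrivSqZeroExt k M :=
  have hD1 : D 1 = 0 := by
    have := hD 1 1
    rw [mul_one, (map_one resR : resR 1 = 1), one_smul] at this
    exact left_eq_add.mp this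
  { toFun := fun r => (resR r, D r)
    map_one' := TrivSqZeroExt.ext (map_one resR) hD1
    map_mul' := fun r s => TrivSqZeroExt.ext (map_mul resR r s) (by
      change D (r * s) = resR r • D s + MulOpposite.op (resR s) • D r
      rw [hD, op_smul_eq_smul])
    map_zero' := TrivSqZeroExt.ext (map_zero resR) (map_zero D)
    map_add' := fun r s => TrivSqZeroExt.ext (map_add resR r s) (map_add D r s)
    commutes' := fun l => TrivSqZeroExt.ext (by
        change resR (algebraMap Λ R l) = (algebraMap Λ (TrivSqZeroExt k M) l).fst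
        rw [resR.commutes]
        rfl) (by
        change D (algebraMap Λ R l) = (algebraMap Λ (TrivSqZeroExt k M) l).snd
        rw [Algebra.algebraMap_eq_smul_one, map_smul, hD1, smul_zero]
        rfl) }

theorem tszLift_apply (D : R →ₗ[Λ] M) (hD : ∀ r s, D (r * s) = resR r • D s + resR s • D r)
    (r : R) : tszLift resR D hD r = (resR r, D r) := rfl

end Lift

section Der

variable (R : CRing Λ k)

/-- `k` as an algebra over the coefficient ring, through the augmentation. -/
@[reducible] def algK : Algebra R.carrier k := R.res.toRingHom.toAlgebra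

attribute [local instance] algK

theorem isScalarTower_algK : IsScalarTower Λ R.carrier k :=
  IsScalarTower.of_algebraMap_eq (fun x => (AlgHom.commutes R.res x).symm)

attribute [local instance] isScalarTower_algK

theorem algK_smul (r : R.carrier) (c : k) : r • c = R.res r * c := rfl

/-- the element of `h_R(k[ε])` of a derivation -/
def derHom (D : Derivation Λ R.carrier k) : HomSet R.carrier R.res (dual Λ k) :=
  ⟨tszLift R.res (D : R.carrier →ₗ[Λ] k) (fun r s => by
    change D (r * s) = R.res r • D s + R.res s • D r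
    rw [Derivation.leibniz]
    rfl), AlgHom.ext fun _ => rfl⟩

theorem derHom_apply (D : Derivation Λ R.carrier k) (r : R.carrier) :
    (derHom R D).1 r = (R.res r, D r) := rfl

/-- the element of `h_R(k[ε₁, ε₂])` of two derivations -/
def derHom2 (D₁ D₂ : Derivation Λ R.carrier k) : HomSet R.carrier R.res (dual2 Λ k) :=
  ⟨tszLift R.res ((D₁ : R.carrier →ₗ[Λ] k).prod (D₂ : R.carrier →ₗ[Λ] k)) (fun r s => by
    change (D₁ (r * s), D₂ (r * s)) = R.res r • (D₁ s, D₂ s) + R.res s • (D₁ r, D₂ r)
    rw [Derivation.leibniz, Derivation.leibniz]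
    rfl), AlgHom.ext fun _ => rfl⟩

theorem map_pr₁_derHom2 (D₁ D₂ : Derivation Λ R.carrier k) :
    HomSet.map pr₁ (derHom2 R D₁ D₂) = derHom R D₁ := rfl

theorem map_pr₂_derHom2 (D₁ D₂ : Derivation Λ R.carrier k) :
    HomSet.map pr₂ (derHom2 R D₁ D₂) = derHom R D₂ := rfl

theorem map_plus_derHom2 (D₁ D₂ : Derivation Λ R.carrier k) :
    HomSet.map plus (derHom2 R D₁ D₂) = derHom R (D₁ + D₂) := rfl

theorem map_scale_derHom (c : k) (D : Derivation Λ R.carrier k) :
    HomSet.map (scale c) (derHom R D) = derHom R (c • D) := rfl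

/-- the derivation of an element of `h_R(k[ε])` -/
def derOf (φ : HomSet R.carrier R.res (dual Λ k)) : Derivation Λ R.carrier k :=
  have hfst : ∀ r, (φ.1 r).fst = R.res r := fun r => AlgHom.congr_fun φ.2 r
  Derivation.mk'
    { toFun := fun r => (φ.1 r).snd
      map_add' := fun r s => by rw [map_add]; rfl
      map_smul' := fun l r => by rw [map_smul]; rfl }
    (fun r s => by
      change (φ.1 (r * s)).snd = r • (φ.1 s).snd + s • (φ.1 r).snd
      have hm : φ.1 (r * s) = φ.1 r * φ.1 s := map_mul φ.1 r s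
      have h2 : TrivSqZeroExt.snd ((φ.1 r : DualNumber k) * (φ.1 s : DualNumber k)) =
          (φ.1 r).fst • (φ.1 s).snd + MulOpposite.op (φ.1 s).fst • (φ.1 r).snd :=
        TrivSqZeroExt.snd_mul (φ.1 r : DualNumber k) (φ.1 s : DualNumber k)
      rw [hm]
      refine h2.trans ?_
      rw [hfst, hfst, op_smul_eq_smul]
      rfl)

theorem derHom_derOf (φ : HomSet R.carrier R.res (dual Λ k)) : derHom R (derOf R φ) = φ := by
  apply Subtype.ext
  apply AlgHom.ext
  intro r
  have hfst : (φ.1 r).fst = R.res r := AlgHom.congr_fun φ.2 r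
  exact TrivSqZeroExt.ext hfst.symm rfl

theorem derOf_derHom (D : Derivation Λ R.carrier k) : derOf R (derHom R D) = D := by
  ext r
  rfl

variable {F : Art Λ k ⥤ Type v} [T : TangentStr F] (ξ : Family R.carrier R.res F)

/-- The tangent map `Der_Λ(R, k) → t_F` of a family, as a linear map. -/
def tangentLin : Derivation Λ R.carrier k →ₗ[k] TangentSpace F where
  toFun := fun D => ξ.app (dual Λ k) (derHom R D)
  map_add' := fun D₁ D₂ => by
    have h := T.add_eq (ξ.app (dual2 Λ k) (derHom2 R D₁ D₂))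
    rw [← ξ.natural, ← ξ.natural, ← ξ.natural, map_pr₁_derHom2, map_pr₂_derHom2,
      map_plus_derHom2] at h
    exact h.symm
  map_smul' := fun c D => by
    have h := T.smul_eq c (ξ.app (dual Λ k) (derHom R D))
    rw [← ξ.natural, map_scale_derHom] at h
    exact h.symm

theorem tangentLin_apply (D : Derivation Λ R.carrier k) :
    tangentLin R ξ D = ξ.app (dual Λ k) (derHom R D) := rfl

theorem tangentLin_surjective (hξ : Function.Surjective (ξ.app (dual Λ k))) :
    Function.Surjective (tangentLin R ξ) := by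
  intro x
  obtain ⟨φ, hφ⟩ := hξ x
  refine ⟨derOf R φ, ?_⟩
  rw [tangentLin_apply, derHom_derOf]
  exact hφ

end Der

section Trunc

/-- A surjective endomorphism of a Noetherian ring is injective. -/
theorem injective_of_surjective_ringEnd {R : Type*} [CommRing R] [IsNoetherianRing R]
    (f : R →+* R) (hf : Function.Surjective f) : Function.Injective f := by
  let K : ℕ →o Ideal R := ⟨fun n => RingHom.ker (f ^ n), fun m n hmn x hx => by
    rw [RingHom.mem_ker] at hx ⊢
    obtain ⟨d, rfl⟩ := Nat.exists_eq_add_of_le hmn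
    rw [add_comm, pow_add, RingHom.mul_def, RingHom.comp_apply, hx, map_zero]⟩
  obtain ⟨n, hn⟩ := monotone_stabilizes_iff_noetherian.mpr (inferInstance : IsNoetherian R R) K
  rw [injective_iff_map_eq_zero]
  intro x hx
  have hsurj : Function.Surjective (f ^ n) := by
    rw [RingHom.coe_pow]; exact hf.iterate n
  obtain ⟨y, rfl⟩ := hsurj x
  have h1 : y ∈ K (n + 1) := by
    change (f ^ (n + 1)) y = 0
    rw [pow_succ', RingHom.mul_def, RingHom.comp_apply]
    exact hx
  rw [← hn (n + 1) (Nat.le_succ n)] at h1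
  exact h1

/-- the maximal ideal of `k[ε]` has square zero -/
theorem sq_maximalIdeal_dual : IsLocalRing.maximalIdeal (dual Λ k) ^ 2 = ⊥ := by
  rw [pow_two, ← le_bot_iff, Ideal.mul_le]
  intro x hx y hy
  rw [Ideal.mem_bot]
  have hx0 : x.fst = 0 := (mem_maximalIdeal_iff (dual Λ k) x).mp hx
  have hy0 : y.fst = 0 := (mem_maximalIdeal_iff (dual Λ k) y).mp hy
  refine TrivSqZeroExt.ext ?_ ?_
  · change x.fst * y.fst = 0
    rw [hx0, zero_mul]
  · change x.fst • y.snd + MulOpposite.op y.fst • x.snd = 0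
    rw [hx0, hy0, zero_smul, MulOpposite.op_zero, zero_smul, add_zero]

/-- An element of `h_R(A)` factors through a truncation of `R`. -/
theorem exists_factor_trunc (R : CRing Λ k) {A : Art Λ k} (φ : HomSet R.carrier R.res A) (n : ℕ)
    (hn : IsLocalRing.maximalIdeal A ^ (n + 1) = ⊥) :
    ∃ φ' : R.trunc n ⟶ A, HomSet.map φ' (R.truncHom n) = φ := by
  have hm : ∀ r ∈ IsLocalRing.maximalIdeal R.carrier, φ.1 r ∈ IsLocalRing.maximalIdeal A := by
    intro r hr
    rw [mem_maximalIdeal_iff]
    rw [CRing.mem_maximalIdeal_iff] at hr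
    rw [← hr]
    exact AlgHom.congr_fun φ.2 r
  have hkill : ∀ a ∈ CRing.mpow R n, φ.1 a = 0 := by
    intro a ha
    have h1 : Ideal.map φ.1 (IsLocalRing.maximalIdeal R.carrier ^ (n + 1)) ≤ ⊥ := by
      rw [Ideal.map_pow, ← hn]
      apply Ideal.pow_right_mono
      rw [Ideal.map_le_iff_le_comap]
      exact hm
    exact h1 (Ideal.mem_map_of_mem φ.1 ha)
  refine ⟨⟨Ideal.Quotient.liftₐ (CRing.mpow R n) φ.1 hkill, ?_⟩, ?_⟩
  · apply AlgHom.ext
    intro x
    obtain ⟨a, rfl⟩ := Ideal.Quotient.mk_surjective x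
    exact AlgHom.congr_fun φ.2 a
  · apply Subtype.ext
    apply AlgHom.ext
    intro r
    rfl

variable {F : Art Λ k ⥤ Type v}

/-- the formal element of a transported family is the pushforward of the formal element -/
theorem toFormalElt_along {R S : CRing Λ k} (ξ : Family R.carrier R.res F)
    (g : R.carrier →ₐ[Λ] S.carrier) (hg : S.res.comp g = R.res) :
    (ξ.along g hg).toFormalElt = ξ.toFormalElt.push g hg := by
  apply FormalElt.ext'
  intro n
  change ξ.app _ ⟨(S.truncHom n).1.comp g, _⟩ =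
    F.map (CRing.truncMapOfHom g hg n) (ξ.app _ (R.truncHom n))
  rw [← ξ.natural]
  congr 1

theorem toFormalElt_along_congr {R S : CRing Λ k} (ξ : Family R.carrier R.res F)
    (g g' : R.carrier →ₐ[Λ] S.carrier) (hg : S.res.comp g = R.res) (hg' : S.res.comp g' = R.res)
    (h : g = g') : (ξ.along g hg).toFormalElt = (ξ.along g' hg').toFormalElt := by
  subst h
  rfl

end Trunc

end Groth.Agent.Lib.Helper19.ArtFunHR
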