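import Mathlib
import Groth.Prelude.Def_ArtFun5
import Groth.Agent.Lib.Helper19.ArtFunComplete
import Groth.Agent.Lib.Helper19.ArtFunTangent
import Groth.Agent.S12729
import Groth.Agent.S12711

/-!
# Schlessinger's construction of a versal family (helper19)

* `dichotomy`: a local map into a small extension of a quotient of its source is surjective or
  has the same kernel as the composite;
* `Stage`, `IsNext`, `exists_next`: one step of the construction (minimal ideal to which the
  element lifts), from `S12729`;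
* `exists_versal_lifting`: for a smooth coefficient ring `P`, a surjection `g : P → E` onto an object
  and `ξ₁ ∈ F(E)`, there are a quotient `R` of `P` through which `g` factors and a family `ξ` over
  `R` restricting to `ξ₁`, with the lifting property for small extensions (under `S1`);
* `exists_multi`, `tanLin`, `exists_tangent_generator(_bij)`: an element of `F(k ⊕ kⁿ)` whose
  tangent map is onto (bijective) when `t_F` is finite dimensional.
-/

set_option autoImplicit false
universe u v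

open CategoryTheory

namespace Groth.Agent.Lib.Helper19.ArtFunSchlessinger

open ArtFun ArtFun.Art
open Groth.Agent.Lib.Helper19.ArtFunBasic Groth.Agent.Lib.Helper19.ArtFunComplete
  Groth.Agent.Lib.Helper19.ArtFunLength Groth.Agent.Lib.Helper19.ArtFunTangent

variable {Λ : Type u} {k : Type u} [CommRing Λ] [Field k] [Algebra Λ k]

section Dichotomy

theorem dichotomy {R C D : Type*} [CommRing R] [CommRing C] [IsLocalRing C] [CommRing D]
    {FW FP : Type*} [FunLike FW R C] [RingHomClass FW R C] [FunLike FP C D] [RingHomClass FP C D]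
    (w : FW) (hloc : ∀ r, IsUnit (w r) → IsUnit r) (pr : FP) (t : C)
    (ht : t ∈ IsLocalRing.maximalIdeal C)
    (hker : ∀ c, pr c = 0 → ∃ d, c = d * t)
    (hkill : ∀ c ∈ IsLocalRing.maximalIdeal C, c * t = 0)
    (hsurj : ∀ c : C, ∃ r, pr (w r) = pr c) :
    Function.Surjective w ∨ ∀ r, pr (w r) = 0 → w r = 0 := by
  by_cases h : ∀ r, pr (w r) = 0 → w r = 0
  · exact Or.inr h
  · left
    push_neg at h
    obtain ⟨p, hp1, hp2⟩ := h
    obtain ⟨c, hc⟩ := hker _ hp1
    have htt : t * t = 0 := hkill t ht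
    have hrep : ∀ d : C, ∃ r, d * t = w r * t := by
      intro d
      obtain ⟨r, hr⟩ := hsurj d
      have h0 : pr (d - w r) = 0 := by rw [map_sub, hr, sub_self]
      obtain ⟨d', hd'⟩ := hker _ h0
      refine ⟨r, ?_⟩
      have h1 : (d - w r) * t = 0 := by rw [hd', mul_assoc, htt, mul_zero]
      have h2 : d * t = w r * t + (d - w r) * t := by ring
      rw [h2, h1, add_zero]
    obtain ⟨p', hp'⟩ := hrep c
    have hwp : w p = w p' * t := by rw [hc, hp']
    have hunit : IsUnit (w p') := by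
      by_contra hnu
      have hm : w p' ∈ IsLocalRing.maximalIdeal C := (IsLocalRing.mem_maximalIdeal _).mpr hnu
      apply hp2
      rw [hwp]
      exact hkill _ hm
    obtain ⟨v, hv⟩ := hloc p' hunit
    have hws : w (↑v⁻¹ * p) = t := by
      rw [map_mul, hwp, ← mul_assoc, ← map_mul, ← hv, Units.inv_mul, map_one, one_mul]
    intro x
    obtain ⟨r₁, hr₁⟩ := hsurj x
    have h0 : pr (x - w r₁) = 0 := by rw [map_sub, hr₁, sub_self]
    obtain ⟨d, hd⟩ := hker _ h0
    obtain ⟨r₂, hr₂⟩ := hrep d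
    refine ⟨r₁ + r₂ * (↑v⁻¹ * p), ?_⟩
    rw [map_add, map_mul, hws, ← hr₂, ← hd]
    ring

end Dichotomy

section Construction

variable [IsNoetherianRing Λ] [Module.Finite Λ k]

/-- A stage of the construction: a quotient object of `P` with an element of `F` over it. -/
structure Stage (P : CRing Λ k) (F : Art Λ k ⥤ Type v) where
  /-- the quotient object -/
  A : Art Λ k
  /-- the quotient map -/
  π : HomSet P.carrier P.res A
  surj : Function.Surjective π.1
  /-- the element -/
  η : F.obj A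

/-- `s'` is a minimal semismall step over `s`. -/
structure IsNext {P : CRing Λ k} {F : Art Λ k ⥤ Type v} (s s' : Stage P F) : Prop where
  le : RingHom.ker s'.π.1 ≤ RingHom.ker s.π.1
  compat : ∀ t : s'.A ⟶ s.A, HomSet.map t s'.π = s.π → F.map t s'.η = s.η
  minimal : ∀ (C : Art Λ k) (w : HomSet P.carrier P.res C) (pr : C ⟶ s.A),
      Function.Surjective w.1 → HomSet.map pr w = s.π →
      IsLocalRing.maximalIdeal P.carrier * RingHom.ker s.π.1 ≤ RingHom.ker w.1 →
      (∃ ζ : F.obj C, F.map pr ζ = s.η) → RingHom.ker s'.π.1 ≤ RingHom.ker w.1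
  semismall : IsLocalRing.maximalIdeal P.carrier * RingHom.ker s.π.1 ≤ RingHom.ker s'.π.1

variable {F : Art Λ k ⥤ Type v}

theorem exists_next (P : CRing Λ k) (h1 : S1 F) (s : Stage P F) :
    ∃ s' : Stage P F, IsNext s s' := by
  classical
  obtain ⟨N, hN⟩ := exists_pow_le_ker P s.π
  have hK𝔪 : RingHom.ker s.π.1 ≤ IsLocalRing.maximalIdeal P.carrier := homSet_ker_le P s.π
  have hK'𝔪 : IsLocalRing.maximalIdeal P.carrier * RingHom.ker s.π.1 ≤
      IsLocalRing.maximalIdeal P.carrier := Ideal.mul_le_left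
  have hK'N : IsLocalRing.maximalIdeal P.carrier ^ (N + 1) ≤
      IsLocalRing.maximalIdeal P.carrier * RingHom.ker s.π.1 := by
    rw [pow_succ']
    exact Ideal.mul_mono_right hN
  obtain ⟨B, β, hβs, hβk⟩ := exists_art_quot P
    (IsLocalRing.maximalIdeal P.carrier * RingHom.ker s.π.1) hK'𝔪 (N + 1) hK'N
  obtain ⟨p, hp⟩ := exists_factor β hβs s.π (by rw [hβk]; exact Ideal.mul_le_right)
  have hpβ : ∀ x, p (β.1 x) = s.π.1 x := fun x => AlgHom.congr_fun (congrArg Subtype.val hp) x
  have hpsurj : Function.Surjective p := by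
    intro a
    obtain ⟨x, hx⟩ := s.surj a
    exact ⟨β.1 x, (hpβ x).trans hx⟩
  have hsemi : IsSemismallExt p := by
    refine ⟨hpsurj, ?_⟩
    rw [← le_bot_iff, Ideal.mul_le]
    intro b hb c hc
    obtain ⟨x, rfl⟩ := hβs b
    obtain ⟨y, rfl⟩ := hβs c
    have hx : x ∈ IsLocalRing.maximalIdeal P.carrier := by
      rw [CRing.mem_maximalIdeal_iff]
      rw [mem_maximalIdeal_iff] at hb
      exact (AlgHom.congr_fun β.2 x).symm.trans hb
    have hy : y ∈ RingHom.ker s.π.1 := by
      rw [RingHom.mem_ker, ← hpβ]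
      exact RingHom.mem_ker.mp hc
    have hxy : x * y ∈ RingHom.ker β.1 := by
      rw [hβk]; exact Ideal.mul_mem_mul hx hy
    rw [Ideal.mem_bot, ← map_mul]
    exact RingHom.mem_ker.mp hxy
  obtain ⟨J₀, hJ₀, hJ₀', ⟨y₀, hy₀⟩, hmin⟩ := Groth.Agent.S12729.result h1 p hsemi s.η
  let s' : Stage P F :=
    { A := quot B J₀ hJ₀'
      π := HomSet.map (quotMk B J₀ hJ₀') β
      surj := (quotMk_surjective B J₀ hJ₀').comp hβs
      η := y₀ }
  have hs'π : ∀ x, s'.π.1 x = quotMk B J₀ hJ₀' (β.1 x) := fun x => rfl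
  refine ⟨s', ⟨?_, ?_, ?_, ?_⟩⟩
  rotate_left 3
  · intro x hx
    rw [RingHom.mem_ker, hs'π]
    have hβx : β.1 x = 0 := by
      rw [← RingHom.mem_ker, hβk]
      exact hx
    rw [hβx, map_zero]
  · intro x hx
    rw [RingHom.mem_ker] at hx ⊢
    have h2 : β.1 x ∈ J₀ := (quotMk_eq_zero_iff B J₀ hJ₀' (β.1 x)).mp hx
    have h3 := hJ₀ h2
    rw [← hpβ]
    exact RingHom.mem_ker.mp h3
  · intro t ht
    have e : t = quotFactor hJ₀' p hJ₀ := by
      apply hom_eq_of_map_eq s'.π s'.surj
      rw [ht]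
      apply Subtype.ext
      apply AlgHom.ext
      intro x
      change s.π.1 x = quotFactor hJ₀' p hJ₀ (quotMk B J₀ hJ₀' (β.1 x))
      rw [quotFactor_quotMk, hpβ]
    rw [e]
    exact hy₀
  · rintro C w pr hw hprw hkill ⟨ζ, hζ⟩
    obtain ⟨wb, hwb⟩ := exists_factor β hβs w (by rw [hβk]; exact hkill)
    have hwbβ : ∀ x, wb (β.1 x) = w.1 x := fun x =>
      AlgHom.congr_fun (congrArg Subtype.val hwb) x
    have hprwx : ∀ x, pr (w.1 x) = s.π.1 x := fun x =>
      AlgHom.congr_fun (congrArg Subtype.val hprw) x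
    have hwbs : Function.Surjective wb := by
      intro c
      obtain ⟨x, hx⟩ := hw c
      exact ⟨β.1 x, (hwbβ x).trans hx⟩
    have hprwb : ∀ b, pr (wb b) = p b := by
      intro b
      obtain ⟨x, rfl⟩ := hβs b
      rw [hwbβ, hprwx, hpβ]
    have hJ : RingHom.ker wb.toAlgHom ≤ RingHom.ker p.toAlgHom := by
      intro b hb
      rw [RingHom.mem_ker] at hb ⊢
      have h1 := hprwb b
      rw [← h1]
      change pr (wb.toAlgHom b) = 0
      rw [hb, map_zero]
    have hJ' : RingHom.ker wb.toAlgHom ≤ IsLocalRing.maximalIdeal B := ker_le_maximalIdeal wb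
    let e : quot B (RingHom.ker wb.toAlgHom) hJ' ⟶ C := quotFactor hJ' wb le_rfl
    have hebij : Function.Bijective e := by
      constructor
      · apply (injective_iff_map_eq_zero e.toAlgHom).mpr
        intro a ha
        obtain ⟨b, rfl⟩ := quotMk_surjective B (RingHom.ker wb.toAlgHom) hJ' a
        have h2 : wb b = 0 := ha
        exact (quotMk_eq_zero_iff B _ hJ' b).mpr (RingHom.mem_ker.mpr h2)
      · intro c
        obtain ⟨b, hb⟩ := hwbs c
        exact ⟨quotMk B _ hJ' b, hb⟩
    haveI : IsIso e := isIso_of_bijective e hebij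
    have hepr : e ≫ pr = quotFactor hJ' p hJ := by
      apply Art.hom_ext
      apply AlgHom.ext
      intro a
      obtain ⟨b, rfl⟩ := quotMk_surjective B (RingHom.ker wb.toAlgHom) hJ' a
      exact hprwb b
    have hy' : F.map (quotFactor hJ' p hJ) (F.map (inv e) ζ) = s.η := by
      rw [← hepr, map_map, ← Category.assoc, IsIso.inv_hom_id, Category.id_comp]
      exact hζ
    have hle := hmin (RingHom.ker wb.toAlgHom) hJ hJ' ⟨F.map (inv e) ζ, hy'⟩
    intro x hx
    rw [RingHom.mem_ker] at hx ⊢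
    have h2 : β.1 x ∈ J₀ := (quotMk_eq_zero_iff B J₀ hJ₀' (β.1 x)).mp hx
    have h3 : wb (β.1 x) = 0 := RingHom.mem_ker.mp (hle h2)
    rw [← hwbβ]
    exact h3

/-- Schlessinger's construction. -/
theorem exists_versal_lifting (h1 : S1 F) (P : CRing Λ k)
    (hP : IsSmoothFunctor (hR P.carrier P.res))
    (E : Art Λ k) (g : HomSet P.carrier P.res E) (hg : Function.Surjective g.1) (ξ₁ : F.obj E) :
    ∃ (R : CRing Λ k) (qR : P.carrier →ₐ[Λ] R.carrier) (_ : R.res.comp qR = P.res)
      (ξ : Family R.carrier R.res F),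
      Function.Surjective qR ∧ RingHom.ker qR ≤ RingHom.ker g.1 ∧
      (∀ (B : Art Λ k) (φ : HomSet R.carrier R.res B) (u : E ⟶ B),
        (∀ p, u (g.1 p) = φ.1 (qR p)) → ξ.app B φ = F.map u ξ₁) ∧
      (∀ ⦃B A : Art Λ k⦄ (μ : B ⟶ A), IsSmallExt μ →
        ∀ (φ : HomSet R.carrier R.res A) (y : F.obj B),
          F.map μ y = ξ.app A φ → ∃ ψ : HomSet R.carrier R.res B, HomSet.map μ ψ = φ) := by
  classical
  have hnext : ∀ s : Stage P F, ∃ s', IsNext s s' := exists_next P h1
  let s₀ : Stage P F := ⟨E, g, hg, ξ₁⟩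
  let seq : ℕ → Stage P F := fun n => Nat.rec s₀ (fun _ s => Classical.choose (hnext s)) n
  have hseq : ∀ n, IsNext (seq n) (seq (n + 1)) := fun n =>
    Classical.choose_spec (hnext (seq n))
  let K : ℕ → Ideal P.carrier := fun q => RingHom.ker (seq q).π.1
  have hKdef : ∀ q, K q = RingHom.ker (seq q).π.1 := fun q => rfl
  have hanti : Antitone K := antitone_nat_of_succ_le (fun n => (hseq n).le)
  have hpow : ∀ q, ∃ N, IsLocalRing.maximalIdeal P.carrier ^ N ≤ K q := fun q =>
    exists_pow_le_ker P (seq q).π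
  have htrans : ∀ q q', q ≤ q' →
      ∃ t : (seq q').A ⟶ (seq q).A, HomSet.map t (seq q').π = (seq q).π :=
    fun q q' h => exists_factor (seq q').π (seq q').surj (seq q).π (hanti h)
  have hcompat : ∀ q q', q ≤ q' → ∀ t : (seq q').A ⟶ (seq q).A,
      HomSet.map t (seq q').π = (seq q).π → F.map t (seq q').η = (seq q).η := by
    intro q q' h
    induction q', h using Nat.le_induction with
    | base =>
      intro t ht
      have e : t = 𝟙 _ := hom_eq_of_map_eq (seq q).π (seq q).surj t (𝟙 _) (by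
        rw [ht]; apply Subtype.ext; apply AlgHom.ext; intro x; rfl)
      rw [e, map_id']
    | succ q' hq ih =>
      intro t ht
      obtain ⟨t₁, ht₁⟩ := htrans q' (q' + 1) (Nat.le_succ _)
      obtain ⟨t₂, ht₂⟩ := htrans q q' hq
      have e : t = t₁ ≫ t₂ := hom_eq_of_map_eq (seq (q' + 1)).π (seq (q' + 1)).surj _ _ (by
        rw [ht]
        have e' : HomSet.map (t₁ ≫ t₂) (seq (q' + 1)).π =
            HomSet.map t₂ (HomSet.map t₁ (seq (q' + 1)).π) := rfl
        rw [e', ht₁, ht₂])
      rw [e, ← map_map, (hseq q').compat t₁ ht₁, ih t₂ ht₂]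
  have helt : ∀ (B : Art Λ k) (q q' : ℕ) (u : (seq q).A ⟶ B) (u' : (seq q').A ⟶ B),
      HomSet.map u (seq q).π = HomSet.map u' (seq q').π →
        F.map u (seq q).η = F.map u' (seq q').η := by
    have key : ∀ (B : Art Λ k) (q q' : ℕ), q ≤ q' → ∀ (u : (seq q).A ⟶ B)
        (u' : (seq q').A ⟶ B), HomSet.map u (seq q).π = HomSet.map u' (seq q').π →
          F.map u (seq q).η = F.map u' (seq q').η := by
      intro B q q' h u u' huu
      obtain ⟨t, ht⟩ := htrans q q' h
      have e : u' = t ≫ u := hom_eq_of_map_eq (seq q').π (seq q').surj _ _ (by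
        have e' : HomSet.map (t ≫ u) (seq q').π = HomSet.map u (HomSet.map t (seq q').π) := rfl
        rw [e', ht, huu])
      rw [e, ← map_map, hcompat q q' h t ht]
    intro B q q' u u' huu
    rcases le_total q q' with h | h
    · exact key B q q' h u u' huu
    · exact (key B q' q h u' u huu.symm).symm
  have hJK : ∀ q, (⨅ q, K q) ≤ K q := fun q => iInf_le K q
  have hJ𝔪 : (⨅ q, K q) ≤ IsLocalRing.maximalIdeal P.carrier :=
    (hJK 0).trans (homSet_ker_le P (seq 0).π)
  obtain ⟨R, qR, hqres, hqsurj, hqker⟩ := exists_cring_quot P (⨅ q, K q) hJ𝔪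
  have hfac : ∀ (B : Art Λ k) (φ : HomSet R.carrier R.res B),
      ∃ (q : ℕ) (u : (seq q).A ⟶ B), ∀ p, u ((seq q).π.1 p) = φ.1 (qR p) := by
    intro B φ
    let ψ : HomSet P.carrier P.res B :=
      ⟨φ.1.comp qR, by rw [← AlgHom.comp_assoc, φ.2, hqres]⟩
    obtain ⟨n, hn⟩ := exists_pow_le_ker P ψ
    obtain ⟨q, hq⟩ := chevalley P K hanti hpow n
    have hJψ : (⨅ q, K q) ≤ RingHom.ker ψ.1 := by
      intro x hx
      rw [← hqker] at hx
      rw [RingHom.mem_ker] at hx ⊢
      change φ.1 (qR x) = 0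
      rw [hx, map_zero]
    have hle : K q ≤ RingHom.ker ψ.1 := hq.trans (sup_le hJψ hn)
    obtain ⟨u, hu⟩ := exists_factor (seq q).π (seq q).surj ψ hle
    exact ⟨q, u, fun p => AlgHom.congr_fun (congrArg Subtype.val hu) p⟩
  let app : ∀ B : Art Λ k, HomSet R.carrier R.res B → F.obj B := fun B φ =>
    F.map (hfac B φ).choose_spec.choose (seq (hfac B φ).choose).η
  have happ : ∀ (B : Art Λ k) (φ : HomSet R.carrier R.res B) (q : ℕ) (u : (seq q).A ⟶ B),
      (∀ p, u ((seq q).π.1 p) = φ.1 (qR p)) → app B φ = F.map u (seq q).η := by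
    intro B φ q u hu
    apply helt
    apply Subtype.ext
    apply AlgHom.ext
    intro p
    change (hfac B φ).choose_spec.choose ((seq (hfac B φ).choose).π.1 p) = u ((seq q).π.1 p)
    rw [(hfac B φ).choose_spec.choose_spec p, hu p]
  let ξ : Family R.carrier R.res F :=
    { app := app
      natural := fun {A B} f φ => by
        obtain ⟨q, u, hu⟩ := hfac A φ
        rw [happ A φ q u hu, map_map]
        apply happ B (HomSet.map f φ) q (u ≫ f)
        intro p
        change f (u ((seq q).π.1 p)) = f (φ.1 (qR p))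
        rw [hu p] }
  refine ⟨R, qR, hqres, ξ, hqsurj, ?_, ?_, ?_⟩
  · rw [hqker]
    exact hJK 0
  · intro B φ u hu
    exact happ B φ 0 u hu
  · intro B A μ hμ φ y hy
    obtain ⟨q, u, hu⟩ := hfac A φ
    have hξφ : ξ.app A φ = F.map u (seq q).η := happ A φ q u hu
    obtain ⟨C, pr₁, pr₂, hC⟩ := exists_isFibreProd u μ hμ.1
    have hpr₁small : IsSmallExt pr₁ := Groth.Agent.S12711.result hC hμ
    have hηy : F.map u (seq q).η = F.map μ y := hξφ.symm.trans hy.symm
    obtain ⟨ζ, hζ⟩ := h1 pr₁ pr₂ u μ hC hμ.1 ⟨((seq q).η, y), hηy⟩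
    have hζ1 : F.map pr₁ ζ = (seq q).η := congrArg (fun t => t.1.1) hζ
    obtain ⟨w, hw⟩ := hP pr₁ hpr₁small.1 (seq q).π
    have hw' : HomSet.map pr₁ w = (seq q).π := hw
    have hwx : ∀ x, pr₁ (w.1 x) = (seq q).π.1 x := fun x =>
      AlgHom.congr_fun (congrArg Subtype.val hw') x
    obtain ⟨hs, hne, ⟨t, ht⟩, hkillC⟩ := hpr₁small
    have ht' : RingHom.ker pr₁.toAlgHom = Ideal.span {t} := ht
    have htker : t ∈ RingHom.ker pr₁.toAlgHom := by rw [ht']; exact Ideal.subset_span rfl
    have htm : t ∈ IsLocalRing.maximalIdeal C := ker_le_maximalIdeal pr₁ htker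
    have hdich := dichotomy (R := P.carrier) (C := C) (D := (seq q).A) w.1
      (fun r hu => by
        by_contra hr
        exact (IsLocalRing.mem_maximalIdeal _).mp
          (homSet_mem_maximalIdeal P w ((IsLocalRing.mem_maximalIdeal r).mpr hr)) hu)
      pr₁.toAlgHom t htm
      (fun c hc => by
        have hc' : c ∈ RingHom.ker pr₁.toAlgHom := RingHom.mem_ker.mpr hc
        rw [ht'] at hc'
        obtain ⟨d, hd⟩ := Ideal.mem_span_singleton'.mp hc'
        exact ⟨d, hd.symm⟩)
      (fun c hc => by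
        have h3 := Ideal.mul_mem_mul hc htker
        rw [hkillC] at h3
        exact h3)
      (fun c => by
        obtain ⟨r, hr⟩ := (seq q).surj (pr₁ c)
        exact ⟨r, (hwx r).trans hr⟩)
    have hJw : (⨅ q, K q) ≤ RingHom.ker w.1 := by
      rcases hdich with hws | hinj
      · have hkill' : IsLocalRing.maximalIdeal P.carrier * RingHom.ker (seq q).π.1 ≤
            RingHom.ker w.1 := by
          rw [Ideal.mul_le]
          intro a ha b hb
          rw [RingHom.mem_ker, map_mul]
          have h1' : w.1 a ∈ IsLocalRing.maximalIdeal C := homSet_mem_maximalIdeal P w ha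
          have h2' : w.1 b ∈ RingHom.ker pr₁.toAlgHom := by
            rw [RingHom.mem_ker]
            change pr₁ (w.1 b) = 0
            rw [hwx]
            exact RingHom.mem_ker.mp hb
          have h3 := Ideal.mul_mem_mul h1' h2'
          rw [hkillC] at h3
          exact h3
        exact (hJK (q + 1)).trans ((hseq q).minimal C w pr₁ hws hw' hkill' ⟨ζ, hζ1⟩)
      · refine (hJK q).trans ?_
        intro x hx
        rw [RingHom.mem_ker]
        apply hinj
        change pr₁ (w.1 x) = 0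
        rw [hwx]
        exact RingHom.mem_ker.mp hx
    obtain ⟨ψ, hψ⟩ := exists_factor_cring qR hqres hqsurj (HomSet.map pr₂ w) (by
      rw [hqker]
      intro x hx
      have h1' := hJw hx
      rw [RingHom.mem_ker] at h1' ⊢
      change pr₂ (w.1 x) = 0
      rw [h1', map_zero])
    refine ⟨ψ, ?_⟩
    apply Subtype.ext
    apply AlgHom.ext
    intro r
    obtain ⟨p, rfl⟩ := hqsurj r
    change μ (ψ.1 (qR p)) = φ.1 (qR p)
    rw [hψ p]
    change μ (pr₂ (w.1 p)) = φ.1 (qR p)
    rw [← hC.w_apply, hwx, hu]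

end Construction

section Tangent

variable {F : Art Λ k ⥤ Type v}

/-- `(v, c) ↦ snoc v c` -/
noncomputable def snocLin (n : ℕ) : ((Fin n → k) × k) →ₗ[k] (Fin (n + 1) → k) :=
  LinearMap.pi (fun i => Fin.lastCases (motive := fun _ => ((Fin n → k) × k) →ₗ[k] k)
    (LinearMap.snd k (Fin n → k) k)
    (fun j => (LinearMap.proj j).comp (LinearMap.fst k (Fin n → k) k)) i)

theorem proj_last_comp_snocLin (n : ℕ) :
    (LinearMap.proj (Fin.last n) : (Fin (n + 1) → k) →ₗ[k] k).comp (snocLin n) =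
      LinearMap.snd k (Fin n → k) k := by
  unfold snocLin
  rw [LinearMap.proj_pi, Fin.lastCases_last]

theorem proj_castSucc_comp_snocLin (n : ℕ) (j : Fin n) :
    (LinearMap.proj j.castSucc : (Fin (n + 1) → k) →ₗ[k] k).comp (snocLin n) =
      (LinearMap.proj j).comp (LinearMap.fst k (Fin n → k) k) := by
  unfold snocLin
  rw [LinearMap.proj_pi, Fin.lastCases_castSucc]

/-- an element of `F(k ⊕ kⁿ)` with prescribed components -/
theorem exists_multi (h0 : H0 F) (h2 : Heps F) (n : ℕ) (s : Fin n → F.obj (dual Λ k)) :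
    ∃ x : F.obj (tsz Λ k (Fin n → k)), ∀ i,
      F.map (tszHom (LinearMap.proj i : (Fin n → k) →ₗ[k] k) :
        tsz Λ k (Fin n → k) ⟶ dual Λ k) x = s i := by
  induction n with
  | zero =>
    refine ⟨F.map (tszHom (0 : k →ₗ[k] (Fin 0 → k)) : dual Λ k ⟶ tsz Λ k (Fin 0 → k))
      (F.map baseToDual h0.1.some), fun i => i.elim0⟩
  | succ n ih =>
    obtain ⟨xn, hxn⟩ := ih (fun i => s i.castSucc)
    obtain ⟨z, hz1, hz2⟩ := surj_pair h0 h2 xn (s (Fin.last n))
    refine ⟨F.map (tszHom (snocLin n)) z, fun i => ?_⟩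
    refine Fin.lastCases ?_ (fun j => ?_) i
    · rw [map_map]
      have e : (tszHom (snocLin n) : tsz Λ k ((Fin n → k) × k) ⟶ tsz Λ k (Fin (n + 1) → k)) ≫
          (tszHom (LinearMap.proj (Fin.last n) : (Fin (n + 1) → k) →ₗ[k] k) :
            tsz Λ k (Fin (n + 1) → k) ⟶ dual Λ k) =
          (tszHom (LinearMap.snd k (Fin n → k) k) : tsz Λ k ((Fin n → k) × k) ⟶ tsz Λ k k) := by
        rw [← proj_last_comp_snocLin]
        rfl
      rw [e]
      exact hz2
    · rw [map_map]
      have e : (tszHom (snocLin n) : tsz Λ k ((Fin n → k) × k) ⟶ tsz Λ k (Fin (n + 1) → k)) ≫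
          (tszHom (LinearMap.proj j.castSucc : (Fin (n + 1) → k) →ₗ[k] k) :
            tsz Λ k (Fin (n + 1) → k) ⟶ dual Λ k) =
          (tszHom (LinearMap.fst k (Fin n → k) k) : tsz Λ k ((Fin n → k) × k) ⟶
            tsz Λ k (Fin n → k)) ≫
          (tszHom (LinearMap.proj j : (Fin n → k) →ₗ[k] k) : tsz Λ k (Fin n → k) ⟶ dual Λ k) := by
        have e' : (tszHom (LinearMap.fst k (Fin n → k) k) : tsz Λ k ((Fin n → k) × k) ⟶
            tsz Λ k (Fin n → k)) ≫
          (tszHom (LinearMap.proj j : (Fin n → k) →ₗ[k] k) : tsz Λ k (Fin n → k) ⟶ dual Λ k) =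
          tszHom ((LinearMap.proj j).comp (LinearMap.fst k (Fin n → k) k)) := rfl
        rw [e', ← proj_castSucc_comp_snocLin]
        rfl
      rw [e, ← map_map, hz1]
      exact hxn j

variable {V : Type u} [AddCommGroup V] [Module k V] [Module kᵐᵒᵖ V] [SMulCommClass k kᵐᵒᵖ V]
  [IsCentralScalar k V] [Module Λ V] [IsScalarTower Λ k V] [IsScalarTower Λ kᵐᵒᵖ V]
  [Module.Finite k V]

/-- the linear map `Hom(V, k) → t_F` of an element of `F(k ⊕ V)` -/
noncomputable def tanLin [T : TangentStr F] (x : F.obj (tsz Λ k V)) :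
    (V →ₗ[k] k) →ₗ[k] TangentSpace F where
  toFun := fun l => (F.map (tszHom l : tsz Λ k V ⟶ dual Λ k) x : F.obj (dual Λ k))
  map_add' := fun l l' => by
    let h : tsz Λ k V ⟶ dual2 Λ k := tszHom (l.prod l')
    have h1 : h ≫ pr₁ = tszHom l := rfl
    have h2' : h ≫ pr₂ = tszHom l' := rfl
    have h3 : h ≫ plus = tszHom (l + l') := rfl
    have e := T.add_eq (F.map h x)
    rw [map_map, map_map, map_map, h1, h2', h3] at e
    exact e.symm
  map_smul' := fun c l => by
    let h : tsz Λ k V ⟶ dual Λ k := tszHom l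
    have h1 : h ≫ scale c = tszHom (c • l) := rfl
    have e := T.smul_eq c (F.map h x)
    rw [map_map, h1] at e
    exact e.symm

theorem tanLin_apply [T : TangentStr F] (x : F.obj (tsz Λ k V)) (l : V →ₗ[k] k) :
    tanLin x l = F.map (tszHom l : tsz Λ k V ⟶ dual Λ k) x := rfl

theorem exists_tangent_generator (h0 : H0 F) (h2 : Heps F) [T : TangentStr F] (h3 : Hfin F) :
    ∃ (n : ℕ) (x : F.obj (tsz Λ k (Fin n → k))), Function.Surjective (tanLin x) := by
  haveI : Module.Finite k (TangentSpace F) := h3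
  obtain ⟨n, s, hs⟩ := Module.Finite.exists_fin (R := k) (M := TangentSpace F)
  obtain ⟨x, hx⟩ := exists_multi h0 h2 n s
  refine ⟨n, x, ?_⟩
  rw [← LinearMap.range_eq_top, eq_top_iff, ← hs, Submodule.span_le]
  rintro _ ⟨i, rfl⟩
  exact ⟨LinearMap.proj i, hx i⟩

theorem exists_tangent_generator_bij (h0 : H0 F) (h2 : Heps F) [T : TangentStr F]
    (h3 : Hfin F) :
    ∃ (n : ℕ) (x : F.obj (tsz Λ k (Fin n → k))), Function.Bijective (tanLin x) := by
  haveI : Module.Finite k (TangentSpace F) := h3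
  let b := Module.finBasis k (TangentSpace F)
  obtain ⟨x, hx⟩ := exists_multi h0 h2 _ (fun i => (b i : F.obj (dual Λ k)))
  have hsurj : Function.Surjective (tanLin x) := by
    rw [← LinearMap.range_eq_top, eq_top_iff, ← b.span_eq, Submodule.span_le]
    rintro _ ⟨i, rfl⟩
    exact ⟨LinearMap.proj i, hx i⟩
  refine ⟨_, x, ?_, hsurj⟩
  have hdim : Module.finrank k ((Fin (Module.finrank k (TangentSpace F)) → k) →ₗ[k] k) =
      Module.finrank k (TangentSpace F) := by
    have h1 := Subspace.dual_finrank_eq (K := k) (V := Fin (Module.finrank k (TangentSpace F)) → k)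
    rw [Module.finrank_fin_fun] at h1
    exact h1
  exact (LinearMap.injective_iff_surjective_of_finrank_eq_finrank hdim).mpr hsurj

end Tangent

end Groth.Agent.Lib.Helper19.ArtFunSchlessinger
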