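import Mathlib
import Groth.Prelude.Def_ArtFun5
import Groth.Agent.Lib.Helper19.ArtFunSchlessinger
import Groth.Agent.Lib.Helper19.ArtFunHR
import Groth.Agent.Lib.Helper19.ArtFunDouble
import Groth.Agent.S12728

/-!
# Hulls and pro-representability (helper19)

* `isVersal_of_isUniversal`, `isLeftExact_of_isUniversal`: a pro-representable functor is left exact;
* `isUniversal_of_isMiniversal`: a miniversal family of a functor with `HSq` is universal;
* `exists_hull_of_surjective`: when `Λ → k` is surjective, `H0`, `S1`, `Heps`, `Hfin` give a hull;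
* `isProrepresentable_of_surjective`: Schlessinger's criterion in the classical case.
-/

set_option autoImplicit false
universe u v

open CategoryTheory

namespace Groth.Agent.Lib.Helper19.ArtFunHull

open ArtFun ArtFun.Art
open Groth.Agent.Lib.Helper19.ArtFunBasic Groth.Agent.Lib.Helper19.ArtFunComplete
  Groth.Agent.Lib.Helper19.ArtFunLength Groth.Agent.Lib.Helper19.ArtFunTangent
  Groth.Agent.Lib.Helper19.ArtFunSchlessinger Groth.Agent.Lib.Helper19.ArtFunHR
  Groth.Agent.Lib.Helper19.ArtFunDouble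

variable {Λ : Type u} {k : Type u} [CommRing Λ] [Field k] [Algebra Λ k]

section Universal

variable {F : Art Λ k ⥤ Type v} {R : Type u} [CommRing R] [Algebra Λ R] {resR : R →ₐ[Λ] k}

theorem isVersal_of_isUniversal (ξ : Family R resR F) (hξ : IsUniversal ξ) : IsVersal ξ := by
  intro B A μ _ φ y hy
  obtain ⟨ψ, rfl⟩ := (hξ B).2 y
  refine ⟨ψ, ?_, rfl⟩
  apply (hξ A).1
  rw [ξ.natural, hy]

theorem isLeftExact_of_isUniversal (ξ : Family R resR F) (hξ : IsUniversal ξ) :
    IsLeftExact F := by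
  intro B A A' A'' p' p'' f' f'' h
  constructor
  · intro z₁ z₂ hz
    obtain ⟨ψ₁, rfl⟩ := (hξ B).2 z₁
    obtain ⟨ψ₂, rfl⟩ := (hξ B).2 z₂
    have e1 : F.map p' (ξ.app B ψ₁) = F.map p' (ξ.app B ψ₂) := congrArg (fun t => t.1.1) hz
    have e2 : F.map p'' (ξ.app B ψ₁) = F.map p'' (ξ.app B ψ₂) := congrArg (fun t => t.1.2) hz
    rw [← ξ.natural, ← ξ.natural] at e1 e2
    rw [hR_lift_unique h ψ₁ ψ₂ ((hξ A').1 e1) ((hξ A'').1 e2)]
  · rintro ⟨⟨x', x''⟩, hx⟩
    obtain ⟨u', rfl⟩ := (hξ A').2 x'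
    obtain ⟨u'', rfl⟩ := (hξ A'').2 x''
    have hx' : F.map f' (ξ.app A' u') = F.map f'' (ξ.app A'' u'') := hx
    have hu : HomSet.map f' u' = HomSet.map f'' u'' := by
      apply (hξ A).1
      rw [ξ.natural, ξ.natural]
      exact hx'
    obtain ⟨w, hw1, hw2⟩ := hR_exists_lift h u' u'' hu
    refine ⟨ξ.app B w, ?_⟩
    apply FibProd.ext
    · change F.map p' (ξ.app B w) = ξ.app A' u'
      rw [← ξ.natural, hw1]
    · change F.map p'' (ξ.app B w) = ξ.app A'' u''
      rw [← ξ.natural, hw2]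

theorem homSet_map_id {A : Art Λ k} (ψ : HomSet R resR A) : HomSet.map (𝟙 A) ψ = ψ :=
  Subtype.ext (AlgHom.ext fun _ => rfl)

theorem homSet_map_comp {A B C : Art Λ k} (f : A ⟶ B) (g : B ⟶ C) (ψ : HomSet R resR A) :
    HomSet.map g (HomSet.map f ψ) = HomSet.map (f ≫ g) ψ := rfl

variable [IsNoetherianRing Λ] [Module.Finite Λ k]

/-- A miniversal family of a functor satisfying `HSq` is universal. -/
theorem isUniversal_of_isMiniversal (h0 : H0 F) (h4 : HSq F) (ξ : Family R resR F)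
    (hξ : IsMiniversal ξ) : IsUniversal ξ := by
  have key : ∀ ⦃A B : Art Λ k⦄ (μ : B ⟶ A), Function.Surjective μ →
      Function.Injective (ξ.app A) → Function.Injective (ξ.app B) := by
    intro A B μ hμ
    refine surjective_induction
      (fun A B _ => Function.Injective (ξ.app A) → Function.Injective (ξ.app B)) ?_ ?_ ?_ μ hμ
    · intro A B e he hA ψ₁ ψ₂ hψ
      haveI := he
      have h1 : HomSet.map e ψ₁ = HomSet.map e ψ₂ := hA (by rw [ξ.natural, ξ.natural, hψ])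
      have h2 := congrArg (HomSet.map (inv e)) h1
      rw [homSet_map_comp, homSet_map_comp, IsIso.hom_inv_id, homSet_map_id, homSet_map_id] at h2
      exact h2
    · intro A B μ hμ hA ψ₁ ψ₂ hψ
      obtain ⟨G, π₁, π₂, δ, hG, hδ⟩ := exists_double μ hμ
      have hμψ : HomSet.map μ ψ₁ = HomSet.map μ ψ₂ := hA (by rw [ξ.natural, ξ.natural, hψ])
      obtain ⟨Ψ, hΨ1, hΨ2⟩ := hR_exists_lift hG ψ₁ ψ₂ hμψ
      obtain ⟨Δ₀, hΔ1, hΔ2⟩ := exists_lift_of_isFibreProd hG (AlgHom.id Λ B) (AlgHom.id Λ B) rfl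
      have hΔres : G.res.comp Δ₀ = B.res := by
        rw [← π₁.res_comp, AlgHom.comp_assoc, hΔ1, AlgHom.comp_id]
      let Δ : B ⟶ G := Art.homMk Δ₀ hΔres
      have hΔ1' : Δ ≫ π₁ = 𝟙 B := Art.hom_ext hΔ1
      have hΔ2' : Δ ≫ π₂ = 𝟙 B := Art.hom_ext hΔ2
      have hcmp : ξ.app G Ψ = F.map Δ (ξ.app B ψ₁) := by
        apply (h4 π₁ π₂ μ hG hμ).1
        apply FibProd.ext
        · change F.map π₁ (ξ.app G Ψ) = F.map π₁ (F.map Δ (ξ.app B ψ₁))
          rw [← ξ.natural, hΨ1, map_map, hΔ1', map_id']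
        · change F.map π₂ (ξ.app G Ψ) = F.map π₂ (F.map Δ (ξ.app B ψ₁))
          rw [← ξ.natural, hΨ2, map_map, hΔ2', map_id', hψ]
      have hσ : HomSet.map δ Ψ = HomSet.map (Δ ≫ δ) ψ₁ := by
        apply hξ.2.1
        rw [ξ.natural, ξ.natural, hcmp, map_map]
      have hΨ : Ψ = HomSet.map Δ ψ₁ := by
        apply hR_lift_unique hδ
        · rw [hΨ1, homSet_map_comp, hΔ1', homSet_map_id]
        · rw [hσ, homSet_map_comp]
      rw [← hΨ2, hΨ, homSet_map_comp, hΔ2', homSet_map_id]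
    · intro A B C p q hp hq hA
      exact hp (hq hA)
  intro A
  refine ⟨key (toBase A) A.res_surjective ?_, surjective_app_of_isVersal h0 ξ hξ.1 A⟩
  intro φ₁ φ₂ _
  apply Subtype.ext
  have e1 : φ₁.1 = resR := (AlgHom.id_comp φ₁.1).symm.trans φ₁.2
  have e2 : φ₂.1 = resR := (AlgHom.id_comp φ₂.1).symm.trans φ₂.2
  rw [e1, e2]

end Universal

section Hull

variable [IsNoetherianRing Λ] [Module.Finite Λ k]

/-- the standard generators of `k ⊕ kⁿ` generate it as a `Λ`-algebra when `Λ → k` is onto -/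
theorem aeval_inr_single_surjective (hk : Function.Surjective (algebraMap Λ k)) (n : ℕ) :
    Function.Surjective (MvPolynomial.aeval (fun i : Fin n =>
      (TrivSqZeroExt.inr (Pi.single i (1 : k)) : TrivSqZeroExt k (Fin n → k))) :
        MvPolynomial (Fin n) Λ →ₐ[Λ] TrivSqZeroExt k (Fin n → k)) := by
  classical
  intro e
  set θ : MvPolynomial (Fin n) Λ →ₐ[Λ] TrivSqZeroExt k (Fin n → k) :=
    MvPolynomial.aeval (fun i : Fin n =>
      (TrivSqZeroExt.inr (Pi.single i (1 : k)) : TrivSqZeroExt k (Fin n → k))) with hθ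
  have hinl : ∀ a : k, (TrivSqZeroExt.inl a : TrivSqZeroExt k (Fin n → k)) ∈ θ.range := by
    intro a
    obtain ⟨l, rfl⟩ := hk a
    rw [AlgHom.mem_range]
    refine ⟨MvPolynomial.C l, ?_⟩
    rw [hθ, MvPolynomial.aeval_C]
    exact TrivSqZeroExt.algebraMap_eq_inl' _ _ _ l
  have hinr : ∀ v : Fin n → k, (TrivSqZeroExt.inr v : TrivSqZeroExt k (Fin n → k)) ∈ θ.range := by
    intro v
    have hv : v = ∑ i, v i • (Pi.single i (1 : k) : Fin n → k) := by
      funext j
      simp [Pi.single_apply]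
    rw [hv, TrivSqZeroExt.inr_sum]
    refine Subalgebra.sum_mem _ (fun i _ => ?_)
    rw [← TrivSqZeroExt.inl_mul_inr]
    refine Subalgebra.mul_mem _ (hinl (v i)) ?_
    rw [AlgHom.mem_range]
    refine ⟨MvPolynomial.X i, ?_⟩
    rw [hθ]
    exact MvPolynomial.aeval_X _ i
  have he : e = TrivSqZeroExt.inl e.fst + TrivSqZeroExt.inr e.snd :=
    (TrivSqZeroExt.inl_fst_add_inr_snd_eq e).symm
  have hmem : e ∈ θ.range := by
    rw [he]
    exact Subalgebra.add_mem _ (hinl _) (hinr _)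
  obtain ⟨a, ha⟩ := (AlgHom.mem_range θ).mp hmem
  exact ⟨a, ha⟩

/-- Existence of a hull when `Λ → k` is surjective. -/
theorem exists_hull_of_surjective (hk : Function.Surjective (algebraMap Λ k))
    {F : Art Λ k ⥤ Type v} [T : TangentStr F]
    (h0 : H0 F) (h1 : S1 F) (h2 : Heps F) (h3 : Hfin F) :
    ∃ (R : CRing Λ k) (ξ : Family R.carrier R.res F), IsMiniversal ξ := by
  classical
  obtain ⟨n, x, hx⟩ := exists_tangent_generator_bij h0 h2 h3
  let π : MvPolynomial (Fin n) Λ →ₐ[Λ] k := MvPolynomial.aeval (fun _ => (0 : k))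
  have hπ : Function.Surjective π := fun c => by
    obtain ⟨l, hl⟩ := hk c
    refine ⟨MvPolynomial.C l, ?_⟩
    change MvPolynomial.aeval (fun _ => (0 : k)) (MvPolynomial.C l) = c
    rw [MvPolynomial.aeval_C]
    exact hl
  obtain ⟨P, ι, hι, hex, huniq, hsm⟩ := exists_smooth_cring n π hπ
  let θ : MvPolynomial (Fin n) Λ →ₐ[Λ] (tsz Λ k (Fin n → k)) :=
    (MvPolynomial.aeval (fun i : Fin n =>
      (TrivSqZeroExt.inr (Pi.single i (1 : k)) : TrivSqZeroExt k (Fin n → k))) :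
        MvPolynomial (Fin n) Λ →ₐ[Λ] TrivSqZeroExt k (Fin n → k))
  have hθX : ∀ i, θ (MvPolynomial.X i) =
      (TrivSqZeroExt.inr (Pi.single i (1 : k)) : TrivSqZeroExt k (Fin n → k)) := fun i =>
    MvPolynomial.aeval_X (R := Λ) (S₁ := TrivSqZeroExt k (Fin n → k)) (fun i : Fin n =>
      (TrivSqZeroExt.inr (Pi.single i (1 : k)) : TrivSqZeroExt k (Fin n → k))) i
  have hθs : Function.Surjective θ := aeval_inr_single_surjective hk n
  have hθres : (tsz Λ k (Fin n → k)).res.comp θ = π := by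
    apply MvPolynomial.algHom_ext
    intro i
    change (tsz Λ k (Fin n → k)).res (θ (MvPolynomial.X i)) =
      MvPolynomial.aeval (fun _ => (0 : k)) (MvPolynomial.X i)
    rw [hθX, MvPolynomial.aeval_X]
    rfl
  obtain ⟨g, hg⟩ := hex (tsz Λ k (Fin n → k)) θ hθres
  have hgι : ∀ a, g.1 (ι a) = θ a := fun a => AlgHom.congr_fun hg a
  have hgs : Function.Surjective g.1 := by
    intro e
    obtain ⟨a, ha⟩ := hθs e
    exact ⟨ι a, (hgι a).trans ha⟩
  obtain ⟨R, qR, hqres, ξ, hqs, hqk, happ, hlift⟩ :=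
    exists_versal_lifting h1 P hsm _ g hgs x
  obtain ⟨gb, hgb⟩ := exists_factor_cring qR hqres hqs g hqk
  -- the tangent map in terms of `tanLin x`
  have htan : ∀ φ : HomSet R.carrier R.res (dual Λ k),
      ∃ l : (Fin n → k) →ₗ[k] k, ξ.app (dual Λ k) φ = tanLin x l ∧
        ∀ p, φ.1 (qR p) = (tszHom l : tsz Λ k (Fin n → k) ⟶ dual Λ k) (g.1 p) := by
    intro φ
    let c : Fin n → k := fun i => (φ.1 (qR (ι (MvPolynomial.X i)))).snd
    let l : (Fin n → k) →ₗ[k] k := ∑ i, c i • (LinearMap.proj i : (Fin n → k) →ₗ[k] k)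
    have hl : ∀ i, l (Pi.single i (1 : k)) = c i := by
      intro i
      simp [l, LinearMap.sum_apply, Pi.single_apply]
    let u : tsz Λ k (Fin n → k) ⟶ dual Λ k := tszHom l
    let ψ₁ : HomSet P.carrier P.res (dual Λ k) :=
      ⟨φ.1.comp qR, by rw [← AlgHom.comp_assoc, φ.2, hqres]⟩
    have hψ : ψ₁ = HomSet.map u g := by
      apply huniq (dual Λ k)
      apply MvPolynomial.algHom_ext
      intro i
      change φ.1 (qR (ι (MvPolynomial.X i))) = u (g.1 (ι (MvPolynomial.X i)))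
      rw [hgι, hθX]
      have hfst : (φ.1 (qR (ι (MvPolynomial.X i)))).fst = 0 := by
        have e1 : (dual Λ k).res (φ.1 (qR (ι (MvPolynomial.X i)))) =
            R.res (qR (ι (MvPolynomial.X i))) := AlgHom.congr_fun φ.2 _
        have e2 : R.res (qR (ι (MvPolynomial.X i))) = P.res (ι (MvPolynomial.X i)) :=
          AlgHom.congr_fun hqres _
        have e3 : P.res (ι (MvPolynomial.X i)) = π (MvPolynomial.X i) := AlgHom.congr_fun hι _
        have e4 : π (MvPolynomial.X i) = 0 := MvPolynomial.aeval_X _ i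
        exact e1.trans (e2.trans (e3.trans e4))
      refine TrivSqZeroExt.ext ?_ ?_
      · rw [hfst]
        rfl
      · change c i = l (Pi.single i (1 : k))
        rw [hl]
    have hp : ∀ p, φ.1 (qR p) = u (g.1 p) := fun p =>
      AlgHom.congr_fun (congrArg Subtype.val hψ) p
    refine ⟨l, ?_, hp⟩
    rw [tanLin_apply]
    exact happ (dual Λ k) φ u (fun p => (hp p).symm)
  refine ⟨R, ξ, ?_, ?_, ?_⟩
  · rw [Groth.Agent.S12728.result h0 h1 h2 R ξ]
    refine ⟨?_, hlift⟩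
    intro τ
    obtain ⟨l, hl⟩ := hx.2 τ
    let u : tsz Λ k (Fin n → k) ⟶ dual Λ k := tszHom l
    refine ⟨HomSet.map u gb, ?_⟩
    change ξ.app (dual Λ k) (HomSet.map u gb) = τ
    rw [happ (dual Λ k) _ u (fun p => by rw [homSet_map_apply, hgb])]
    exact hl
  · intro φ₁ φ₂ h
    obtain ⟨l₁, hl₁, hp₁⟩ := htan φ₁
    obtain ⟨l₂, hl₂, hp₂⟩ := htan φ₂
    have hll : l₁ = l₂ := hx.1 (by rw [← hl₁, ← hl₂]; exact h)
    apply Subtype.ext
    apply AlgHom.ext
    intro r
    obtain ⟨p, rfl⟩ := hqs r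
    rw [hp₁, hp₂, hll]
  · intro τ
    obtain ⟨l, hl⟩ := hx.2 τ
    let u : tsz Λ k (Fin n → k) ⟶ dual Λ k := tszHom l
    refine ⟨HomSet.map u gb, ?_⟩
    rw [happ (dual Λ k) _ u (fun p => by rw [homSet_map_apply, hgb])]
    exact hl

/-- Schlessinger's pro-representability criterion when `Λ → k` is surjective. -/
theorem isProrepresentable_of_surjective (hk : Function.Surjective (algebraMap Λ k))
    {F : Art Λ k ⥤ Type v} [T : TangentStr F]
    (h0 : H0 F) (h1 : S1 F) (h2 : Heps F) (h3 : Hfin F) (h4 : HSq F) :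
    IsProrepresentable F := by
  obtain ⟨R, ξ, hξ⟩ := exists_hull_of_surjective hk h0 h1 h2 h3
  exact ⟨⟨R, ξ, isUniversal_of_isMiniversal h0 h4 ξ hξ⟩⟩

end Hull

end Groth.Agent.Lib.Helper19.ArtFunHull
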