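import Mathlib
import Groth.Agent.Lib.Helper19.AffDef

/-!
# A section trivializes an affine deformation (helper19)
-/

set_option autoImplicit false
set_option linter.style.haveILetI false
set_option linter.unusedSectionVars false
universe u

open CategoryTheory CategoryTheory.Limits AlgebraicGeometry TensorProduct

namespace Groth.Agent.Lib.Helper19.AffDef

section Triv

variable {k A R B₀ : Type u} [Field k] [CommRing A] [IsLocalRing A] [Algebra k A]
  [CommRing R] [Algebra A R] [Algebra k R] [IsScalarTower k A R] [Module.Flat A R]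
  [CommRing B₀] [Algebra k B₀]

/-- the comparison map `A ⊗_k B₀ → R` attached to a `k`-algebra map `s : B₀ → R`. -/
noncomputable def psi (s : B₀ →ₐ[k] R) : A ⊗[k] B₀ →ₐ[A] R :=
  Algebra.TensorProduct.lift (Algebra.ofId A R) s (fun _ _ => Commute.all _ _)

lemma psi_tmul (s : B₀ →ₐ[k] R) (a : A) (b : B₀) : psi s (a ⊗ₜ b) = a • s b := by
  simp [psi, Algebra.smul_def, Algebra.ofId_apply]

set_option backward.isDefEq.respectTransparency false in
theorem psi_bijective (hnil : IsNilpotent (IsLocalRing.maximalIdeal A)) (e : A →ₐ[k] k)
    (π : R →+* B₀) (h1 : ∀ a, π (algebraMap A R a) = algebraMap k B₀ (e a))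
    (h3 : RingHom.ker π = (IsLocalRing.maximalIdeal A).map (algebraMap A R))
    (s : B₀ →ₐ[k] R) (hs : ∀ b, π (s b) = b) : Function.Bijective (psi (A := A) s) := by
  have hsm : ∀ x : R, x ∈ IsLocalRing.maximalIdeal A • (⊤ : Submodule A R) ↔ π x = 0 := by
    intro x
    rw [Ideal.smul_top_eq_map, Submodule.restrictScalars_mem, ← h3, RingHom.mem_ker]
  constructor
  · -- injective
    let bs := Module.Free.chooseBasis k B₀
    let v : Module.Free.ChooseBasisIndex k B₀ → R := fun j => s (bs j)
    have hv : LinearIndependent A v := by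
      apply Module.IsLocalRing.linearIndependent_of_flat
      rw [linearIndependent_iff']
      intro S c hc j hj
      choose a ha using fun j => IsLocalRing.residue_surjective (c j)
      have hsum : (TensorProduct.mk A (IsLocalRing.ResidueField A) R 1) (∑ j ∈ S, a j • v j) = 0 := by
        rw [← hc, map_sum]
        refine Finset.sum_congr rfl fun j _ => ?_
        simp only [Function.comp_apply, TensorProduct.mk_apply]
        rw [TensorProduct.smul_tmul', smul_eq_mul, mul_one, ← ha j, TensorProduct.tmul_smul,
          TensorProduct.smul_tmul', Algebra.smul_def, mul_one, IsLocalRing.ResidueField.algebraMap_eq]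
      have hmem : ∑ j ∈ S, a j • v j ∈ IsLocalRing.maximalIdeal A • (⊤ : Submodule A R) := by
        rw [← LinearMap.ker_tensorProductMk (Q := R) (I := IsLocalRing.maximalIdeal A)]
        exact hsum
      rw [hsm, map_sum] at hmem
      have hterm : ∀ j, π (a j • v j) = e (a j) • bs j := by
        intro j
        rw [Algebra.smul_def, map_mul, h1, hs, Algebra.smul_def]
      simp only [hterm] at hmem
      have := linearIndependent_iff'.mp bs.linearIndependent S (fun j => e (a j)) hmem j hj
      rw [← ha j, IsLocalRing.residue_eq_zero_iff, ← ker_e e, RingHom.mem_ker]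
      exact this
    let bA := bs.baseChange A
    have hcomp : ∀ l : Module.Free.ChooseBasisIndex k B₀ →₀ A,
        psi s (Finsupp.linearCombination A bA l) = Finsupp.linearCombination A v l := by
      intro l
      rw [Finsupp.linearCombination_apply, Finsupp.linearCombination_apply, Finsupp.sum, map_sum]
      refine Finset.sum_congr rfl fun j _ => ?_
      rw [map_smul, Module.Basis.baseChange_apply, psi_tmul, one_smul]
    rw [injective_iff_map_eq_zero]
    intro x hx
    rw [← bA.linearCombination_repr x, hcomp] at hx
    have := linearIndependent_iff.mp hv _ hx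
    rw [← bA.linearCombination_repr x, this, map_zero]
  · -- surjective
    have hN : LinearMap.range (psi (A := A) s).toLinearMap = ⊤ := by
      apply eq_top_of_sup_smul_top _ _ hnil
      rw [eq_top_iff]
      intro r _
      have hr : r = s (π r) + (r - s (π r)) := by ring
      rw [hr]
      refine Submodule.add_mem_sup ⟨(1 : A) ⊗ₜ π r, ?_⟩ ?_
      · change psi s ((1 : A) ⊗ₜ π r) = _
        rw [psi_tmul, one_smul]
      · rw [hsm, map_sub, hs, sub_self]
    intro r
    have : r ∈ LinearMap.range (psi (A := A) s).toLinearMap := hN ▸ Submodule.mem_top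
    exact this

end Triv

section Sch

variable {k A B₀ : Type u} [Field k] [CommRing A] [IsLocalRing A] [IsArtinianRing A] [Algebra k A]
  (e : A →ₐ[k] k) [CommRing B₀] [Algebra k B₀]
  {R : Type u} [CommRing R] [Algebra A R] [Module.Flat A R]

theorem isPullback_of_section (π : R →+* B₀)
    (h1 : ∀ a, π (algebraMap A R a) = algebraMap k B₀ (e a))
    (h3 : RingHom.ker π = (IsLocalRing.maximalIdeal A).map (algebraMap A R))
    (s : B₀ →+* R) (hs : ∀ b, π (s b) = b)
    (hsk : ∀ c : k, s (algebraMap k B₀ c) = algebraMap A R (algebraMap k A c)) :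
    IsPullback (Spec.map (CommRingCat.ofHom s)) (Spec.map (CommRingCat.ofHom (algebraMap A R)))
      (Spec.map (CommRingCat.ofHom (algebraMap k B₀))) (Spec.map (CommRingCat.ofHom (algebraMap k A))) := by
  letI : Algebra k R := ((algebraMap A R).comp (algebraMap k A)).toAlgebra
  haveI : IsScalarTower k A R := IsScalarTower.of_algebraMap_eq (fun _ => rfl)
  let s' : B₀ →ₐ[k] R := { s with commutes' := hsk }
  have hbij := psi_bijective (A := A) (isNilpotent_max A) e π h1 h3 s' hs
  let Ψ : A ⊗[k] B₀ ≃+* R := RingEquiv.ofBijective (psi (A := A) s').toRingHom hbij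
  have hpo : IsPushout (CommRingCat.ofHom (algebraMap k A)) (CommRingCat.ofHom (algebraMap k B₀))
      (CommRingCat.ofHom (algebraMap A R)) (CommRingCat.ofHom s) := by
    refine (CommRingCat.isPushout_tensorProduct k A B₀).of_iso (Iso.refl _) (Iso.refl _) (Iso.refl _)
      Ψ.toCommRingCatIso (by simp) (by simp) ?_ ?_
    · ext a
      change psi s' (a ⊗ₜ 1) = (algebraMap A R) a
      rw [psi_tmul, map_one, Algebra.smul_def, mul_one]
    · ext b
      change psi s' (1 ⊗ₜ b) = s b
      rw [psi_tmul, one_smul]
      rfl
  exact (isPullback_SpecMap_of_isPushout _ _ _ _ hpo).flip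

end Sch

end Groth.Agent.Lib.Helper19.AffDef
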