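import Mathlib
import Groth.Prelude.Def_Exal
import Groth.Agent.Lib.Helper19.AffDefTriv

/-!
# Sections of an affine deformation from triviality of extensions (helper19)

`R` flat over the local Artinian `k`-algebra `A`, `π : R → B₀` surjective with kernel `𝔪_A R`.
If every `k`-algebra extension of `B₀` by `B₀` is trivial then `π` has a `k`-algebra section
(`exists_section_of_ext_trivial`): lift step by step along ideals `I' ⊂ I` of `A` with `I/I'` simple.
-/

set_option autoImplicit false
set_option linter.style.haveILetI false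
set_option linter.unusedSectionVars false
universe u

open TensorProduct

namespace Groth.Agent.Lib.Helper19.AffDef

section Flat

variable {A R : Type*} [CommRing A] [CommRing R] [Algebra A R] [Module.Flat A R]

/-- Flatness: `t r ∈ I' R` forces `r ∈ (I' : t) R`. -/
theorem mem_map_of_mul_mem (I' K : Ideal A) (t : A) (hC : ∀ a, a * t ∈ I' → a ∈ K) (r : R)
    (h : algebraMap A R t * r ∈ I'.map (algebraMap A R)) : r ∈ K.map (algebraMap A R) := by
  classical
  have h' : t • r ∈ I' • Submodule.span A (Set.range (id : R → R)) := by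
    rw [Set.range_id, Submodule.span_univ, Ideal.smul_top_eq_map, Submodule.restrictScalars_mem,
      Algebra.smul_def]
    exact h
  rw [Submodule.mem_ideal_smul_span_iff_exists_sum] at h'
  obtain ⟨a, ha, hsum⟩ := h'
  let f : Option a.support → A := fun o => o.elim t (fun l => - a l)
  let x : Option a.support → R := fun o => o.elim r (fun l => (l : R))
  have hrel : ∑ o, f o • x o = 0 := by
    rw [Fintype.sum_option]
    simp only [f, x, Option.elim_none, Option.elim_some, neg_smul, Finset.sum_neg_distrib]
    rw [Finset.sum_coe_sort a.support (fun i => a i • i), ← hsum]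
    simp [Finsupp.sum]
  obtain ⟨n, c, y, hxy, hfc⟩ := Module.Flat.isTrivialRelation_of_sum_smul_eq_zero (R := A) (M := R) (f := f) (x := x) hrel
  have hr : r = ∑ j, c none j • y j := hxy none
  rw [hr]
  refine Ideal.sum_mem _ fun j _ => ?_
  rw [Algebra.smul_def]
  apply Ideal.mul_mem_right
  apply Ideal.mem_map_of_mem
  apply hC
  have hj := hfc j
  rw [Fintype.sum_option] at hj
  simp only [f, Option.elim_none, Option.elim_some, neg_mul, Finset.sum_neg_distrib] at hj
  have : c none j * t = ∑ l : a.support, a l * c (some l) j := by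
    rw [mul_comm]; exact (add_neg_eq_zero.mp hj)
  rw [this]
  exact Ideal.sum_mem _ fun l _ => Ideal.mul_mem_right _ _ (ha _)

end Flat

section Step

variable {k A R B₀ : Type u} [Field k] [CommRing A] [IsLocalRing A] [Algebra k A]
  [CommRing R] [Algebra A R] [Algebra k R] [IsScalarTower k A R] [Module.Flat A R]
  [CommRing B₀] [Algebra k B₀] (π : R →ₐ[k] B₀)

/-- there is a `k`-algebra section of `R/IR → B₀`. -/
def HasSec (I : Ideal A) : Prop :=
  ∃ s : B₀ →ₐ[k] R ⧸ I.map (algebraMap A R),
    ∀ (b : B₀) (r : R), Ideal.Quotient.mk (I.map (algebraMap A R)) r = s b → π r = b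

set_option maxHeartbeats 1600000 in
theorem hasSec_step (hsurj : Function.Surjective π)
    (h3 : RingHom.ker (π : R →+* B₀) = (IsLocalRing.maximalIdeal A).map (algebraMap A R))
    (hT : ∀ E : Exal.Ext k B₀ B₀, E.IsTrivial)
    (I' I : Ideal A) (t : A) (htI : t ∈ I) (hI'I : I' ≤ I) (hI : I ≤ I' ⊔ Ideal.span {t})
    (hmt : ∀ a ∈ IsLocalRing.maximalIdeal A, a * t ∈ I')
    (hcol : ∀ a, a * t ∈ I' → a ∈ IsLocalRing.maximalIdeal A)
    (h : HasSec π I) : HasSec π I' := by
  obtain ⟨s, hs⟩ := h
  have hJ'J : I'.map (algebraMap A R) ≤ I.map (algebraMap A R) := Ideal.map_mono hI'I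
  let q : R ⧸ I'.map (algebraMap A R) →ₐ[k] R ⧸ I.map (algebraMap A R) :=
    Ideal.Quotient.factorₐ k hJ'J
  have hq : ∀ r : R, q (Ideal.Quotient.mk _ r) = Ideal.Quotient.mk _ r := fun r => rfl
  have hkerπ : ∀ r : R, π r = 0 → r ∈ (IsLocalRing.maximalIdeal A).map (algebraMap A R) := by
    intro r hr
    rw [← h3, RingHom.mem_ker]
    exact hr
  have kf1 : ∀ r₁ r₂ : R, π r₁ = π r₂ →
      Ideal.Quotient.mk (I'.map (algebraMap A R)) (algebraMap A R t * r₁) =
        Ideal.Quotient.mk (I'.map (algebraMap A R)) (algebraMap A R t * r₂) := by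
    intro r₁ r₂ h12
    rw [Ideal.Quotient.eq, ← mul_sub]
    have hker : r₁ - r₂ ∈ (IsLocalRing.maximalIdeal A).map (algebraMap A R) :=
      hkerπ _ (by rw [map_sub, h12, sub_self])
    have : algebraMap A R t * (r₁ - r₂) ∈
        (Ideal.span {t} * IsLocalRing.maximalIdeal A).map (algebraMap A R) := by
      rw [Ideal.map_mul]
      exact Ideal.mul_mem_mul (Ideal.mem_map_of_mem _ (Ideal.mem_span_singleton_self t)) hker
    refine Ideal.map_mono ?_ this
    rw [Ideal.span_singleton_mul_le_iff]
    intro z hz
    rw [mul_comm]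
    exact hmt z hz
  let E : Subalgebra k ((R ⧸ I'.map (algebraMap A R)) × B₀) :=
    AlgHom.equalizer (q.comp (AlgHom.fst k (R ⧸ I'.map (algebraMap A R)) B₀))
      (s.comp (AlgHom.snd k (R ⧸ I'.map (algebraMap A R)) B₀))
  have hE : ∀ x : (R ⧸ I'.map (algebraMap A R)) × B₀, x ∈ E ↔ q x.1 = s x.2 := fun x => Iff.rfl
  let proj : E →ₐ[k] B₀ := (AlgHom.snd k (R ⧸ I'.map (algebraMap A R)) B₀).comp E.val
  let lift : B₀ → R := Function.surjInv hsurj
  have hlift : ∀ b, π (lift b) = b := Function.surjInv_eq hsurj
  have hmemJ : ∀ r : R, algebraMap A R t * r ∈ I.map (algebraMap A R) := fun r =>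
    Ideal.mul_mem_right _ _ (Ideal.mem_map_of_mem _ htI)
  have hmemE : ∀ r : R, ((Ideal.Quotient.mk (I'.map (algebraMap A R)) (algebraMap A R t * r),
      (0 : B₀)) : (R ⧸ I'.map (algebraMap A R)) × B₀) ∈ E := by
    intro r
    rw [hE]
    change q (Ideal.Quotient.mk _ _) = s 0
    rw [hq, map_zero, Ideal.Quotient.eq_zero_iff_mem]
    exact hmemJ r
  let inclFun : B₀ → E := fun b => ⟨_, hmemE (lift b)⟩
  have incl_val : ∀ (b : B₀) (r : R), π r = b → ((inclFun b : E) : (R ⧸ I'.map (algebraMap A R)) × B₀) =
      (Ideal.Quotient.mk (I'.map (algebraMap A R)) (algebraMap A R t * r), 0) := by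
    intro b r hr
    exact Prod.ext (kf1 _ _ (by rw [hlift, hr])) rfl
  let incl : B₀ →+ E :=
    { toFun := inclFun
      map_zero' := by
        apply Subtype.ext
        rw [incl_val 0 0 (map_zero π)]
        simp
      map_add' := by
        intro b₁ b₂
        apply Subtype.ext
        rw [incl_val (b₁ + b₂) (lift b₁ + lift b₂) (by rw [map_add, hlift, hlift])]
        rw [Subalgebra.coe_add, incl_val b₁ (lift b₁) (hlift _), incl_val b₂ (lift b₂) (hlift _)]
        simp [mul_add] }
  let X : Exal.Ext k B₀ B₀ :=
    { E := E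
      proj := proj
      incl := incl
      isExtension :=
        { proj_surjective := by
            intro b
            obtain ⟨r, hr⟩ := Ideal.Quotient.mk_surjective (s b)
            exact ⟨⟨(Ideal.Quotient.mk _ r, b), by rw [hE]; exact hr⟩, rfl⟩
          incl_injective := by
            rw [injective_iff_map_eq_zero]
            intro b hb
            have h0 : Ideal.Quotient.mk (I'.map (algebraMap A R)) (algebraMap A R t * lift b) = 0 :=
              congrArg (fun z : E => (z : (R ⧸ I'.map (algebraMap A R)) × B₀).1) hb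
            rw [Ideal.Quotient.eq_zero_iff_mem] at h0
            have := mem_map_of_mul_mem I' (IsLocalRing.maximalIdeal A) t hcol (lift b) h0
            rw [← h3, RingHom.mem_ker] at this
            rw [← hlift b]
            exact this
          exact := by
            intro x
            constructor
            · intro hx
              obtain ⟨⟨r', b⟩, hxE⟩ := x
              change b = 0 at hx
              subst hx
              obtain ⟨r, rfl⟩ := Ideal.Quotient.mk_surjective r'
              rw [hE] at hxE
              change q (Ideal.Quotient.mk _ r) = s 0 at hxE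
              rw [hq, map_zero, Ideal.Quotient.eq_zero_iff_mem] at hxE
              have hr : r ∈ (I' ⊔ Ideal.span {t}).map (algebraMap A R) := Ideal.map_mono hI hxE
              rw [Ideal.map_sup, Ideal.map_span, Set.image_singleton] at hr
              obtain ⟨j', hj', z, hz, rfl⟩ := Submodule.mem_sup.mp hr
              obtain ⟨y, rfl⟩ := Ideal.mem_span_singleton'.mp hz
              refine ⟨π y, ?_⟩
              apply Subtype.ext
              change ((inclFun (π y) : E) : (R ⧸ I'.map (algebraMap A R)) × B₀) = _
              rw [incl_val (π y) y rfl]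
              refine Prod.ext ?_ rfl
              change Ideal.Quotient.mk _ _ = Ideal.Quotient.mk _ _
              rw [Ideal.Quotient.eq]
              have : algebraMap A R t * y - (j' + y * algebraMap A R t) = - j' := by ring
              rw [this]
              exact neg_mem hj'
            · rintro ⟨b, rfl⟩
              rfl
          mul_incl := by
            intro x z
            obtain ⟨⟨r', b⟩, hxE⟩ := x
            obtain ⟨r, rfl⟩ := Ideal.Quotient.mk_surjective r'
            have hπr : π r = b := hs b r ((hE _).mp hxE)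
            apply Subtype.ext
            change ((Ideal.Quotient.mk _ r, b) : (R ⧸ I'.map (algebraMap A R)) × B₀) *
              ((inclFun z : E) : (R ⧸ I'.map (algebraMap A R)) × B₀) =
              ((inclFun (b • z) : E) : (R ⧸ I'.map (algebraMap A R)) × B₀)
            rw [incl_val z (lift z) (hlift z),
              incl_val (b • z) (r * lift z) (by rw [map_mul, hlift, hπr, smul_eq_mul])]
            refine Prod.ext ?_ (by simp)
            change Ideal.Quotient.mk _ r * Ideal.Quotient.mk _ _ = Ideal.Quotient.mk _ _
            rw [← map_mul]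
            congr 1
            ring } }
  obtain ⟨σ, hσ⟩ := hT X
  refine ⟨(AlgHom.fst k (R ⧸ I'.map (algebraMap A R)) B₀).comp (E.val.comp σ), ?_⟩
  intro b r hr
  have hmem : q ((σ b : E) : (R ⧸ I'.map (algebraMap A R)) × B₀).1 =
      s ((σ b : E) : (R ⧸ I'.map (algebraMap A R)) × B₀).2 := (hE _).mp (σ b).2
  have h2 : ((σ b : E) : (R ⧸ I'.map (algebraMap A R)) × B₀).2 = b := hσ b
  have h1 : ((σ b : E) : (R ⧸ I'.map (algebraMap A R)) × B₀).1 = Ideal.Quotient.mk _ r := hr.symm
  rw [h1, h2, hq] at hmem
  exact hs b r hmem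

end Step

end Groth.Agent.Lib.Helper19.AffDef
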