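import Mathlib
import Groth.Prelude.Def_ArtFun4
import Groth.Prelude.Def_Exal
import Groth.Agent.Lib.Helper19.AffDefExt

/-!
# Rigidity of affine schemes with `T¹ = 0` (helper19)
-/

set_option autoImplicit false
set_option linter.style.haveILetI false
set_option linter.unusedSectionVars false
universe u

open CategoryTheory CategoryTheory.Limits AlgebraicGeometry TensorProduct

namespace Groth.Agent.Lib.Helper19.AffDef

section Ind

variable {k A R B₀ : Type u} [Field k] [CommRing A] [IsLocalRing A] [Algebra k A]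
  [CommRing R] [Algebra A R] [Algebra k R] [IsScalarTower k A R] [Module.Flat A R]
  [CommRing B₀] [Algebra k B₀] (π : R →ₐ[k] B₀)

theorem hasSec_max (hsurj : Function.Surjective π)
    (h3 : RingHom.ker (π : R →+* B₀) = (IsLocalRing.maximalIdeal A).map (algebraMap A R)) :
    HasSec π (IsLocalRing.maximalIdeal A) := by
  let g : {g : R →+* R ⧸ (IsLocalRing.maximalIdeal A).map (algebraMap A R) //
      RingHom.ker (π : R →+* B₀) ≤ RingHom.ker g} :=
    ⟨Ideal.Quotient.mk _, by rw [h3, Ideal.mk_ker]⟩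
  let s₀ : B₀ →+* R ⧸ (IsLocalRing.maximalIdeal A).map (algebraMap A R) :=
    (π : R →+* B₀).liftOfSurjective hsurj g
  have hs₀ : ∀ r, s₀ (π r) = Ideal.Quotient.mk _ r := fun r =>
    RingHom.liftOfSurjective_comp_apply (π : R →+* B₀) hsurj g r
  refine ⟨{ s₀ with commutes' := fun c => ?_ }, ?_⟩
  · change s₀ (algebraMap k B₀ c) = _
    rw [← π.commutes c, hs₀]
    rfl
  · intro b r hr
    obtain ⟨r', rfl⟩ := hsurj b
    change Ideal.Quotient.mk _ r = s₀ (π r') at hr
    rw [hs₀, Ideal.Quotient.eq, ← h3, RingHom.mem_ker, map_sub, sub_eq_zero] at hr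
    exact hr

theorem section_of_hasSec_bot (h : HasSec π (⊥ : Ideal A)) : ∃ s : B₀ →ₐ[k] R, ∀ b, π (s b) = b := by
  obtain ⟨s, hs⟩ := h
  have hbot : (⊥ : Ideal A).map (algebraMap A R) = ⊥ := Ideal.map_bot
  let ρ : R ⧸ (⊥ : Ideal A).map (algebraMap A R) →ₐ[k] R :=
    Ideal.Quotient.liftₐ _ (AlgHom.id k R) (fun a ha => by rw [hbot] at ha; simpa using ha)
  refine ⟨ρ.comp s, fun b => ?_⟩
  obtain ⟨r₀, hr₀⟩ := Ideal.Quotient.mk_surjective (s b)
  have : (ρ.comp s) b = r₀ := by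
    change ρ (s b) = r₀
    rw [← hr₀]
    rfl
  rw [this]
  exact hs b r₀ hr₀

theorem exists_section_of_ext_trivial [IsArtinianRing A] (hsurj : Function.Surjective π)
    (h3 : RingHom.ker (π : R →+* B₀) = (IsLocalRing.maximalIdeal A).map (algebraMap A R))
    (hT : ∀ E : Exal.Ext k B₀ B₀, E.IsTrivial) : ∃ s : B₀ →ₐ[k] R, ∀ b, π (s b) = b := by
  let S : Set (Ideal A) := {I | I ≤ IsLocalRing.maximalIdeal A ∧ HasSec π I}
  have hne : S.Nonempty := ⟨_, le_rfl, hasSec_max π hsurj h3⟩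
  obtain ⟨I₀, ⟨hI₀m, hI₀⟩, hmin⟩ := IsArtinian.set_has_minimal S hne
  by_cases h0 : I₀ = ⊥
  · subst h0
    exact section_of_hasSec_bot π hI₀
  exfalso
  let T : Set (Ideal A) := {I' | I' < I₀}
  have hTne : T.Nonempty := ⟨⊥, bot_lt_iff_ne_bot.mpr h0⟩
  obtain ⟨I', hI'lt, hmax⟩ :=
    (set_has_maximal_iff_noetherian (R := A) (M := A)).mpr inferInstance T hTne
  have hI'lt' : I' < I₀ := hI'lt
  obtain ⟨t, htI, htI'⟩ := SetLike.exists_of_lt hI'lt'
  have hsup : I' ⊔ Ideal.span {t} = I₀ := by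
    have hle : I' ⊔ Ideal.span {t} ≤ I₀ :=
      sup_le hI'lt'.le ((Ideal.span_singleton_le_iff_mem _).mpr htI)
    by_contra hne'
    have hlt : I' ⊔ Ideal.span {t} < I₀ := lt_of_le_of_ne hle hne'
    refine hmax _ hlt (lt_of_le_of_ne le_sup_left ?_)
    intro heq
    apply htI'
    rw [heq]
    exact Ideal.mem_sup_right (Ideal.mem_span_singleton_self t)
  have hmI : IsLocalRing.maximalIdeal A * I₀ ≤ I' := by
    by_contra hnle
    have hle : I' ⊔ IsLocalRing.maximalIdeal A * I₀ ≤ I₀ := sup_le hI'lt'.le Ideal.mul_le_right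
    have hlt' : I' < I' ⊔ IsLocalRing.maximalIdeal A * I₀ :=
      lt_of_le_of_ne le_sup_left (fun heq => hnle (heq ▸ le_sup_right))
    rcases eq_or_lt_of_le hle with heq | hlt
    · have : I₀ ≤ I' := Submodule.le_of_le_smul_of_le_jacobson_bot (IsNoetherian.noetherian I₀)
        (by rw [IsLocalRing.jacobson_eq_maximalIdeal ⊥ bot_ne_top]) (by
          rw [Ideal.smul_eq_mul]; exact heq.ge)
      exact absurd hI'lt' (not_lt_of_ge this)
    · exact hmax _ hlt hlt'
  have hmt : ∀ a ∈ IsLocalRing.maximalIdeal A, a * t ∈ I' := fun a ha =>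
    hmI (Ideal.mul_mem_mul ha htI)
  have hcol : ∀ a, a * t ∈ I' → a ∈ IsLocalRing.maximalIdeal A := by
    intro a hat
    by_contra ham
    have hu : IsUnit a := IsLocalRing.notMem_maximalIdeal.mp ham
    obtain ⟨u, rfl⟩ := hu
    apply htI'
    have : t = ↑u⁻¹ * (↑u * t) := by rw [← mul_assoc, Units.inv_mul, one_mul]
    rw [this]
    exact Ideal.mul_mem_left _ _ hat
  have hstep := hasSec_step π hsurj h3 hT I' I₀ t htI hI'lt'.le hsup.ge hmt hcol hI₀
  exact hmin I' ⟨hI'lt'.le.trans hI₀m, hstep⟩ hI'lt'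

end Ind

section Sch

open ArtFun ArtFun.Art

variable {k : Type u} [Field k] (B₀ : Type u) [CommRing B₀] [Algebra k B₀]

set_option backward.isDefEq.respectTransparency false in
theorem iso_trivial_of_section (A : Art k k)
    (ξ : DefSch (Spec (CommRingCat.of B₀)) (Spec.map (CommRingCat.ofHom (algebraMap k B₀))) A)
    (hfl : Flat (Spec.map (CommRingCat.ofHom (algebraMap k B₀))))
    (hsec : ∀ (R : Type u) [CommRing R] [Algebra A R] [Algebra k R] [IsScalarTower k A R]
      [Module.Flat A R] (π : R →ₐ[k] B₀), Function.Surjective π →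
      RingHom.ker (π : R →+* B₀) = (IsLocalRing.maximalIdeal A).map (algebraMap A R) →
      ∃ s : B₀ →ₐ[k] R, ∀ b, π (s b) = b) :
    Nonempty (ξ.Iso (DefSch.trivial (Spec (CommRingCat.of B₀))
      (Spec.map (CommRingCat.ofHom (algebraMap k B₀))) hfl A)) := by
  obtain ⟨R, _, _, _, π, α, h1, h2, h3, h4, h5⟩ := algebraize A.res ξ.f ξ.i ξ.isPullback
  letI : Algebra k R := ((algebraMap A R).comp (algebraMap k A)).toAlgebra
  haveI : IsScalarTower k A R := IsScalarTower.of_algebraMap_eq (fun _ => rfl)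
  have hcomm : ∀ c : k, π (algebraMap k R c) = algebraMap k B₀ c := by
    intro c
    change π (algebraMap A R (algebraMap k A c)) = _
    rw [h1, A.res.commutes]
    rfl
  let π' : R →ₐ[k] B₀ := { π with commutes' := hcomm }
  obtain ⟨s, hs⟩ := hsec R π' h2 h3
  have hpb := isPullback_of_section A.res π h1 h3 s.toRingHom hs (fun c => s.commutes c)
  have hfinal : IsPullback (α.hom ≫ Spec.map (CommRingCat.ofHom s.toRingHom)) ξ.f
      (Spec.map (CommRingCat.ofHom (algebraMap k B₀))) (specMap (ofBase A)) :=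
    hpb.of_iso α.symm (Iso.refl _) (Iso.refl _) (Iso.refl _) (by simp) (by rw [← h4]; simp)
      (by simp) (by simp; rfl)
  refine ⟨{ iso := hfinal.isoPullback, hom_f := hfinal.isoPullback_hom_snd, i_hom := ?_ }⟩
  have e1 : CommRingCat.ofHom s.toRingHom ≫ CommRingCat.ofHom π = 𝟙 _ := by
    ext b
    exact hs b
  have e4 : ξ.i ≫ α.hom ≫ Spec.map (CommRingCat.ofHom s.toRingHom) = 𝟙 _ := by
    rw [← Category.assoc, h5, ← Spec.map_comp, e1, Spec.map_id]
  apply pullback.hom_ext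
  · have e2 := hfinal.isoPullback_hom_fst
    have e3 := DefSch.baseChange_i_fst (DefSch.self _ _ hfl) (ofBase A)
    exact ((congrArg (ξ.i ≫ ·) e2).trans e4).trans e3.symm
  · have e2 := hfinal.isoPullback_hom_snd
    have e3 := DefSch.baseChange_i_f (DefSch.self _ _ hfl) (ofBase A)
    exact ((congrArg (ξ.i ≫ ·) e2).trans ξ.i_f).trans e3.symm

theorem iso_trivial_of_ext_trivial (hT : ∀ E : Exal.Ext k B₀ B₀, E.IsTrivial) (A : Art k k)
    (ξ : DefSch (Spec (CommRingCat.of B₀)) (Spec.map (CommRingCat.ofHom (algebraMap k B₀))) A)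
    (hfl : Flat (Spec.map (CommRingCat.ofHom (algebraMap k B₀)))) :
    Nonempty (ξ.Iso (DefSch.trivial (Spec (CommRingCat.of B₀))
      (Spec.map (CommRingCat.ofHom (algebraMap k B₀))) hfl A)) :=
  iso_trivial_of_section B₀ A ξ hfl (fun R _ _ _ _ _ π hsurj h3 =>
    exists_section_of_ext_trivial π hsurj h3 hT)

end Sch

end Groth.Agent.Lib.Helper19.AffDef
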