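import Mathlib

/-!
# Averaging over a Hopf algebra with an integral: congruence calculus (helper19)

* `Sm K M = K • ⊤`: the submodule `K M` of an `R`-module, for an ideal `K` of `R`;
* `V K f`: the linear map `f` (an element of a convolution ring) takes values in `K T`;
* `av ι T : T ⊗ A → T`, `t ⊗ a ↦ ι a • t`, for a linear form `ι : A → R`, with its naturality,
  `T`-linearity (also with respect to convolution) and translation invariance (`av_tau`).
-/

set_option autoImplicit false

open TensorProduct WithConv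

namespace Groth.Agent.Lib.Helper19.AvgLift

section Sm

variable {R : Type*} [CommRing R]

/-- `K M`, as a submodule -/
def Sm (K : Ideal R) (M : Type*) [AddCommGroup M] [Module R M] : Submodule R M := K • ⊤

lemma map_mem_Sm (K : Ideal R) {M M' : Type*} [AddCommGroup M] [Module R M] [AddCommGroup M']
    [Module R M'] (l : M →ₗ[R] M') {x : M} (hx : x ∈ Sm K M) : l x ∈ Sm K M' := by
  unfold Sm at hx ⊢
  refine Submodule.smul_induction_on hx (fun r hr n _ => ?_) (fun x y hx hy => ?_)
  · rw [map_smul]; exact Submodule.smul_mem_smul hr Submodule.mem_top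
  · rw [map_add]; exact add_mem hx hy

lemma Sm_mono {K K' : Ideal R} (h : K ≤ K') (M : Type*) [AddCommGroup M] [Module R M] :
    Sm K M ≤ Sm K' M := Submodule.smul_mono_left h

lemma Sm_top (M : Type*) [AddCommGroup M] [Module R M] : Sm (⊤ : Ideal R) M = ⊤ :=
  Submodule.top_smul _

lemma Sm_bot (M : Type*) [AddCommGroup M] [Module R M] : Sm (⊥ : Ideal R) M = ⊥ :=
  Submodule.bot_smul _

lemma mul_mem_Sm {T : Type*} [CommRing T] [Algebra R T] (K K' : Ideal R) {x y : T}
    (hx : x ∈ Sm K T) (hy : y ∈ Sm K' T) : x * y ∈ Sm (K * K') T := by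
  unfold Sm at hx hy ⊢
  refine Submodule.smul_induction_on hx (fun r hr n _ => ?_) (fun a b ha hb => ?_)
  · refine Submodule.smul_induction_on hy (fun r' hr' n' _ => ?_) (fun a b ha hb => ?_)
    · rw [smul_mul_smul_comm]
      exact Submodule.smul_mem_smul (Ideal.mul_mem_mul hr hr') Submodule.mem_top
    · rw [mul_add]; exact add_mem ha hb
  · rw [add_mul]; exact add_mem ha hb

lemma mul_mem_Sm_left {T : Type*} [CommRing T] [Algebra R T] (K : Ideal R) (a : T) {x : T}
    (hx : x ∈ Sm K T) : a * x ∈ Sm K T := by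
  unfold Sm at hx ⊢
  refine Submodule.smul_induction_on hx (fun r hr n _ => ?_) (fun a b ha hb => ?_)
  · rw [mul_smul_comm]; exact Submodule.smul_mem_smul hr Submodule.mem_top
  · rw [mul_add]; exact add_mem ha hb

lemma mem_Sm_iff_mem_map {T : Type*} [CommRing T] [Algebra R T] (K : Ideal R) (x : T) :
    x ∈ Sm K T ↔ x ∈ Ideal.map (algebraMap R T) K := by
  constructor
  · intro hx
    unfold Sm at hx
    refine Submodule.smul_induction_on hx (fun r hr n _ => ?_) (fun a b ha hb => ?_)
    · rw [Algebra.smul_def]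
      exact Ideal.mul_mem_right _ _ (Ideal.mem_map_of_mem _ hr)
    · exact add_mem ha hb
  · intro hx
    unfold Ideal.map at hx
    induction hx using Submodule.span_induction with
    | mem y hy =>
      obtain ⟨r, hr, rfl⟩ := hy
      rw [Algebra.algebraMap_eq_smul_one]
      exact Submodule.smul_mem_smul hr Submodule.mem_top
    | zero => exact zero_mem _
    | add y z _ _ hy hz => exact add_mem hy hz
    | smul a y _ hy =>
      rw [smul_eq_mul]
      exact mul_mem_Sm_left K a hy

lemma tmul_mem_Sm_left (K : Ideal R) {M N : Type*} [AddCommGroup M] [Module R M] [AddCommGroup N]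
    [Module R N] {x : M} (hx : x ∈ Sm K M) (y : N) : x ⊗ₜ[R] y ∈ Sm K (M ⊗[R] N) :=
  map_mem_Sm K ((TensorProduct.mk R M N).flip y) hx

lemma tmul_mem_Sm_right (K : Ideal R) {M N : Type*} [AddCommGroup M] [Module R M] [AddCommGroup N]
    [Module R N] (x : M) {y : N} (hy : y ∈ Sm K N) : x ⊗ₜ[R] y ∈ Sm K (M ⊗[R] N) :=
  map_mem_Sm K (TensorProduct.mk R M N x) hy

end Sm

section V

variable {R : Type*} [CommRing R] {C : Type*} [AddCommGroup C] [Module R C] [Coalgebra R C]
  {T : Type*} [CommRing T] [Algebra R T]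

/-- the element `f` of the convolution ring takes values in `K T` -/
def V (K : Ideal R) (f : WithConv (C →ₗ[R] T)) : Prop := ∀ c, f.ofConv c ∈ Sm K T

lemma V.mono {K K' : Ideal R} (h : K ≤ K') {f : WithConv (C →ₗ[R] T)} (hf : V K f) : V K' f :=
  fun c => Sm_mono h T (hf c)

lemma V_top (f : WithConv (C →ₗ[R] T)) : V ⊤ f := fun c => by rw [Sm_top]; exact Submodule.mem_top

lemma V.zero (K : Ideal R) : V K (0 : WithConv (C →ₗ[R] T)) := fun c => by
  change (0 : C →ₗ[R] T) c ∈ Sm K T
  rw [LinearMap.zero_apply]; exact zero_mem _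

lemma V.add {K : Ideal R} {f g : WithConv (C →ₗ[R] T)} (hf : V K f) (hg : V K g) :
    V K (f + g) := fun c => by
  change (f.ofConv + g.ofConv) c ∈ Sm K T
  rw [LinearMap.add_apply]; exact add_mem (hf c) (hg c)

lemma V.neg {K : Ideal R} {f : WithConv (C →ₗ[R] T)} (hf : V K f) : V K (-f) := fun c => by
  change (-f.ofConv) c ∈ Sm K T
  rw [LinearMap.neg_apply]; exact neg_mem (hf c)

lemma V.sub {K : Ideal R} {f g : WithConv (C →ₗ[R] T)} (hf : V K f) (hg : V K g) :
    V K (f - g) := fun c => by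
  change (f.ofConv - g.ofConv) c ∈ Sm K T
  rw [LinearMap.sub_apply]; exact sub_mem (hf c) (hg c)

lemma mul'_map_mem {K K' : Ideal R} {X Y : Type*} [AddCommGroup X] [Module R X] [AddCommGroup Y]
    [Module R Y] (f : X →ₗ[R] T) (g : Y →ₗ[R] T) (hf : ∀ x, f x ∈ Sm K T) (hg : ∀ y, g y ∈ Sm K' T)
    (t : X ⊗[R] Y) : LinearMap.mul' R T (TensorProduct.map f g t) ∈ Sm (K * K') T := by
  induction t using TensorProduct.induction_on with
  | zero => simp
  | tmul x y =>
    rw [TensorProduct.map_tmul, LinearMap.mul'_apply]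
    exact mul_mem_Sm K K' (hf x) (hg y)
  | add a b ha hb => rw [map_add, map_add]; exact add_mem ha hb

lemma V.mul {K K' : Ideal R} {f g : WithConv (C →ₗ[R] T)} (hf : V K f) (hg : V K' g) :
    V (K * K') (f * g) := fun c => by
  rw [LinearMap.convMul_apply]
  exact mul'_map_mem _ _ hf hg _

lemma V.mul_right {K : Ideal R} {f : WithConv (C →ₗ[R] T)} (hf : V K f)
    (g : WithConv (C →ₗ[R] T)) : V K (f * g) := by
  have h := V.mul hf (V_top g)
  rwa [Ideal.mul_top] at h

lemma V.mul_left {K : Ideal R} {g : WithConv (C →ₗ[R] T)} (hg : V K g)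
    (f : WithConv (C →ₗ[R] T)) : V K (f * g) := by
  have h := V.mul (V_top f) hg
  rwa [Ideal.top_mul] at h

lemma V.comp {K : Ideal R} {T' : Type*} [CommRing T'] [Algebra R T'] (l : T →ₗ[R] T')
    {f : WithConv (C →ₗ[R] T)} (hf : V K f) : V K (toConv (l ∘ₗ f.ofConv)) := fun c => by
  rw [ofConv_toConv, LinearMap.comp_apply]
  exact map_mem_Sm K l (hf c)

/-- `f ≡ g` modulo `K`, `f' ≡ g'` modulo `K'` give `f f' ≡ g f' + f g' - g g'` modulo `K K'`. -/
lemma V.bilin {K K' : Ideal R} {f g f' g' : WithConv (C →ₗ[R] T)} (h : V K (f - g))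
    (h' : V K' (f' - g')) : V (K * K') (f * f' - (g * f' + f * g' - g * g')) := by
  have e : f * f' - (g * f' + f * g' - g * g') = (f - g) * (f' - g') := by
    rw [sub_mul, mul_sub, mul_sub]; abel
  rw [e]
  exact V.mul h h'

end V

section Av

variable {R : Type*} [CommRing R] {A : Type*} [CommRing A] [HopfAlgebra R A] (ι : A →ₗ[R] R)

/-- `t ⊗ a ↦ ι a • t` -/
noncomputable def av (T : Type*) [CommRing T] [Algebra R T] : T ⊗[R] A →ₗ[R] T :=
  (TensorProduct.rid R T).toLinearMap ∘ₗ LinearMap.lTensor T ι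

variable {T : Type*} [CommRing T] [Algebra R T]

@[simp] lemma av_tmul (t : T) (a : A) : av ι T (t ⊗ₜ[R] a) = ι a • t := by
  simp [av]

lemma av_inl (h1 : ι 1 = 1) (t : T) : av ι T (t ⊗ₜ[R] 1) = t := by
  rw [av_tmul, h1, one_smul]

lemma av_inl_mul (t : T) (x : T ⊗[R] A) : av ι T ((t ⊗ₜ[R] (1 : A)) * x) = t * av ι T x := by
  induction x using TensorProduct.induction_on with
  | zero => simp
  | tmul t' a =>
    rw [Algebra.TensorProduct.tmul_mul_tmul, one_mul, av_tmul, av_tmul, mul_smul_comm]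
  | add a b ha hb => rw [mul_add, map_add, map_add, ha, hb, mul_add]

lemma av_mul_inl (t : T) (x : T ⊗[R] A) : av ι T (x * (t ⊗ₜ[R] (1 : A))) = av ι T x * t := by
  rw [mul_comm, av_inl_mul, mul_comm]

lemma av_map {T' : Type*} [CommRing T'] [Algebra R T'] (g : T →ₐ[R] T') (x : T ⊗[R] A) :
    av ι T' (Algebra.TensorProduct.map g (AlgHom.id R A) x) = g (av ι T x) := by
  induction x using TensorProduct.induction_on with
  | zero => simp
  | tmul t a =>
    rw [Algebra.TensorProduct.map_tmul, av_tmul, av_tmul, map_smul, AlgHom.coe_id, id_eq]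
  | add a b ha hb => rw [map_add, map_add, ha, hb, map_add, map_add]

/-- the point `u ⋅ h'` of `T ⊗ A`: `a ↦ ∑ u a₁ ⊗ a₂` -/
noncomputable def theta (u : A →ₐ[R] T) : A →ₐ[R] T ⊗[R] A :=
  (Algebra.TensorProduct.map u (AlgHom.id R A)).comp (Bialgebra.comulAlgHom R A)

/-- translation by the point `u`: the `T`-algebra map of `T ⊗ A` with `1 ⊗ a ↦ ∑ u a₁ ⊗ a₂` -/
noncomputable def tau (u : A →ₐ[R] T) : T ⊗[R] A →ₐ[R] T ⊗[R] A :=
  Algebra.TensorProduct.productMap Algebra.TensorProduct.includeLeft (theta u)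

lemma tau_comp_inl (u : A →ₐ[R] T) :
    (tau u).comp (Algebra.TensorProduct.includeLeft : T →ₐ[R] T ⊗[R] A) =
      Algebra.TensorProduct.includeLeft :=
  Algebra.TensorProduct.productMap_left _ _

lemma tau_comp_inr (u : A →ₐ[R] T) :
    (tau u).comp (Algebra.TensorProduct.includeRight : A →ₐ[R] T ⊗[R] A) = theta u :=
  Algebra.TensorProduct.productMap_right _ _

variable (hinv : ∀ a : A, av ι A (Coalgebra.comul (R := R) a) = algebraMap R A (ι a))

include hinv in
lemma av_theta (u : A →ₐ[R] T) (a : A) : av ι T (theta u a) = algebraMap R T (ι a) := by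
  rw [theta, AlgHom.comp_apply, Bialgebra.comulAlgHom_apply, av_map, hinv, AlgHom.commutes]

include hinv in
lemma av_tau (u : A →ₐ[R] T) (x : T ⊗[R] A) : av ι T (tau u x) = av ι T x := by
  induction x using TensorProduct.induction_on with
  | zero => simp
  | tmul t a =>
    rw [tau, Algebra.TensorProduct.productMap_apply_tmul,
      Algebra.TensorProduct.includeLeft_apply, av_inl_mul, av_theta ι hinv, av_tmul,
      Algebra.smul_def, mul_comm]
  | add a b ha hb => rw [map_add, map_add, ha, hb, map_add]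

end Av

section AvConv

variable {R : Type*} [CommRing R] {A : Type*} [CommRing A] [HopfAlgebra R A] (ι : A →ₗ[R] R)
  {C : Type*} [AddCommGroup C] [Module R C] [Coalgebra R C]
  {T : Type*} [CommRing T] [Algebra R T]

variable (R A T) in
/-- `t ↦ t ⊗ 1`, as a linear map -/
noncomputable def jl : T →ₗ[R] T ⊗[R] A :=
  (Algebra.TensorProduct.includeLeft : T →ₐ[R] T ⊗[R] A).toLinearMap

lemma jl_apply (t : T) : jl R A T t = t ⊗ₜ[R] (1 : A) := rfl

lemma av_conv_left (y : WithConv (C →ₗ[R] T)) (X : WithConv (C →ₗ[R] T ⊗[R] A)) :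
    toConv (av ι T ∘ₗ (toConv (jl R A T ∘ₗ y.ofConv) * X).ofConv) =
      y * toConv (av ι T ∘ₗ X.ofConv) := by
  apply WithConv.ext
  ext c
  rw [ofConv_toConv, LinearMap.comp_apply, LinearMap.convMul_apply, LinearMap.convMul_apply,
    ofConv_toConv, ofConv_toConv]
  generalize Coalgebra.comul (R := R) c = t
  induction t using TensorProduct.induction_on with
  | zero => simp
  | tmul x z =>
    rw [TensorProduct.map_tmul, TensorProduct.map_tmul, LinearMap.mul'_apply,
      LinearMap.mul'_apply, LinearMap.comp_apply, LinearMap.comp_apply, jl_apply, av_inl_mul]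
  | add a b ha hb => simp only [map_add, ha, hb]

lemma av_conv_right (y : WithConv (C →ₗ[R] T)) (X : WithConv (C →ₗ[R] T ⊗[R] A)) :
    toConv (av ι T ∘ₗ (X * toConv (jl R A T ∘ₗ y.ofConv)).ofConv) =
      toConv (av ι T ∘ₗ X.ofConv) * y := by
  apply WithConv.ext
  ext c
  rw [ofConv_toConv, LinearMap.comp_apply, LinearMap.convMul_apply, LinearMap.convMul_apply,
    ofConv_toConv, ofConv_toConv]
  generalize Coalgebra.comul (R := R) c = t
  induction t using TensorProduct.induction_on with
  | zero => simp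
  | tmul x z =>
    rw [TensorProduct.map_tmul, TensorProduct.map_tmul, LinearMap.mul'_apply,
      LinearMap.mul'_apply, LinearMap.comp_apply, LinearMap.comp_apply, jl_apply, av_mul_inl]
  | add a b ha hb => simp only [map_add, ha, hb]

lemma av_jl (h1 : ι 1 = 1) (y : WithConv (C →ₗ[R] T)) :
    toConv (av ι T ∘ₗ (toConv (jl R A T ∘ₗ y.ofConv) : WithConv (C →ₗ[R] T ⊗[R] A)).ofConv) = y := by
  apply WithConv.ext
  ext c
  rw [ofConv_toConv, ofConv_toConv, LinearMap.comp_apply, LinearMap.comp_apply, jl_apply,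
    av_inl ι h1]

end AvConv

end Groth.Agent.Lib.Helper19.AvgLift
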