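import Mathlib
import Groth.Agent.Lib.Helper19.AvgLift1

/-!
# Averaging over a Hopf algebra with an integral: points calculus (helper19)

`C`, `A` commutative Hopf algebras over `R`, `ψ : C → A` an algebra map which is comultiplicative
modulo an ideal `K` of `R` (`HomMod K ψ`), `ι : A → R` a normalised invariant integral.
`avg ι ψ u` is the average `∫ ψ(u h') ψ(h')⁻¹ dh'`; `V_avg_mul` says that it is multiplicative in
`u` modulo `K²`, `V_avg_sub` that it is congruent to `ψ(u)` modulo `K`.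
-/

set_option autoImplicit false

open TensorProduct WithConv

namespace Groth.Agent.Lib.Helper19.AvgLift

section Points

variable {R : Type*} [CommRing R] {C : Type*} [CommRing C] [HopfAlgebra R C]
  {T : Type*} [CommRing T] [Algebra R T] {T' : Type*} [CommRing T'] [Algebra R T']

/-- underlying element of the convolution ring -/
noncomputable def lin (x : WithConv (C →ₐ[R] T)) : WithConv (C →ₗ[R] T) :=
  toConv x.ofConv.toLinearMap

lemma lin_mul (x y : WithConv (C →ₐ[R] T)) : lin (x * y) = lin x * lin y :=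
  AlgHom.toLinearMap_convMul x y

lemma lin_one : lin (1 : WithConv (C →ₐ[R] T)) = 1 := AlgHom.toLinearMap_convOne

lemma lin_apply (x : WithConv (C →ₐ[R] T)) (c : C) : (lin x).ofConv c = x.ofConv c := rfl

lemma one_ofConv_apply (c : C) :
    (1 : WithConv (C →ₐ[R] T)).ofConv c = algebraMap R T (Coalgebra.counit (R := R) c) := rfl

/-- push forward of points along an algebra map -/
noncomputable def push (g : T →ₐ[R] T') : WithConv (C →ₐ[R] T) →* WithConv (C →ₐ[R] T') where
  toFun x := toConv (g.comp x.ofConv)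
  map_one' := by
    apply WithConv.ext
    apply AlgHom.ext
    intro c
    rw [ofConv_toConv, AlgHom.comp_apply, one_ofConv_apply, one_ofConv_apply, AlgHom.commutes]
  map_mul' x y := by
    apply WithConv.ext
    rw [ofConv_toConv]
    exact AlgHom.comp_convMul_distrib g x y

lemma push_apply (g : T →ₐ[R] T') (x : WithConv (C →ₐ[R] T)) :
    push g x = toConv (g.comp x.ofConv) := rfl

lemma lin_push (g : T →ₐ[R] T') (x : WithConv (C →ₐ[R] T)) :
    lin (push g x) = toConv (g.toLinearMap ∘ₗ (lin x).ofConv) := rfl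

/-- the inverse of a point -/
noncomputable def cinv (x : WithConv (C →ₐ[R] T)) : WithConv (C →ₐ[R] T) :=
  toConv (x.ofConv.comp (HopfAlgebra.antipodeAlgHom R C))

lemma id_mul_anti : (toConv (AlgHom.id R C) : WithConv (C →ₐ[R] C)) *
    toConv (HopfAlgebra.antipodeAlgHom R C) = 1 := by
  have h := mul_inv_cancel (toConv (AlgHom.id R C) : WithConv (C →ₐ[R] C))
  have e : (toConv (AlgHom.id R C) : WithConv (C →ₐ[R] C))⁻¹ =
      toConv (HopfAlgebra.antipodeAlgHom R C) := by
    change toConv ((AlgHom.id R C).comp (HopfAlgebra.antipodeAlgHom R C)) = _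
    rw [AlgHom.id_comp]
  rwa [e] at h

lemma push_self_id (x : WithConv (C →ₐ[R] T)) : push x.ofConv (toConv (AlgHom.id R C)) = x := by
  apply WithConv.ext
  exact AlgHom.comp_id _

lemma mul_cinv (x : WithConv (C →ₐ[R] T)) : x * cinv x = 1 := by
  have h := congrArg (push x.ofConv) (id_mul_anti (R := R) (C := C))
  rw [map_mul, map_one, push_self_id] at h
  exact h

lemma cinv_mul (x : WithConv (C →ₐ[R] T)) : cinv x * x = 1 := by
  have h := congrArg (push x.ofConv) (AlgHom.antipode_id_cancel (R := R) (A := C))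
  rw [map_mul, map_one, push_self_id] at h
  exact h

lemma push_cinv (g : T →ₐ[R] T') (x : WithConv (C →ₐ[R] T)) :
    push g (cinv x) = cinv (push g x) := rfl

lemma push_push {T'' : Type*} [CommRing T''] [Algebra R T''] (g : T →ₐ[R] T') (g' : T' →ₐ[R] T'')
    (x : WithConv (C →ₐ[R] T)) : push g' (push g x) = push (g'.comp g) x := rfl

end Points

section Ev

variable {R : Type*} [CommRing R] {C : Type*} [CommRing C] [HopfAlgebra R C]
  {A : Type*} [CommRing A] [HopfAlgebra R A]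
  {T : Type*} [CommRing T] [Algebra R T] {T' : Type*} [CommRing T'] [Algebra R T']

/-- the point `ψ(u)` of `G`, for a point `u` of `H` -/
noncomputable def ev (ψ : C →ₐ[R] A) (u : WithConv (A →ₐ[R] T)) : WithConv (C →ₐ[R] T) :=
  toConv (u.ofConv.comp ψ)

lemma push_ev (g : T →ₐ[R] T') (ψ : C →ₐ[R] A) (u : WithConv (A →ₐ[R] T)) :
    push g (ev ψ u) = ev ψ (push g u) := rfl

/-- `ψ` is comultiplicative modulo `K` -/
def HomMod (K : Ideal R) (ψ : C →ₗ[R] A) : Prop :=
  ∀ c, Coalgebra.comul (R := R) (ψ c) -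
    TensorProduct.map ψ ψ (Coalgebra.comul (R := R) c) ∈ Sm K (A ⊗[R] A)

lemma V_ev_mul {K : Ideal R} {ψ : C →ₐ[R] A} (hψ : HomMod K ψ.toLinearMap)
    (u v : WithConv (A →ₐ[R] T)) :
    V K (lin (ev ψ (u * v)) - lin (ev ψ u) * lin (ev ψ v)) := by
  intro c
  have e1 : (lin (ev ψ (u * v))).ofConv c = LinearMap.mul' R T (TensorProduct.map
      u.ofConv.toLinearMap v.ofConv.toLinearMap (Coalgebra.comul (R := R) (ψ c))) := by
    have h := congrArg (fun f : WithConv (A →ₗ[R] T) => f.ofConv (ψ c))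
      (AlgHom.toLinearMap_convMul u v)
    exact h
  have e2 : (lin (ev ψ u) * lin (ev ψ v)).ofConv c = LinearMap.mul' R T (TensorProduct.map
      u.ofConv.toLinearMap v.ofConv.toLinearMap
      (TensorProduct.map ψ.toLinearMap ψ.toLinearMap (Coalgebra.comul (R := R) c))) := by
    rw [LinearMap.convMul_apply]
    change LinearMap.mul' R T (TensorProduct.map (u.ofConv.toLinearMap ∘ₗ ψ.toLinearMap)
      (v.ofConv.toLinearMap ∘ₗ ψ.toLinearMap) (Coalgebra.comul (R := R) c)) = _
    rw [TensorProduct.map_comp, LinearMap.comp_apply]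
  change (lin (ev ψ (u * v))).ofConv c - (lin (ev ψ u) * lin (ev ψ v)).ofConv c ∈ Sm K T
  rw [e1, e2, ← map_sub, ← map_sub]
  exact map_mem_Sm K (LinearMap.mul' R T ∘ₗ TensorProduct.map
      u.ofConv.toLinearMap v.ofConv.toLinearMap) (hψ c)

lemma V_mul_cinv {K : Ideal R} {ψ : C →ₐ[R] A} (hψ : HomMod K ψ.toLinearMap)
    (u v : WithConv (A →ₐ[R] T)) :
    V K (lin (ev ψ (u * v) * cinv (ev ψ v)) - lin (ev ψ u)) := by
  have h := (V_ev_mul hψ u v).mul_right (lin (cinv (ev ψ v)))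
  have e : (lin (ev ψ (u * v)) - lin (ev ψ u) * lin (ev ψ v)) * lin (cinv (ev ψ v)) =
      lin (ev ψ (u * v) * cinv (ev ψ v)) - lin (ev ψ u) := by
    rw [sub_mul, mul_assoc, ← lin_mul (ev ψ v), mul_cinv, lin_one, mul_one, lin_mul]
  rwa [e] at h

end Ev

section Avg

variable {R : Type*} [CommRing R] {C : Type*} [CommRing C] [HopfAlgebra R C]
  {A : Type*} [CommRing A] [HopfAlgebra R A] (ι : A →ₗ[R] R)
  {T : Type*} [CommRing T] [Algebra R T] {T' : Type*} [CommRing T'] [Algebra R T']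

/-- post-composition with `av`, as an additive map of convolution rings -/
noncomputable def avc : WithConv (C →ₗ[R] T ⊗[R] A) →+ WithConv (C →ₗ[R] T) where
  toFun X := toConv (av ι T ∘ₗ X.ofConv)
  map_zero' := by apply WithConv.ext; exact LinearMap.comp_zero _
  map_add' X Y := by apply WithConv.ext; exact LinearMap.comp_add _ _ _

lemma avc_apply (X : WithConv (C →ₗ[R] T ⊗[R] A)) : avc ι X = toConv (av ι T ∘ₗ X.ofConv) := rfl

lemma V.avc {K : Ideal R} {X : WithConv (C →ₗ[R] T ⊗[R] A)} (h : V K X) : V K (avc ι X) :=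
  V.comp (av ι T) h

/-- the point `h` of `T ⊗ A` -/
noncomputable def hL (u : WithConv (A →ₐ[R] T)) : WithConv (A →ₐ[R] T ⊗[R] A) :=
  push Algebra.TensorProduct.includeLeft u

variable (R A T) in
/-- the point `h'` of `T ⊗ A` -/
noncomputable def hR : WithConv (A →ₐ[R] T ⊗[R] A) := toConv Algebra.TensorProduct.includeRight

lemma hL_mul (u v : WithConv (A →ₐ[R] T)) : hL (u * v) = hL u * hL v := map_mul _ _ _

/-- the point `ψ(h h') ψ(h')⁻¹` of `G` with values in `T ⊗ A` -/
noncomputable def Q (ψ : C →ₐ[R] A) (u : WithConv (A →ₐ[R] T)) : WithConv (C →ₐ[R] T ⊗[R] A) :=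
  ev ψ (hL u * hR R A T) * cinv (ev ψ (hR R A T))

/-- the average `∫ ψ(h h') ψ(h')⁻¹ dh'` -/
noncomputable def avg (ψ : C →ₐ[R] A) (u : WithConv (A →ₐ[R] T)) : WithConv (C →ₗ[R] T) :=
  avc ι (lin (Q ψ u))

lemma push_hL (g : T →ₐ[R] T') (u : WithConv (A →ₐ[R] T)) :
    push (Algebra.TensorProduct.map g (AlgHom.id R A)) (hL u) = hL (push g u) := by
  apply WithConv.ext
  change (Algebra.TensorProduct.map g (AlgHom.id R A)).comp
    (Algebra.TensorProduct.includeLeft.comp u.ofConv) =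
    Algebra.TensorProduct.includeLeft.comp (g.comp u.ofConv)
  rw [← AlgHom.comp_assoc, Algebra.TensorProduct.map_comp_includeLeft, AlgHom.comp_assoc]

lemma push_hR (g : T →ₐ[R] T') :
    push (Algebra.TensorProduct.map g (AlgHom.id R A)) (hR R A T) = hR R A T' := by
  apply WithConv.ext
  change (Algebra.TensorProduct.map g (AlgHom.id R A)).comp
    Algebra.TensorProduct.includeRight = Algebra.TensorProduct.includeRight
  rw [Algebra.TensorProduct.map_comp_includeRight, AlgHom.comp_id]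

lemma push_Q (g : T →ₐ[R] T') (ψ : C →ₐ[R] A) (u : WithConv (A →ₐ[R] T)) :
    push (Algebra.TensorProduct.map g (AlgHom.id R A)) (Q ψ u) = Q ψ (push g u) := by
  unfold Q
  rw [map_mul, push_cinv, push_ev, push_ev, map_mul, push_hL, push_hR]

lemma avg_push (g : T →ₐ[R] T') (ψ : C →ₐ[R] A) (u : WithConv (A →ₐ[R] T)) :
    avg ι ψ (push g u) = toConv (g.toLinearMap ∘ₗ (avg ι ψ u).ofConv) := by
  apply WithConv.ext
  ext c
  rw [ofConv_toConv, LinearMap.comp_apply, AlgHom.toLinearMap_apply]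
  change av ι T' ((Q ψ (push g u)).ofConv c) = g (av ι T ((Q ψ u).ofConv c))
  rw [← push_Q, ← av_map]
  rfl

lemma theta_eq (w : A →ₐ[R] T) :
    (toConv (theta w) : WithConv (A →ₐ[R] T ⊗[R] A)) = hL (toConv w) * hR R A T := by
  rw [AlgHom.convMul_def]
  apply WithConv.ext
  rw [ofConv_toConv, ofConv_toConv]
  unfold theta
  rw [← AlgHom.comp_assoc]
  congr 1
  apply Algebra.TensorProduct.ext
  · ext a
    simp [hL, push_apply, hR]
  · ext a
    simp [hL, push_apply, hR]

variable (h1 : ι 1 = 1)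
  (hinv : ∀ a : A, av ι A (Coalgebra.comul (R := R) a) = algebraMap R A (ι a))

include h1 in
lemma avc_lin_push_inl (x : WithConv (C →ₐ[R] T)) :
    avc ι (lin (push (Algebra.TensorProduct.includeLeft : T →ₐ[R] T ⊗[R] A) x)) = lin x :=
  av_jl ι h1 (lin x)

include hinv in
lemma avc_lin_push_tau (w : A →ₐ[R] T) (X : WithConv (C →ₐ[R] T ⊗[R] A)) :
    avc ι (lin (push (tau w) X)) = avc ι (lin X) := by
  apply WithConv.ext
  ext c
  change av ι T (tau w (X.ofConv c)) = av ι T (X.ofConv c)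
  exact av_tau ι hinv w _

lemma push_tau_Q (ψ : C →ₐ[R] A) (u v : WithConv (A →ₐ[R] T)) :
    push (tau v.ofConv) (Q ψ u) =
      ev ψ (hL u * (hL v * hR R A T)) * cinv (ev ψ (hL v * hR R A T)) := by
  unfold Q
  have e1 : push (tau v.ofConv) (hL u) = hL u := by
    unfold hL
    rw [push_push, tau_comp_inl]
  have e2 : push (tau v.ofConv) (hR R A T) = hL v * hR R A T := by
    rw [← toConv_ofConv v, ← theta_eq]
    apply WithConv.ext
    exact tau_comp_inr _
  rw [map_mul, push_cinv, push_ev, push_ev, map_mul, e1, e2]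

include h1 hinv in
/-- the key congruence: `avg(uv) ≡ ψ(u) avg(v) + avg(u) ψ(v) - ψ(u) ψ(v)` modulo `K²` -/
theorem key {K : Ideal R} {ψ : C →ₐ[R] A} (hψ : HomMod K ψ.toLinearMap)
    (u v : WithConv (A →ₐ[R] T)) :
    V (K * K) (avg ι ψ (u * v) - (lin (ev ψ u) * avg ι ψ v + avg ι ψ u * lin (ev ψ v) -
      lin (ev ψ u) * lin (ev ψ v))) := by
  obtain ⟨X, hX⟩ : ∃ X : WithConv (C →ₐ[R] T ⊗[R] A),
      X = ev ψ (hL u * (hL v * hR R A T)) * cinv (ev ψ (hL v * hR R A T)) := ⟨_, rfl⟩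
  obtain ⟨Y, hY⟩ : ∃ Y : WithConv (C →ₐ[R] T ⊗[R] A),
      Y = push Algebra.TensorProduct.includeLeft (ev ψ u) := ⟨_, rfl⟩
  obtain ⟨W, hW⟩ : ∃ W : WithConv (C →ₐ[R] T ⊗[R] A),
      W = push Algebra.TensorProduct.includeLeft (ev ψ v) := ⟨_, rfl⟩
  have hXY : V K (lin X - lin Y) := by
    rw [hX, hY, push_ev]
    exact V_mul_cinv hψ (hL u) (hL v * hR R A T)
  have hQW : V K (lin (Q ψ v) - lin W) := by
    rw [hW, push_ev]
    exact V_mul_cinv hψ (hL v) (hR R A T)
  have hXQ : X * Q ψ v = Q ψ (u * v) := by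
    rw [hX]
    unfold Q
    rw [hL_mul, mul_assoc (hL u), mul_assoc (ev ψ (hL u * (hL v * hR R A T))),
      ← mul_assoc (cinv (ev ψ (hL v * hR R A T))), cinv_mul, one_mul]
  have hb := (V.bilin hXY hQW).avc ι
  rw [map_sub, map_sub, map_add] at hb
  -- the four terms
  have t1 : avc ι (lin X * lin (Q ψ v)) = avg ι ψ (u * v) := by
    rw [← lin_mul, hXQ]; rfl
  have t2 : avc ι (lin Y * lin (Q ψ v)) = lin (ev ψ u) * avg ι ψ v := by
    rw [hY, lin_push]
    exact av_conv_left ι (lin (ev ψ u)) (lin (Q ψ v))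
  have t3 : avc ι (lin X * lin W) = avg ι ψ u * lin (ev ψ v) := by
    rw [hW, lin_push]
    have h3 := av_conv_right ι (lin (ev ψ v)) (lin X)
    have h4 : avc ι (lin X) = avg ι ψ u := by
      rw [hX, ← push_tau_Q, avc_lin_push_tau ι hinv]; rfl
    rw [← h4]
    exact h3
  have t4 : avc ι (lin Y * lin W) = lin (ev ψ u) * lin (ev ψ v) := by
    rw [hY, hW, ← lin_mul, ← map_mul, avc_lin_push_inl ι h1, lin_mul]
  rwa [t1, t2, t3, t4] at hb

include h1 in
lemma V_avg_sub {K : Ideal R} {ψ : C →ₐ[R] A} (hψ : HomMod K ψ.toLinearMap)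
    (u : WithConv (A →ₐ[R] T)) : V K (avg ι ψ u - lin (ev ψ u)) := by
  have h := (V_mul_cinv hψ (hL u) (hR R A T)).avc ι
  rw [map_sub] at h
  have e : avc ι (lin (ev ψ (hL u))) = lin (ev ψ u) := by
    have : ev ψ (hL u) = push (Algebra.TensorProduct.includeLeft : T →ₐ[R] T ⊗[R] A) (ev ψ u) :=
      rfl
    rw [this, avc_lin_push_inl ι h1]
  rw [e] at h
  exact h

include h1 hinv in
theorem V_avg_mul {K : Ideal R} {ψ : C →ₐ[R] A} (hψ : HomMod K ψ.toLinearMap)
    (u v : WithConv (A →ₐ[R] T)) : V (K * K) (avg ι ψ (u * v) - avg ι ψ u * avg ι ψ v) := by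
  have hk := key ι h1 hinv hψ u v
  have hd := V.mul (V_avg_sub ι h1 hψ u) (V_avg_sub ι h1 hψ v)
  have e : avg ι ψ (u * v) - avg ι ψ u * avg ι ψ v =
      (avg ι ψ (u * v) - (lin (ev ψ u) * avg ι ψ v + avg ι ψ u * lin (ev ψ v) -
        lin (ev ψ u) * lin (ev ψ v))) -
      (avg ι ψ u - lin (ev ψ u)) * (avg ι ψ v - lin (ev ψ v)) := by
    rw [sub_mul, mul_sub, mul_sub]; abel
  rw [e]
  exact V.sub hk hd

end Avg

end Groth.Agent.Lib.Helper19.AvgLift
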