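import Mathlib
import Groth.Agent.Lib.Helper19.AvgLift2

/-!
# Lifting approximate homomorphisms by averaging (helper19)

`C` a formally smooth commutative Hopf algebra over `R`, `A` a commutative Hopf algebra with a
normalised invariant integral `ι`, `K` a nilpotent ideal of `R`.  An algebra map `ψ : C → A` which
is comultiplicative modulo `K` is congruent modulo `K` to a bialgebra map (`exists_bialgHom`).
-/

set_option autoImplicit false

open TensorProduct WithConv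

namespace Groth.Agent.Lib.Helper19.AvgLift

section Step

variable {R : Type*} [CommRing R] {C : Type*} [CommRing C] [HopfAlgebra R C]
  {A : Type*} [CommRing A] [HopfAlgebra R A] (ι : A →ₗ[R] R)

/-- the averaged map `ψ'(h) = ∫ ψ(h h') ψ(h')⁻¹ dh'` -/
noncomputable def psi' (ψ : C →ₐ[R] A) : C →ₗ[R] A :=
  (avg ι ψ (toConv (AlgHom.id R A))).ofConv

lemma psi'_apply (ψ : C →ₐ[R] A) (c : C) :
    psi' ι ψ c = av ι A ((Q ψ (toConv (AlgHom.id R A))).ofConv c) := rfl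

lemma avg_eq {T : Type*} [CommRing T] [Algebra R T] (ψ : C →ₐ[R] A) (w : WithConv (A →ₐ[R] T)) :
    avg ι ψ w = toConv (w.ofConv.toLinearMap ∘ₗ psi' ι ψ) := by
  have h := avg_push ι w.ofConv ψ (toConv (AlgHom.id R A))
  rw [push_self_id] at h
  exact h

lemma inl_mul_inr : (toConv (Algebra.TensorProduct.includeLeft : A →ₐ[R] A ⊗[R] A) *
    toConv (Algebra.TensorProduct.includeRight : A →ₐ[R] A ⊗[R] A) :
      WithConv (A →ₐ[R] A ⊗[R] A)) = toConv (Bialgebra.comulAlgHom R A) := by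
  rw [AlgHom.convMul_def]
  apply WithConv.ext
  change (Algebra.TensorProduct.lmul' R).comp ((Algebra.TensorProduct.map
    (Algebra.TensorProduct.includeLeft : A →ₐ[R] A ⊗[R] A)
    (Algebra.TensorProduct.includeRight : A →ₐ[R] A ⊗[R] A)).comp (Bialgebra.comulAlgHom R A)) =
      Bialgebra.comulAlgHom R A
  rw [← AlgHom.comp_assoc]
  have : (Algebra.TensorProduct.lmul' R).comp (Algebra.TensorProduct.map
      (Algebra.TensorProduct.includeLeft : A →ₐ[R] A ⊗[R] A)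
      (Algebra.TensorProduct.includeRight : A →ₐ[R] A ⊗[R] A)) = AlgHom.id R (A ⊗[R] A) := by
    apply Algebra.TensorProduct.ext
    · ext a; simp
    · ext a; simp
  rw [this, AlgHom.id_comp]

lemma inl_conv_inr (f g : C →ₗ[R] A) :
    (toConv ((Algebra.TensorProduct.includeLeft : A →ₐ[R] A ⊗[R] A).toLinearMap ∘ₗ f) *
      toConv ((Algebra.TensorProduct.includeRight : A →ₐ[R] A ⊗[R] A).toLinearMap ∘ₗ g) :
        WithConv (C →ₗ[R] A ⊗[R] A)) = toConv (TensorProduct.map f g ∘ₗ Coalgebra.comul) := by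
  apply WithConv.ext
  ext c
  rw [LinearMap.convMul_apply, ofConv_toConv, ofConv_toConv, ofConv_toConv, LinearMap.comp_apply]
  generalize Coalgebra.comul (R := R) c = t
  induction t using TensorProduct.induction_on with
  | zero => simp
  | tmul x z =>
    rw [TensorProduct.map_tmul, TensorProduct.map_tmul, LinearMap.mul'_apply,
      LinearMap.comp_apply, LinearMap.comp_apply, AlgHom.toLinearMap_apply,
      AlgHom.toLinearMap_apply, Algebra.TensorProduct.includeLeft_apply,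
      Algebra.TensorProduct.includeRight_apply, Algebra.TensorProduct.tmul_mul_tmul, mul_one,
      one_mul]
  | add a b ha hb => simp only [map_add, ha, hb]

variable (h1 : ι 1 = 1)
  (hinv : ∀ a : A, av ι A (Coalgebra.comul (R := R) a) = algebraMap R A (ι a))

include h1 hinv in
theorem homMod_psi' {K : Ideal R} {ψ : C →ₐ[R] A} (hψ : HomMod K ψ.toLinearMap) :
    HomMod (K * K) (psi' ι ψ) := by
  intro c
  have h := V_avg_mul ι h1 hinv hψ
    (toConv (Algebra.TensorProduct.includeLeft : A →ₐ[R] A ⊗[R] A))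
    (toConv Algebra.TensorProduct.includeRight) c
  rw [inl_mul_inr, avg_eq, avg_eq, avg_eq] at h
  simp only [ofConv_toConv] at h
  rw [inl_conv_inr] at h
  exact h

include h1 in
lemma av_mul_cong {K : Ideal R} (x x' : A ⊗[R] A) (y y' : A)
    (hx : x - y ⊗ₜ[R] (1 : A) ∈ Sm K (A ⊗[R] A))
    (hx' : x' - y' ⊗ₜ[R] (1 : A) ∈ Sm K (A ⊗[R] A)) :
    av ι A (x * x') - av ι A x * av ι A x' ∈ Sm (K * K) A := by
  obtain ⟨e, he⟩ : ∃ e, e = x - y ⊗ₜ[R] (1 : A) := ⟨_, rfl⟩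
  obtain ⟨e', he'⟩ : ∃ e', e' = x' - y' ⊗ₜ[R] (1 : A) := ⟨_, rfl⟩
  have ex : x = y ⊗ₜ[R] (1 : A) + e := by rw [he]; abel
  have ex' : x' = y' ⊗ₜ[R] (1 : A) + e' := by rw [he']; abel
  rw [← he] at hx
  rw [← he'] at hx'
  have hprod : x * x' = (y ⊗ₜ[R] (1 : A)) * (y' ⊗ₜ[R] (1 : A)) + (y ⊗ₜ[R] (1 : A)) * e' +
      e * (y' ⊗ₜ[R] (1 : A)) + e * e' := by
    rw [ex, ex']; ring
  have a1 : av ι A x = y + av ι A e := by rw [ex, map_add, av_inl ι h1]
  have a2 : av ι A x' = y' + av ι A e' := by rw [ex', map_add, av_inl ι h1]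
  have a3 : av ι A (x * x') = y * y' + y * av ι A e' + av ι A e * y' + av ι A (e * e') := by
    rw [hprod, map_add, map_add, map_add, av_inl_mul, av_inl_mul, av_mul_inl, av_inl ι h1]
  have e4 : av ι A (x * x') - av ι A x * av ι A x' =
      av ι A (e * e') - av ι A e * av ι A e' := by
    rw [a1, a2, a3]; ring
  rw [e4]
  exact sub_mem (map_mem_Sm _ _ (mul_mem_Sm K K hx hx'))
    (mul_mem_Sm K K (map_mem_Sm _ _ hx) (map_mem_Sm _ _ hx'))

include h1 in
lemma psi'_one (ψ : C →ₐ[R] A) : psi' ι ψ 1 = 1 := by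
  rw [psi'_apply, map_one, Algebra.TensorProduct.one_def, av_inl ι h1]

include h1 in
lemma psi'_mul {K : Ideal R} {ψ : C →ₐ[R] A} (hψ : HomMod K ψ.toLinearMap) (c c' : C) :
    psi' ι ψ (c * c') - psi' ι ψ c * psi' ι ψ c' ∈ Sm (K * K) A := by
  rw [psi'_apply, psi'_apply, psi'_apply, map_mul]
  have hq : ∀ c, (Q ψ (toConv (AlgHom.id R A))).ofConv c - (ψ c) ⊗ₜ[R] (1 : A) ∈
      Sm K (A ⊗[R] A) := by
    intro c
    exact V_mul_cinv hψ (hL (toConv (AlgHom.id R A))) (hR R A A) c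
  exact av_mul_cong ι h1 _ _ _ _ (hq c) (hq c')

lemma map_sub_map_mem {J : Ideal R} (f f' : C →ₗ[R] A) (h : ∀ c, f c - f' c ∈ Sm J A)
    (t : C ⊗[R] C) :
    TensorProduct.map f f t - TensorProduct.map f' f' t ∈ Sm J (A ⊗[R] A) := by
  induction t using TensorProduct.induction_on with
  | zero => simp
  | tmul x z =>
    rw [TensorProduct.map_tmul, TensorProduct.map_tmul]
    have e : f x ⊗ₜ[R] f z - f' x ⊗ₜ[R] f' z =
        (f x - f' x) ⊗ₜ[R] f z + f' x ⊗ₜ[R] (f z - f' z) := by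
      rw [TensorProduct.sub_tmul, TensorProduct.tmul_sub]; abel
    rw [e]
    exact add_mem (tmul_mem_Sm_left J (h x) _) (tmul_mem_Sm_right J _ (h z))
  | add a b ha hb =>
    rw [map_add, map_add, add_sub_add_comm]
    exact add_mem ha hb

include h1 hinv in
theorem exists_step [Algebra.FormallySmooth R C] {K : Ideal R} (hK : IsNilpotent K)
    {ψ : C →ₐ[R] A} (hψ : HomMod K ψ.toLinearMap) :
    ∃ ψ₂ : C →ₐ[R] A, (∀ c, ψ₂ c - ψ c ∈ Sm K A) ∧ HomMod (K * K) ψ₂.toLinearMap := by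
  obtain ⟨𝔞, h𝔞⟩ : ∃ 𝔞 : Ideal A, 𝔞 = Ideal.map (algebraMap R A) (K * K) := ⟨_, rfl⟩
  have hmem : ∀ x : A, x ∈ Sm (K * K) A ↔ x ∈ 𝔞 := fun x => by
    rw [h𝔞]; exact mem_Sm_iff_mem_map _ x
  obtain ⟨ψb, hψb⟩ : ∃ ψb : C →ₐ[R] A ⧸ 𝔞, ∀ c, ψb c = Ideal.Quotient.mk 𝔞 (psi' ι ψ c) := by
    refine ⟨AlgHom.ofLinearMap ((Ideal.Quotient.mkₐ R 𝔞).toLinearMap ∘ₗ psi' ι ψ) ?_ ?_,
      fun c => rfl⟩
    · rw [LinearMap.comp_apply, psi'_one ι h1, AlgHom.toLinearMap_apply, map_one]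
    · intro c c'
      rw [LinearMap.comp_apply, LinearMap.comp_apply, LinearMap.comp_apply,
        AlgHom.toLinearMap_apply, AlgHom.toLinearMap_apply, AlgHom.toLinearMap_apply, ← map_mul,
        Ideal.Quotient.mkₐ_eq_mk]
      exact Ideal.Quotient.eq.mpr ((hmem _).mp (psi'_mul ι h1 hψ c c'))
  have hnil : IsNilpotent (RingHom.ker (Ideal.Quotient.mkₐ R 𝔞)) := by
    have hker : RingHom.ker (Ideal.Quotient.mkₐ R 𝔞) = 𝔞 := by
      ext x
      rw [RingHom.mem_ker, Ideal.Quotient.mkₐ_eq_mk, Ideal.Quotient.eq_zero_iff_mem]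
    rw [hker]
    obtain ⟨n, hn⟩ := hK
    refine ⟨n, ?_⟩
    rw [h𝔞, ← Ideal.map_pow, mul_pow, hn]
    simp [Ideal.zero_eq_bot]
  obtain ⟨ψ₂, hψ₂⟩ : ∃ ψ₂ : C →ₐ[R] A, ∀ c, Ideal.Quotient.mk 𝔞 (ψ₂ c) = ψb c := by
    refine ⟨Algebra.FormallySmooth.liftOfSurjective ψb (Ideal.Quotient.mkₐ R 𝔞)
      (Ideal.Quotient.mkₐ_surjective R 𝔞) hnil, fun c => ?_⟩
    exact Algebra.FormallySmooth.liftOfSurjective_apply ψb (Ideal.Quotient.mkₐ R 𝔞)
      (Ideal.Quotient.mkₐ_surjective R 𝔞) hnil c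
  have hd : ∀ c, ψ₂ c - psi' ι ψ c ∈ Sm (K * K) A := fun c => by
    rw [hmem]; exact Ideal.Quotient.eq.mp ((hψ₂ c).trans (hψb c))
  have hd1 : ∀ c, psi' ι ψ c - ψ c ∈ Sm K A := fun c =>
    V_avg_sub ι h1 hψ (toConv (AlgHom.id R A)) c
  refine ⟨ψ₂, fun c => ?_, fun c => ?_⟩
  · have : ψ₂ c - ψ c = (ψ₂ c - psi' ι ψ c) + (psi' ι ψ c - ψ c) := by abel
    rw [this]
    exact add_mem (Sm_mono Ideal.mul_le_right A (hd c)) (hd1 c)
  · have hm := homMod_psi' ι h1 hinv hψ c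
    have e : Coalgebra.comul (R := R) (ψ₂.toLinearMap c) -
        TensorProduct.map ψ₂.toLinearMap ψ₂.toLinearMap (Coalgebra.comul (R := R) c) =
        Coalgebra.comul (R := R) (ψ₂ c - psi' ι ψ c) +
        (Coalgebra.comul (R := R) (psi' ι ψ c) -
          TensorProduct.map (psi' ι ψ) (psi' ι ψ) (Coalgebra.comul (R := R) c)) +
        (TensorProduct.map (psi' ι ψ) (psi' ι ψ) (Coalgebra.comul (R := R) c) -
          TensorProduct.map ψ₂.toLinearMap ψ₂.toLinearMap (Coalgebra.comul (R := R) c)) := by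
      rw [map_sub, AlgHom.toLinearMap_apply]; abel
    rw [e]
    refine add_mem (add_mem (map_mem_Sm _ _ (hd c)) hm) ?_
    refine map_sub_map_mem _ _ (fun c => ?_) _
    have := neg_mem (hd c)
    rwa [neg_sub] at this

include h1 hinv in
theorem exists_hom_of_homMod [Algebra.FormallySmooth R C] :
    ∀ (n : ℕ) (K : Ideal R), K ^ n = 0 → ∀ ψ : C →ₐ[R] A, HomMod K ψ.toLinearMap →
      ∃ φ : C →ₐ[R] A, (∀ c, φ c - ψ c ∈ Sm K A) ∧ HomMod ⊥ φ.toLinearMap := by
  intro n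
  induction n using Nat.strong_induction_on with
  | _ n ih =>
    intro K hK ψ hψ
    by_cases hn : n ≤ 1
    · have hK0 : K = ⊥ := by
        interval_cases n
        · rw [pow_zero, Ideal.one_eq_top, Ideal.zero_eq_bot] at hK
          exact le_bot_iff.mp (hK ▸ le_top)
        · rwa [pow_one, Ideal.zero_eq_bot] at hK
      rw [hK0] at hψ
      exact ⟨ψ, fun c => by rw [sub_self]; exact zero_mem _, hψ⟩
    · push Not at hn
      obtain ⟨ψ₂, h2a, h2b⟩ := exists_step ι h1 hinv ⟨n, hK⟩ hψ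
      have hm : (n + 1) / 2 < n := by omega
      have hK2 : (K * K) ^ ((n + 1) / 2) = 0 := by
        rw [← pow_two, ← pow_mul]
        exact pow_eq_zero_of_le (by omega) hK
      obtain ⟨φ, hφa, hφb⟩ := ih _ hm (K * K) hK2 ψ₂ h2b
      refine ⟨φ, fun c => ?_, hφb⟩
      have : φ c - ψ c = (φ c - ψ₂ c) + (ψ₂ c - ψ c) := by abel
      rw [this]
      exact add_mem (Sm_mono Ideal.mul_le_right A (hφa c)) (h2a c)

lemma lin_injective {T : Type*} [CommRing T] [Algebra R T] :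
    Function.Injective (lin : WithConv (C →ₐ[R] T) → WithConv (C →ₗ[R] T)) := by
  intro x y h
  apply WithConv.ext
  apply AlgHom.toLinearMap_injective
  exact congrArg WithConv.ofConv h

lemma eq_zero_of_V_bot {T : Type*} [CommRing T] [Algebra R T] {f : WithConv (C →ₗ[R] T)}
    (h : V ⊥ f) : f = 0 := by
  apply WithConv.ext
  ext c
  have := h c
  rw [Sm_bot, Submodule.mem_bot] at this
  exact this

/-- an algebra map which is comultiplicative is a bialgebra map -/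
theorem exists_bialgHom_of_homMod_bot (φ : C →ₐ[R] A) (hφ : HomMod ⊥ φ.toLinearMap) :
    ∃ Φ : C →ₐc[R] A, ∀ c, Φ c = φ c := by
  have hcomul : ∀ c, Coalgebra.comul (R := R) (φ c) =
      TensorProduct.map φ.toLinearMap φ.toLinearMap (Coalgebra.comul (R := R) c) := fun c => by
    have := hφ c
    rw [Sm_bot, Submodule.mem_bot, sub_eq_zero] at this
    exact this
  -- the counit
  have he : ev φ (1 : WithConv (A →ₐ[R] R)) = 1 := by
    have h := eq_zero_of_V_bot (V_ev_mul hφ (1 : WithConv (A →ₐ[R] R)) 1)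
    rw [sub_eq_zero, one_mul, ← lin_mul] at h
    have h' := lin_injective h
    calc ev φ (1 : WithConv (A →ₐ[R] R))
        = ev φ 1 * (ev φ 1 * cinv (ev φ 1)) := by rw [mul_cinv, mul_one]
      _ = (ev φ 1 * ev φ 1) * cinv (ev φ 1) := by rw [mul_assoc]
      _ = 1 := by rw [← h', mul_cinv]
  refine ⟨BialgHom.ofAlgHom φ ?_ ?_, fun c => rfl⟩
  · apply AlgHom.ext
    intro c
    have := congrArg (fun x : WithConv (C →ₐ[R] R) => x.ofConv c) he
    exact this
  · apply AlgHom.ext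
    intro c
    exact (hcomul c).symm

include h1 hinv in
/-- **Lifting by averaging.** -/
theorem exists_bialgHom [Algebra.FormallySmooth R C] {K : Ideal R} (hK : IsNilpotent K)
    (ψ : C →ₐ[R] A) (hψ : HomMod K ψ.toLinearMap) :
    ∃ Φ : C →ₐc[R] A, ∀ c, Φ c - ψ c ∈ Sm K A := by
  obtain ⟨n, hn⟩ := hK
  obtain ⟨φ, hφa, hφb⟩ := exists_hom_of_homMod ι h1 hinv n K hn ψ hψ
  obtain ⟨Φ, hΦ⟩ := exists_bialgHom_of_homMod_bot φ hφb
  exact ⟨Φ, fun c => by rw [hΦ]; exact hφa c⟩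

end Step

end Groth.Agent.Lib.Helper19.AvgLift
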