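import Mathlib

/-!
# Convolution powers of points: composition and base change (helper19)

* `comp_pow`, `pow_comp`: convolution powers of points of a bialgebra commute with post-composition
  by algebra maps and pre-composition by bialgebra maps.
* `pow_eq_one_of_id`: if the identity point has `n`-th power one, so has every point.
* `pow_id_one_tmul`: the powers of the identity point commute with base change.
* `pow_id_eq_one_of_baseChange`: descent of `id ^ n = 1` along an injective base change.
-/

set_option autoImplicit false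
universe u v w w'

open TensorProduct

namespace Groth.Agent.Lib.Helper19.ConvBC

section Comp

variable {R : Type u} [CommRing R] {A : Type v} [CommRing A] [Bialgebra R A]
  {B : Type w} [CommRing B] [Algebra R B] {C : Type w'} [CommRing C] [Algebra R C]

/-- post-composition with an algebra map is compatible with convolution powers -/
theorem comp_pow (h : B →ₐ[R] C) (f : WithConv (A →ₐ[R] B)) (j : ℕ) :
    h.comp (f ^ j).ofConv = ((WithConv.toConv (h.comp f.ofConv)) ^ j).ofConv := by
  induction j with
  | zero =>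
    rw [pow_zero, pow_zero]
    apply AlgHom.ext
    intro a
    show h (algebraMap R B (Coalgebra.counit (R := R) a)) =
      algebraMap R C (Coalgebra.counit (R := R) a)
    rw [AlgHom.commutes]
  | succ j ih =>
    rw [pow_succ, pow_succ, AlgHom.comp_convMul_distrib, ih, WithConv.toConv_ofConv]

/-- pre-composition with a bialgebra map is compatible with convolution powers -/
theorem pow_comp {A' : Type*} [CommRing A'] [Bialgebra R A'] (q : A' →ₐc[R] A)
    (f : WithConv (A →ₐ[R] B)) (j : ℕ) :
    (f ^ j).ofConv.comp (q : A' →ₐ[R] A) =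
      ((WithConv.toConv (f.ofConv.comp (q : A' →ₐ[R] A))) ^ j).ofConv := by
  induction j with
  | zero =>
    rw [pow_zero, pow_zero]
    apply AlgHom.ext
    intro a
    show algebraMap R B (Coalgebra.counit (R := R) (q a)) =
      algebraMap R B (Coalgebra.counit (R := R) a)
    rw [CoalgHomClass.counit_comp_apply]
  | succ j ih =>
    rw [pow_succ, pow_succ, AlgHom.convMul_comp_bialgHom_distrib, ih, WithConv.toConv_ofConv]

/-- if the identity has convolution order dividing `n`, so has every point -/
theorem pow_eq_one_of_id (n : ℕ) (h : (WithConv.toConv (AlgHom.id R A)) ^ n = 1)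
    (g : A →ₐ[R] B) : (WithConv.toConv g) ^ n = 1 := by
  have h1 : g.comp ((WithConv.toConv (AlgHom.id R A)) ^ n).ofConv =
      ((WithConv.toConv g) ^ n).ofConv := by
    have h2 := comp_pow g (WithConv.toConv (AlgHom.id R A)) n
    rwa [WithConv.ofConv_toConv, AlgHom.comp_id] at h2
  rw [h] at h1
  apply WithConv.ext
  rw [← h1]
  apply AlgHom.ext
  intro a
  show g (algebraMap R A (Coalgebra.counit (R := R) a)) =
    algebraMap R B (Coalgebra.counit (R := R) a)
  rw [AlgHom.commutes]

end Comp

section BaseChange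

variable (R : Type u) [CommRing R] (R' : Type w) [CommRing R'] [Algebra R R']
  (A : Type v) [CommRing A] [Bialgebra R A]

/-- the natural map `A ⊗ A → (R' ⊗ A) ⊗_{R'} (R' ⊗ A)` -/
noncomputable def iota2 : A ⊗[R] A →ₗ[R] (R' ⊗[R] A) ⊗[R'] (R' ⊗[R] A) :=
  ((AlgebraTensorModule.tensorTensorTensorComm R R' R R' R' R' A A).toLinearMap.restrictScalars
    R) ∘ₗ (TensorProduct.mk R (R' ⊗[R'] R') (A ⊗[R] A) ((1 : R') ⊗ₜ[R'] (1 : R')))

lemma iota2_apply (t : A ⊗[R] A) : iota2 R R' A t =
    AlgebraTensorModule.tensorTensorTensorComm R R' R R' R' R' A A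
      (((1 : R') ⊗ₜ[R'] (1 : R')) ⊗ₜ[R] t) := rfl

lemma iota2_tmul (x y : A) :
    iota2 R R' A (x ⊗ₜ[R] y) = ((1 : R') ⊗ₜ[R] x) ⊗ₜ[R'] ((1 : R') ⊗ₜ[R] y) := by
  rw [iota2_apply, AlgebraTensorModule.tensorTensorTensorComm_tmul]

lemma comul_one_tmul (a : A) : Coalgebra.comul (R := R') ((1 : R') ⊗ₜ[R] a) =
    iota2 R R' A (Coalgebra.comul (R := R) a) := by
  rw [TensorProduct.comul_tmul, CommSemiring.comul_apply, iota2_apply]

lemma counit_one_tmul (a : A) : Coalgebra.counit (R := R') ((1 : R') ⊗ₜ[R] a) =
    algebraMap R R' (Coalgebra.counit (R := R) a) := by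
  rw [TensorProduct.counit_tmul, CommSemiring.counit_apply, Algebra.algebraMap_eq_smul_one]

/-- the convolution powers of the identity point commute with base change -/
theorem pow_id_one_tmul (j : ℕ) (a : A) :
    ((WithConv.toConv (AlgHom.id R' (R' ⊗[R] A))) ^ j).ofConv ((1 : R') ⊗ₜ[R] a) =
      (1 : R') ⊗ₜ[R] ((WithConv.toConv (AlgHom.id R A)) ^ j).ofConv a := by
  induction j generalizing a with
  | zero =>
    rw [pow_zero, pow_zero]
    show algebraMap R' (R' ⊗[R] A) (Coalgebra.counit (R := R') ((1 : R') ⊗ₜ[R] a)) =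
      (1 : R') ⊗ₜ[R] (algebraMap R A (Coalgebra.counit (R := R) a))
    rw [counit_one_tmul, Algebra.TensorProduct.algebraMap_apply, Algebra.algebraMap_self_apply,
      Algebra.algebraMap_eq_smul_one (R := R) (A := R'),
      Algebra.algebraMap_eq_smul_one (R := R) (A := A), TensorProduct.smul_tmul]
  | succ j ih =>
    rw [pow_succ, pow_succ, AlgHom.convMul_apply, AlgHom.convMul_apply, comul_one_tmul]
    generalize Coalgebra.comul (R := R) a = t
    induction t using TensorProduct.induction_on with
    | zero => simp only [map_zero, TensorProduct.tmul_zero]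
    | tmul x y =>
      rw [iota2_tmul, Algebra.TensorProduct.lift_tmul, Algebra.TensorProduct.lift_tmul, ih x]
      show ((1 : R') ⊗ₜ[R] _) * ((1 : R') ⊗ₜ[R] y) = _
      rw [Algebra.TensorProduct.tmul_mul_tmul, one_mul]
      rfl
    | add t₁ t₂ h₁ h₂ => simp only [map_add, TensorProduct.tmul_add, h₁, h₂]

/-- descent of `id ^ n = 1` along an injective base change -/
theorem pow_id_eq_one_of_baseChange (n : ℕ)
    (hinj : Function.Injective (fun a : A => (1 : R') ⊗ₜ[R] a))
    (h : (WithConv.toConv (AlgHom.id R' (R' ⊗[R] A))) ^ n = 1) :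
    (WithConv.toConv (AlgHom.id R A)) ^ n = 1 := by
  apply WithConv.ext
  apply AlgHom.ext
  intro a
  apply hinj
  show (1 : R') ⊗ₜ[R] ((WithConv.toConv (AlgHom.id R A)) ^ n).ofConv a =
    (1 : R') ⊗ₜ[R] (1 : WithConv (A →ₐ[R] A)).ofConv a
  rw [← pow_id_one_tmul, h, ← pow_zero (WithConv.toConv (AlgHom.id R A)), ← pow_id_one_tmul,
    pow_zero]

end BaseChange

end Groth.Agent.Lib.Helper19.ConvBC
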