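import Mathlib

/-!
# Representability of the functor of idempotents of a finite projective algebra (helper19)

For `B` a finite projective `A`-algebra (with a splitting `f ∘ g = id`, `f : A^n → B`), the
explicit algebra `E f g = A[X_1..X_n]/(linear and quadratic relations)` with the universal
idempotent `e₀ ∈ E ⊗ B`; `univ` (universal property), `formallyEtale`, finite presentation.
-/

set_option autoImplicit false
set_option linter.unusedSectionVars false
set_option linter.unusedVariables false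
universe u v w

open TensorProduct

namespace Groth.Agent.Lib.Helper19.IdemRep

lemma idem_unique {S₁ S₂ : Type*} [CommRing S₁] [CommRing S₂] (F : S₁ →+* S₂)
    (hF : ∀ x ∈ RingHom.ker F, IsNilpotent x) (e e' : S₁) (he : IsIdempotentElem e)
    (he' : IsIdempotentElem e') (h : F e = F e') : e = e' := by
  obtain ⟨d, hd⟩ : ∃ d, d = e - e' := ⟨_, rfl⟩
  have hdk : d ∈ RingHom.ker F := by
    rw [RingHom.mem_ker, hd, map_sub, h, sub_self]
  have h3 : d ^ 3 = d := by
    have h1 := he.eq
    have h2 := he'.eq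
    rw [hd]
    linear_combination (e + 1 - 3 * e') * h1 + (3 * e - e' - 1) * h2
  have hpow : ∀ k : ℕ, d ^ (2 * k + 1) = d := by
    intro k
    induction k with
    | zero => simp
    | succ k ih =>
      calc d ^ (2 * (k + 1) + 1) = d ^ (2 * k + 1) * d ^ 2 := by ring
        _ = d * d ^ 2 := by rw [ih]
        _ = d ^ 3 := by ring
        _ = d := h3
  obtain ⟨m, hm⟩ := hF d hdk
  have h0 : d = 0 := by
    have h := hpow m
    rw [show 2 * m + 1 = m + (m + 1) by ring, pow_add, hm, zero_mul] at h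
    exact h.symm
  rw [hd] at h0
  exact sub_eq_zero.mp h0

section
variable {A : Type u} {B : Type v} [CommRing A] [CommRing B] [Algebra A B]
variable {n : ℕ} (f : (Fin n → A) →ₗ[A] B) (g : B →ₗ[A] (Fin n → A))

/-- generators -/
noncomputable def gen (k : Fin n) : B := f (fun j => if k = j then 1 else 0)

/-- coordinate functionals -/
noncomputable def lam (k : Fin n) : B →ₗ[A] A := (LinearMap.proj k) ∘ₗ g

lemma sum_lam_smul_gen (hfg : f ∘ₗ g = LinearMap.id) (x : B) :
    ∑ k, lam g k x • gen f k = x :=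
  (LinearMap.pi_apply_eq_sum_univ f (g x)).symm.trans (LinearMap.congr_fun hfg x)

section coord
variable (C : Type w) [CommRing C] [Algebra A C]

/-- coordinate functional on `C ⊗ B` -/
noncomputable def coord (k : Fin n) : C ⊗[A] B →ₗ[C] C :=
  (TensorProduct.AlgebraTensorModule.rid A C C).toLinearMap ∘ₗ (lam g k).baseChange C

lemma coord_tmul (k : Fin n) (c : C) (b : B) :
    coord g C k (c ⊗ₜ[A] b) = lam g k b • c := by
  simp [coord]

lemma recon (hfg : f ∘ₗ g = LinearMap.id) (x : C ⊗[A] B) :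
    ∑ k, coord g C k x ⊗ₜ[A] gen f k = x := by
  induction x using TensorProduct.induction_on with
  | zero => simp
  | tmul c b =>
    calc ∑ k, coord g C k (c ⊗ₜ[A] b) ⊗ₜ[A] gen f k
        = ∑ k, c ⊗ₜ[A] (lam g k b • gen f k) := by
          refine Finset.sum_congr rfl (fun k _ => ?_)
          rw [coord_tmul, TensorProduct.smul_tmul]
      _ = c ⊗ₜ[A] ∑ k, lam g k b • gen f k := (TensorProduct.tmul_sum _ _ _).symm
      _ = c ⊗ₜ[A] b := by rw [sum_lam_smul_gen f g hfg]
  | add x y hx hy =>
    simp only [map_add, TensorProduct.add_tmul, Finset.sum_add_distrib, hx, hy]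

lemma eq_of_coord (hfg : f ∘ₗ g = LinearMap.id) (x y : C ⊗[A] B)
    (h : ∀ k, coord g C k x = coord g C k y) : x = y :=
  calc x = ∑ k, coord g C k x ⊗ₜ[A] gen f k := (recon f g C hfg x).symm
    _ = ∑ k, coord g C k y ⊗ₜ[A] gen f k := by simp only [h]
    _ = y := recon f g C hfg y

lemma coord_sum (c : Fin n → C) (k : Fin n) :
    coord g C k (∑ j, c j ⊗ₜ[A] gen f j) = ∑ j, lam g k (gen f j) • c j := by
  simp only [map_sum, coord_tmul]

lemma coord_sum_mul (c : Fin n → C) (k : Fin n) :
    coord g C k ((∑ j, c j ⊗ₜ[A] gen f j) * (∑ l, c l ⊗ₜ[A] gen f l)) =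
      ∑ j, ∑ l, lam g k (gen f j * gen f l) • (c j * c l) := by
  rw [Finset.sum_mul_sum]
  simp only [map_sum, Algebra.TensorProduct.tmul_mul_tmul, coord_tmul]

end coord

/-- linear relations -/
noncomputable def relLin (k : Fin n) : MvPolynomial (Fin n) A :=
  MvPolynomial.X k - ∑ j, lam g k (gen f j) • MvPolynomial.X j

/-- quadratic relations -/
noncomputable def relQuad (k : Fin n) : MvPolynomial (Fin n) A :=
  (∑ j, ∑ l, lam g k (gen f j * gen f l) • (MvPolynomial.X j * MvPolynomial.X l)) -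
    ∑ j, lam g k (gen f j) • MvPolynomial.X j

/-- the ideal of relations -/
noncomputable def relIdeal : Ideal (MvPolynomial (Fin n) A) :=
  Ideal.span (Set.range (relLin f g) ∪ Set.range (relQuad f g))

/-- the representing algebra -/
abbrev E : Type u := MvPolynomial (Fin n) A ⧸ relIdeal f g

/-- the coordinate classes -/
noncomputable abbrev xx (k : Fin n) : E f g :=
  Ideal.Quotient.mkₐ A (relIdeal f g) (MvPolynomial.X k)

/-- the universal idempotent -/
noncomputable def e₀ : E f g ⊗[A] B := ∑ j, xx f g j ⊗ₜ[A] gen f j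

lemma xx_lin (k : Fin n) : xx f g k = ∑ j, lam g k (gen f j) • xx f g j := by
  have h : Ideal.Quotient.mkₐ A (relIdeal f g) (relLin f g k) = 0 := by
    rw [Ideal.Quotient.mkₐ_eq_mk]
    exact Ideal.Quotient.eq_zero_iff_mem.mpr (Ideal.subset_span (Or.inl ⟨k, rfl⟩))
  rw [relLin, map_sub, map_sum] at h
  simp only [map_smul] at h
  exact sub_eq_zero.mp h

lemma xx_quad (k : Fin n) :
    ∑ j, ∑ l, lam g k (gen f j * gen f l) • (xx f g j * xx f g l) =
      ∑ j, lam g k (gen f j) • xx f g j := by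
  have h : Ideal.Quotient.mkₐ A (relIdeal f g) (relQuad f g k) = 0 := by
    rw [Ideal.Quotient.mkₐ_eq_mk]
    exact Ideal.Quotient.eq_zero_iff_mem.mpr (Ideal.subset_span (Or.inr ⟨k, rfl⟩))
  rw [relQuad, map_sub] at h
  simp only [map_sum, map_smul, map_mul] at h
  exact sub_eq_zero.mp h

lemma e₀_idem (hfg : f ∘ₗ g = LinearMap.id) : IsIdempotentElem (e₀ f g) := by
  show e₀ f g * e₀ f g = e₀ f g
  apply eq_of_coord f g (E f g) hfg
  intro k
  unfold e₀
  rw [coord_sum_mul, coord_sum]
  exact xx_quad f g k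

section hom
variable {C : Type w} [CommRing C] [Algebra A C] (c : Fin n → C)

lemma aeval_relLin (k : Fin n) :
    MvPolynomial.aeval c (relLin f g k) = c k - ∑ j, lam g k (gen f j) • c j := by
  simp only [relLin, map_sub, map_sum, map_smul, MvPolynomial.aeval_X]

lemma aeval_relQuad (k : Fin n) :
    MvPolynomial.aeval c (relQuad f g k) =
      (∑ j, ∑ l, lam g k (gen f j * gen f l) • (c j * c l)) -
        ∑ j, lam g k (gen f j) • c j := by
  simp only [relQuad, map_sub, map_sum, map_smul, map_mul, MvPolynomial.aeval_X]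

/-- the homomorphism attached to a point -/
noncomputable def homOf (h1 : ∀ k, c k = ∑ j, lam g k (gen f j) • c j)
    (h2 : ∀ k, ∑ j, ∑ l, lam g k (gen f j * gen f l) • (c j * c l) =
      ∑ j, lam g k (gen f j) • c j) : E f g →ₐ[A] C :=
  Ideal.Quotient.liftₐ (relIdeal f g) (MvPolynomial.aeval c) (by
    intro a ha
    have hle : relIdeal f g ≤
        RingHom.ker (MvPolynomial.aeval c : MvPolynomial (Fin n) A →ₐ[A] C).toRingHom := by
      rw [relIdeal, Ideal.span_le]
      rintro _ (⟨k, rfl⟩ | ⟨k, rfl⟩)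
      · rw [SetLike.mem_coe, RingHom.mem_ker]
        exact (aeval_relLin f g c k).trans (sub_eq_zero.mpr (h1 k))
      · rw [SetLike.mem_coe, RingHom.mem_ker]
        exact (aeval_relQuad f g c k).trans (sub_eq_zero.mpr (h2 k))
    exact RingHom.mem_ker.mp (hle ha))

lemma homOf_xx (h1 : ∀ k, c k = ∑ j, lam g k (gen f j) • c j)
    (h2 : ∀ k, ∑ j, ∑ l, lam g k (gen f j * gen f l) • (c j * c l) =
      ∑ j, lam g k (gen f j) • c j) (k : Fin n) :
    homOf f g c h1 h2 (xx f g k) = c k := by
  unfold homOf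
  rw [Ideal.Quotient.liftₐ_apply]
  show Ideal.Quotient.lift _ _ _ (Ideal.Quotient.mk _ (MvPolynomial.X k)) = c k
  rw [Ideal.Quotient.lift_mk]
  exact MvPolynomial.aeval_X c k

end hom

theorem univ (hfg : f ∘ₗ g = LinearMap.id) (C : Type w) [CommRing C] [Algebra A C]
    (e : C ⊗[A] B) (he : IsIdempotentElem e) :
    ∃! φ : E f g →ₐ[A] C, Algebra.TensorProduct.map φ (AlgHom.id A B) (e₀ f g) = e := by
  have hre := recon f g C hfg e
  have h1 : ∀ k, coord g C k e = ∑ j, lam g k (gen f j) • coord g C j e := by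
    intro k
    conv_lhs => rw [← hre]
    exact coord_sum f g C (fun j => coord g C j e) k
  have h2 : ∀ k, ∑ j, ∑ l, lam g k (gen f j * gen f l) • (coord g C j e * coord g C l e) =
      ∑ j, lam g k (gen f j) • coord g C j e := by
    intro k
    calc ∑ j, ∑ l, lam g k (gen f j * gen f l) • (coord g C j e * coord g C l e)
        = coord g C k ((∑ j, coord g C j e ⊗ₜ[A] gen f j) *
            (∑ l, coord g C l e ⊗ₜ[A] gen f l)) :=
          (coord_sum_mul f g C (fun j => coord g C j e) k).symm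
      _ = coord g C k (e * e) := by rw [hre]
      _ = coord g C k e := by rw [he.eq]
      _ = _ := h1 k
  refine ⟨homOf f g (fun k => coord g C k e) h1 h2, ?_, ?_⟩
  · show Algebra.TensorProduct.map _ _ (e₀ f g) = e
    rw [e₀, map_sum]
    simp only [Algebra.TensorProduct.map_tmul, homOf_xx, AlgHom.coe_id, id_eq]
    exact hre
  · intro φ' hφ'
    have hx : ∀ k, φ' (xx f g k) = coord g C k e := by
      intro k
      rw [← hφ', e₀, map_sum]
      simp only [Algebra.TensorProduct.map_tmul, AlgHom.coe_id, id_eq]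
      rw [coord_sum f g C (fun j => φ' (xx f g j)) k]
      conv_lhs => rw [xx_lin f g k]
      simp only [map_sum, map_smul]
    apply Ideal.Quotient.algHom_ext A
    apply MvPolynomial.algHom_ext
    intro k
    simp only [AlgHom.comp_apply]
    exact (hx k).trans (homOf_xx f g _ h1 h2 k).symm

lemma map_map_apply {C : Type*} {D : Type*} [CommRing C] [CommRing D] [Algebra A C]
    [Algebra A D] (ψ : E f g →ₐ[A] C) (q : C →ₐ[A] D) (x : E f g ⊗[A] B) :
    Algebra.TensorProduct.map q (AlgHom.id A B)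
      (Algebra.TensorProduct.map ψ (AlgHom.id A B) x) =
      Algebra.TensorProduct.map (q.comp ψ) (AlgHom.id A B) x := by
  induction x using TensorProduct.induction_on with
  | zero => simp
  | tmul a b => simp
  | add x y hx hy => simp only [map_add, hx, hy]

instance finitePresentation : Algebra.FinitePresentation A (E f g) := by
  apply Algebra.FinitePresentation.quotient
  exact Submodule.fg_span ((Set.finite_range _).union (Set.finite_range _))

end

section etale
variable {A : Type u} {B : Type u} [CommRing A] [CommRing B] [Algebra A B]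
variable {n : ℕ} (f : (Fin n → A) →ₗ[A] B) (g : B →ₗ[A] (Fin n → A))

theorem formallyEtale (hfg : f ∘ₗ g = LinearMap.id) : Algebra.FormallyEtale A (E f g) := by
  rw [Algebra.FormallyEtale.iff_comp_bijective]
  intro D _ _ N hN
  obtain ⟨Q', hQ'⟩ : ∃ Q' : D ⊗[A] B →ₐ[A] (D ⧸ N) ⊗[A] B,
      Q' = Algebra.TensorProduct.map (Ideal.Quotient.mkₐ A N) (AlgHom.id A B) := ⟨_, rfl⟩
  have hsurj : Function.Surjective Q' := by
    rw [hQ']
    exact Algebra.TensorProduct.map_surjective _ _ (Ideal.Quotient.mkₐ_surjective A N)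
      Function.surjective_id
  have hker : ∀ x ∈ RingHom.ker (Q' : D ⊗[A] B →+* (D ⧸ N) ⊗[A] B), IsNilpotent x := by
    intro x hx
    have hx' : x ∈ RingHom.ker
        (Algebra.TensorProduct.map (Ideal.Quotient.mkₐ A N) (AlgHom.id A B)) := by
      rw [← hQ']
      exact hx
    have hk : RingHom.ker (Ideal.Quotient.mkₐ A N) = N := by
      ext y
      rw [RingHom.mem_ker, Ideal.Quotient.mkₐ_eq_mk, Ideal.Quotient.eq_zero_iff_mem]
    rw [Algebra.TensorProduct.rTensor_ker _ (Ideal.Quotient.mkₐ_surjective A N), hk] at hx'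
    refine ⟨2, ?_⟩
    have h2 := Ideal.pow_mem_pow hx' 2
    rw [← Ideal.map_pow, hN, Ideal.map_bot] at h2
    exact Ideal.mem_bot.mp h2
  have hidem : ∀ {C : Type u} [CommRing C] [Algebra A C] (ψ : E f g →ₐ[A] C),
      IsIdempotentElem (Algebra.TensorProduct.map ψ (AlgHom.id A B) (e₀ f g)) :=
    fun ψ => (e₀_idem f g hfg).map _
  constructor
  · intro ψ ψ' hψ
    have h3 : Q' (Algebra.TensorProduct.map ψ (AlgHom.id A B) (e₀ f g)) =
        Q' (Algebra.TensorProduct.map ψ' (AlgHom.id A B) (e₀ f g)) := by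
      rw [hQ', map_map_apply, map_map_apply, hψ]
    have h4 := idem_unique (Q' : D ⊗[A] B →+* (D ⧸ N) ⊗[A] B) hker _ _ (hidem ψ) (hidem ψ') h3
    obtain ⟨φ, -, huniq⟩ := univ f g hfg D _ (hidem ψ')
    exact (huniq ψ h4).trans (huniq ψ' rfl).symm
  · intro ψb
    obtain ⟨e, he, hQe⟩ := exists_isIdempotentElem_eq_of_ker_isNilpotent
      (Q' : D ⊗[A] B →+* (D ⧸ N) ⊗[A] B) hker _ (RingHom.mem_range.mpr (hsurj _)) (hidem ψb)
    obtain ⟨φ, hφ, -⟩ := univ f g hfg D e he
    refine ⟨φ, ?_⟩
    obtain ⟨φb, -, huniq⟩ := univ f g hfg (D ⧸ N) _ (hidem ψb)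
    refine (huniq _ ?_).trans (huniq ψb rfl).symm
    show Algebra.TensorProduct.map ((Ideal.Quotient.mkₐ A N).comp φ) (AlgHom.id A B) (e₀ f g) = _
    rw [← map_map_apply, hφ, ← hQ']
    exact hQe

theorem main (A B : Type u) [CommRing A] [CommRing B] [Algebra A B] [Module.Finite A B]
    [Module.Projective A B] :
    ∃ (E : Type u) (_ : CommRing E) (_ : Algebra A E) (e₀ : E ⊗[A] B), Algebra.Etale A E ∧
      IsIdempotentElem e₀ ∧ ∀ (C : Type u) [CommRing C] [Algebra A C] (e : C ⊗[A] B),
        IsIdempotentElem e →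
          ∃! φ : E →ₐ[A] C, Algebra.TensorProduct.map φ (AlgHom.id A B) e₀ = e := by
  obtain ⟨n, f, g, -, -, hfg⟩ := Module.Finite.exists_comp_eq_id_of_projective A B
  have hfe := formallyEtale f g hfg
  exact ⟨E f g, inferInstance, inferInstance, e₀ f g, ⟨hfe, inferInstance⟩, e₀_idem f g hfg,
    fun C _ _ e he => univ f g hfg C e he⟩

end etale

end Groth.Agent.Lib.Helper19.IdemRep
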