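import Mathlib
import Groth.Prelude.Def_SGA3b
import Groth.Agent.Lib.Helper1.MultTypeRigid
import Groth.Agent.Lib.Helper28.TakShear

/-!
# Monomorphisms from groups of multiplicative type are closed immersions (helper19)

Hopf-algebra form: `φ : C →ₐc[R] A` with `A` of multiplicative type, such that
`x ↦ x ∘ φ` is injective on `T`-points for all `T`; then `φ` is surjective.
-/

set_option autoImplicit false
universe u
open TensorProduct

namespace Groth.Agent.Lib.Helper19.MultMono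

open Groth.Agent.Lib.Helper1.MultType (coeffFun coeffFun_single coeffFun_one)

/-- `φ` is a monomorphism of group functors. -/
def Mono {R : Type u} [CommRing R] {A C : Type u} [CommRing A] [CommRing C] [HopfAlgebra R A]
    [HopfAlgebra R C] (φ : C →ₐc[R] A) : Prop :=
  ∀ (T : Type u) [CommRing T] [Algebra R T],
    Function.Injective (fun x : A →ₐ[R] T => x.comp (φ : C →ₐ[R] A))

section Diag

variable {R : Type u} [CommRing R] {C : Type u} [CommRing C] [HopfAlgebra R C] {M : Type u}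
  [CommGroup M] (Φ : C →ₐc[R] MonoidAlgebra R M)

/-- the coefficient functionals of `Φ` -/
noncomputable def lam (m : M) : C →ₗ[R] R :=
  (coeffFun m).comp (Φ : C →ₗ[R] MonoidAlgebra R M)

lemma lam_apply (m : M) (c : C) : lam Φ m c = coeffFun m (Φ c) := rfl

lemma rid_lTensor_coeffFun_comul (m : M) (x : MonoidAlgebra R M) :
    (TensorProduct.rid R (MonoidAlgebra R M))
      ((coeffFun m).lTensor (MonoidAlgebra R M) (Coalgebra.comul (R := R) x)) =
      MonoidAlgebra.single m (coeffFun m x) := by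
  classical
  refine MonoidAlgebra.induction_linear x ?_ ?_ ?_
  · simp
  · intro x y hx hy
    simp only [map_add, hx, hy, MonoidAlgebra.single_add]
  · intro a r
    rw [MonoidAlgebra.comul_single]
    simp only [CommSemiring.comul_apply, TensorProduct.map_tmul, MonoidAlgebra.lsingle_apply,
      LinearMap.lTensor_tmul, TensorProduct.rid_tmul, coeffFun_single]
    split_ifs with h
    · subst h; simp
    · simp

lemma exists_map_eq_single (m : M) (c : C) :
    ∃ c' : C, Φ c' = MonoidAlgebra.single m (lam Φ m c) := by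
  refine ⟨(TensorProduct.rid R C) ((lam Φ m).lTensor C (Coalgebra.comul (R := R) c)), ?_⟩
  have h1 : ∀ z : C ⊗[R] C, Φ ((TensorProduct.rid R C) ((lam Φ m).lTensor C z)) =
      (TensorProduct.rid R (MonoidAlgebra R M)) ((coeffFun m).lTensor (MonoidAlgebra R M)
        (TensorProduct.map (Φ : C →ₗ[R] MonoidAlgebra R M) (Φ : C →ₗ[R] MonoidAlgebra R M) z)) := by
    intro z
    induction z using TensorProduct.induction_on with
    | zero => simp
    | tmul a b =>
      simp only [LinearMap.lTensor_tmul, TensorProduct.rid_tmul, TensorProduct.map_tmul, map_smul,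
        lam_apply]
      rfl
    | add y z hy hz => simp only [map_add, hy, hz]
  rw [h1, CoalgHomClass.map_comp_comul_apply, rid_lTensor_coeffFun_comul]
  rfl

lemma lam_one_one : lam Φ 1 1 = 1 := by
  classical
  rw [lam_apply, map_one, coeffFun_one, if_pos rfl]

lemma exists_lam_mul (a b : M) (c c' : C) :
    ∃ c'' : C, lam Φ (a * b) c'' = lam Φ a c * lam Φ b c' := by
  classical
  obtain ⟨ca, hca⟩ := exists_map_eq_single Φ a c
  obtain ⟨cb, hcb⟩ := exists_map_eq_single Φ b c'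
  refine ⟨ca * cb, ?_⟩
  rw [lam_apply, map_mul, hca, hcb, MonoidAlgebra.single_mul_single, coeffFun_single, if_pos rfl]

lemma coeffFun_inv_antipode (m : M) (x : MonoidAlgebra R M) :
    coeffFun m⁻¹ (HopfAlgebra.antipode R x) = coeffFun m x := by
  classical
  refine MonoidAlgebra.induction_linear x ?_ ?_ ?_
  · simp
  · intro x y hx hy
    simp only [map_add, hx, hy]
  · intro a r
    rw [MonoidAlgebra.antipode_single, coeffFun_single, coeffFun_single]
    simp only [inv_inj]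
    split_ifs <;> simp

lemma lam_inv_antipode (m : M) (c : C) :
    lam Φ m⁻¹ (HopfAlgebra.antipode R c) = lam Φ m c := by
  rw [lam_apply, lam_apply, ← Groth.Agent.Lib.Helper28.TakShear.antipode_bialgHom Φ c,
    coeffFun_inv_antipode]

/-- the set of `m` whose coefficient ideal is not contained in the prime `𝔫` is a subgroup -/
def supp (𝔫 : Ideal R) [𝔫.IsPrime] : Subgroup M where
  carrier := {m | ∃ c : C, lam Φ m c ∉ 𝔫}
  one_mem' := ⟨1, by
    rw [lam_one_one]
    exact fun h => (Ideal.IsPrime.ne_top ‹_›) ((Ideal.eq_top_iff_one _).mpr h)⟩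
  mul_mem' := by
    rintro a b ⟨c, hc⟩ ⟨c', hc'⟩
    obtain ⟨c'', hc''⟩ := exists_lam_mul Φ a b c c'
    refine ⟨c'', ?_⟩
    rw [hc'']
    intro h
    rcases Ideal.IsPrime.mem_or_mem ‹_› h with h | h
    · exact hc h
    · exact hc' h
  inv_mem' := by
    rintro a ⟨c, hc⟩
    exact ⟨HopfAlgebra.antipode R c, by rw [lam_inv_antipode]; exact hc⟩

lemma mem_supp (𝔫 : Ideal R) [𝔫.IsPrime] (m : M) : m ∈ supp Φ 𝔫 ↔ ∃ c : C, lam Φ m c ∉ 𝔫 :=
  Iff.rfl

theorem mem_supp_of_mono (hmono : Mono Φ) (𝔫 : Ideal R) [𝔫.IsPrime] (m₀ : M) :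
    m₀ ∈ supp Φ 𝔫 := by
  classical
  let N := supp Φ 𝔫
  let T := MonoidAlgebra (R ⧸ 𝔫) (M ⧸ N)
  let χ : M →* T := (MonoidAlgebra.of (R ⧸ 𝔫) (M ⧸ N)).comp (QuotientGroup.mk' N)
  let θ : MonoidAlgebra R M →ₐ[R] T := MonoidAlgebra.lift R T M χ
  let θ' : MonoidAlgebra R M →ₐ[R] T := MonoidAlgebra.lift R T M 1
  have hsingle : ∀ (m : M) (c : C), θ (MonoidAlgebra.single m (lam Φ m c)) =
      θ' (MonoidAlgebra.single m (lam Φ m c)) := by
    intro m c
    rw [MonoidAlgebra.lift_single, MonoidAlgebra.lift_single]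
    by_cases hm : m ∈ N
    · have h1 : χ m = 1 := by
        show MonoidAlgebra.of (R ⧸ 𝔫) (M ⧸ N) (QuotientGroup.mk' N m) = 1
        rw [show QuotientGroup.mk' N m = 1 from (QuotientGroup.eq_one_iff m).mpr hm, map_one]
      rw [h1]; rfl
    · have h2 : lam Φ m c ∈ 𝔫 := by
        by_contra h
        exact hm ⟨c, h⟩
      have h3 : ∀ t : T, lam Φ m c • t = 0 := by
        intro t
        rw [← algebraMap_smul (R ⧸ 𝔫) (lam Φ m c) t]
        have : algebraMap R (R ⧸ 𝔫) (lam Φ m c) = 0 := Ideal.Quotient.eq_zero_iff_mem.mpr h2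
        rw [this, zero_smul]
      rw [h3, h3]
  have hcomp : θ.comp (Φ : C →ₐ[R] MonoidAlgebra R M) = θ'.comp (Φ : C →ₐ[R] MonoidAlgebra R M) := by
    refine AlgHom.ext fun c => ?_
    show θ (Φ c) = θ' (Φ c)
    rw [← MonoidAlgebra.sum_coeff_single (Φ c), Finsupp.sum, map_sum, map_sum]
    refine Finset.sum_congr rfl fun m _ => ?_
    exact hsingle m c
  have hθ := hmono T hcomp
  have h4 : θ (MonoidAlgebra.single m₀ 1) = θ' (MonoidAlgebra.single m₀ 1) := by rw [hθ]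
  rw [MonoidAlgebra.lift_single, MonoidAlgebra.lift_single, one_smul, one_smul] at h4
  have h5 : MonoidAlgebra.single (QuotientGroup.mk' N m₀) (1 : R ⧸ 𝔫) =
      MonoidAlgebra.single (1 : M ⧸ N) (1 : R ⧸ 𝔫) := h4
  have h6 := congrArg (fun x => x.coeff (1 : M ⧸ N)) h5
  simp only [MonoidAlgebra.coeff_single, Finsupp.single_apply, if_pos rfl] at h6
  have h7 : QuotientGroup.mk' N m₀ = 1 := by
    by_contra hne
    rw [if_neg hne] at h6
    exact zero_ne_one h6
  exact (QuotientGroup.eq_one_iff m₀).mp h7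

theorem diag_surjective (hmono : Mono Φ) : Function.Surjective Φ := by
  classical
  have h1 : ∀ m : M, ∃ c : C, lam Φ m c = 1 := by
    intro m
    have htop : LinearMap.range (lam Φ m) = (⊤ : Ideal R) := by
      by_contra hne
      obtain ⟨𝔫, h𝔫, hle⟩ := Ideal.exists_le_maximal _ hne
      haveI := h𝔫.isPrime
      obtain ⟨c, hc⟩ := mem_supp_of_mono Φ hmono 𝔫 m
      exact hc (hle ⟨c, rfl⟩)
    have h2 : (1 : R) ∈ LinearMap.range (lam Φ m) := by rw [htop]; exact Submodule.mem_top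
    exact h2
  intro x
  refine MonoidAlgebra.induction_linear x ?_ ?_ ?_
  · exact ⟨0, map_zero _⟩
  · rintro x y ⟨a, rfl⟩ ⟨b, rfl⟩
    exact ⟨a + b, map_add _ _ _⟩
  · intro m r
    obtain ⟨c, hc⟩ := h1 m
    obtain ⟨c', hc'⟩ := exists_map_eq_single Φ m c
    refine ⟨r • c', ?_⟩
    rw [map_smul, hc', hc, MonoidAlgebra.smul_single, smul_eq_mul, mul_one]

end Diag

section BaseChange

variable {R : Type u} [CommRing R] {A C : Type u} [CommRing A] [CommRing C] [HopfAlgebra R A]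
  [HopfAlgebra R C]

theorem mono_baseChange (φ : C →ₐc[R] A) (h : Mono φ) (R₁ : Type u) [CommRing R₁]
    [Algebra R R₁] : Mono (Bialgebra.TensorProduct.map (BialgHom.id R₁ R₁) φ) := by
  intro T _ _ x y hxy
  have hxy' : x.comp ((Bialgebra.TensorProduct.map (BialgHom.id R₁ R₁) φ :
      R₁ ⊗[R] C →ₐc[R₁] R₁ ⊗[R] A) : R₁ ⊗[R] C →ₐ[R₁] R₁ ⊗[R] A) =
      y.comp ((Bialgebra.TensorProduct.map (BialgHom.id R₁ R₁) φ :
      R₁ ⊗[R] C →ₐc[R₁] R₁ ⊗[R] A) : R₁ ⊗[R] C →ₐ[R₁] R₁ ⊗[R] A) := hxy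
  letI : Algebra R T := ((algebraMap R₁ T).comp (algebraMap R R₁)).toAlgebra
  haveI : IsScalarTower R R₁ T := IsScalarTower.of_algebraMap_eq (fun _ => rfl)
  let x₀ : A →ₐ[R] T := (x.restrictScalars R).comp Algebra.TensorProduct.includeRight
  let y₀ : A →ₐ[R] T := (y.restrictScalars R).comp Algebra.TensorProduct.includeRight
  have h0 : x₀.comp (φ : C →ₐ[R] A) = y₀.comp (φ : C →ₐ[R] A) := by
    refine AlgHom.ext fun c => ?_
    have h1 := congrArg (fun f => f ((1 : R₁) ⊗ₜ[R] c)) hxy'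
    have h2 : (Bialgebra.TensorProduct.map (BialgHom.id R₁ R₁) φ) ((1 : R₁) ⊗ₜ[R] c) =
        (1 : R₁) ⊗ₜ[R] φ c := Bialgebra.TensorProduct.map_tmul _ _ _ _
    show x ((1 : R₁) ⊗ₜ[R] φ c) = y ((1 : R₁) ⊗ₜ[R] φ c)
    rw [← h2]
    exact h1
  have h3 := h T h0
  apply Algebra.TensorProduct.ext'
  intro r a
  have hx : x (r ⊗ₜ a) = r • x₀ a := by
    show x (r ⊗ₜ a) = r • x ((1 : R₁) ⊗ₜ a)
    rw [← map_smul, TensorProduct.smul_tmul', smul_eq_mul, mul_one]
  have hy : y (r ⊗ₜ a) = r • y₀ a := by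
    show y (r ⊗ₜ a) = r • y ((1 : R₁) ⊗ₜ a)
    rw [← map_smul, TensorProduct.smul_tmul', smul_eq_mul, mul_one]
  rw [hx, hy, h3]

theorem exists_pow_smul_mem_range (φ : C →ₐc[R] A) (f : R)
    (hloc : Function.Surjective (Bialgebra.TensorProduct.map
      (BialgHom.id (Localization.Away f) (Localization.Away f)) φ)) (a : A) :
    ∃ (n : ℕ) (c : C), φ c = f ^ n • a := by
  obtain ⟨z, hz⟩ := hloc ((1 : Localization.Away f) ⊗ₜ[R] a)
  obtain ⟨⟨c, ⟨_, k, rfl⟩⟩, hck⟩ := IsLocalizedModule.surj (Submonoid.powers f)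
    (TensorProduct.mk R (Localization.Away f) C 1) z
  have hck' : (f ^ k) • z = (1 : Localization.Away f) ⊗ₜ[R] c := hck
  have h2 : (Bialgebra.TensorProduct.map
      (BialgHom.id (Localization.Away f) (Localization.Away f)) φ)
      ((1 : Localization.Away f) ⊗ₜ[R] c) = (1 : Localization.Away f) ⊗ₜ[R] φ c :=
    Bialgebra.TensorProduct.map_tmul _ _ _ _
  have h3 : (Bialgebra.TensorProduct.map
      (BialgHom.id (Localization.Away f) (Localization.Away f)) φ) (f ^ k • z) =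
      f ^ k • (Bialgebra.TensorProduct.map
      (BialgHom.id (Localization.Away f) (Localization.Away f)) φ) z := by
    rw [← algebraMap_smul (Localization.Away f) (f ^ k) z, map_smul, algebraMap_smul]
  have h1 : (1 : Localization.Away f) ⊗ₜ[R] (f ^ k • a - φ c) = 0 := by
    rw [TensorProduct.tmul_sub, TensorProduct.tmul_smul, ← hz, ← h2, ← hck', h3, sub_self]
  obtain ⟨⟨_, j, rfl⟩, hj⟩ := (IsLocalizedModule.eq_zero_iff (Submonoid.powers f)
    (TensorProduct.mk R (Localization.Away f) A 1)).mp h1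
  have hj' : f ^ j • (f ^ k • a - φ c) = 0 := hj
  refine ⟨j + k, f ^ j • c, ?_⟩
  rw [map_smul, pow_add, mul_smul]
  rw [smul_sub, sub_eq_zero] at hj'
  exact hj'.symm

theorem surjective_of_ff_diag {R₁ : Type u} [CommRing R₁] {A₁ C₁ : Type u} [CommRing A₁]
    [CommRing C₁] [HopfAlgebra R₁ A₁] [HopfAlgebra R₁ C₁] (φ₁ : C₁ →ₐc[R₁] A₁) (hm₁ : Mono φ₁)
    (R' : Type u) [CommRing R'] [Algebra R₁ R'] [Module.FaithfullyFlat R₁ R']
    (M : Type u) [CommGroup M] (e : R' ⊗[R₁] A₁ ≃ₐc[R'] MonoidAlgebra R' M) :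
    Function.Surjective φ₁ := by
  have hm' : Mono (Bialgebra.TensorProduct.map (BialgHom.id R' R') φ₁) :=
    mono_baseChange φ₁ hm₁ R'
  obtain ⟨φ', hφ'def⟩ : ∃ x : R' ⊗[R₁] C₁ →ₐc[R'] R' ⊗[R₁] A₁,
      x = Bialgebra.TensorProduct.map (BialgHom.id R' R') φ₁ := ⟨_, rfl⟩
  rw [← hφ'def] at hm'
  have hmΦ : Mono ((e : R' ⊗[R₁] A₁ →ₐc[R'] MonoidAlgebra R' M).comp φ') := by
    intro T _ _ x y hxy
    have h2 : (x.comp ((e : R' ⊗[R₁] A₁ →ₐc[R'] MonoidAlgebra R' M) :
        R' ⊗[R₁] A₁ →ₐ[R'] MonoidAlgebra R' M)).comp (φ' : R' ⊗[R₁] C₁ →ₐ[R'] R' ⊗[R₁] A₁) =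
        (y.comp ((e : R' ⊗[R₁] A₁ →ₐc[R'] MonoidAlgebra R' M) :
        R' ⊗[R₁] A₁ →ₐ[R'] MonoidAlgebra R' M)).comp
          (φ' : R' ⊗[R₁] C₁ →ₐ[R'] R' ⊗[R₁] A₁) := by
      refine AlgHom.ext fun w => ?_
      exact DFunLike.congr_fun hxy w
    have h3 := hm' T h2
    refine AlgHom.ext fun z => ?_
    obtain ⟨w, rfl⟩ := e.surjective z
    exact DFunLike.congr_fun h3 w
  have hΦ := diag_surjective _ hmΦ
  have hφ' : Function.Surjective φ' := by
    intro z
    obtain ⟨w, hw⟩ := hΦ (e z)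
    exact ⟨w, e.injective hw⟩
  have hcmp : ∀ w : R' ⊗[R₁] C₁, ((φ₁ : C₁ →ₗ[R₁] A₁).lTensor R') w =
      (Bialgebra.TensorProduct.map (BialgHom.id R' R') φ₁) w := by
    intro w
    induction w using TensorProduct.induction_on with
    | zero => simp
    | tmul r y =>
      rw [LinearMap.lTensor_tmul]
      exact (Bialgebra.TensorProduct.map_tmul (BialgHom.id R' R') φ₁ r y).symm
    | add y z hy hz => rw [map_add, map_add, hy, hz]
  have hlin : Function.Surjective ((φ₁ : C₁ →ₗ[R₁] A₁).lTensor R') := by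
    intro z
    obtain ⟨w, hw⟩ := hφ' z
    refine ⟨w, ?_⟩
    rw [← hw, hφ'def]
    exact hcmp w
  exact (Module.FaithfullyFlat.lTensor_surjective_iff_surjective R₁ R'
    (φ₁ : C₁ →ₗ[R₁] A₁)).mp hlin

theorem surjective_of_mono (h : SGA3b.IsMultType R A) (φ : C →ₐc[R] A) (hmono : Mono φ) :
    Function.Surjective φ := by
  obtain ⟨s, hs, hc⟩ := h
  have hloc : ∀ f ∈ s, Function.Surjective (Bialgebra.TensorProduct.map
      (BialgHom.id (Localization.Away f) (Localization.Away f)) φ) := by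
    intro f hf
    obtain ⟨R', _, _, hff, M, _, ⟨e⟩⟩ := hc f hf
    exact surjective_of_ff_diag _ (mono_baseChange φ hmono (Localization.Away f)) R' M e
  intro a
  by_contra hna
  let 𝔠 : Ideal R := (LinearMap.range (φ : C →ₗ[R] A)).colon {a}
  have h𝔠 : 𝔠 ≠ ⊤ := by
    intro htop
    have h1 : (1 : R) ∈ 𝔠 := by rw [htop]; exact Submodule.mem_top
    rw [Submodule.mem_colon_singleton, one_smul] at h1
    obtain ⟨c, hc⟩ := h1
    exact hna ⟨c, hc⟩
  obtain ⟨𝔫, h𝔫, hle⟩ := Ideal.exists_le_maximal _ h𝔠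
  have hex : ∃ f ∈ s, f ∉ 𝔫 := by
    by_contra hall
    push Not at hall
    have : Ideal.span s ≤ 𝔫 := Ideal.span_le.mpr hall
    rw [hs] at this
    exact h𝔫.ne_top (top_le_iff.mp this)
  obtain ⟨f, hf, hfn⟩ := hex
  obtain ⟨n, c, hc⟩ := exists_pow_smul_mem_range φ f (hloc f hf) a
  have h2 : f ^ n ∈ 𝔠 := by
    rw [Submodule.mem_colon_singleton]
    exact ⟨c, hc⟩
  exact hfn (h𝔫.isPrime.mem_of_pow_mem n (hle h2))

end BaseChange

end Groth.Agent.Lib.Helper19.MultMono
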