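import Mathlib
import Groth.Prelude.Def_SGA3b
import Groth.Agent.Lib.Helper1.MultTypeRigid
import Groth.Agent.Lib.Helper28.MultQuot
import Groth.Agent.Lib.Helper19.MultMono

/-!
# Group-like elements of Hopf algebras of multiplicative type over a connected base (helper19)

* `annIdeal_eq_bot`: over a ring without non-trivial idempotents, a group-like element `h ≠ 1`
  of a Hopf algebra of multiplicative type has `Ann (h - 1) = 0` (descent of the idempotent
  "locus where `h = 1`").
* `coeff_eq_zero_of_sum`: distinct group-like elements are linearly independent.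
* `isDiag_of_surjective`: a quotient of a group algebra which is of multiplicative type is
  diagonalisable.
-/

set_option autoImplicit false
universe u
open TensorProduct

namespace Groth.Agent.Lib.Helper19.MultLI

open Groth.Agent.Lib.Helper1.MultType (coeffFun coeffFun_single coeffFun_one eq_zero_of_coeffFun)

section Ann

/-- annihilator ideal of an element -/
def annIdeal (R : Type*) [CommRing R] {X : Type*} [AddCommGroup X] [Module R X] (x : X) : Ideal R :=
  LinearMap.ker (LinearMap.toSpanSingleton R X x)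

lemma mem_annIdeal {R : Type*} [CommRing R] {X : Type*} [AddCommGroup X] [Module R X] (x : X)
    (r : R) : r ∈ annIdeal R x ↔ r • x = 0 := by
  rw [annIdeal, LinearMap.mem_ker, LinearMap.toSpanSingleton_apply]

theorem mem_map_annIdeal_of_tmul_eq_zero {R₁ : Type*} [CommRing R₁] {S₁ : Type*} [CommRing S₁]
    [Algebra R₁ S₁] [Module.Flat R₁ S₁] {X : Type*} [AddCommGroup X] [Module R₁ X] (x : X) (s : S₁)
    (h : s ⊗ₜ[R₁] x = 0) : s ∈ Ideal.map (algebraMap R₁ S₁) (annIdeal R₁ x) := by
  have hex : Function.Exact (annIdeal R₁ x).subtype (LinearMap.toSpanSingleton R₁ X x) :=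
    LinearMap.exact_subtype_ker_map _
  have hex' := Module.Flat.lTensor_exact S₁ hex
  have h1 : ((LinearMap.toSpanSingleton R₁ X x).lTensor S₁) (s ⊗ₜ[R₁] (1 : R₁)) = 0 := by
    rw [LinearMap.lTensor_tmul, LinearMap.toSpanSingleton_apply, one_smul]
    exact h
  obtain ⟨z, hz⟩ := (hex' _).mp h1
  have key : ∀ z : S₁ ⊗[R₁] (annIdeal R₁ x),
      (TensorProduct.rid R₁ S₁) (((annIdeal R₁ x).subtype.lTensor S₁) z) ∈
        Ideal.map (algebraMap R₁ S₁) (annIdeal R₁ x) := by
    intro z
    induction z using TensorProduct.induction_on with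
    | zero => simp
    | tmul s' a =>
      rw [LinearMap.lTensor_tmul, TensorProduct.rid_tmul, Submodule.subtype_apply,
        Algebra.smul_def]
      exact Ideal.mul_mem_right _ _ (Ideal.mem_map_of_mem _ a.2)
    | add y z hy hz =>
      rw [map_add, map_add]
      exact Ideal.add_mem _ hy hz
  have h2 := key z
  rw [hz, TensorProduct.rid_tmul, one_smul] at h2
  exact h2

end Ann

section Local

variable {R : Type u} [CommRing R]

/-- membership in an ideal is local on a cover by basic opens -/
theorem mem_of_forall_exists_pow_mul_mem (s : Set R) (hs : Ideal.span s = ⊤) (I : Ideal R) (x : R)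
    (h : ∀ f ∈ s, ∃ n : ℕ, f ^ n * x ∈ I) : x ∈ I := by
  by_contra hx
  have h𝔠 : I.colon {x} ≠ ⊤ := by
    intro htop
    have h1 : (1 : R) ∈ I.colon {x} := by rw [htop]; exact Submodule.mem_top
    rw [Submodule.mem_colon_singleton, one_smul] at h1
    exact hx h1
  obtain ⟨𝔫, h𝔫, hle⟩ := Ideal.exists_le_maximal _ h𝔠
  have hex : ∃ f ∈ s, f ∉ 𝔫 := by
    by_contra hall
    push Not at hall
    have : Ideal.span s ≤ 𝔫 := Ideal.span_le.mpr hall
    rw [hs] at this
    exact h𝔫.ne_top (top_le_iff.mp this)
  obtain ⟨f, hf, hfn⟩ := hex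
  obtain ⟨n, hn⟩ := h f hf
  have h2 : f ^ n ∈ I.colon {x} := by
    rw [Submodule.mem_colon_singleton, smul_eq_mul]
    exact hn
  exact hfn (h𝔫.isPrime.mem_of_pow_mem n (hle h2))

variable (f : R) {S : Type u} [CommRing S] [Algebra (Localization.Away f) S]

/-- the structure map `R → S` -/
noncomputable def rho : R →+* S :=
  (algebraMap (Localization.Away f) S).comp (algebraMap R (Localization.Away f))

lemma rho_apply (x : R) :
    rho f (S := S) x = algebraMap (Localization.Away f) S (algebraMap R (Localization.Away f) x) :=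
  rfl

theorem exists_pow_mul_mem [Module.FaithfullyFlat (Localization.Away f) S] (I : Ideal R) (x : R)
    (h : rho f (S := S) x ∈ Ideal.map (rho f (S := S)) I) : ∃ n : ℕ, f ^ n * x ∈ I := by
  have h1 : Ideal.map (rho f (S := S)) I = Ideal.map (algebraMap (Localization.Away f) S)
      (Ideal.map (algebraMap R (Localization.Away f)) I) := (Ideal.map_map _ _).symm
  rw [h1] at h
  have h2 : algebraMap R (Localization.Away f) x ∈
      (Ideal.map (algebraMap (Localization.Away f) S)
        (Ideal.map (algebraMap R (Localization.Away f)) I)).comap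
          (algebraMap (Localization.Away f) S) := by
    rw [Ideal.mem_comap]
    exact h
  rw [Ideal.comap_map_eq_self_of_faithfullyFlat] at h2
  obtain ⟨⟨⟨a, ha⟩, ⟨_, k, rfl⟩⟩, hak⟩ :=
    (IsLocalization.mem_map_algebraMap_iff (Submonoid.powers f) (Localization.Away f)).mp h2
  have hak' : algebraMap R (Localization.Away f) x * algebraMap R (Localization.Away f) (f ^ k) =
      algebraMap R (Localization.Away f) a := hak
  have h3 : algebraMap R (Localization.Away f) (x * f ^ k - a) = 0 := by
    rw [map_sub, map_mul]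
    exact sub_eq_zero.mpr hak'
  obtain ⟨⟨_, j, rfl⟩, hj⟩ :=
    (IsLocalization.map_eq_zero_iff (Submonoid.powers f) (Localization.Away f) _).mp h3
  have hj' : f ^ j * (x * f ^ k - a) = 0 := hj
  refine ⟨j + k, ?_⟩
  have h4 : f ^ (j + k) * x = f ^ j * a := by
    linear_combination hj'
  rw [h4]
  exact Ideal.mul_mem_left _ _ ha

end Local

section GroupAlg

variable {T : Type u} [CommRing T] {N : Type u} [CommGroup N]

lemma coeff_smul_groupLike (g : MonoidAlgebra T N) (hg : IsGroupLikeElem T g) (n : N) :
    coeffFun n g • g = MonoidAlgebra.single n (coeffFun n g) := by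
  have h := Groth.Agent.Lib.Helper19.MultMono.rid_lTensor_coeffFun_comul (R := T) n g
  rw [hg.comul_eq_tmul_self, LinearMap.lTensor_tmul, TensorProduct.rid_tmul] at h
  exact h

lemma coeff_idem (g : MonoidAlgebra T N) (hg : IsGroupLikeElem T g) (n : N) :
    coeffFun n g * coeffFun n g = coeffFun n g := by
  classical
  have h := congrArg (coeffFun n) (coeff_smul_groupLike g hg n)
  rw [map_smul, smul_eq_mul, coeffFun_single, if_pos rfl] at h
  exact h

end GroupAlg

section Chart

variable {R : Type u} [CommRing R] {B : Type u} [CommRing B] [HopfAlgebra R B] (f : R)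
  {S : Type u} [CommRing S] [Algebra (Localization.Away f) S]
  {N : Type u} [CommGroup N]
  (e : S ⊗[Localization.Away f] (Localization.Away f ⊗[R] B) ≃ₐc[S] MonoidAlgebra S N)

/-- the chart map `B → S[N]` -/
noncomputable def chartHom : B →+* MonoidAlgebra S N :=
  ((e : S ⊗[Localization.Away f] (Localization.Away f ⊗[R] B) →ₐc[S] MonoidAlgebra S N) :
      S ⊗[Localization.Away f] (Localization.Away f ⊗[R] B) →ₐ[S]
        MonoidAlgebra S N).toRingHom.comp
    ((Algebra.TensorProduct.includeRight :
        (Localization.Away f ⊗[R] B) →ₐ[Localization.Away f]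
          S ⊗[Localization.Away f] (Localization.Away f ⊗[R] B)).toRingHom.comp
      (Algebra.TensorProduct.includeRight : B →ₐ[R] Localization.Away f ⊗[R] B).toRingHom)

lemma chartHom_apply (b : B) : chartHom f e b =
    e ((1 : S) ⊗ₜ[Localization.Away f] ((1 : Localization.Away f) ⊗ₜ[R] b)) := rfl

lemma tmul_tmul_smul (r : R) (b : B) :
    (1 : S) ⊗ₜ[Localization.Away f] ((1 : Localization.Away f) ⊗ₜ[R] (r • b)) =
      rho f (S := S) r •
        ((1 : S) ⊗ₜ[Localization.Away f] ((1 : Localization.Away f) ⊗ₜ[R] b)) := by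
  have h1 : (1 : Localization.Away f) ⊗ₜ[R] (r • b) =
      algebraMap R (Localization.Away f) r • ((1 : Localization.Away f) ⊗ₜ[R] b) := by
    rw [TensorProduct.smul_tmul', smul_eq_mul, mul_one, Algebra.algebraMap_eq_smul_one,
      TensorProduct.smul_tmul]
  rw [h1, TensorProduct.tmul_smul, TensorProduct.smul_tmul', TensorProduct.smul_tmul',
    smul_eq_mul, mul_one, rho_apply, Algebra.algebraMap_eq_smul_one
      (algebraMap R (Localization.Away f) r)]

lemma chartHom_smul (r : R) (b : B) :
    chartHom f e (r • b) = rho f (S := S) r • chartHom f e b := by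
  rw [chartHom_apply, chartHom_apply, tmul_tmul_smul, map_smul]

lemma isGroupLikeElem_chartHom {h : B} (hh : IsGroupLikeElem R h) :
    IsGroupLikeElem S (chartHom f e h) := by
  have h1 : IsGroupLikeElem (Localization.Away f) ((1 : Localization.Away f) ⊗ₜ[R] h) :=
    Groth.Agent.Lib.Helper28.MultQuot.isGroupLikeElem_one_tmul hh
  have h2 : IsGroupLikeElem S
      ((1 : S) ⊗ₜ[Localization.Away f] ((1 : Localization.Away f) ⊗ₜ[R] h)) :=
    Groth.Agent.Lib.Helper28.MultQuot.isGroupLikeElem_one_tmul h1
  exact h2.map e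

variable [Module.FaithfullyFlat (Localization.Away f) S]

theorem mem_map_annIdeal_of_smul_chartHom (x : B) (c : S) (h : c • chartHom f e x = 0) :
    c ∈ Ideal.map (rho f (S := S)) (annIdeal R x) := by
  rw [chartHom_apply, ← map_smul] at h
  have h1 : c • ((1 : S) ⊗ₜ[Localization.Away f] ((1 : Localization.Away f) ⊗ₜ[R] x)) = 0 := by
    exact e.injective (h.trans (map_zero e).symm)
  rw [TensorProduct.smul_tmul', smul_eq_mul, mul_one] at h1
  have h2 := mem_map_annIdeal_of_tmul_eq_zero (R₁ := Localization.Away f) (S₁ := S)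
    ((1 : Localization.Away f) ⊗ₜ[R] x) c h1
  have h3 : annIdeal (Localization.Away f) ((1 : Localization.Away f) ⊗ₜ[R] x) ≤
      Ideal.map (algebraMap R (Localization.Away f)) (annIdeal R x) := by
    intro t ht
    rw [mem_annIdeal, TensorProduct.smul_tmul', smul_eq_mul, mul_one] at ht
    exact mem_map_annIdeal_of_tmul_eq_zero (R₁ := R) (S₁ := Localization.Away f) x t ht
  have h4 := Ideal.map_mono (f := algebraMap (Localization.Away f) S) h3 h2
  rw [Ideal.map_map] at h4
  exact h4

include e in
theorem chart_idem (h : B) (hh : IsGroupLikeElem R h) :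
    ∃ c : S, c * c = c ∧ c ∈ Ideal.map (rho f (S := S)) (annIdeal R (h - 1)) ∧
      ∀ r ∈ annIdeal R (h - 1), rho f (S := S) r = rho f (S := S) r * c := by
  classical
  have hG := isGroupLikeElem_chartHom f e hh
  refine ⟨coeffFun 1 (chartHom f e h), coeff_idem _ hG 1, ?_, ?_⟩
  · apply mem_map_annIdeal_of_smul_chartHom f e
    have h1 : coeffFun 1 (chartHom f e h) • (1 : MonoidAlgebra S N) =
        MonoidAlgebra.single 1 (coeffFun 1 (chartHom f e h)) := by
      rw [MonoidAlgebra.one_def, MonoidAlgebra.smul_single, smul_eq_mul, mul_one]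
    rw [map_sub, map_one, smul_sub, coeff_smul_groupLike _ hG 1, h1, sub_self]
  · intro r hr
    rw [mem_annIdeal] at hr
    have h1 : chartHom f e (r • (h - 1)) = 0 := by rw [hr, map_zero]
    rw [chartHom_smul, map_sub, map_one, smul_sub] at h1
    have h2 := congrArg (coeffFun (1 : N)) h1
    rw [map_sub, map_smul, map_smul, map_zero, coeffFun_one, if_pos rfl, smul_eq_mul,
      smul_eq_mul, mul_one] at h2
    exact (sub_eq_zero.mp h2).symm

end Chart

section Main

variable {R : Type u} [CommRing R] {B : Type u} [CommRing B] [HopfAlgebra R B]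

theorem annIdeal_eq_bot (hconn : ∀ e : R, IsIdempotentElem e → e = 0 ∨ e = 1)
    (hB : SGA3b.IsMultType R B) (h : B) (hh : IsGroupLikeElem R h) (hne : h ≠ 1) :
    annIdeal R (h - 1) = ⊥ := by
  classical
  obtain ⟨s, hs, hc⟩ := hB
  have hpt : ∀ f ∈ s, (∃ T : Finset R, (↑T : Set R) ⊆ (annIdeal R (h - 1) : Set R) ∧
      ∀ x ∈ annIdeal R (h - 1), ∃ n : ℕ, f ^ n * x ∈ Ideal.span (↑T : Set R)) ∧
      (∀ x ∈ annIdeal R (h - 1), ∃ n : ℕ,
        f ^ n * x ∈ annIdeal R (h - 1) * annIdeal R (h - 1)) := by
    intro f hf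
    obtain ⟨S, _, _, hff, N, _, ⟨e⟩⟩ := hc f hf
    haveI := hff
    obtain ⟨c, hcc, hcmem, hcr⟩ := chart_idem f e h hh
    constructor
    · have hcmem' : c ∈ Submodule.span S
          (⇑(rho f (S := S)) '' (annIdeal R (h - 1) : Set R)) := hcmem
      obtain ⟨T', hT', hcT'⟩ := Submodule.mem_span_finite_of_mem_span hcmem'
      obtain ⟨T, hT, rfl⟩ := Finset.subset_set_image_iff.mp hT'
      refine ⟨T, hT, ?_⟩
      intro x hx
      apply exists_pow_mul_mem f (S := S)
      rw [hcr x hx]
      apply Ideal.mul_mem_left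
      rw [Ideal.map_span]
      rw [Finset.coe_image] at hcT'
      exact hcT'
    · intro x hx
      apply exists_pow_mul_mem f (S := S)
      rw [hcr x hx, Ideal.map_mul]
      exact Ideal.mul_mem_mul (Ideal.mem_map_of_mem _ hx) hcmem
  obtain ⟨s₀, hs₀, hs₀top⟩ := (Ideal.span_eq_top_iff_finite s).mp hs
  have hfg : (annIdeal R (h - 1)).FG := by
    have h1 : ∀ f ∈ s₀, ∃ T : Finset R, (↑T : Set R) ⊆ (annIdeal R (h - 1) : Set R) ∧
        ∀ x ∈ annIdeal R (h - 1), ∃ n : ℕ, f ^ n * x ∈ Ideal.span (↑T : Set R) :=
      fun f hf => (hpt f (hs₀ (Finset.mem_coe.mpr hf))).1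
    choose! T hT using h1
    refine ⟨s₀.biUnion T, ?_⟩
    apply le_antisymm
    · refine Submodule.span_le.mpr ?_
      intro y hy
      rw [Finset.mem_coe, Finset.mem_biUnion] at hy
      obtain ⟨f, hf, hyf⟩ := hy
      exact (hT f hf).1 (Finset.mem_coe.mpr hyf)
    · intro x hx
      apply mem_of_forall_exists_pow_mul_mem (↑s₀ : Set R) hs₀top
      intro f hf
      obtain ⟨n, hn⟩ := (hT f (Finset.mem_coe.mp hf)).2 x hx
      refine ⟨n, Ideal.span_mono ?_ hn⟩
      intro y hy
      rw [Finset.mem_coe, Finset.mem_biUnion]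
      exact ⟨f, Finset.mem_coe.mp hf, Finset.mem_coe.mp hy⟩
  have hidem : IsIdempotentElem (annIdeal R (h - 1)) := by
    apply le_antisymm
    · exact Ideal.mul_le_left
    · intro x hx
      apply mem_of_forall_exists_pow_mul_mem s hs
      intro f hf
      exact (hpt f hf).2 x hx
  obtain ⟨e, he, hbe⟩ := ((annIdeal R (h - 1)).isIdempotentElem_iff_of_fg hfg).mp hidem
  rcases hconn e he with rfl | rfl
  · rw [hbe]
    exact Submodule.span_zero_singleton R
  · exfalso
    have h1 : (1 : R) ∈ annIdeal R (h - 1) := by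
      rw [hbe]
      exact Submodule.mem_span_singleton_self 1
    rw [mem_annIdeal, one_smul, sub_eq_zero] at h1
    exact hne h1

theorem coeff_eq_zero_of_sum (hconn : ∀ e : R, IsIdempotentElem e → e = 0 ∨ e = 1)
    (hB : SGA3b.IsMultType R B) {ι : Type*} (g : ι → B) (hg : ∀ i, IsGroupLikeElem R (g i))
    (hinj : Function.Injective g) (T : Finset ι) (r : ι → R)
    (hsum : ∑ i ∈ T, r i • g i = 0) (j : ι) (hj : j ∈ T) : r j = 0 := by
  classical
  have hB' := hB
  obtain ⟨s, hs, hc⟩ := hB
  have h0 : r j ∈ (⊥ : Ideal R) := by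
    apply mem_of_forall_exists_pow_mul_mem s hs
    intro f hf
    obtain ⟨S, _, _, hff, N, _, ⟨e⟩⟩ := hc f hf
    haveI := hff
    apply exists_pow_mul_mem f (S := S)
    rw [Ideal.map_bot, Ideal.mem_bot]
    have hG : ∀ i, IsGroupLikeElem S (chartHom f e (g i)) :=
      fun i => isGroupLikeElem_chartHom f e (hg i)
    have horth : ∀ i, i ≠ j → ∀ n : N,
        coeffFun n (chartHom f e (g i)) * coeffFun n (chartHom f e (g j)) = 0 := by
      intro i hij n
      obtain ⟨p, hp⟩ : ∃ p, p =
          coeffFun n (chartHom f e (g i)) * coeffFun n (chartHom f e (g j)) := ⟨_, rfl⟩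
      rw [← hp]
      have hu : IsGroupLikeElem R (HopfAlgebra.antipode R (g j)) := (hg j).antipode
      have hh : IsGroupLikeElem R (g i * HopfAlgebra.antipode R (g j)) := (hg i).mul hu
      have hne : g i * HopfAlgebra.antipode R (g j) ≠ 1 := by
        intro h1
        apply hij
        apply hinj
        calc g i = g i * (HopfAlgebra.antipode R (g j) * g j) := by
              rw [(hg j).antipode_mul_cancel, mul_one]
          _ = (g i * HopfAlgebra.antipode R (g j)) * g j := by rw [mul_assoc]
          _ = g j := by rw [h1, one_mul]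
      have hbot := annIdeal_eq_bot hconn hB' _ hh hne
      have hmem : p ∈ Ideal.map (rho f (S := S))
          (annIdeal R (g i * HopfAlgebra.antipode R (g j) - 1)) := by
        apply mem_map_annIdeal_of_smul_chartHom f e
        have e1 : p • chartHom f e (g i) = MonoidAlgebra.single n p := by
          rw [hp, mul_comm, mul_smul, coeff_smul_groupLike _ (hG i) n,
            MonoidAlgebra.smul_single, smul_eq_mul]
        have e2 : p • chartHom f e (g j) = MonoidAlgebra.single n p := by
          rw [hp, mul_smul, coeff_smul_groupLike _ (hG j) n, MonoidAlgebra.smul_single,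
            smul_eq_mul]
        have e3 : chartHom f e (g i * HopfAlgebra.antipode R (g j) - 1) =
            (chartHom f e (g i) - chartHom f e (g j)) *
              chartHom f e (HopfAlgebra.antipode R (g j)) := by
          rw [sub_mul, ← map_mul, ← map_mul, (hg j).mul_antipode_cancel, map_sub]
        rw [e3, ← smul_mul_assoc, smul_sub, e1, e2, sub_self, zero_mul]
      rw [hbot, Ideal.map_bot, Ideal.mem_bot] at hmem
      exact hmem
    have h1 : ∑ i ∈ T, rho f (S := S) (r i) • chartHom f e (g i) = 0 := by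
      have h := congrArg (chartHom f e) hsum
      rw [map_sum, map_zero] at h
      rw [← h]
      exact Finset.sum_congr rfl (fun i _ => (chartHom_smul f e (r i) (g i)).symm)
    have h2 : ∀ n : N, rho f (S := S) (r j) * coeffFun n (chartHom f e (g j)) = 0 := by
      intro n
      have h3 := congrArg (coeffFun n) h1
      rw [map_sum, map_zero] at h3
      simp only [map_smul, smul_eq_mul] at h3
      have h4 := congrArg (fun t => t * coeffFun n (chartHom f e (g j))) h3
      simp only [zero_mul, Finset.sum_mul] at h4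
      rw [Finset.sum_eq_single j] at h4
      · rw [mul_assoc, coeff_idem _ (hG j) n] at h4
        exact h4
      · intro i _ hij
        rw [mul_assoc, horth i hij n, mul_zero]
      · intro hjT
        exact absurd hj hjT
    have h5 : rho f (S := S) (r j) • chartHom f e (g j) = 0 := by
      apply eq_zero_of_coeffFun
      intro n
      rw [map_smul, smul_eq_mul]
      exact h2 n
    have h6 := congrArg (Coalgebra.counit (R := S)) h5
    rw [map_smul, (hG j).counit_eq_one, map_zero, smul_eq_mul, mul_one] at h6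
    exact h6
  exact Ideal.mem_bot.mp h0

theorem isDiag_of_surjective (hconn : ∀ e : R, IsIdempotentElem e → e = 0 ∨ e = 1)
    (hB : SGA3b.IsMultType R B) {M : Type u} [CommGroup M] (Φ : MonoidAlgebra R M →ₐc[R] B)
    (hΦ : Function.Surjective Φ) : SGA3b.IsDiag R B := by
  classical
  let χ : M →* GroupLike R B :=
    { toFun := fun m => ⟨Φ (MonoidAlgebra.single m 1),
        (MonoidAlgebra.isGroupLikeElem_single_one (R := R) m).map Φ⟩
      map_one' := by
        apply GroupLike.val_injective
        show Φ (MonoidAlgebra.single 1 1) = 1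
        rw [← MonoidAlgebra.one_def, map_one]
      map_mul' := fun a b => by
        apply GroupLike.val_injective
        show Φ (MonoidAlgebra.single (a * b) 1) =
          Φ (MonoidAlgebra.single a 1) * Φ (MonoidAlgebra.single b 1)
        rw [← map_mul, MonoidAlgebra.single_mul_single, mul_one] }
  let M' : Subgroup (GroupLike R B) := χ.range
  let Ψ : MonoidAlgebra R M' →ₐc[R] B :=
    (MonoidAlgebra.liftGroupLikeBialgHom (R := R) (A := B)).comp
      (MonoidAlgebra.mapDomainBialgHom R M'.subtype)
  have hΨ : ∀ (m' : M') (r : R),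
      Ψ (MonoidAlgebra.single m' r) = r • (m' : GroupLike R B).val := by
    intro m' r
    show MonoidAlgebra.liftGroupLikeBialgHom
      (MonoidAlgebra.mapDomainBialgHom R M'.subtype (MonoidAlgebra.single m' r)) = _
    rw [MonoidAlgebra.mapDomainBialgHom_single]
    simp
  have hsurj : Function.Surjective Ψ := by
    intro b
    obtain ⟨y, rfl⟩ := hΦ b
    refine MonoidAlgebra.induction_linear y ?_ ?_ ?_
    · exact ⟨0, by rw [map_zero, map_zero]⟩
    · rintro x y ⟨a, ha⟩ ⟨b, hb⟩
      exact ⟨a + b, by rw [map_add, map_add, ha, hb]⟩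
    · intro m r
      refine ⟨MonoidAlgebra.single ⟨χ m, ⟨m, rfl⟩⟩ r, ?_⟩
      rw [hΨ]
      show r • Φ (MonoidAlgebra.single m 1) = Φ (MonoidAlgebra.single m r)
      rw [← map_smul, MonoidAlgebra.smul_single, smul_eq_mul, mul_one]
  have hinj : Function.Injective Ψ := by
    rw [injective_iff_map_eq_zero]
    intro x hx
    have hx' : ∑ m' ∈ x.coeff.support, (x.coeff m') • ((m' : GroupLike R B).val) = 0 := by
      rw [← hx]
      conv_rhs => rw [← MonoidAlgebra.sum_coeff_single x]
      rw [Finsupp.sum, map_sum]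
      exact Finset.sum_congr rfl (fun m' _ => (hΨ m' _).symm)
    have hz : ∀ m' ∈ x.coeff.support, x.coeff m' = 0 := fun m' hm' =>
      coeff_eq_zero_of_sum hconn hB (fun m' : M' => ((m' : GroupLike R B).val))
        (fun m' => (m' : GroupLike R B).isGroupLikeElem_val)
        (fun a b hab => Subtype.ext (GroupLike.val_injective hab)) x.coeff.support x.coeff
        hx' m' hm'
    have hcoeff : x.coeff = 0 := by
      ext m'
      by_cases hm' : m' ∈ x.coeff.support
      · rw [hz m' hm']; rfl
      · rw [Finsupp.notMem_support_iff.mp hm']; rfl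
    exact MonoidAlgebra.coeff_injective (by rw [hcoeff]; rfl)
  exact ⟨M', inferInstance, ⟨(BialgEquiv.ofBijective Ψ ⟨hinj, hsurj⟩).symm⟩⟩

end Main

end Groth.Agent.Lib.Helper19.MultLI
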