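import Mathlib
import Groth.Agent.Lib.Helper1.MultTypeRigid
import Groth.Agent.Lib.Helper19.MultLI
import Groth.Agent.Lib.Helper19.IdemRep

/-!
# Lifting group-like elements modulo a nil ideal: group algebras (helper19)

* congruences modulo `I`, in the form `(1 : R ⧸ I) ⊗ x = (1 : R ⧸ I) ⊗ y`;
* `GLmod J h`: `h` is group-like modulo the ideal `J`;
* `exists_groupLike_lift`, `groupLike_unique`: in a group algebra `T[N]`, an element which is
  group-like modulo a nil ideal is congruent to exactly one group-like element.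
-/

set_option autoImplicit false
universe u
open TensorProduct

namespace Groth.Agent.Lib.Helper19.GLift

open Groth.Agent.Lib.Helper1.MultType (coeffFun coeffFun_single coeffFun_one eq_zero_of_coeffFun)

section Cong

variable {R : Type*} [CommRing R] (I : Ideal R)

lemma one_tmul_eq_zero_iff {X : Type*} [AddCommGroup X] [Module R X] (x : X) :
    (1 : R ⧸ I) ⊗ₜ[R] x = 0 ↔ x ∈ (I • ⊤ : Submodule R X) := by
  rw [← (TensorProduct.quotTensorEquivQuotSMul X I).map_eq_zero_iff,
    TensorProduct.quotTensorEquivQuotSMul_mk_one_tmul, Submodule.Quotient.mk_eq_zero]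

lemma one_tmul_eq_iff {X : Type*} [AddCommGroup X] [Module R X] (x y : X) :
    (1 : R ⧸ I) ⊗ₜ[R] x = (1 : R ⧸ I) ⊗ₜ[R] y ↔ x - y ∈ (I • ⊤ : Submodule R X) := by
  rw [← sub_eq_zero, ← TensorProduct.tmul_sub, one_tmul_eq_zero_iff]

lemma cong_map {X Y : Type*} [AddCommGroup X] [Module R X] [AddCommGroup Y] [Module R Y]
    (l : X →ₗ[R] Y) {x y : X} (h : (1 : R ⧸ I) ⊗ₜ[R] x = (1 : R ⧸ I) ⊗ₜ[R] y) :
    (1 : R ⧸ I) ⊗ₜ[R] l x = (1 : R ⧸ I) ⊗ₜ[R] l y := by
  have := congrArg (LinearMap.lTensor (R ⧸ I) l) h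
  rwa [LinearMap.lTensor_tmul, LinearMap.lTensor_tmul] at this

lemma exists_one_tmul_eq {X : Type*} [AddCommGroup X] [Module R X] (γ : (R ⧸ I) ⊗[R] X) :
    ∃ x : X, (1 : R ⧸ I) ⊗ₜ[R] x = γ := by
  obtain ⟨x, hx⟩ := Submodule.Quotient.mk_surjective _
    (TensorProduct.quotTensorEquivQuotSMul X I γ)
  refine ⟨x, ?_⟩
  apply (TensorProduct.quotTensorEquivQuotSMul X I).injective
  rw [TensorProduct.quotTensorEquivQuotSMul_mk_one_tmul, hx]

variable {T : Type*} [CommRing T] [Algebra R T]

lemma smulTop_le_map :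
    (I • ⊤ : Submodule R T) ≤ (Ideal.map (algebraMap R T) I).restrictScalars R := by
  rw [Submodule.smul_le]
  intro r hr t _
  rw [Submodule.restrictScalars_mem, Algebra.smul_def]
  exact Ideal.mul_mem_right _ _ (Ideal.mem_map_of_mem _ hr)

lemma sub_mem_map_of_cong {t t' : T} (h : (1 : R ⧸ I) ⊗ₜ[R] t = (1 : R ⧸ I) ⊗ₜ[R] t') :
    t - t' ∈ Ideal.map (algebraMap R T) I :=
  smulTop_le_map I ((one_tmul_eq_iff I t t').mp h)

variable {X : Type*} [AddCommGroup X] [Module R X] [Module T X] [IsScalarTower R T X]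

lemma smul_mem_of_mem_map {j : T} (hj : j ∈ Ideal.map (algebraMap R T) I) (x : X) :
    j • x ∈ (I • ⊤ : Submodule R X) := by
  let K : Ideal T :=
    { carrier := {j | ∀ x : X, j • x ∈ (I • ⊤ : Submodule R X)}
      add_mem' := fun {a b} ha hb x => by
        rw [add_smul]; exact Submodule.add_mem _ (ha x) (hb x)
      zero_mem' := fun x => by rw [zero_smul]; exact Submodule.zero_mem _
      smul_mem' := fun c j hj x => by
        rw [smul_eq_mul, mul_comm, mul_smul]; exact hj (c • x) }
  have hK : Ideal.map (algebraMap R T) I ≤ K := by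
    rw [Ideal.map_le_iff_le_comap]
    intro i hi
    show ∀ x : X, algebraMap R T i • x ∈ (I • ⊤ : Submodule R X)
    intro x
    rw [algebraMap_smul]
    exact Submodule.smul_mem_smul hi Submodule.mem_top
  exact hK hj x

/-- the `R`-submodule `I • ⊤` and the `T`-submodule `(I T) • ⊤` of a `T`-module coincide -/
lemma mem_smulTop_iff (x : X) : x ∈ (I • ⊤ : Submodule R X) ↔
    x ∈ ((Ideal.map (algebraMap R T) I) • ⊤ : Submodule T X) := by
  constructor
  · intro hx
    refine Submodule.smul_induction_on hx ?_ ?_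
    · intro i hi y _
      rw [← algebraMap_smul T i y]
      exact Submodule.smul_mem_smul (Ideal.mem_map_of_mem _ hi) Submodule.mem_top
    · intro a b ha hb; exact Submodule.add_mem _ ha hb
  · intro hx
    refine Submodule.smul_induction_on hx ?_ ?_
    · intro j hj y _
      exact smul_mem_of_mem_map I hj y
    · intro a b ha hb; exact Submodule.add_mem _ ha hb

omit [IsScalarTower R T X] [Module T X] [Module R X] [AddCommGroup X] in
lemma isNilpotent_of_mem_map (hI : ∀ x ∈ I, IsNilpotent x) {j : T}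
    (hj : j ∈ Ideal.map (algebraMap R T) I) : IsNilpotent j := by
  have : Ideal.map (algebraMap R T) I ≤ nilradical T := by
    rw [Ideal.map_le_iff_le_comap]
    intro i hi
    rw [Ideal.mem_comap, mem_nilradical]
    exact (hI i hi).map _
  exact mem_nilradical.mp (this hj)

end Cong

section Idem

lemma idem_eq_of_sub_mem {T : Type*} [CommRing T] (J : Ideal T) (hJ : ∀ j ∈ J, IsNilpotent j)
    {e e' : T} (he : IsIdempotentElem e) (he' : IsIdempotentElem e') (h : e - e' ∈ J) :
    e = e' := by
  refine Groth.Agent.Lib.Helper19.IdemRep.idem_unique (Ideal.Quotient.mk J) ?_ e e' he he'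
    (Ideal.Quotient.eq.mpr h)
  intro x hx
  rw [Ideal.mk_ker] at hx
  exact hJ x hx

lemma idem_eq_zero_of_mem {T : Type*} [CommRing T] (J : Ideal T) (hJ : ∀ j ∈ J, IsNilpotent j)
    {e : T} (he : IsIdempotentElem e) (h : e ∈ J) : e = 0 :=
  idem_eq_of_sub_mem J hJ he IsIdempotentElem.zero (by rwa [sub_zero])

end Idem

section GLmod

variable {K : Type*} [CommRing K] (J : Ideal K)

lemma map_mem_smulTop {X Y : Type*} [AddCommGroup X] [Module K X] [AddCommGroup Y] [Module K Y]
    (l : X →ₗ[K] Y) {w : X} (hw : w ∈ (J • ⊤ : Submodule K X)) :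
    l w ∈ (J • ⊤ : Submodule K Y) := by
  refine Submodule.smul_induction_on hw ?_ ?_
  · intro j hj x _
    rw [map_smul]
    exact Submodule.smul_mem_smul hj Submodule.mem_top
  · intro a b ha hb
    rw [map_add]; exact Submodule.add_mem _ ha hb

lemma lin_mem {X : Type*} [AddCommGroup X] [Module K X] (l : X →ₗ[K] K) {w : X}
    (hw : w ∈ (J • ⊤ : Submodule K X)) : l w ∈ J := by
  refine Submodule.smul_induction_on hw ?_ ?_
  · intro j hj x _
    rw [map_smul, smul_eq_mul]
    exact J.mul_mem_right _ hj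
  · intro a b ha hb
    rw [map_add]; exact J.add_mem ha hb

variable {H : Type*} [CommRing H] [Bialgebra K H]

/-- `h` is group-like modulo `J`. -/
def GLmod (h : H) : Prop :=
  Coalgebra.counit (R := K) h - 1 ∈ J ∧
    Coalgebra.comul (R := K) h - h ⊗ₜ[K] h ∈ (J • ⊤ : Submodule K (H ⊗[K] H))

lemma GLmod.map {H' : Type*} [CommRing H'] [Bialgebra K H'] (φ : H →ₐc[K] H') {h : H}
    (hh : GLmod J h) : GLmod J (φ h) := by
  refine ⟨?_, ?_⟩
  · rw [CoalgHomClass.counit_comp_apply]; exact hh.1
  · have := map_mem_smulTop J (TensorProduct.map (φ : H →ₗ[K] H') (φ : H →ₗ[K] H')) hh.2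
    rw [map_sub, TensorProduct.map_tmul, CoalgHomClass.map_comp_comul_apply] at this
    exact this

end GLmod

section BaseChange

variable {L : Type*} [CommRing L] (JL : Ideal L) {K : Type*} [CommRing K] [Algebra L K]
  {B : Type*} [CommRing B] [Bialgebra L B]

lemma tttc_eq_distrib (x : K) (t : B ⊗[L] B) :
    AlgebraTensorModule.tensorTensorTensorComm L K L K K K B B (((1 : K) ⊗ₜ[K] x) ⊗ₜ[L] t) =
      AlgebraTensorModule.distribBaseChange L K B B (x ⊗ₜ[L] t) := by
  induction t using TensorProduct.induction_on with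
  | zero => simp
  | tmul a b =>
    rw [AlgebraTensorModule.tensorTensorTensorComm_tmul,
      AlgebraTensorModule.distribBaseChange_tmul]
    have h1 : x ⊗ₜ[L] b = x • ((1 : K) ⊗ₜ[L] b) := by
      rw [TensorProduct.smul_tmul', smul_eq_mul, mul_one]
    have h2 : x ⊗ₜ[L] a = x • ((1 : K) ⊗ₜ[L] a) := by
      rw [TensorProduct.smul_tmul', smul_eq_mul, mul_one]
    rw [h1, h2]
    exact (TensorProduct.smul_tmul x _ _).symm
  | add s t hs ht =>
    rw [TensorProduct.tmul_add, TensorProduct.tmul_add, map_add, map_add, hs, ht]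

lemma comul_one_tmul (b : B) :
    Coalgebra.comul (R := K) ((1 : K) ⊗ₜ[L] b) =
      AlgebraTensorModule.distribBaseChange L K B B
        ((1 : K) ⊗ₜ[L] Coalgebra.comul (R := L) b) := by
  rw [TensorProduct.comul_tmul, CommSemiring.comul_apply, tttc_eq_distrib]

lemma distrib_mem {w : B ⊗[L] B} (hw : w ∈ (JL • ⊤ : Submodule L (B ⊗[L] B))) :
    AlgebraTensorModule.distribBaseChange L K B B ((1 : K) ⊗ₜ[L] w) ∈
      ((JL.map (algebraMap L K)) • ⊤ :
        Submodule K ((K ⊗[L] B) ⊗[K] (K ⊗[L] B))) := by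
  refine Submodule.smul_induction_on hw ?_ ?_
  · intro j hj x _
    have : (1 : K) ⊗ₜ[L] (j • x) = algebraMap L K j • ((1 : K) ⊗ₜ[L] x) := by
      rw [TensorProduct.tmul_smul, algebraMap_smul]
    rw [this, map_smul]
    exact Submodule.smul_mem_smul (Ideal.mem_map_of_mem _ hj) Submodule.mem_top
  · intro a b ha hb
    rw [TensorProduct.tmul_add, map_add]; exact Submodule.add_mem _ ha hb

lemma GLmod.baseChange {b : B} (hb : GLmod JL b) :
    GLmod (JL.map (algebraMap L K)) ((1 : K) ⊗ₜ[L] b) := by
  refine ⟨?_, ?_⟩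
  · rw [TensorProduct.counit_tmul, CommSemiring.counit_apply]
    have : Coalgebra.counit (R := L) b • (1 : K) - 1 =
        algebraMap L K (Coalgebra.counit (R := L) b - 1) := by
      rw [map_sub, map_one, Algebra.algebraMap_eq_smul_one]
    rw [this]
    exact Ideal.mem_map_of_mem _ hb.1
  · rw [comul_one_tmul]
    have h2 : ((1 : K) ⊗ₜ[L] b) ⊗ₜ[K] ((1 : K) ⊗ₜ[L] b) =
        AlgebraTensorModule.distribBaseChange L K B B ((1 : K) ⊗ₜ[L] (b ⊗ₜ[L] b)) := by
      rw [AlgebraTensorModule.distribBaseChange_tmul]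
    rw [h2, ← map_sub, ← TensorProduct.tmul_sub]
    exact distrib_mem JL hb.2

end BaseChange

section GroupAlg

variable {T : Type u} [CommRing T] {N : Type u} [CommGroup N]

lemma coeffFun_eq_zero_of_notMem (y : MonoidAlgebra T N) {n : N} (hn : n ∉ y.coeff.support) :
    coeffFun n y = 0 := by
  have : y.coeff n = 0 := Finsupp.notMem_support_iff.mp hn
  simpa [coeffFun] using this

lemma sum_single_coeff (y : MonoidAlgebra T N) :
    ∑ n ∈ y.coeff.support, MonoidAlgebra.single n (coeffFun n y) = y := by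
  classical
  rw [← sub_eq_zero]
  apply eq_zero_of_coeffFun
  intro m
  rw [map_sub, map_sum]
  simp only [coeffFun_single]
  rw [Finset.sum_ite_eq']
  split_ifs with h
  · exact sub_self _
  · rw [coeffFun_eq_zero_of_notMem y h, sub_zero]

lemma counit_eq_sum (y : MonoidAlgebra T N) :
    Coalgebra.counit (R := T) y = ∑ n ∈ y.coeff.support, coeffFun n y := by
  conv_lhs => rw [← sum_single_coeff y]
  rw [map_sum]
  simp only [MonoidAlgebra.counit_single, CommSemiring.counit_apply]

lemma single_tmul_single (n n' : N) (a b : T) :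
    (MonoidAlgebra.single n a : MonoidAlgebra T N) ⊗ₜ[T]
        (MonoidAlgebra.single n' b : MonoidAlgebra T N) =
      (a * b) • ((MonoidAlgebra.single n 1 : MonoidAlgebra T N) ⊗ₜ[T]
        (MonoidAlgebra.single n' 1 : MonoidAlgebra T N)) := by
  have ha : (MonoidAlgebra.single n a : MonoidAlgebra T N) = a • MonoidAlgebra.single n 1 := by
    rw [MonoidAlgebra.smul_single', mul_one]
  have hb : (MonoidAlgebra.single n' b : MonoidAlgebra T N) = b • MonoidAlgebra.single n' 1 := by
    rw [MonoidAlgebra.smul_single', mul_one]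
  rw [ha, hb, TensorProduct.smul_tmul_smul]

lemma comul_single' (n : N) (a : T) :
    Coalgebra.comul (R := T) (MonoidAlgebra.single n a : MonoidAlgebra T N) =
      a • ((MonoidAlgebra.single n 1 : MonoidAlgebra T N) ⊗ₜ[T]
        (MonoidAlgebra.single n 1 : MonoidAlgebra T N)) := by
  rw [MonoidAlgebra.comul_single, CommSemiring.comul_apply, TensorProduct.map_tmul,
    MonoidAlgebra.lsingle_apply, MonoidAlgebra.lsingle_apply, single_tmul_single, one_mul]

lemma isGroupLikeElem_sum_single (F : Finset N) (u : N → T) (hid : ∀ n ∈ F, u n * u n = u n)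
    (horth : ∀ n ∈ F, ∀ n' ∈ F, n ≠ n' → u n * u n' = 0) (hsum : ∑ n ∈ F, u n = 1) :
    IsGroupLikeElem T (∑ n ∈ F, MonoidAlgebra.single n (u n) : MonoidAlgebra T N) where
  counit_eq_one := by
    rw [map_sum]
    simp only [MonoidAlgebra.counit_single, CommSemiring.counit_apply]
    exact hsum
  comul_eq_tmul_self := by
    rw [map_sum, TensorProduct.sum_tmul]
    refine Finset.sum_congr rfl fun n hn => ?_
    rw [TensorProduct.tmul_sum, Finset.sum_eq_single n, comul_single']
    · conv_rhs => rw [single_tmul_single, hid n hn]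
    · intro n' hn' hne
      rw [single_tmul_single, horth n hn n' hn' (Ne.symm hne), zero_smul]
    · intro h; exact absurd hn h

lemma coeff_mul_coeff_of_ne (g : MonoidAlgebra T N) (hg : IsGroupLikeElem T g) {n n' : N}
    (hne : n ≠ n') : coeffFun n g * coeffFun n' g = 0 := by
  classical
  have h := congrArg (coeffFun n') (MultLI.coeff_smul_groupLike g hg n)
  rw [map_smul, smul_eq_mul, coeffFun_single, if_neg hne] at h
  exact h

theorem groupLike_unique (J : Ideal T) (hJ : ∀ j ∈ J, IsNilpotent j) (x x' : MonoidAlgebra T N)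
    (hx : IsGroupLikeElem T x) (hx' : IsGroupLikeElem T x')
    (h : x - x' ∈ (J • ⊤ : Submodule T (MonoidAlgebra T N))) : x = x' := by
  rw [← sub_eq_zero]
  apply eq_zero_of_coeffFun
  intro n
  rw [map_sub, sub_eq_zero]
  refine idem_eq_of_sub_mem J hJ (MultLI.coeff_idem x hx n) (MultLI.coeff_idem x' hx' n) ?_
  rw [← map_sub]
  exact lin_mem J (coeffFun n) h

theorem exists_groupLike_lift (J : Ideal T) (hJ : ∀ j ∈ J, IsNilpotent j)
    (y : MonoidAlgebra T N) (hy : GLmod J y) :
    ∃ x : MonoidAlgebra T N, IsGroupLikeElem T x ∧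
      x - y ∈ (J • ⊤ : Submodule T (MonoidAlgebra T N)) := by
  classical
  obtain ⟨h1, h2⟩ := hy
  have hcoef : ∀ n n' : N,
      (if n = n' then coeffFun n y else 0) - coeffFun n y * coeffFun n' y ∈ J := by
    intro n n'
    obtain ⟨Λ, hΛ⟩ : ∃ Λ : MonoidAlgebra T N ⊗[T] MonoidAlgebra T N →ₗ[T] T,
        Λ = (LinearMap.mul' T T).comp (TensorProduct.map (coeffFun n) (coeffFun n')) :=
      ⟨_, rfl⟩
    have h4 := lin_mem J Λ h2
    have e1 : ∀ z : MonoidAlgebra T N,
        Λ (Coalgebra.comul (R := T) z) = if n = n' then coeffFun n z else 0 := by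
      intro z
      refine MonoidAlgebra.induction_linear z ?_ ?_ ?_
      · simp
      · intro a b ha hb
        rw [map_add, map_add, ha, hb]
        split_ifs <;> simp
      · intro m r
        rw [comul_single', map_smul, hΛ]
        simp only [LinearMap.comp_apply, TensorProduct.map_tmul, LinearMap.mul'_apply,
          coeffFun_single, smul_eq_mul]
        by_cases h6 : n = n'
        · subst h6
          by_cases h5 : m = n
          · subst h5; simp
          · simp [h5]
        · by_cases h5 : m = n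
          · subst h5; simp [h6]
          · simp [h5, h6]
    have e2 : Λ (y ⊗ₜ[T] y) = coeffFun n y * coeffFun n' y := by
      rw [hΛ]; simp
    rw [map_sub, e1, e2] at h4
    exact h4
  have hex : ∀ n : N, ∃ u : T, IsIdempotentElem u ∧ u - coeffFun n y ∈ J := by
    intro n
    have hq : IsIdempotentElem (Ideal.Quotient.mk J (coeffFun n y)) := by
      have h5 := hcoef n n
      rw [if_pos rfl] at h5
      show Ideal.Quotient.mk J (coeffFun n y) * Ideal.Quotient.mk J (coeffFun n y) = _
      rw [← map_mul]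
      exact (Ideal.Quotient.eq.mpr h5).symm
    obtain ⟨u, hu, hmk⟩ := exists_isIdempotentElem_eq_of_ker_isNilpotent (Ideal.Quotient.mk J)
      (by intro x hx; rw [Ideal.mk_ker] at hx; exact hJ x hx) _
      (RingHom.mem_range.mpr ⟨_, rfl⟩) hq
    exact ⟨u, hu, Ideal.Quotient.eq.mp hmk⟩
  choose u hu huc using hex
  have horth : ∀ n n', n ≠ n' → u n * u n' = 0 := by
    intro n n' hne
    apply idem_eq_zero_of_mem J hJ ((hu n).mul (hu n'))
    have h5 := hcoef n n'
    rw [if_neg hne, zero_sub, neg_mem_iff] at h5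
    have : u n * u n' = (u n - coeffFun n y) * u n' + coeffFun n y * (u n' - coeffFun n' y) +
        coeffFun n y * coeffFun n' y := by ring
    rw [this]
    exact J.add_mem (J.add_mem (J.mul_mem_right _ (huc n)) (J.mul_mem_left _ (huc n'))) h5
  have hsum : ∑ n ∈ y.coeff.support, u n = 1 := by
    have hv : IsIdempotentElem (∑ n ∈ y.coeff.support, u n) := by
      unfold IsIdempotentElem
      rw [Finset.sum_mul_sum]
      refine Finset.sum_congr rfl fun n hn => ?_
      rw [Finset.sum_eq_single n (fun n' _ hne => horth n n' (Ne.symm hne))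
        (fun h => absurd hn h)]
      exact hu n
    refine idem_eq_of_sub_mem J hJ hv IsIdempotentElem.one ?_
    have heq : ∑ n ∈ y.coeff.support, u n - 1 =
        ∑ n ∈ y.coeff.support, (u n - coeffFun n y) + (Coalgebra.counit (R := T) y - 1) := by
      rw [counit_eq_sum y, Finset.sum_sub_distrib]; ring
    rw [heq]
    exact J.add_mem (J.sum_mem fun n _ => huc n) h1
  refine ⟨∑ n ∈ y.coeff.support, MonoidAlgebra.single n (u n),
    isGroupLikeElem_sum_single _ u (fun n _ => hu n) (fun n _ n' _ hne => horth n n' hne) hsum,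
    ?_⟩
  have hy : ∑ n ∈ y.coeff.support, MonoidAlgebra.single n (coeffFun n y) = y :=
    sum_single_coeff y
  have hdiff : (∑ n ∈ y.coeff.support, MonoidAlgebra.single n (u n)) - y =
      ∑ n ∈ y.coeff.support,
        (u n - coeffFun n y) • (MonoidAlgebra.single n 1 : MonoidAlgebra T N) := by
    calc (∑ n ∈ y.coeff.support, MonoidAlgebra.single n (u n)) - y
        = (∑ n ∈ y.coeff.support, MonoidAlgebra.single n (u n)) -
            ∑ n ∈ y.coeff.support, MonoidAlgebra.single n (coeffFun n y) := by rw [hy]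
      _ = _ := by
        rw [← Finset.sum_sub_distrib]
        refine Finset.sum_congr rfl fun n _ => ?_
        rw [sub_smul, MonoidAlgebra.smul_single', MonoidAlgebra.smul_single', mul_one, mul_one]
  rw [hdiff]
  exact Submodule.sum_mem _ fun n _ => Submodule.smul_mem_smul (huc n) Submodule.mem_top

end GroupAlg

end Groth.Agent.Lib.Helper19.GLift
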