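import Mathlib
import Groth.Prelude.Def_SGA3b
import Groth.Agent.Lib.Helper1.MultTypeRigid
import Groth.Agent.Lib.Helper28.MultQuot
import Groth.Agent.Lib.Helper19.MultLI
import Groth.Agent.Lib.Helper19.GLift1
import Groth.Agent.Lib.Lead.PureDescent

/-!
# Lifting group-like elements modulo a nil ideal: charts and uniqueness (helper19)

* `Chart R A f`: a faithfully flat chart of a Hopf algebra of multiplicative type over `D(f)`;
* `groupLike_unique_bc`: group-like elements of `T ⊗ A` which are congruent modulo a nil ideal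
  are equal;
* `groupLike_map`: functoriality of group-like elements in the base ring.
-/

set_option autoImplicit false
universe u
open TensorProduct

namespace Groth.Agent.Lib.Helper19.GLift

open Groth.Agent.Lib.Helper1.MultType WithConv Coalgebra
open Groth.Agent.Lib.Lead.PureDescent (tmul_eq_zero_of_faithfullyFlat)

section ConvBC

variable {R : Type*} [CommRing R] {A : Type*} [AddCommGroup A] [Module R A] [Coalgebra R A]
  {S' : Type*} [CommRing S'] [Algebra R S'] (T : Type*) [CommRing T] [Algebra R T]

lemma baseChange_idem (l : A →ₗ[R] S') (hl : toConv l * toConv l = toConv l) :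
    toConv (l.baseChange T) * toConv (l.baseChange T) = toConv (l.baseChange T) := by
  apply WithConv.ofConv_injective
  refine LinearMap.ext fun z => ?_
  induction z using TensorProduct.induction_on with
  | zero => simp
  | add x y hx hy => rw [map_add, map_add, hx, hy]
  | tmul t a =>
    have ht : t ⊗ₜ[R] a = t • ((1 : T) ⊗ₜ[R] a) := by
      rw [TensorProduct.smul_tmul', smul_eq_mul, mul_one]
    rw [ht, map_smul, map_smul]
    congr 1
    have h1 : (toConv l * toConv l).ofConv a = l a := by rw [hl]
    change LinearMap.mul' T (T ⊗[R] S') (TensorProduct.map (l.baseChange T) (l.baseChange T)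
      (comul (R := T) ((1 : T) ⊗ₜ[R] a))) = l.baseChange T ((1 : T) ⊗ₜ[R] a)
    rw [LinearMap.baseChange_tmul, ← h1]
    change _ = (1 : T) ⊗ₜ[R] LinearMap.mul' R S' (TensorProduct.map l l (comul (R := R) a))
    rw [TensorProduct.comul_tmul, CommSemiring.comul_apply]
    generalize comul (R := R) a = w
    induction w using TensorProduct.induction_on with
    | zero => simp
    | tmul x y =>
      simp only [AlgebraTensorModule.tensorTensorTensorComm_tmul, TensorProduct.map_tmul,
        LinearMap.baseChange_tmul, LinearMap.mul'_apply, Algebra.TensorProduct.tmul_mul_tmul,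
        mul_one]
    | add x y hx hy =>
      simp only [map_add, TensorProduct.tmul_add] at hx hy ⊢
      rw [hx, hy]

end ConvBC

section IdemApply

lemma idem_apply_groupLike {K : Type*} [CommRing K] {C : Type*} [AddCommGroup C] [Module K C]
    [Coalgebra K C] {K' : Type*} [CommRing K'] [Algebra K K'] (μ : C →ₗ[K] K')
    (hμ : toConv μ * toConv μ = toConv μ) {x : C} (hx : IsGroupLikeElem K x) :
    IsIdempotentElem (μ x) := by
  have h1 : (toConv μ * toConv μ).ofConv x = μ x := by rw [hμ]
  change LinearMap.mul' K K' (TensorProduct.map μ μ (comul (R := K) x)) = μ x at h1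
  rw [hx.comul_eq_tmul_self, TensorProduct.map_tmul, LinearMap.mul'_apply] at h1
  exact h1

end IdemApply

section LinAlg

lemma lTensor_equiv_injective {R : Type*} [CommRing R] (T : Type*) [AddCommGroup T] [Module R T]
    {X Y : Type*} [AddCommGroup X] [Module R X] [AddCommGroup Y] [Module R Y] (e : X ≃ₗ[R] Y) :
    Function.Injective (LinearMap.lTensor T e.toLinearMap) := by
  apply Function.LeftInverse.injective (g := LinearMap.lTensor T e.symm.toLinearMap)
  intro z
  have : e.symm.toLinearMap ∘ₗ e.toLinearMap = LinearMap.id := by ext x; simp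
  rw [← LinearMap.lTensor_comp_apply, this, LinearMap.lTensor_id, LinearMap.id_apply]

lemma eq_zero_of_lTensor_coeffFun {R : Type*} [CommRing R] {S : Type*} [CommRing S] [Algebra R S]
    {N : Type*} [CommGroup N] {T : Type*} [AddCommGroup T] [Module R T]
    (w : T ⊗[R] MonoidAlgebra S N)
    (h : ∀ n : N, LinearMap.lTensor T ((coeffFun n).restrictScalars R) w = 0) : w = 0 := by
  classical
  have hcomp : ∀ n : N, (Finsupp.lapply n : (N →₀ S) →ₗ[R] S) ∘ₗ
      (MonoidAlgebra.coeffLinearEquiv R (S := S) (M := N)).toLinearMap =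
      (coeffFun n).restrictScalars R := fun n => rfl
  have h0 : TensorProduct.finsuppRight R R T S N (LinearMap.lTensor T
      (MonoidAlgebra.coeffLinearEquiv R (S := S) (M := N)).toLinearMap w) = 0 := by
    ext n
    rw [TensorProduct.finsuppRight_apply, ← LinearMap.lTensor_comp_apply, hcomp, h n]
    simp
  have h1 := (TensorProduct.finsuppRight R R T S N).injective (h0.trans (map_zero _).symm)
  exact lTensor_equiv_injective T (MonoidAlgebra.coeffLinearEquiv R (S := S) (M := N))
    (h1.trans (map_zero _).symm)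

theorem eq_zero_of_localization_finset {R : Type*} [CommRing R] (s : Finset R)
    (hs : Ideal.span (s : Set R) = ⊤) {N : Type*} [AddCommGroup N] [Module R N] (n : N)
    (h : ∀ f ∈ s, (1 : Localization.Away f) ⊗ₜ[R] n = 0) : n = 0 := by
  suffices hkey : ∀ f ∈ s, ∃ k : ℕ, f ^ k • n = 0 by
    let I : Ideal R := (⊥ : Submodule R N).colon {n}
    have hI : I.radical = ⊤ := by
      rw [eq_top_iff, ← hs, Ideal.span_le]
      intro f hfs
      obtain ⟨k, hk⟩ := hkey f (Finset.mem_coe.mp hfs)
      refine ⟨k, ?_⟩
      rw [Submodule.mem_colon_singleton, hk]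
      exact Submodule.zero_mem _
    have hI' : I = ⊤ := Ideal.radical_eq_top.mp hI
    have h1 : (1 : R) ∈ I := hI' ▸ Submodule.mem_top
    rw [Submodule.mem_colon_singleton, one_smul] at h1
    simpa using h1
  intro f hf
  have : IsLocalizedModule (Submonoid.powers f) (TensorProduct.mk R (Localization.Away f) N 1) :=
    (isLocalizedModule_iff_isBaseChange (Submonoid.powers f) (Localization.Away f) _).mpr
      (TensorProduct.isBaseChange R N (Localization.Away f))
  obtain ⟨⟨_, k, rfl⟩, hk⟩ := (IsLocalizedModule.eq_zero_iff (Submonoid.powers f)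
    (TensorProduct.mk R (Localization.Away f) N 1)).mp (h f hf)
  exact ⟨k, hk⟩

end LinAlg

/-- A faithfully flat chart over `D(f)` of a Hopf algebra of multiplicative type. -/
structure Chart (R : Type u) [CommRing R] (A : Type u) [CommRing A] [HopfAlgebra R A] (f : R) where
  S : Type u
  [cr : CommRing S]
  [alg : Algebra (Localization.Away f) S]
  ff : Module.FaithfullyFlat (Localization.Away f) S
  N : Type u
  [grp : CommGroup N]
  e : S ⊗[Localization.Away f] (Localization.Away f ⊗[R] A) ≃ₐc[S] MonoidAlgebra S N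

attribute [instance] Chart.cr Chart.alg Chart.grp

namespace Chart

variable {R : Type u} [CommRing R] {A : Type u} [CommRing A] [HopfAlgebra R A] {f : R}

lemma nonempty_of_const
    (h : SGA3b.IsMultTypeConst (Localization.Away f) (Localization.Away f ⊗[R] A)) :
    Nonempty (Chart R A f) := by
  obtain ⟨R', _, _, hff, M, _, ⟨e⟩⟩ := h
  exact ⟨{ S := R', ff := hff, N := M, e := e }⟩

variable (c : Chart R A f)

instance : Module.FaithfullyFlat (Localization.Away f) c.S := c.ff

noncomputable instance algR : Algebra R c.S :=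
  ((algebraMap (Localization.Away f) c.S).comp (algebraMap R (Localization.Away f))).toAlgebra

instance : IsScalarTower R (Localization.Away f) c.S :=
  IsScalarTower.of_algebraMap_eq fun _ => rfl

/-- coefficient functionals on the chart -/
noncomputable def mu (n : c.N) :
    c.S ⊗[Localization.Away f] (Localization.Away f ⊗[R] A) →ₗ[c.S] c.S :=
  (coeffFun n).comp c.e.toCoalgEquiv.toCoalgHom.toLinearMap

lemma mu_idem (n : c.N) : toConv (c.mu n) * toConv (c.mu n) = toConv (c.mu n) := by
  have h1 := LinearMap.convMul_comp_coalgHom_distrib (toConv (coeffFun (T := c.S) n))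
    (toConv (coeffFun n)) c.e.toCoalgEquiv.toCoalgHom
  rw [coeffFun_idem] at h1
  apply WithConv.ofConv_injective
  exact h1.symm

/-- the `R`-linear character functionals `A → S` of the chart -/
noncomputable def l (n : c.N) : A →ₗ[R] c.S := restr (restr (c.mu n))

lemma l_idem (n : c.N) : toConv (c.l n) * toConv (c.l n) = toConv (c.l n) :=
  restr_idem _ (restr_idem _ (c.mu_idem n))

lemma l_apply (n : c.N) (a : A) : c.l n a =
    coeffFun n (c.e ((1 : c.S) ⊗ₜ[Localization.Away f] ((1 : Localization.Away f) ⊗ₜ[R] a))) :=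
  rfl

/-- the chart as a linear equivalence `S ⊗[R] A ≃ S[N]` -/
noncomputable def theta : c.S ⊗[R] A ≃ₗ[c.S] MonoidAlgebra c.S c.N :=
  (Algebra.TensorProduct.cancelBaseChange R (Localization.Away f) c.S c.S A).symm.toLinearEquiv ≪≫ₗ
    c.e.toCoalgEquiv.toLinearEquiv

lemma theta_one_tmul (a : A) : c.theta ((1 : c.S) ⊗ₜ[R] a) =
    c.e ((1 : c.S) ⊗ₜ[Localization.Away f] ((1 : Localization.Away f) ⊗ₜ[R] a)) := by
  simp [theta]
  rfl

/-- the inverse chart as a bialgebra map -/
noncomputable def thetaB : MonoidAlgebra c.S c.N →ₐc[c.S] c.S ⊗[R] A :=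
  (Groth.Agent.Lib.Helper28.MultQuot.cancelBialgHom (L := R) (R' := Localization.Away f)
    (K := c.S) (B := A)).comp c.e.symm.toBialgHom

lemma thetaB_apply (x : MonoidAlgebra c.S c.N) : c.thetaB x = c.theta.symm x := rfl

lemma thetaB_theta (z : c.S ⊗[R] A) : c.thetaB (c.theta z) = z := by
  rw [thetaB_apply, LinearEquiv.symm_apply_apply]

lemma theta_thetaB (x : MonoidAlgebra c.S c.N) : c.theta (c.thetaB x) = x := by
  rw [thetaB_apply, LinearEquiv.apply_symm_apply]

theorem one_tmul_eq_zero_of_l (T : Type u) [CommRing T] [Algebra R T] (z : T ⊗[R] A)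
    (h : ∀ n, (c.l n).baseChange T z = 0) : (1 : Localization.Away f) ⊗ₜ[R] z = 0 := by
  obtain ⟨ch, hch⟩ : ∃ ch : A →ₗ[R] MonoidAlgebra c.S c.N,
      ch = ((c.theta.restrictScalars R).toLinearMap) ∘ₗ (TensorProduct.mk R c.S A 1) := ⟨_, rfl⟩
  have hl : ∀ n, c.l n = ((coeffFun n).restrictScalars R) ∘ₗ ch := by
    intro n
    ext a
    rw [hch]
    simp only [LinearMap.comp_apply, LinearMap.restrictScalars_apply, TensorProduct.mk_apply,
      LinearEquiv.coe_coe, LinearEquiv.restrictScalars_apply, theta_one_tmul, l_apply]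
  have hw : LinearMap.lTensor T ch z = 0 := by
    apply eq_zero_of_lTensor_coeffFun
    intro n
    rw [← LinearMap.lTensor_comp_apply, ← hl n]
    exact h n
  rw [hch, LinearMap.lTensor_comp_apply] at hw
  have h2 : LinearMap.lTensor T (TensorProduct.mk R c.S A 1) z = 0 :=
    lTensor_equiv_injective T (c.theta.restrictScalars R) (hw.trans (map_zero _).symm)
  have h3 : ∀ z' : T ⊗[R] A, TensorProduct.leftComm R T c.S A
      (LinearMap.lTensor T (TensorProduct.mk R c.S A 1) z') = (1 : c.S) ⊗ₜ[R] z' := by
    intro z'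
    induction z' using TensorProduct.induction_on with
    | zero => simp
    | tmul t a => simp
    | add x y hx hy => rw [map_add, map_add, hx, hy, TensorProduct.tmul_add]
  have h4 : (1 : c.S) ⊗ₜ[R] z = 0 := by rw [← h3, h2, map_zero]
  exact tmul_eq_zero_of_faithfullyFlat (Localization.Away f) c.S (T ⊗[R] A) z h4

end Chart

section Unique

variable {R : Type u} [CommRing R] {A : Type u} [CommRing A] [HopfAlgebra R A]

theorem eq_zero_of_charts (s : Finset R) (hs : Ideal.span (s : Set R) = ⊤)
    (c : ∀ f ∈ s, Chart R A f) {N : Type*} [AddCommGroup N] [Module R N] (n : N)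
    (h : ∀ f (hf : f ∈ s), (1 : (c f hf).S) ⊗ₜ[R] n = 0) : n = 0 := by
  apply eq_zero_of_localization_finset s hs
  intro f hf
  exact tmul_eq_zero_of_faithfullyFlat (Localization.Away f) (c f hf).S N n (h f hf)

theorem groupLike_unique_bc (I : Ideal R) (hI : ∀ x ∈ I, IsNilpotent x) (s : Finset R)
    (hs : Ideal.span (s : Set R) = ⊤) (c : ∀ f ∈ s, Chart R A f)
    (T : Type u) [CommRing T] [Algebra R T] (x x' : T ⊗[R] A) (hx : IsGroupLikeElem T x)
    (hx' : IsGroupLikeElem T x')
    (h : (1 : R ⧸ I) ⊗ₜ[R] x = (1 : R ⧸ I) ⊗ₜ[R] x') : x = x' := by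
  rw [← sub_eq_zero]
  apply eq_zero_of_localization_finset s hs
  intro f hf
  apply (c f hf).one_tmul_eq_zero_of_l T
  intro n
  rw [map_sub, sub_eq_zero]
  have hid := baseChange_idem T ((c f hf).l n) ((c f hf).l_idem n)
  refine idem_eq_of_sub_mem (Ideal.map (algebraMap R (T ⊗[R] (c f hf).S)) I)
    (fun j hj => isNilpotent_of_mem_map I hI hj) (idem_apply_groupLike _ hid hx)
    (idem_apply_groupLike _ hid hx') ?_
  exact sub_mem_map_of_cong I
    (cong_map I ((((c f hf).l n).baseChange T).restrictScalars R) h)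

theorem groupLike_map {T T' : Type u} [CommRing T] [Algebra R T] [CommRing T'] [Algebra R T']
    (ρ : T →ₐ[R] T') {x : T ⊗[R] A} (hx : IsGroupLikeElem T x) :
    IsGroupLikeElem T' (Algebra.TensorProduct.map ρ (AlgHom.id R A) x) := by
  letI : Algebra T T' := ρ.toRingHom.toAlgebra
  haveI : IsScalarTower R T T' := IsScalarTower.of_algebraMap_eq fun r => (ρ.commutes r).symm
  have h1 : IsGroupLikeElem T' ((1 : T') ⊗ₜ[T] x) :=
    Groth.Agent.Lib.Helper28.MultQuot.isGroupLikeElem_one_tmul hx
  have h2 := h1.map (Groth.Agent.Lib.Helper28.MultQuot.cancelBialgHom (L := R) (R' := T)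
    (K := T') (B := A))
  have h3 : ∀ z : T ⊗[R] A,
      Groth.Agent.Lib.Helper28.MultQuot.cancelBialgHom (L := R) ((1 : T') ⊗ₜ[T] z) =
        Algebra.TensorProduct.map ρ (AlgHom.id R A) z := by
    intro z
    rw [Groth.Agent.Lib.Helper28.MultQuot.cancelBialgHom_apply]
    induction z using TensorProduct.induction_on with
    | zero => simp
    | tmul t a =>
      rw [Algebra.TensorProduct.cancelBaseChange_tmul, Algebra.TensorProduct.map_tmul,
        Algebra.smul_def, mul_one]
      rfl
    | add x y hx hy => rw [TensorProduct.tmul_add, map_add, map_add, hx, hy]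
  rw [h3] at h2
  exact h2

end Unique

end Groth.Agent.Lib.Helper19.GLift
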