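import Mathlib
import Groth.Prelude.Def_SGA3b
import Groth.Agent.Lib.Helper19.GLift2

/-!
# Lifting group-like elements modulo a nil ideal: existence by descent (helper19)

`exists_groupLike_lift_of_isMultType`, `groupLike_unique_of_cong`: for a Hopf algebra `A` of
multiplicative type over `R` and a nil ideal `I`, an element of `A` which is group-like modulo `I`
is congruent modulo `I` to exactly one group-like element of `A`.
-/

set_option autoImplicit false
universe u
open TensorProduct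

namespace Groth.Agent.Lib.Helper19.GLift

open Groth.Agent.Lib.Helper1.MultType WithConv Coalgebra
open Groth.Agent.Lib.Lead.PureDescent (exists_of_eq injective_mk_pi)

attribute [local instance] Classical.propDecidable

variable {R : Type u} [CommRing R] {A : Type u} [CommRing A] [HopfAlgebra R A]

theorem groupLike_unique_of_cong (h : SGA3b.IsMultType R A) (I : Ideal R)
    (hI : ∀ x ∈ I, IsNilpotent x) (g g' : A) (hg : IsGroupLikeElem R g)
    (hg' : IsGroupLikeElem R g')
    (hc : (1 : R ⧸ I) ⊗ₜ[R] g = (1 : R ⧸ I) ⊗ₜ[R] g') : g = g' := by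
  rw [← sub_eq_zero]
  apply eq_zero_of_forall_charFun h
  intro T _ _ l hl
  rw [map_sub, sub_eq_zero]
  exact idem_eq_of_sub_mem (Ideal.map (algebraMap R T) I)
    (fun j hj => isNilpotent_of_mem_map I hI hj) (idem_apply_groupLike l hl.idem hg)
    (idem_apply_groupLike l hl.idem hg') (sub_mem_map_of_cong I (cong_map I l hc))

namespace Chart

variable {f : R} (c : Chart R A f)

theorem exists_lift (I : Ideal R) (hI : ∀ x ∈ I, IsNilpotent x) (a : A) (ha : GLmod I a) :
    ∃ x : c.S ⊗[R] A, IsGroupLikeElem c.S x ∧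
      (1 : R ⧸ I) ⊗ₜ[R] x = (1 : R ⧸ I) ⊗ₜ[R] ((1 : c.S) ⊗ₜ[R] a) := by
  have h1 : GLmod (I.map (algebraMap R (Localization.Away f)))
      ((1 : Localization.Away f) ⊗ₜ[R] a) := GLmod.baseChange I ha
  have h2 : GLmod ((I.map (algebraMap R (Localization.Away f))).map
      (algebraMap (Localization.Away f) c.S))
      ((1 : c.S) ⊗ₜ[Localization.Away f] ((1 : Localization.Away f) ⊗ₜ[R] a)) :=
    GLmod.baseChange _ h1
  have hJ : (I.map (algebraMap R (Localization.Away f))).map
      (algebraMap (Localization.Away f) c.S) = I.map (algebraMap R c.S) := by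
    rw [Ideal.map_map]; rfl
  rw [hJ] at h2
  have h3 : GLmod (I.map (algebraMap R c.S))
      (c.e ((1 : c.S) ⊗ₜ[Localization.Away f] ((1 : Localization.Away f) ⊗ₜ[R] a))) :=
    GLmod.map _ c.e.toBialgHom h2
  obtain ⟨x₀, hx₀, hd⟩ := exists_groupLike_lift (I.map (algebraMap R c.S))
    (fun j hj => isNilpotent_of_mem_map I hI hj) _ h3
  refine ⟨c.thetaB x₀, hx₀.map c.thetaB, ?_⟩
  rw [one_tmul_eq_iff, mem_smulTop_iff I (T := c.S)]
  have h5 : c.theta.symm
      (c.e ((1 : c.S) ⊗ₜ[Localization.Away f] ((1 : Localization.Away f) ⊗ₜ[R] a))) =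
      (1 : c.S) ⊗ₜ[R] a := by
    rw [← c.theta_one_tmul, LinearEquiv.symm_apply_apply]
  have h4 : c.thetaB x₀ - (1 : c.S) ⊗ₜ[R] a = c.theta.symm.toLinearMap
      (x₀ - c.e ((1 : c.S) ⊗ₜ[Localization.Away f] ((1 : Localization.Away f) ⊗ₜ[R] a))) := by
    rw [map_sub, LinearEquiv.coe_coe, h5, thetaB_apply]
  rw [h4]
  exact map_mem_smulTop _ _ hd

end Chart

section Descent

variable (s : Finset R) (c : ∀ f ∈ s, Chart R A f)

/-- the family of chart rings -/
abbrev SF (i : {f // f ∈ s}) : Type u := (c i.1 i.2).S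

/-- the inclusion of a factor, as a linear map -/
noncomputable def sgl (i : {f // f ∈ s}) : SF s c i →ₗ[R] (∀ i, SF s c i) :=
  LinearMap.single R (SF s c) i

lemma sum_sgl_one : ∑ i, sgl s c i 1 = (1 : ∀ i, SF s c i) := by
  have := Finset.univ_sum_single (1 : ∀ i, SF s c i)
  simpa [sgl, LinearMap.coe_single] using this

lemma sgl_apply_same (i : {f // f ∈ s}) (y : SF s c i) : sgl s c i y i = y := by
  simp [sgl, LinearMap.coe_single]

lemma sgl_apply_ne (i j : {f // f ∈ s}) (h : j ≠ i) (y : SF s c i) : sgl s c i y j = 0 := by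
  simp [sgl, LinearMap.coe_single, Pi.single_eq_of_ne h]

lemma rT_incL (i : {f // f ∈ s}) (z : SF s c i ⊗[R] A) :
    LinearMap.rTensor A ((Algebra.TensorProduct.includeLeft :
        (∀ i, SF s c i) →ₐ[R] (∀ i, SF s c i) ⊗[R] (∀ i, SF s c i)).toLinearMap)
      (LinearMap.rTensor A (sgl s c i) z) =
    ∑ j, LinearMap.rTensor A (TensorProduct.map (sgl s c i) (sgl s c j))
      (LinearMap.rTensor A ((Algebra.TensorProduct.includeLeft :
        SF s c i →ₐ[R] SF s c i ⊗[R] SF s c j).toLinearMap) z) := by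
  induction z using TensorProduct.induction_on with
  | zero => simp
  | tmul y a =>
    simp only [LinearMap.rTensor_tmul, AlgHom.toLinearMap_apply,
      Algebra.TensorProduct.includeLeft_apply, TensorProduct.map_tmul]
    rw [← TensorProduct.sum_tmul, ← TensorProduct.tmul_sum, sum_sgl_one]
  | add z w hz hw => simp only [map_add, hz, hw, Finset.sum_add_distrib]

lemma rT_incR (j : {f // f ∈ s}) (z : SF s c j ⊗[R] A) :
    LinearMap.rTensor A ((Algebra.TensorProduct.includeRight :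
        (∀ i, SF s c i) →ₐ[R] (∀ i, SF s c i) ⊗[R] (∀ i, SF s c i)).toLinearMap)
      (LinearMap.rTensor A (sgl s c j) z) =
    ∑ i, LinearMap.rTensor A (TensorProduct.map (sgl s c i) (sgl s c j))
      (LinearMap.rTensor A ((Algebra.TensorProduct.includeRight :
        SF s c j →ₐ[R] SF s c i ⊗[R] SF s c j).toLinearMap) z) := by
  induction z using TensorProduct.induction_on with
  | zero => simp
  | tmul y a =>
    simp only [LinearMap.rTensor_tmul, AlgHom.toLinearMap_apply,
      Algebra.TensorProduct.includeRight_apply, TensorProduct.map_tmul]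
    rw [← TensorProduct.sum_tmul, ← TensorProduct.sum_tmul, sum_sgl_one]
  | add z w hz hw => simp only [map_add, hz, hw, Finset.sum_add_distrib]

lemma rT_eq_map {T T' : Type u} [CommRing T] [Algebra R T] [CommRing T'] [Algebra R T']
    (ρ : T →ₐ[R] T') (z : T ⊗[R] A) :
    LinearMap.rTensor A ρ.toLinearMap z = Algebra.TensorProduct.map ρ (AlgHom.id R A) z := by
  induction z using TensorProduct.induction_on with
  | zero => simp
  | tmul y a => simp
  | add z w hz hw => simp only [map_add, hz, hw]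

theorem exists_descent (I : Ideal R) (hI : ∀ x ∈ I, IsNilpotent x)
    (hs : Ideal.span (s : Set R) = ⊤) (a : A)
    (x : ∀ f (hf : f ∈ s), (c f hf).S ⊗[R] A)
    (hx : ∀ f hf, IsGroupLikeElem (c f hf).S (x f hf))
    (hc : ∀ f hf, (1 : R ⧸ I) ⊗ₜ[R] x f hf =
      (1 : R ⧸ I) ⊗ₜ[R] ((1 : (c f hf).S) ⊗ₜ[R] a)) :
    ∃ g : A, ∀ f hf, (1 : (c f hf).S) ⊗ₜ[R] g = x f hf := by
  obtain ⟨xtot, hxtot⟩ : ∃ xtot : (∀ i, SF s c i) ⊗[R] A,
      xtot = ∑ i : {f // f ∈ s}, LinearMap.rTensor A (sgl s c i) (x i.1 i.2) := ⟨_, rfl⟩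
  -- purity
  have hpure : Function.Injective (TensorProduct.mk R (∀ i, SF s c i)
      (((∀ i, SF s c i) ⊗[R] A) ⧸
        LinearMap.range (TensorProduct.mk R (∀ i, SF s c i) A 1)) 1) := by
    apply injective_mk_pi (SF s c)
    intro n hn
    exact eq_zero_of_charts s hs c n (fun f hf => hn ⟨f, hf⟩)
  -- pairwise agreement
  have key : ∀ i j : {f // f ∈ s},
      LinearMap.rTensor A ((Algebra.TensorProduct.includeLeft :
        SF s c i →ₐ[R] SF s c i ⊗[R] SF s c j).toLinearMap) (x i.1 i.2) =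
      LinearMap.rTensor A ((Algebra.TensorProduct.includeRight :
        SF s c j →ₐ[R] SF s c i ⊗[R] SF s c j).toLinearMap) (x j.1 j.2) := by
    intro i j
    rw [rT_eq_map, rT_eq_map]
    have h1 := groupLike_map (Algebra.TensorProduct.includeLeft :
        SF s c i →ₐ[R] SF s c i ⊗[R] SF s c j) (hx i.1 i.2)
    have h2 := groupLike_map (Algebra.TensorProduct.includeRight :
        SF s c j →ₐ[R] SF s c i ⊗[R] SF s c j) (hx j.1 j.2)
    refine groupLike_unique_bc I hI s hs c (SF s c i ⊗[R] SF s c j) _ _ h1 h2 ?_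
    have e1 := cong_map I (Algebra.TensorProduct.map (Algebra.TensorProduct.includeLeft :
        SF s c i →ₐ[R] SF s c i ⊗[R] SF s c j) (AlgHom.id R A)).toLinearMap (hc i.1 i.2)
    have e2 := cong_map I (Algebra.TensorProduct.map (Algebra.TensorProduct.includeRight :
        SF s c j →ₐ[R] SF s c i ⊗[R] SF s c j) (AlgHom.id R A)).toLinearMap (hc j.1 j.2)
    simp only [AlgHom.toLinearMap_apply, Algebra.TensorProduct.map_tmul, map_one,
      AlgHom.coe_id, id_eq] at e1 e2
    exact e1.trans e2.symm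
  have hxeq : LinearMap.rTensor A ((Algebra.TensorProduct.includeLeft :
        (∀ i, SF s c i) →ₐ[R] (∀ i, SF s c i) ⊗[R] (∀ i, SF s c i)).toLinearMap) xtot =
      LinearMap.rTensor A ((Algebra.TensorProduct.includeRight :
        (∀ i, SF s c i) →ₐ[R] (∀ i, SF s c i) ⊗[R] (∀ i, SF s c i)).toLinearMap) xtot := by
    rw [hxtot, map_sum, map_sum]
    simp only [rT_incL, rT_incR, key]
    exact Finset.sum_comm
  obtain ⟨g, hg⟩ := exists_of_eq (∀ i, SF s c i) A xtot hpure hxeq
  refine ⟨g, fun f hf => ?_⟩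
  have h6 := congrArg (LinearMap.rTensor A
    (LinearMap.proj (R := R) (φ := SF s c) ⟨f, hf⟩)) hg
  rw [LinearMap.rTensor_tmul, hxtot, map_sum] at h6
  rw [Finset.sum_eq_single (⟨f, hf⟩ : {f // f ∈ s})] at h6
  · rw [← LinearMap.rTensor_comp_apply] at h6
    have h7 : (LinearMap.proj (R := R) (φ := SF s c) ⟨f, hf⟩) ∘ₗ sgl s c ⟨f, hf⟩ =
        LinearMap.id := LinearMap.proj_comp_single_same R (SF s c) ⟨f, hf⟩
    rw [h7, LinearMap.rTensor_id, LinearMap.id_apply] at h6
    exact h6.symm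
  · intro j _ hj
    rw [← LinearMap.rTensor_comp_apply]
    have h7 : (LinearMap.proj (R := R) (φ := SF s c) ⟨f, hf⟩) ∘ₗ sgl s c j = 0 :=
      LinearMap.proj_comp_single_ne R (SF s c) ⟨f, hf⟩ j (Ne.symm hj)
    rw [h7, LinearMap.rTensor_zero, LinearMap.zero_apply]
  · intro h; exact absurd (Finset.mem_univ _) h

theorem groupLike_of_descent (hs : Ideal.span (s : Set R) = ⊤) (g : A)
    (hg : ∀ f hf, IsGroupLikeElem (c f hf).S ((1 : (c f hf).S) ⊗ₜ[R] g)) :
    IsGroupLikeElem R g where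
  counit_eq_one := by
    rw [← sub_eq_zero]
    apply eq_zero_of_charts s hs c
    intro f hf
    have h1 := (hg f hf).counit_eq_one
    rw [TensorProduct.counit_tmul, CommSemiring.counit_apply] at h1
    have h2 : (1 : (c f hf).S) ⊗ₜ[R] (counit (R := R) g - 1) =
        ((counit (R := R) g - 1) • (1 : (c f hf).S)) ⊗ₜ[R] (1 : R) := by
      rw [TensorProduct.smul_tmul, smul_eq_mul, mul_one]
    rw [h2, sub_smul, h1, one_smul, sub_self, TensorProduct.zero_tmul]
  comul_eq_tmul_self := by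
    rw [← sub_eq_zero]
    apply eq_zero_of_charts s hs c
    intro f hf
    have h1 := (hg f hf).comul_eq_tmul_self
    rw [comul_one_tmul] at h1
    have h2 : ((1 : (c f hf).S) ⊗ₜ[R] g) ⊗ₜ[(c f hf).S] ((1 : (c f hf).S) ⊗ₜ[R] g) =
        AlgebraTensorModule.distribBaseChange R (c f hf).S A A
          ((1 : (c f hf).S) ⊗ₜ[R] (g ⊗ₜ[R] g)) := by
      rw [AlgebraTensorModule.distribBaseChange_tmul]
    rw [h2] at h1
    have h3 := (AlgebraTensorModule.distribBaseChange R (c f hf).S A A).injective h1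
    rw [TensorProduct.tmul_sub, h3, sub_self]

theorem cong_of_descent (I : Ideal R) (hs : Ideal.span (s : Set R) = ⊤) (g a : A)
    (hc : ∀ f hf, (1 : R ⧸ I) ⊗ₜ[R] ((1 : (c f hf).S) ⊗ₜ[R] g) =
      (1 : R ⧸ I) ⊗ₜ[R] ((1 : (c f hf).S) ⊗ₜ[R] a)) :
    (1 : R ⧸ I) ⊗ₜ[R] g = (1 : R ⧸ I) ⊗ₜ[R] a := by
  rw [← sub_eq_zero, ← TensorProduct.tmul_sub]
  apply eq_zero_of_charts s hs c
  intro f hf
  apply (TensorProduct.leftComm R (c f hf).S (R ⧸ I) A).injective
  rw [TensorProduct.leftComm_tmul, map_zero, TensorProduct.tmul_sub, TensorProduct.tmul_sub,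
    hc f hf, sub_self]

end Descent

theorem exists_groupLike_lift_of_isMultType (h : SGA3b.IsMultType R A) (I : Ideal R)
    (hI : ∀ x ∈ I, IsNilpotent x) (a : A) (ha : GLmod I a) :
    ∃ g : A, IsGroupLikeElem R g ∧ (1 : R ⧸ I) ⊗ₜ[R] g = (1 : R ⧸ I) ⊗ₜ[R] a := by
  obtain ⟨s0, hs0, hf0⟩ := h
  obtain ⟨s, hss, hs⟩ := (Ideal.span_eq_top_iff_finite s0).mp hs0
  have hc : ∀ f ∈ s, Nonempty (Chart R A f) :=
    fun f hf => Chart.nonempty_of_const (hf0 f (hss hf))
  have c : ∀ f ∈ s, Chart R A f := fun f hf => Classical.choice (hc f hf)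
  choose x hx hxc using fun f (hf : f ∈ s) => (c f hf).exists_lift I hI a ha
  obtain ⟨g, hg⟩ := exists_descent s c I hI hs a x hx hxc
  refine ⟨g, groupLike_of_descent s c hs g (fun f hf => by rw [hg f hf]; exact hx f hf),
    cong_of_descent s c I hs g a (fun f hf => by rw [hg f hf]; exact hxc f hf)⟩

end Groth.Agent.Lib.Helper19.GLift
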