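import Mathlib
import Groth.Prelude.Def_SGA3b
import Groth.Agent.Lib.Helper19.GLift3
import Groth.Agent.Lib.Helper19.ConvBC
import Groth.Agent.Lib.Helper19.MultFinite
import Groth.Agent.Lib.Helper19.AvgLift1

/-!
# The invariant integral of a group of multiplicative type (helper19)

For a Hopf algebra `A` of multiplicative type over `R` there is an `R`-linear form `ι : A → R`
with `ι 1 = 1` and `∑ a₁ ι(a₂) = ι(a) 1` (`exists_integral`): locally for the fpqc topology it is
the coefficient of the unit element of the group algebra, and it descends because a left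
invariant and a right invariant normalised form are equal (`eq_of_LInv_RInv`).
-/

set_option autoImplicit false
universe u
open TensorProduct

namespace Groth.Agent.Lib.Helper19.MultIntegral

open Groth.Agent.Lib.Helper1.MultType WithConv Coalgebra
open Groth.Agent.Lib.Helper19.GLift Groth.Agent.Lib.Helper19.AvgLift
open Groth.Agent.Lib.Lead.PureDescent (exists_of_eq injective_mk_pi)

attribute [local instance] Classical.propDecidable

section Formal

variable {R : Type*} [CommRing R] {A : Type*} [CommRing A] [HopfAlgebra R A]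
  {T : Type*} [CommRing T] [Algebra R T]

/-- left invariance: `∑ l(a₁) ⊗ a₂ = l(a) ⊗ 1` -/
def LInv (l : A →ₗ[R] T) : Prop :=
  ∀ a, TensorProduct.map l LinearMap.id (comul (R := R) a) = l a ⊗ₜ[R] (1 : A)

/-- right invariance: `∑ l(a₂) ⊗ a₁ = l(a) ⊗ 1` -/
def RInv (l : A →ₗ[R] T) : Prop :=
  ∀ a, TensorProduct.map l LinearMap.id (TensorProduct.comm R A A (comul (R := R) a)) =
    l a ⊗ₜ[R] (1 : A)

lemma LInv.rinv [Coalgebra.IsCocomm R A] {l : A →ₗ[R] T} (h : LInv l) : RInv l := fun a => by
  rw [Coalgebra.comm_comul]; exact h a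

lemma LInv.comp {T' : Type*} [CommRing T'] [Algebra R T'] (g : T →ₗ[R] T') {l : A →ₗ[R] T}
    (h : LInv l) : LInv (g ∘ₗ l) := fun a => by
  have e : TensorProduct.map (g ∘ₗ l) LinearMap.id (comul (R := R) a) =
      TensorProduct.map g LinearMap.id (TensorProduct.map l LinearMap.id (comul (R := R) a)) := by
    rw [TensorProduct.map_map, LinearMap.id_comp]
  rw [e, h a, TensorProduct.map_tmul, LinearMap.id_apply, LinearMap.comp_apply]

lemma RInv.comp {T' : Type*} [CommRing T'] [Algebra R T'] (g : T →ₗ[R] T') {l : A →ₗ[R] T}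
    (h : RInv l) : RInv (g ∘ₗ l) := fun a => by
  have e : TensorProduct.map (g ∘ₗ l) LinearMap.id
      (TensorProduct.comm R A A (comul (R := R) a)) =
      TensorProduct.map g LinearMap.id (TensorProduct.map l LinearMap.id
        (TensorProduct.comm R A A (comul (R := R) a))) := by
    rw [TensorProduct.map_map, LinearMap.id_comp]
  rw [e, h a, TensorProduct.map_tmul, LinearMap.id_apply, LinearMap.comp_apply]

/-- a left invariant and a right invariant normalised linear form are equal -/
theorem eq_of_LInv_RInv (l l' : A →ₗ[R] T) (hl : LInv l) (hl' : RInv l') (h1 : l 1 = 1)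
    (h1' : l' 1 = 1) : l = l' := by
  ext a
  have e1 : LinearMap.mul' R T (TensorProduct.map l l' (comul (R := R) a)) = l a := by
    have h := congrArg (fun z => LinearMap.mul' R T
      (TensorProduct.map (LinearMap.id : T →ₗ[R] T) l' z)) (hl a)
    simp only [TensorProduct.map_map, LinearMap.id_comp, LinearMap.comp_id,
      TensorProduct.map_tmul, LinearMap.id_apply, LinearMap.mul'_apply, h1', mul_one] at h
    exact h
  have hcomm : ∀ t : A ⊗[R] A, LinearMap.mul' R T (TensorProduct.map l' l
      (TensorProduct.comm R A A t)) = LinearMap.mul' R T (TensorProduct.map l l' t) := by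
    intro t
    induction t using TensorProduct.induction_on with
    | zero => simp
    | tmul x y => simp [mul_comm]
    | add x y hx hy => simp only [map_add, hx, hy]
  have e2 : LinearMap.mul' R T (TensorProduct.map l l' (comul (R := R) a)) = l' a := by
    have h := congrArg (fun z => LinearMap.mul' R T
      (TensorProduct.map (LinearMap.id : T →ₗ[R] T) l z)) (hl' a)
    simp only [TensorProduct.map_map, LinearMap.id_comp, LinearMap.comp_id,
      TensorProduct.map_tmul, LinearMap.id_apply, LinearMap.mul'_apply, h1, mul_one] at h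
    rw [hcomm] at h
    exact h
  exact e1.symm.trans e2

end Formal

section GroupAlgebra

variable {S : Type*} [CommRing S] {N : Type*} [CommGroup N]

lemma coeff_one_inv :
    TensorProduct.map (coeffFun (T := S) (1 : N)) LinearMap.id ∘ₗ Coalgebra.comul =
      (TensorProduct.mk S S (MonoidAlgebra S N)).flip 1 ∘ₗ coeffFun (1 : N) := by
  apply MonoidAlgebra.lhom_ext'
  intro n
  refine LinearMap.ext fun r => ?_
  change TensorProduct.map (coeffFun (1 : N)) LinearMap.id
    (Coalgebra.comul (R := S) (MonoidAlgebra.single n r)) =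
    coeffFun (1 : N) (MonoidAlgebra.single n r) ⊗ₜ[S] (1 : MonoidAlgebra S N)
  rw [MonoidAlgebra.comul_single]
  simp only [CommSemiring.comul_apply, TensorProduct.map_tmul, MonoidAlgebra.lsingle_apply,
    LinearMap.id_apply, coeffFun_single]
  split_ifs with h
  · rw [h, MonoidAlgebra.one_def]
    have e : (MonoidAlgebra.single (1 : N) r : MonoidAlgebra S N) =
        r • MonoidAlgebra.single 1 1 := by
      rw [MonoidAlgebra.smul_single, smul_eq_mul, mul_one]
    rw [e, TensorProduct.tmul_smul, TensorProduct.smul_tmul', smul_eq_mul, mul_one]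
  · rw [TensorProduct.zero_tmul, TensorProduct.zero_tmul]

end GroupAlgebra

section Chart

variable {R : Type u} [CommRing R] {A : Type u} [CommRing A] [HopfAlgebra R A] {f : R}
  (c : Chart R A f)

/-- the integral of the chart -/
noncomputable def nu : c.S ⊗[R] A →ₗ[c.S] c.S := coeffFun (1 : c.N) ∘ₗ c.theta.toLinearMap

lemma nu_thetaB (x : MonoidAlgebra c.S c.N) : nu c (c.thetaB x) = coeffFun 1 x := by
  rw [nu, LinearMap.comp_apply, LinearEquiv.coe_coe, c.theta_thetaB]

lemma l_one_eq (a : A) : c.l 1 a = nu c ((1 : c.S) ⊗ₜ[R] a) := by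
  rw [Chart.l_apply, ← Chart.theta_one_tmul]; rfl

lemma nu_inv (z : c.S ⊗[R] A) :
    TensorProduct.map (nu c) LinearMap.id (Coalgebra.comul (R := c.S) z) =
      nu c z ⊗ₜ[c.S] (1 : c.S ⊗[R] A) := by
  obtain ⟨x, rfl⟩ : ∃ x, c.thetaB x = z := ⟨c.theta z, c.thetaB_theta z⟩
  rw [← CoalgHomClass.map_comp_comul_apply c.thetaB x, TensorProduct.map_map]
  have e1 : nu c ∘ₗ (c.thetaB : MonoidAlgebra c.S c.N →ₗ[c.S] c.S ⊗[R] A) = coeffFun 1 :=
    LinearMap.ext (nu_thetaB c)
  rw [e1, LinearMap.id_comp]
  have e2 := congrArg (TensorProduct.map (LinearMap.id : c.S →ₗ[c.S] c.S)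
    (c.thetaB : MonoidAlgebra c.S c.N →ₗ[c.S] c.S ⊗[R] A))
    (LinearMap.congr_fun (coeff_one_inv (S := c.S) (N := c.N)) x)
  rw [LinearMap.comp_apply, LinearMap.comp_apply, TensorProduct.map_map, LinearMap.id_comp,
    LinearMap.comp_id, LinearMap.flip_apply, TensorProduct.mk_apply, TensorProduct.map_tmul,
    LinearMap.id_apply] at e2
  rw [e2, nu_thetaB]
  congr 1
  exact map_one c.thetaB

lemma lid_map_iota2 (t : A ⊗[R] A) :
    TensorProduct.lid c.S (c.S ⊗[R] A) (TensorProduct.map (nu c) LinearMap.id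
      (ConvBC.iota2 R c.S A t)) = TensorProduct.map (c.l 1) LinearMap.id t := by
  induction t using TensorProduct.induction_on with
  | zero => simp
  | tmul x y =>
    rw [ConvBC.iota2_tmul, TensorProduct.map_tmul, TensorProduct.lid_tmul, LinearMap.id_apply,
      TensorProduct.smul_tmul', smul_eq_mul, mul_one, TensorProduct.map_tmul, LinearMap.id_apply,
      l_one_eq]
  | add a b ha hb => simp only [map_add, ha, hb]

theorem lInv_l_one : LInv (c.l 1) := fun a => by
  have h := congrArg (TensorProduct.lid c.S (c.S ⊗[R] A)) (nu_inv c ((1 : c.S) ⊗ₜ[R] a))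
  rw [ConvBC.comul_one_tmul, lid_map_iota2, TensorProduct.lid_tmul, Algebra.TensorProduct.one_def,
    TensorProduct.smul_tmul', smul_eq_mul, mul_one, ← l_one_eq] at h
  exact h

theorem l_one_one : c.l 1 1 = 1 := by
  rw [l_one_eq, ← Algebra.TensorProduct.one_def, nu, LinearMap.comp_apply, LinearEquiv.coe_coe]
  have : c.theta 1 = 1 := by
    have h := c.theta_thetaB 1
    rwa [map_one] at h
  rw [this, coeffFun_one, if_pos rfl]

end Chart

section Cocomm

variable {R : Type u} [CommRing R] {A : Type u} [CommRing A] [HopfAlgebra R A]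

theorem isCocomm_of_isMultType (hA : SGA3b.IsMultType R A) : Coalgebra.IsCocomm R A := by
  obtain ⟨s, hs, hloc⟩ := hA
  apply MultFinite.isCocomm_of_span s hs
  intro f
  obtain ⟨T, _, _, hff, M, _, ⟨e⟩⟩ := hloc f.1 f.2
  have := hff
  apply MultFinite.isCocomm_of_faithfullyFlat T
  let b : Module.Basis M T (T ⊗[Localization.Away f.1] (Localization.Away f.1 ⊗[R] A)) :=
    (MonoidAlgebra.basis M T).map e.symm.toAlgEquiv.toLinearEquiv
  have hb : ∀ m, IsGroupLikeElem T (b m) := by
    intro m
    have h : b m = e.symm (MonoidAlgebra.single m 1) := by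
      show (MonoidAlgebra.basis M T).map e.symm.toAlgEquiv.toLinearEquiv m = _
      rw [Module.Basis.map_apply, MonoidAlgebra.basis_apply]
      rfl
    rw [h]
    exact (MonoidAlgebra.isGroupLikeElem_single_one m).map e.symm
  refine ⟨b.ext fun m => ?_⟩
  show TensorProduct.comm T _ _ (Coalgebra.comul (R := T) (b m)) = Coalgebra.comul (R := T) (b m)
  rw [(hb m).comul_eq_tmul_self, TensorProduct.comm_tmul]

end Cocomm

section Descent

variable {R : Type u} [CommRing R] {A : Type u} [CommRing A] [HopfAlgebra R A]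
  (s : Finset R) (c : ∀ f ∈ s, Chart R A f)

theorem exists_descent_of_pairwise (hs : Ideal.span (s : Set R) = ⊤)
    (x : ∀ f (hf : f ∈ s), (c f hf).S ⊗[R] A)
    (key : ∀ i j : {f // f ∈ s},
      LinearMap.rTensor A ((Algebra.TensorProduct.includeLeft :
        SF s c i →ₐ[R] SF s c i ⊗[R] SF s c j).toLinearMap) (x i.1 i.2) =
      LinearMap.rTensor A ((Algebra.TensorProduct.includeRight :
        SF s c j →ₐ[R] SF s c i ⊗[R] SF s c j).toLinearMap) (x j.1 j.2)) :
    ∃ g : A, ∀ f hf, (1 : (c f hf).S) ⊗ₜ[R] g = x f hf := by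
  obtain ⟨xtot, hxtot⟩ : ∃ xtot : (∀ i, SF s c i) ⊗[R] A,
      xtot = ∑ i : {f // f ∈ s}, LinearMap.rTensor A (sgl s c i) (x i.1 i.2) := ⟨_, rfl⟩
  have hpure : Function.Injective (TensorProduct.mk R (∀ i, SF s c i)
      (((∀ i, SF s c i) ⊗[R] A) ⧸
        LinearMap.range (TensorProduct.mk R (∀ i, SF s c i) A 1)) 1) := by
    apply injective_mk_pi (SF s c)
    intro n hn
    exact eq_zero_of_charts s hs c n (fun f hf => hn ⟨f, hf⟩)
  have hxeq : LinearMap.rTensor A ((Algebra.TensorProduct.includeLeft :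
        (∀ i, SF s c i) →ₐ[R] (∀ i, SF s c i) ⊗[R] (∀ i, SF s c i)).toLinearMap) xtot =
      LinearMap.rTensor A ((Algebra.TensorProduct.includeRight :
        (∀ i, SF s c i) →ₐ[R] (∀ i, SF s c i) ⊗[R] (∀ i, SF s c i)).toLinearMap) xtot := by
    rw [hxtot, map_sum, map_sum]
    simp only [rT_incL, rT_incR, key]
    exact Finset.sum_comm
  obtain ⟨g, hg⟩ := exists_of_eq (∀ i, SF s c i) A xtot hpure hxeq
  refine ⟨g, fun f hf => ?_⟩
  have h6 := congrArg (LinearMap.rTensor A
    (LinearMap.proj (R := R) (φ := SF s c) ⟨f, hf⟩)) hg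
  rw [LinearMap.rTensor_tmul, hxtot, map_sum] at h6
  rw [Finset.sum_eq_single (⟨f, hf⟩ : {f // f ∈ s})] at h6
  · rw [← LinearMap.rTensor_comp_apply] at h6
    have h7 : (LinearMap.proj (R := R) (φ := SF s c) ⟨f, hf⟩) ∘ₗ sgl s c ⟨f, hf⟩ =
        LinearMap.id := LinearMap.proj_comp_single_same R (SF s c) ⟨f, hf⟩
    rw [h7, LinearMap.rTensor_id, LinearMap.id_apply] at h6
    exact h6.symm
  · intro j _ hj
    rw [← LinearMap.rTensor_comp_apply]
    have h7 : (LinearMap.proj (R := R) (φ := SF s c) ⟨f, hf⟩) ∘ₗ sgl s c j = 0 :=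
      LinearMap.proj_comp_single_ne R (SF s c) ⟨f, hf⟩ j (Ne.symm hj)
    rw [h7, LinearMap.rTensor_zero, LinearMap.zero_apply]
  · intro h; exact absurd (Finset.mem_univ _) h

end Descent

section Main

variable {R : Type u} [CommRing R] {A : Type u} [CommRing A] [HopfAlgebra R A]

/-- **The integral of a group of multiplicative type.** -/
theorem exists_integral (hA : SGA3b.IsMultType R A) :
    ∃ ι : A →ₗ[R] R, ι 1 = 1 ∧
      ∀ a : A, av ι A (Coalgebra.comul (R := R) a) = algebraMap R A (ι a) := by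
  have : Coalgebra.IsCocomm R A := isCocomm_of_isMultType hA
  obtain ⟨s0, hs0, hf0⟩ := hA
  obtain ⟨s, hss, hs⟩ := (Ideal.span_eq_top_iff_finite s0).mp hs0
  have hc : ∀ f ∈ s, Nonempty (Chart R A f) :=
    fun f hf => Chart.nonempty_of_const (hf0 f (hss hf))
  have c : ∀ f ∈ s, Chart R A f := fun f hf => Classical.choice (hc f hf)
  -- uniqueness of descended elements
  have huniq : ∀ g g' : A, (∀ f (hf : f ∈ s), (1 : (c f hf).S) ⊗ₜ[R] g =
      (1 : (c f hf).S) ⊗ₜ[R] g') → g = g' := by
    intro g g' h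
    rw [← sub_eq_zero]
    apply eq_zero_of_charts s hs c
    intro f hf
    rw [TensorProduct.tmul_sub, h f hf, sub_self]
  -- pairwise agreement
  have hpair : ∀ (i j : {f // f ∈ s}) (a : A),
      ((c i.1 i.2).l 1 a) ⊗ₜ[R] (1 : SF s c j) = (1 : SF s c i) ⊗ₜ[R] ((c j.1 j.2).l 1 a) := by
    intro i j a
    have h := eq_of_LInv_RInv
      ((Algebra.TensorProduct.includeLeft : SF s c i →ₐ[R] SF s c i ⊗[R] SF s c j).toLinearMap ∘ₗ
        (c i.1 i.2).l 1)
      ((Algebra.TensorProduct.includeRight : SF s c j →ₐ[R] SF s c i ⊗[R] SF s c j).toLinearMap ∘ₗ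
        (c j.1 j.2).l 1)
      ((lInv_l_one (c i.1 i.2)).comp _) (((lInv_l_one (c j.1 j.2)).rinv).comp _)
      (by rw [LinearMap.comp_apply, l_one_one, AlgHom.toLinearMap_apply, map_one])
      (by rw [LinearMap.comp_apply, l_one_one, AlgHom.toLinearMap_apply, map_one])
    exact LinearMap.congr_fun h a
  -- descend
  have hex : ∀ a : A, ∃ g : A, ∀ f (hf : f ∈ s),
      (1 : (c f hf).S) ⊗ₜ[R] g = ((c f hf).l 1 a) ⊗ₜ[R] (1 : A) := by
    intro a
    refine exists_descent_of_pairwise s c hs (fun f hf => ((c f hf).l 1 a) ⊗ₜ[R] (1 : A)) ?_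
    intro i j
    rw [LinearMap.rTensor_tmul, LinearMap.rTensor_tmul, AlgHom.toLinearMap_apply,
      AlgHom.toLinearMap_apply, Algebra.TensorProduct.includeLeft_apply,
      Algebra.TensorProduct.includeRight_apply, hpair i j a]
  choose g hg using hex
  have hadd : ∀ a b, g (a + b) = g a + g b := by
    intro a b
    apply huniq
    intro f hf
    rw [hg, TensorProduct.tmul_add, hg, hg, map_add, TensorProduct.add_tmul]
  have hsmul : ∀ (r : R) a, g (r • a) = r • g a := by
    intro r a
    apply huniq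
    intro f hf
    rw [hg, TensorProduct.tmul_smul, hg, map_smul, TensorProduct.smul_tmul']
  have hone : g 1 = 1 := by
    apply huniq
    intro f hf
    rw [hg, l_one_one]
  obtain ⟨ι, hι⟩ : ∃ ι : A →ₗ[R] R, ∀ a, ι a = Coalgebra.counit (R := R) (g a) :=
    ⟨{ toFun := fun a => Coalgebra.counit (R := R) (g a)
       map_add' := fun a b => by rw [hadd, map_add]
       map_smul' := fun r a => by rw [hsmul, map_smul]; rfl }, fun a => rfl⟩
  -- compatibility with the charts
  have hcomp : ∀ f (hf : f ∈ s) (a : A), algebraMap R (c f hf).S (ι a) = (c f hf).l 1 a := by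
    intro f hf a
    have h := congrArg (fun z => TensorProduct.rid R (c f hf).S
      (LinearMap.lTensor (c f hf).S (Coalgebra.counit (R := R) (A := A)) z)) (hg a f hf)
    simp only [LinearMap.lTensor_tmul, TensorProduct.rid_tmul, Bialgebra.counit_one, one_smul] at h
    rw [hι, Algebra.algebraMap_eq_smul_one]
    exact h
  refine ⟨ι, by rw [hι, hone, Bialgebra.counit_one], fun a => ?_⟩
  rw [← sub_eq_zero]
  apply eq_zero_of_charts s hs c
  intro f hf
  have hav : ∀ t : A ⊗[R] A, (1 : (c f hf).S) ⊗ₜ[R] av ι A t =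
      TensorProduct.map ((c f hf).l 1) LinearMap.id (TensorProduct.comm R A A t) := by
    intro t
    induction t using TensorProduct.induction_on with
    | zero => simp
    | tmul x y =>
      rw [av_tmul, TensorProduct.comm_tmul, TensorProduct.map_tmul, LinearMap.id_apply,
        ← hcomp f hf, TensorProduct.tmul_smul, TensorProduct.smul_tmul',
        Algebra.algebraMap_eq_smul_one]
    | add a b ha hb => simp only [map_add, TensorProduct.tmul_add, ha, hb]
  rw [TensorProduct.tmul_sub, hav, (lInv_l_one (c f hf)).rinv a, Algebra.algebraMap_eq_smul_one,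
    TensorProduct.tmul_smul, TensorProduct.smul_tmul', ← Algebra.algebraMap_eq_smul_one,
    hcomp f hf, sub_self]

end Main

end Groth.Agent.Lib.Helper19.MultIntegral
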