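import Mathlib
import Groth.Prelude.Def_SGA3b
import Groth.Agent.Lib.Helper19.AvgLift3
import Groth.Agent.Lib.Helper19.MultIntegral

/-!
# Lifting homomorphisms from groups of multiplicative type to smooth groups modulo a nilpotent
ideal (helper19)

`exists_bialgHom_lift`: `R` a ring, `I` a nilpotent ideal, `A` of multiplicative type, `C` a
formally smooth Hopf algebra; every bialgebra map `(R/I) ⊗ C → (R/I) ⊗ A` lifts to a bialgebra map
`C → A` (SGA 3 IX 3.6, affine case).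
-/

set_option autoImplicit false
universe u
open TensorProduct

namespace Groth.Agent.Lib.Helper19.AvgLift

open Groth.Agent.Lib.Helper19.GLift (one_tmul_eq_iff one_tmul_eq_zero_iff exists_one_tmul_eq)

section Lift

variable {R : Type u} [CommRing R] (I : Ideal R) {A : Type u} [CommRing A] [HopfAlgebra R A]
  {C : Type u} [CommRing C] [HopfAlgebra R C]

lemma mem_Sm_iff_one_tmul {X : Type*} [AddCommGroup X] [Module R X] (x y : X) :
    x - y ∈ Sm I X ↔ (1 : R ⧸ I) ⊗ₜ[R] x = (1 : R ⧸ I) ⊗ₜ[R] y :=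
  (one_tmul_eq_iff I x y).symm

lemma isNilpotent_ker_includeRight (hI : IsNilpotent I) :
    IsNilpotent (RingHom.ker (Algebra.TensorProduct.includeRight : A →ₐ[R] (R ⧸ I) ⊗[R] A)) := by
  have hle : RingHom.ker (Algebra.TensorProduct.includeRight : A →ₐ[R] (R ⧸ I) ⊗[R] A) ≤
      Ideal.map (algebraMap R A) I := by
    intro x hx
    rw [RingHom.mem_ker, Algebra.TensorProduct.includeRight_apply, one_tmul_eq_zero_iff] at hx
    exact (mem_Sm_iff_mem_map I x).mp hx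
  obtain ⟨n, hn⟩ := hI
  refine ⟨n, ?_⟩
  rw [Ideal.zero_eq_bot, eq_bot_iff]
  refine (Ideal.pow_right_mono hle n).trans ?_
  rw [← Ideal.map_pow, hn, Ideal.zero_eq_bot, Ideal.map_bot]

theorem exists_algHom_lift [Algebra.FormallySmooth R C] (hI : IsNilpotent I)
    (φ₀ : ((R ⧸ I) ⊗[R] C) →ₐ[R ⧸ I] ((R ⧸ I) ⊗[R] A)) :
    ∃ ψ : C →ₐ[R] A, ∀ c, (1 : R ⧸ I) ⊗ₜ[R] ψ c = φ₀ ((1 : R ⧸ I) ⊗ₜ[R] c) := by
  have hs : Function.Surjective
      (Algebra.TensorProduct.includeRight : A →ₐ[R] (R ⧸ I) ⊗[R] A) := by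
    intro z
    obtain ⟨a, ha⟩ := exists_one_tmul_eq I z
    exact ⟨a, ha⟩
  refine ⟨Algebra.FormallySmooth.liftOfSurjective
    ((φ₀.restrictScalars R).comp Algebra.TensorProduct.includeRight)
    Algebra.TensorProduct.includeRight hs (isNilpotent_ker_includeRight I hI), fun c => ?_⟩
  exact Algebra.FormallySmooth.liftOfSurjective_apply
    ((φ₀.restrictScalars R).comp Algebra.TensorProduct.includeRight)
    Algebra.TensorProduct.includeRight hs (isNilpotent_ker_includeRight I hI) c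

lemma iota2_eq_distrib (t : A ⊗[R] A) :
    ConvBC.iota2 R (R ⧸ I) A t =
      AlgebraTensorModule.distribBaseChange R (R ⧸ I) A A ((1 : R ⧸ I) ⊗ₜ[R] t) := by
  rw [ConvBC.iota2_apply, MultFinite.tttc_eq_distrib]

theorem homMod_of_lift (φ₀ : ((R ⧸ I) ⊗[R] C) →ₐc[R ⧸ I] ((R ⧸ I) ⊗[R] A)) (ψ : C →ₐ[R] A)
    (hψ : ∀ c, (1 : R ⧸ I) ⊗ₜ[R] ψ c = φ₀ ((1 : R ⧸ I) ⊗ₜ[R] c)) :
    HomMod I ψ.toLinearMap := by
  intro c
  rw [mem_Sm_iff_one_tmul]
  apply (AlgebraTensorModule.distribBaseChange R (R ⧸ I) A A).injective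
  rw [← iota2_eq_distrib, ← iota2_eq_distrib, AlgHom.toLinearMap_apply, ← ConvBC.comul_one_tmul,
    hψ, ← CoalgHomClass.map_comp_comul_apply φ₀, ConvBC.comul_one_tmul]
  generalize Coalgebra.comul (R := R) c = t
  induction t using TensorProduct.induction_on with
  | zero => simp
  | tmul x y =>
    rw [ConvBC.iota2_tmul, TensorProduct.map_tmul, TensorProduct.map_tmul, ConvBC.iota2_tmul]
    change φ₀ _ ⊗ₜ[R ⧸ I] φ₀ _ = _
    rw [← hψ, ← hψ]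
    rfl
  | add a b ha hb => simp only [map_add, ha, hb]

/-- **SGA 3 IX 3.6, affine case.** -/
theorem exists_bialgHom_lift [Algebra.FormallySmooth R C] (hI : IsNilpotent I)
    (hH : SGA3b.IsMultType R A)
    (φ₀ : ((R ⧸ I) ⊗[R] C) →ₐc[R ⧸ I] ((R ⧸ I) ⊗[R] A)) :
    ∃ φ : C →ₐc[R] A, ∀ c : C, φ₀ ((1 : R ⧸ I) ⊗ₜ[R] c) = (1 : R ⧸ I) ⊗ₜ[R] (φ c) := by
  obtain ⟨ι, h1, hinv⟩ := MultIntegral.exists_integral hH
  obtain ⟨ψ, hψ⟩ := exists_algHom_lift I hI (φ₀ : ((R ⧸ I) ⊗[R] C) →ₐ[R ⧸ I] ((R ⧸ I) ⊗[R] A))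
  have hψ' : ∀ c, (1 : R ⧸ I) ⊗ₜ[R] ψ c = φ₀ ((1 : R ⧸ I) ⊗ₜ[R] c) := hψ
  obtain ⟨Φ, hΦ⟩ := exists_bialgHom ι h1 hinv hI ψ (homMod_of_lift I φ₀ ψ hψ')
  refine ⟨Φ, fun c => ?_⟩
  rw [← hψ' c]
  exact ((mem_Sm_iff_one_tmul I _ _).mp (hΦ c)).symm

end Lift

end Groth.Agent.Lib.Helper19.AvgLift
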