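import Mathlib
import Groth.Agent.Lib.Helper19.LiftStd

/-!
# Lifting étale algebras along a surjection with nil kernel (helper19)

* `exists_etale_lift_quot`: for a nil ideal `I` of `L`, an étale `L/I`-algebra `T₀` lifts to an
  étale `L`-algebra `T` with `T/IT ≃ T₀`;
* `exists_etale_lift`: the same along a surjection `L → L₀` with nil kernel, together with the
  lifting of faithful flatness and finiteness.
-/

set_option autoImplicit false
universe u
open TensorProduct

namespace Groth.Agent.Lib.Helper19.EtLift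

section Nil

variable {L : Type u} [CommRing L]

lemma map_le_nilradical {T : Type u} [CommRing T] [Algebra L T] (I : Ideal L)
    (hI : ∀ x ∈ I, IsNilpotent x) : I.map (algebraMap L T) ≤ nilradical T := by
  rw [Ideal.map_le_iff_le_comap]
  intro x hx
  rw [Ideal.mem_comap, mem_nilradical]
  exact (hI x hx).map _

lemma le_jacobson_of_nil {T : Type u} [CommRing T] (K : Ideal T)
    (hK : ∀ x ∈ K, IsNilpotent x) : K ≤ (⊥ : Ideal T).jacobson := by
  intro x hx
  rw [Ideal.mem_jacobson_bot]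
  intro y
  exact (hK _ (K.mul_mem_right y hx)).isUnit_add_one

end Nil

section Kaehler

variable (L : Type u) [CommRing L] {T : Type u} [CommRing T] [Algebra L T] (K : Ideal T)

/-- elements of `K` whose differential vanishes in `(T/K) ⊗ Ω` -/
def goodIdeal : Ideal T where
  carrier := {x | x ∈ K ∧ (1 : T ⧸ K) ⊗ₜ[T] KaehlerDifferential.D L T x = 0}
  add_mem' := by
    rintro a b ⟨ha, ha'⟩ ⟨hb, hb'⟩
    exact ⟨K.add_mem ha hb, by rw [map_add, TensorProduct.tmul_add, ha', hb', add_zero]⟩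
  zero_mem' := ⟨K.zero_mem, by rw [map_zero, TensorProduct.tmul_zero]⟩
  smul_mem' := by
    rintro c x ⟨hx, hx'⟩
    refine ⟨K.mul_mem_left c hx, ?_⟩
    have h0 : algebraMap T (T ⧸ K) x = 0 := Ideal.Quotient.eq_zero_iff_mem.2 hx
    rw [smul_eq_mul, Derivation.leibniz, TensorProduct.tmul_add, TensorProduct.tmul_smul,
      TensorProduct.tmul_smul, hx', smul_zero, zero_add, TensorProduct.smul_tmul',
      Algebra.smul_def, mul_one, h0, TensorProduct.zero_tmul]

variable {L}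

lemma map_le_goodIdeal (I : Ideal L) :
    I.map (algebraMap L T) ≤ goodIdeal L (I.map (algebraMap L T)) := by
  rw [Ideal.map_le_iff_le_comap]
  intro i hi
  show algebraMap L T i ∈ I.map (algebraMap L T) ∧
    (1 : T ⧸ I.map (algebraMap L T)) ⊗ₜ[T] KaehlerDifferential.D L T (algebraMap L T i) = 0
  refine ⟨Ideal.mem_map_of_mem _ hi, ?_⟩
  rw [Derivation.map_algebraMap, TensorProduct.tmul_zero]

lemma subsingleton_tensor (I : Ideal L)
    [Algebra.FormallyUnramified L (T ⧸ I.map (algebraMap L T))] :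
    Subsingleton ((T ⧸ I.map (algebraMap L T)) ⊗[T] Ω[T⁄L]) := by
  refine subsingleton_of_forall_eq 0 fun z => ?_
  obtain ⟨c, rfl⟩ := (KaehlerDifferential.exact_kerCotangentToTensor_mapBaseChange L T
    (T ⧸ I.map (algebraMap L T)) Ideal.Quotient.mk_surjective z).1 (Subsingleton.elim _ _)
  obtain ⟨⟨x, hx⟩, rfl⟩ := Ideal.toCotangent_surjective _ c
  rw [KaehlerDifferential.kerCotangentToTensor_toCotangent]
  have hxK : x ∈ I.map (algebraMap L T) := by
    rw [RingHom.mem_ker, Ideal.Quotient.algebraMap_eq, Ideal.Quotient.eq_zero_iff_mem] at hx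
    exact hx
  exact (map_le_goodIdeal I hxK).2

end Kaehler

theorem exists_etale_lift_quot {L : Type u} [CommRing L] (I : Ideal L)
    (hI : ∀ x ∈ I, IsNilpotent x)
    (T₀ : Type u) [CommRing T₀] [Algebra (L ⧸ I) T₀] [Algebra.Etale (L ⧸ I) T₀] :
    ∃ (T : Type u) (_ : CommRing T) (_ : Algebra L T), Algebra.Etale L T ∧
      Nonempty ((T ⧸ I.map (algebraMap L T)) ≃ₐ[L ⧸ I] T₀) := by
  haveI : Algebra.IsStandardSmoothOfRelativeDimension 0 (L ⧸ I) T₀ :=
    Algebra.Etale.iff_isStandardSmoothOfRelativeDimension_zero.1 inferInstance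
  haveI : Algebra.IsStandardSmooth (L ⧸ I) T₀ :=
    Algebra.IsStandardSmoothOfRelativeDimension.isStandardSmooth 0
  obtain ⟨T, _, _, hsm, ⟨ε⟩⟩ := LiftStd.exists_lift I (A₀ := T₀)
  refine ⟨T, inferInstance, inferInstance, ?_, ⟨ε⟩⟩
  haveI := hsm
  rw [Algebra.Etale.iff_formallyUnramified_and_smooth]
  refine ⟨⟨?_⟩, hsm⟩
  haveI : Algebra.FormallyUnramified L (T ⧸ I.map (algebraMap L T)) := by
    haveI : Algebra.Etale (L ⧸ I) (T ⧸ I.map (algebraMap L T)) := Algebra.Etale.of_equiv ε.symm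
    haveI : Algebra.FormallyUnramified L (L ⧸ I) :=
      Algebra.FormallyUnramified.of_surjective (Algebra.ofId L (L ⧸ I))
        Ideal.Quotient.mk_surjective
    exact Algebra.FormallyUnramified.comp L (L ⧸ I) (T ⧸ I.map (algebraMap L T))
  haveI := subsingleton_tensor (T := T) I
  have hsub : Subsingleton
      (Ω[T⁄L] ⧸ ((I.map (algebraMap L T)) • (⊤ : Submodule T Ω[T⁄L]))) :=
    (TensorProduct.quotTensorEquivQuotSMul Ω[T⁄L]
      (I.map (algebraMap L T))).symm.injective.subsingleton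
  have htop : (I.map (algebraMap L T)) • (⊤ : Submodule T Ω[T⁄L]) = ⊤ :=
    Submodule.Quotient.subsingleton_iff.1 hsub
  have hbot : (⊤ : Submodule T Ω[T⁄L]) = ⊥ :=
    Submodule.eq_bot_of_le_smul_of_le_jacobson_bot (I.map (algebraMap L T)) ⊤
      Module.Finite.fg_top (by rw [htop])
      (le_jacobson_of_nil _ (fun x hx => mem_nilradical.1 (map_le_nilradical I hI hx)))
  refine ⟨fun a b => ?_⟩
  have ha : a ∈ (⊥ : Submodule T Ω[T⁄L]) := hbot ▸ Submodule.mem_top
  have hb : b ∈ (⊥ : Submodule T Ω[T⁄L]) := hbot ▸ Submodule.mem_top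
  rw [(Submodule.mem_bot T).1 ha, (Submodule.mem_bot T).1 hb]

theorem exists_etale_lift {L : Type u} [CommRing L] {L₀ : Type u} [CommRing L₀] [Algebra L L₀]
    (hsurj : Function.Surjective (algebraMap L L₀))
    (hnil : ∀ x ∈ RingHom.ker (algebraMap L L₀), IsNilpotent x)
    (T₀ : Type u) [CommRing T₀] [Algebra L₀ T₀] [Algebra L T₀] [IsScalarTower L L₀ T₀]
    [Algebra.Etale L₀ T₀] :
    ∃ (T : Type u) (_ : CommRing T) (_ : Algebra L T) (φ : T →ₐ[L] T₀),
      Algebra.Etale L T ∧ Function.Surjective φ ∧ (∀ x ∈ RingHom.ker φ, IsNilpotent x) ∧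
      (Module.FaithfullyFlat L₀ T₀ → Module.FaithfullyFlat L T) ∧
      (Module.Finite L₀ T₀ → Module.Finite L T) := by
  obtain ⟨I, hIdef⟩ : ∃ I : Ideal L, I = RingHom.ker (algebraMap L L₀) := ⟨_, rfl⟩
  have hI : ∀ x ∈ I, IsNilpotent x := by rw [hIdef]; exact hnil
  letI alg1 : Algebra (L ⧸ I) L₀ :=
    (Ideal.Quotient.lift I (algebraMap L L₀) (fun a ha => by rw [hIdef] at ha; exact ha)).toAlgebra
  haveI tw1 : IsScalarTower L (L ⧸ I) L₀ := IsScalarTower.of_algebraMap_eq (fun _ => rfl)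
  have hbij : Function.Bijective (algebraMap (L ⧸ I) L₀) := by
    constructor
    · rw [injective_iff_map_eq_zero]
      intro x hx
      obtain ⟨y, rfl⟩ := Ideal.Quotient.mk_surjective x
      rw [Ideal.Quotient.eq_zero_iff_mem, hIdef, RingHom.mem_ker]
      exact hx
    · intro z
      obtain ⟨y, rfl⟩ := hsurj z
      exact ⟨Ideal.Quotient.mk I y, rfl⟩
  haveI et1 : Algebra.Etale (L ⧸ I) L₀ :=
    Algebra.Etale.of_equiv (AlgEquiv.ofBijective (Algebra.ofId (L ⧸ I) L₀) hbij)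
  letI alg2 : Algebra (L ⧸ I) T₀ :=
    ((algebraMap L₀ T₀).comp (algebraMap (L ⧸ I) L₀)).toAlgebra
  haveI tw2 : IsScalarTower (L ⧸ I) L₀ T₀ := IsScalarTower.of_algebraMap_eq (fun _ => rfl)
  haveI tw3 : IsScalarTower L (L ⧸ I) T₀ := IsScalarTower.of_algebraMap_eq (fun x => by
    show algebraMap L T₀ x = algebraMap L₀ T₀ (algebraMap L L₀ x)
    exact IsScalarTower.algebraMap_apply L L₀ T₀ x)
  haveI et2 : Algebra.Etale (L ⧸ I) T₀ := Algebra.Etale.comp (L ⧸ I) L₀ T₀
  obtain ⟨T, _, _, hTet, ⟨ε⟩⟩ := exists_etale_lift_quot I hI T₀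
  obtain ⟨φ, hφ⟩ : ∃ φ : T →ₐ[L] T₀,
      ∀ t, φ t = ε (Ideal.Quotient.mk (I.map (algebraMap L T)) t) :=
    ⟨(ε.toAlgHom.restrictScalars L).comp (Ideal.Quotient.mkₐ L (I.map (algebraMap L T))),
      fun t => rfl⟩
  have hφs : Function.Surjective φ := by
    intro y
    obtain ⟨z, rfl⟩ := ε.surjective y
    obtain ⟨t, rfl⟩ := Ideal.Quotient.mk_surjective z
    exact ⟨t, hφ t⟩
  have hker : ∀ x ∈ RingHom.ker φ, IsNilpotent x := by
    intro x hx
    rw [RingHom.mem_ker, hφ] at hx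
    have h1 : Ideal.Quotient.mk (I.map (algebraMap L T)) x = 0 :=
      ε.injective (hx.trans (map_zero ε).symm)
    exact mem_nilradical.1 (map_le_nilradical I hI (Ideal.Quotient.eq_zero_iff_mem.1 h1))
  refine ⟨T, inferInstance, inferInstance, φ, hTet, hφs, hker, ?_, ?_⟩
  · intro hff
    haveI : Algebra.Smooth L T := (Algebra.Etale.iff_formallyUnramified_and_smooth.1 hTet).2
    haveI : Module.Flat L T := inferInstance
    apply Module.FaithfullyFlat.of_comap_surjective
    intro 𝔭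
    have hIq : RingHom.ker (algebraMap L L₀) ≤ 𝔭.asIdeal := by
      intro x hx
      obtain ⟨n, hn⟩ := hnil x hx
      exact 𝔭.isPrime.mem_of_pow_mem n (by rw [hn]; exact 𝔭.asIdeal.zero_mem)
    haveI hq₀ : (Ideal.map (algebraMap L L₀) 𝔭.asIdeal).IsPrime :=
      Ideal.map_isPrime_of_surjective hsurj hIq
    obtain ⟨Q₀, hQ₀⟩ := PrimeSpectrum.comap_surjective_of_faithfullyFlat
      (A := L₀) (B := T₀) ⟨_, hq₀⟩
    refine ⟨⟨Q₀.asIdeal.comap φ, Ideal.comap_isPrime _ _⟩, ?_⟩
    apply PrimeSpectrum.ext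
    show (Q₀.asIdeal.comap φ).comap (algebraMap L T) = 𝔭.asIdeal
    have h1 : Q₀.asIdeal.comap (algebraMap L₀ T₀) = Ideal.map (algebraMap L L₀) 𝔭.asIdeal :=
      congrArg PrimeSpectrum.asIdeal hQ₀
    have h2 : (Ideal.map (algebraMap L L₀) 𝔭.asIdeal).comap (algebraMap L L₀) = 𝔭.asIdeal := by
      rw [Ideal.comap_map_of_surjective _ hsurj]
      exact sup_eq_left.2 hIq
    refine Ideal.ext fun x => ?_
    have e1 : φ (algebraMap L T x) = algebraMap L₀ T₀ (algebraMap L L₀ x) := by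
      rw [AlgHom.commutes, IsScalarTower.algebraMap_apply L L₀ T₀]
    have e2 : algebraMap L₀ T₀ (algebraMap L L₀ x) ∈ Q₀.asIdeal ↔
        algebraMap L L₀ x ∈ Ideal.map (algebraMap L L₀) 𝔭.asIdeal := by
      rw [← h1, Ideal.mem_comap]
    have e3 : algebraMap L L₀ x ∈ Ideal.map (algebraMap L L₀) 𝔭.asIdeal ↔ x ∈ 𝔭.asIdeal := by
      conv_rhs => rw [← h2]
      rw [Ideal.mem_comap]
    rw [Ideal.mem_comap, Ideal.mem_comap, e1, e2, e3]
  · intro hfin
    haveI : Algebra.FinitePresentation L T := hTet.finitePresentation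
    haveI : Module.Finite L L₀ := Module.Finite.of_surjective (Algebra.linearMap L L₀) hsurj
    haveI : Module.Finite L T₀ := Module.Finite.trans L₀ T₀
    haveI : Algebra.IsIntegral L T := by
      refine ⟨fun t => ?_⟩
      obtain ⟨p, hp, hp0⟩ := Algebra.IsIntegral.isIntegral (R := L) (φ t)
      have h1 : Polynomial.aeval t p ∈ RingHom.ker φ := by
        rw [RingHom.mem_ker, ← Polynomial.aeval_algHom_apply, Polynomial.aeval_def]
        exact hp0
      obtain ⟨n, hn⟩ := hker _ h1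
      refine ⟨p ^ n, hp.pow n, ?_⟩
      rw [← Polynomial.aeval_def, map_pow, hn]
    exact Algebra.IsIntegral.finite

end Groth.Agent.Lib.Helper19.EtLift
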