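import Mathlib
import Groth.Prelude.Def_SGA3b
import Groth.Agent.Lib.Helper19.GLift3

/-!
# A group of multiplicative type which is diagonalisable modulo a nil ideal is diagonalisable
(helper19)
-/

set_option autoImplicit false
universe u
open TensorProduct

namespace Groth.Agent.Lib.Helper19.GLift

open Groth.Agent.Lib.Helper1.MultType WithConv Coalgebra

variable {R : Type u} [CommRing R] {A : Type u} [CommRing A] [HopfAlgebra R A]

lemma GLmod_of_groupLike_quot (I : Ideal R) (a : A)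
    (h : IsGroupLikeElem (R ⧸ I) ((1 : R ⧸ I) ⊗ₜ[R] a)) : GLmod I a := by
  refine ⟨?_, ?_⟩
  · have h1 := h.counit_eq_one
    rw [TensorProduct.counit_tmul, CommSemiring.counit_apply] at h1
    have h2 : Ideal.Quotient.mk I (counit (R := R) a) = Ideal.Quotient.mk I 1 := by
      rw [map_one, ← h1, Algebra.smul_def, mul_one]; rfl
    exact Ideal.Quotient.eq.mp h2
  · have h1 := h.comul_eq_tmul_self
    rw [comul_one_tmul] at h1
    have h2 : ((1 : R ⧸ I) ⊗ₜ[R] a) ⊗ₜ[R ⧸ I] ((1 : R ⧸ I) ⊗ₜ[R] a) =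
        AlgebraTensorModule.distribBaseChange R (R ⧸ I) A A
          ((1 : R ⧸ I) ⊗ₜ[R] (a ⊗ₜ[R] a)) := by
      rw [AlgebraTensorModule.distribBaseChange_tmul]
    rw [h2] at h1
    exact (one_tmul_eq_iff I _ _).mp
      ((AlgebraTensorModule.distribBaseChange R (R ⧸ I) A A).injective h1)

section Main

variable (I : Ideal R) {M : Type u} [CommGroup M]
  (e0 : ((R ⧸ I) ⊗[R] A) ≃ₐc[R ⧸ I] MonoidAlgebra (R ⧸ I) M)

theorem exists_lifts (hI : ∀ x ∈ I, IsNilpotent x) (hA : SGA3b.IsMultType R A) :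
    ∃ g : M → A, (∀ m, IsGroupLikeElem R (g m)) ∧
      ∀ m, (1 : R ⧸ I) ⊗ₜ[R] g m = e0.symm (MonoidAlgebra.single m 1) := by
  have hlift : ∀ m : M, ∃ g : A, IsGroupLikeElem R g ∧
      (1 : R ⧸ I) ⊗ₜ[R] g = e0.symm (MonoidAlgebra.single m 1) := by
    intro m
    obtain ⟨a, ha⟩ := exists_one_tmul_eq I (e0.symm (MonoidAlgebra.single m 1))
    have hγ : IsGroupLikeElem (R ⧸ I) (e0.symm (MonoidAlgebra.single m (1 : R ⧸ I))) :=
      (MonoidAlgebra.isGroupLikeElem_single_one (R := R ⧸ I) (A := R ⧸ I) m).map e0.symm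
    rw [← ha] at hγ
    obtain ⟨g, hg, hgc⟩ := exists_groupLike_lift_of_isMultType hA I hI a
      (GLmod_of_groupLike_quot I a hγ)
    exact ⟨g, hg, hgc.trans ha⟩
  choose g hg hgc using hlift
  exact ⟨g, hg, hgc⟩

/-- the coefficient at `m` of the reduction, as an `R`-linear functional on `A` -/
noncomputable def lam (m : M) : A →ₗ[R] (R ⧸ I) :=
  ((coeffFun m).restrictScalars R) ∘ₗ
    ((e0.toCoalgEquiv.toLinearEquiv.restrictScalars R).toLinearMap ∘ₗ
      (TensorProduct.mk R (R ⧸ I) A 1))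

lemma lam_apply (m : M) (a : A) : lam I e0 m a = coeffFun m (e0 ((1 : R ⧸ I) ⊗ₜ[R] a)) := rfl

variable {I e0} (hI : ∀ x ∈ I, IsNilpotent x) (g : M → A) (hg : ∀ m, IsGroupLikeElem R (g m))
  (hgc : ∀ m, (1 : R ⧸ I) ⊗ₜ[R] g m = e0.symm (MonoidAlgebra.single m 1))

include hgc in
lemma lam_g [DecidableEq M] (m m' : M) : lam I e0 m (g m') = if m' = m then 1 else 0 := by
  rw [lam_apply, hgc m', BialgEquiv.apply_symm_apply, coeffFun_single]

namespace Chart

variable {f : R} (c : Chart R A f)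

include hg in
lemma isGroupLikeElem_X (m : M) : IsGroupLikeElem c.S (c.theta ((1 : c.S) ⊗ₜ[R] g m)) := by
  rw [c.theta_one_tmul]
  exact MultLI.isGroupLikeElem_chartHom f c.e (hg m)

include hI hg hgc in
theorem coeff_orth {m m' : M} (hne : m ≠ m') (n : c.N) :
    coeffFun n (c.theta ((1 : c.S) ⊗ₜ[R] g m)) * coeffFun n (c.theta ((1 : c.S) ⊗ₜ[R] g m')) =
      0 := by
  classical
  obtain ⟨X, hX⟩ : ∃ X : M → MonoidAlgebra c.S c.N,
      X = fun m => c.theta ((1 : c.S) ⊗ₜ[R] g m) := ⟨_, rfl⟩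
  have hXg : ∀ m, IsGroupLikeElem c.S (X m) := by
    intro m; rw [hX]; exact c.isGroupLikeElem_X g hg m
  have hXm : ∀ m, c.theta ((1 : c.S) ⊗ₜ[R] g m) = X m := fun m => by rw [hX]
  rw [hXm, hXm]
  obtain ⟨u, hu⟩ : ∃ u : c.S, u = coeffFun n (X m) * coeffFun n (X m') := ⟨_, rfl⟩
  rw [← hu]
  have hu_idem : IsIdempotentElem u := by
    rw [hu]
    exact IsIdempotentElem.mul (MultLI.coeff_idem _ (hXg m) n) (MultLI.coeff_idem _ (hXg m') n)
  have h1 : u • X m = MonoidAlgebra.single n u := by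
    rw [hu, mul_comm, mul_smul, MultLI.coeff_smul_groupLike _ (hXg m) n,
      MonoidAlgebra.smul_single']
  have h2 : u • X m' = MonoidAlgebra.single n u := by
    rw [hu, mul_smul, MultLI.coeff_smul_groupLike _ (hXg m') n, MonoidAlgebra.smul_single']
  have h3 : u • (X m - X m') = 0 := by rw [smul_sub, h1, h2, sub_self]
  have h4 : u ⊗ₜ[R] (g m - g m') = (0 : c.S ⊗[R] A) := by
    apply c.theta.injective
    have : u ⊗ₜ[R] (g m - g m') = u • ((1 : c.S) ⊗ₜ[R] (g m - g m')) := by
      rw [TensorProduct.smul_tmul', smul_eq_mul, mul_one]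
    rw [this, map_smul, TensorProduct.tmul_sub, map_sub, hXm, hXm, h3, map_zero]
  have h7 := congrArg (LinearMap.lTensor c.S (lam I e0 m)) h4
  rw [LinearMap.lTensor_tmul, map_zero, map_sub, lam_g g hgc, lam_g g hgc, if_pos rfl,
    if_neg (fun h => hne h.symm), sub_zero] at h7
  have h8 : (1 : R ⧸ I) ⊗ₜ[R] u = 0 := by
    have := congrArg (TensorProduct.comm R c.S (R ⧸ I)) h7
    rwa [TensorProduct.comm_tmul, map_zero] at this
  have h9 : u ∈ Ideal.map (algebraMap R c.S) I :=
    smulTop_le_map I ((one_tmul_eq_zero_iff I u).mp h8)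
  exact idem_eq_zero_of_mem _ (fun j hj => isNilpotent_of_mem_map I hI hj) hu_idem h9

end Chart

include hI hg hgc in
theorem injective_of_lifts (hA : SGA3b.IsMultType R A) (Φ : MonoidAlgebra R M →ₗ[R] A)
    (hΦ : ∀ m r, Φ (MonoidAlgebra.single m r) = r • g m) : Function.Injective Φ := by
  classical
  rw [injective_iff_map_eq_zero]
  intro p hp
  obtain ⟨s0, hs0, hf0⟩ := hA
  obtain ⟨s, hss, hs⟩ := (Ideal.span_eq_top_iff_finite s0).mp hs0
  have hc : ∀ f ∈ s, Nonempty (Chart R A f) :=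
    fun f hf => Chart.nonempty_of_const (hf0 f (hss hf))
  have c : ∀ f ∈ s, Chart R A f := fun f hf => Classical.choice (hc f hf)
  apply eq_zero_of_coeffFun
  intro m₀
  by_cases hm₀ : m₀ ∈ p.coeff.support
  swap
  · exact coeffFun_eq_zero_of_notMem p hm₀
  apply eq_zero_of_charts s hs c
  intro f hf
  obtain ⟨X, hX⟩ : ∃ X : M → MonoidAlgebra (c f hf).S (c f hf).N,
      X = fun m => (c f hf).theta ((1 : (c f hf).S) ⊗ₜ[R] g m) := ⟨_, rfl⟩
  have hXg : ∀ m, IsGroupLikeElem (c f hf).S (X m) := by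
    intro m; rw [hX]; exact (c f hf).isGroupLikeElem_X g hg m
  have horth : ∀ m m', m ≠ m' → ∀ n, coeffFun n (X m) * coeffFun n (X m') = 0 := by
    intro m m' hne n; rw [hX]; exact (c f hf).coeff_orth hI g hg hgc hne n
  -- the image of `Φ p` in the chart
  have hΦp : Φ p = ∑ m ∈ p.coeff.support, coeffFun m p • g m := by
    conv_lhs => rw [← sum_single_coeff p]
    rw [map_sum]
    exact Finset.sum_congr rfl fun m _ => hΦ m _
  have hsum0 : ∑ m ∈ p.coeff.support, coeffFun m p • X m = 0 := by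
    have h1 := congrArg (fun a => (c f hf).theta ((1 : (c f hf).S) ⊗ₜ[R] a)) hp
    simp only [hΦp, TensorProduct.tmul_sum, TensorProduct.tmul_smul, map_sum,
      TensorProduct.tmul_zero, map_zero] at h1
    rw [← h1, hX]
    refine Finset.sum_congr rfl fun m _ => ?_
    exact (LinearMap.map_smul_of_tower (c f hf).theta.toLinearMap (coeffFun m p) _).symm
  have hcoef : ∀ n, coeffFun m₀ p • coeffFun n (X m₀) = 0 := by
    intro n
    have h1 := congrArg (fun y => coeffFun n (X m₀) * coeffFun n y) hsum0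
    simp only [map_sum, map_zero, mul_zero, Finset.mul_sum] at h1
    rw [Finset.sum_eq_single m₀] at h1
    · rw [LinearMap.map_smul_of_tower, mul_smul_comm,
        (MultLI.coeff_idem _ (hXg m₀) n : _ * _ = _)] at h1
      exact h1
    · intro m _ hne
      rw [LinearMap.map_smul_of_tower, mul_smul_comm, horth m₀ m (Ne.symm hne) n, smul_zero]
    · intro h; exact absurd hm₀ h
  have hone : coeffFun m₀ p • (1 : (c f hf).S) = 0 := by
    have h1 : (1 : (c f hf).S) = ∑ n ∈ (X m₀).coeff.support, coeffFun n (X m₀) := by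
      rw [← counit_eq_sum, (hXg m₀).counit_eq_one]
    rw [h1, Finset.smul_sum]
    exact Finset.sum_eq_zero fun n _ => hcoef n
  have h2 : (1 : (c f hf).S) ⊗ₜ[R] (coeffFun m₀ p) =
      (coeffFun m₀ p • (1 : (c f hf).S)) ⊗ₜ[R] (1 : R) := by
    rw [TensorProduct.smul_tmul, smul_eq_mul, mul_one]
  rw [h2, hone, TensorProduct.zero_tmul]

include hI hg hgc in
theorem surjective_of_lifts (hA : SGA3b.IsMultType R A) (Φ : MonoidAlgebra R M →ₗ[R] A)
    (hΦ : ∀ m r, Φ (MonoidAlgebra.single m r) = r • g m) : Function.Surjective Φ := by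
  classical
  obtain ⟨s0, hs0, hf0⟩ := hA
  obtain ⟨s, hss, hs⟩ := (Ideal.span_eq_top_iff_finite s0).mp hs0
  have hc : ∀ f ∈ s, Nonempty (Chart R A f) :=
    fun f hf => Chart.nonempty_of_const (hf0 f (hss hf))
  have c : ∀ f ∈ s, Chart R A f := fun f hf => Classical.choice (hc f hf)
  -- surjectivity modulo `I`
  have hS1 : ∀ a : A, ∃ p : MonoidAlgebra R M,
      (1 : R ⧸ I) ⊗ₜ[R] Φ p = (1 : R ⧸ I) ⊗ₜ[R] a := by
    intro a
    have hsur : ∀ q : MonoidAlgebra (R ⧸ I) M, ∃ p : MonoidAlgebra R M,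
        (1 : R ⧸ I) ⊗ₜ[R] Φ p = e0.symm q := by
      intro q
      refine MonoidAlgebra.induction_linear q ⟨0, by simp⟩ ?_ ?_
      · rintro q₁ q₂ ⟨p₁, h₁⟩ ⟨p₂, h₂⟩
        exact ⟨p₁ + p₂, by rw [map_add, TensorProduct.tmul_add, h₁, h₂, map_add]⟩
      · intro m r
        obtain ⟨r', rfl⟩ := Ideal.Quotient.mk_surjective r
        refine ⟨MonoidAlgebra.single m r', ?_⟩
        rw [hΦ, TensorProduct.tmul_smul, hgc m, ← algebraMap_smul (R ⧸ I) r', ← map_smul,
          MonoidAlgebra.smul_single', mul_one]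
        rfl
    obtain ⟨p, hp⟩ := hsur (e0 ((1 : R ⧸ I) ⊗ₜ[R] a))
    exact ⟨p, by rw [hp, BialgEquiv.symm_apply_apply]⟩
  -- the quotient by the range
  intro a
  have hmem : a ∈ LinearMap.range Φ := by
    rw [← Submodule.Quotient.mk_eq_zero]
    apply eq_zero_of_charts s hs c
    intro f hf
    obtain ⟨X, hX⟩ : ∃ X : M → MonoidAlgebra (c f hf).S (c f hf).N,
        X = fun m => (c f hf).theta ((1 : (c f hf).S) ⊗ₜ[R] g m) := ⟨_, rfl⟩
    have hXg : ∀ m, IsGroupLikeElem (c f hf).S (X m) := by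
      intro m; rw [hX]; exact (c f hf).isGroupLikeElem_X g hg m
    have hXm : ∀ m, (c f hf).theta ((1 : (c f hf).S) ⊗ₜ[R] g m) = X m := fun m => by rw [hX]
    have horth : ∀ m m', m ≠ m' → ∀ n, coeffFun n (X m) * coeffFun n (X m') = 0 := by
      intro m m' hne n; rw [hX]; exact (c f hf).coeff_orth hI g hg hgc hne n
    obtain ⟨PS, hPS⟩ : ∃ PS : Submodule (c f hf).S ((c f hf).S ⊗[R] A),
        PS = Submodule.span (c f hf).S (Set.range fun m => (1 : (c f hf).S) ⊗ₜ[R] g m) :=
      ⟨_, rfl⟩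
    have hgen : ∀ m, (1 : (c f hf).S) ⊗ₜ[R] g m ∈ PS := fun m => by
      rw [hPS]; exact Submodule.subset_span ⟨m, rfl⟩
    -- elements `s ⊗ Φ p` are in `PS`
    have hΦmem : ∀ (p : MonoidAlgebra R M) (t : (c f hf).S), t ⊗ₜ[R] Φ p ∈ PS := by
      intro p t
      refine MonoidAlgebra.induction_linear p ?_ ?_ ?_
      · rw [map_zero, TensorProduct.tmul_zero]; exact PS.zero_mem
      · intro p₁ p₂ h₁ h₂
        rw [map_add, TensorProduct.tmul_add]; exact PS.add_mem h₁ h₂
      · intro m r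
        have : t ⊗ₜ[R] Φ (MonoidAlgebra.single m r) =
            (algebraMap R (c f hf).S r * t) • ((1 : (c f hf).S) ⊗ₜ[R] g m) := by
          rw [hΦ, TensorProduct.tmul_smul, TensorProduct.smul_tmul', TensorProduct.smul_tmul',
            smul_eq_mul, mul_one, Algebra.smul_def]
        rw [this]
        exact PS.smul_mem _ (hgen m)
    -- every element is congruent to an element of `PS`
    have hS2a : ∀ b : (c f hf).S ⊗[R] A, ∃ b' ∈ PS,
        (1 : R ⧸ I) ⊗ₜ[R] b = (1 : R ⧸ I) ⊗ₜ[R] b' := by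
      intro b
      induction b using TensorProduct.induction_on with
      | zero => exact ⟨0, PS.zero_mem, rfl⟩
      | tmul t a' =>
        obtain ⟨p, hp⟩ := hS1 a'
        exact ⟨t ⊗ₜ[R] Φ p, hΦmem p t, (cong_map I (TensorProduct.mk R (c f hf).S A t) hp).symm⟩
      | add b₁ b₂ h₁ h₂ =>
        obtain ⟨b₁', hb₁, e₁⟩ := h₁
        obtain ⟨b₂', hb₂, e₂⟩ := h₂
        exact ⟨b₁' + b₂', PS.add_mem hb₁ hb₂, by
          rw [TensorProduct.tmul_add, TensorProduct.tmul_add, e₁, e₂]⟩
    -- each `thetaB (single n 1)` lies in `PS`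
    have hS2 : ∀ n : (c f hf).N, (c f hf).thetaB (MonoidAlgebra.single n 1) ∈ PS := by
      intro n
      obtain ⟨b', hb', hcong⟩ := hS2a ((c f hf).thetaB (MonoidAlgebra.single n 1))
      rw [hPS] at hb'
      obtain ⟨t, ht⟩ := (Finsupp.mem_span_range_iff_exists_finsupp).mp hb'
      -- coefficient `n` of `θ b'`
      have hθb' : (c f hf).theta b' = ∑ m ∈ t.support, t m • X m := by
        rw [← ht, Finsupp.sum, map_sum]
        exact Finset.sum_congr rfl fun m _ => by rw [map_smul, hXm]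
      have hcn : (1 : (c f hf).S) - ∑ m ∈ t.support, t m * coeffFun n (X m) ∈
          Ideal.map (algebraMap R (c f hf).S) I := by
        have h1 := cong_map I (((coeffFun n).restrictScalars R) ∘ₗ
          ((c f hf).theta.restrictScalars R).toLinearMap) hcong
        have h2 := sub_mem_map_of_cong I h1
        simp only [LinearMap.comp_apply, LinearMap.restrictScalars_apply, LinearEquiv.coe_coe,
          LinearEquiv.restrictScalars_apply, Chart.theta_thetaB, hθb', map_sum, map_smul,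
          smul_eq_mul, coeffFun_single, if_true] at h2
        exact h2
      obtain ⟨v, hv⟩ : ∃ v : (c f hf).S, v = ∑ m ∈ t.support, coeffFun n (X m) := ⟨_, rfl⟩
      have hCv : ∀ m ∈ t.support, coeffFun n (X m) * v = coeffFun n (X m) := by
        intro m hm
        rw [hv, Finset.mul_sum, Finset.sum_eq_single m]
        · exact MultLI.coeff_idem _ (hXg m) n
        · intro m' _ hne; exact horth m m' (Ne.symm hne) n
        · intro h; exact absurd hm h
      have hv_idem : IsIdempotentElem v := by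
        unfold IsIdempotentElem
        conv_lhs => rw [hv, Finset.sum_mul]
        rw [hv]
        exact Finset.sum_congr rfl fun m hm => by rw [← hv]; exact hCv m hm
      have hv1 : v = 1 := by
        have h1 : (1 - v) * ((1 : (c f hf).S) - ∑ m ∈ t.support, t m * coeffFun n (X m)) =
            1 - v := by
          have h2 : (∑ m ∈ t.support, t m * coeffFun n (X m)) * (1 - v) = 0 := by
            rw [Finset.sum_mul]
            refine Finset.sum_eq_zero fun m hm => ?_
            rw [mul_assoc, mul_sub, mul_one, hCv m hm, sub_self, mul_zero]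
          rw [mul_sub, mul_one, mul_comm (1 - v), h2, sub_zero]
        have h3 : (1 - v) ∈ Ideal.map (algebraMap R (c f hf).S) I := by
          rw [← h1]; exact Ideal.mul_mem_left _ _ hcn
        have h4 := idem_eq_zero_of_mem _ (fun j hj => isNilpotent_of_mem_map I hI hj)
          hv_idem.one_sub h3
        exact (sub_eq_zero.mp h4).symm
      have h5 : (MonoidAlgebra.single n 1 : MonoidAlgebra (c f hf).S (c f hf).N) =
          ∑ m ∈ t.support, coeffFun n (X m) • X m := by
        have : ∀ m ∈ t.support, coeffFun n (X m) • X m =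
            MonoidAlgebra.single n (coeffFun n (X m)) :=
          fun m _ => MultLI.coeff_smul_groupLike _ (hXg m) n
        rw [Finset.sum_congr rfl this, ← hv1, hv]
        exact map_sum (MonoidAlgebra.singleAddHom n) _ _
      rw [h5, map_sum, hPS]
      refine Submodule.sum_mem _ fun m _ => ?_
      rw [map_smul, ← hXm, Chart.thetaB_theta]
      exact Submodule.smul_mem _ _ (Submodule.subset_span ⟨m, rfl⟩)
    have hPStop : PS = ⊤ := by
      rw [eq_top_iff]
      intro z _
      have hz : z = (c f hf).thetaB ((c f hf).theta z) := ((c f hf).thetaB_theta z).symm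
      rw [hz, ← sum_single_coeff ((c f hf).theta z), map_sum]
      refine Submodule.sum_mem _ fun n _ => ?_
      have : (MonoidAlgebra.single n (coeffFun n ((c f hf).theta z)) :
          MonoidAlgebra (c f hf).S (c f hf).N) =
          coeffFun n ((c f hf).theta z) • MonoidAlgebra.single n 1 := by
        rw [MonoidAlgebra.smul_single', mul_one]
      rw [this, map_smul]
      exact PS.smul_mem _ (hS2 n)
    -- conclude
    have hker : PS ≤ LinearMap.ker
        (LinearMap.baseChange (c f hf).S (LinearMap.range Φ).mkQ) := by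
      rw [hPS, Submodule.span_le]
      rintro _ ⟨m, rfl⟩
      rw [SetLike.mem_coe, LinearMap.mem_ker, LinearMap.baseChange_tmul]
      have : (LinearMap.range Φ).mkQ (g m) = 0 := by
        rw [Submodule.mkQ_apply, Submodule.Quotient.mk_eq_zero]
        exact ⟨MonoidAlgebra.single m 1, by rw [hΦ, one_smul]⟩
      rw [this, TensorProduct.tmul_zero]
    have h6 : (1 : (c f hf).S) ⊗ₜ[R] a ∈ PS := hPStop ▸ Submodule.mem_top
    have h7 := LinearMap.mem_ker.mp (hker h6)
    rw [LinearMap.baseChange_tmul] at h7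
    exact h7
  exact hmem

end Main

theorem isDiag_of_isDiag_mod_nil (I : Ideal R) (hI : ∀ x ∈ I, IsNilpotent x)
    (h : SGA3b.IsMultType R A) (h0 : SGA3b.IsDiag (R ⧸ I) ((R ⧸ I) ⊗[R] A)) :
    SGA3b.IsDiag R A := by
  obtain ⟨M, _, ⟨e0⟩⟩ := h0
  obtain ⟨g, hg, hgc⟩ := exists_lifts I e0 hI h
  let φ : M →* GroupLike R A :=
    { toFun := fun m => ⟨g m, hg m⟩
      map_one' := by
        apply GroupLike.val_injective
        show g 1 = 1
        refine groupLike_unique_of_cong h I hI _ _ (hg 1) IsGroupLikeElem.one ?_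
        rw [hgc 1, ← MonoidAlgebra.one_def, map_one, Algebra.TensorProduct.one_def]
      map_mul' := fun m m' => by
        apply GroupLike.val_injective
        show g (m * m') = g m * g m'
        refine groupLike_unique_of_cong h I hI _ _ (hg _) ((hg m).mul (hg m')) ?_
        have : (1 : R ⧸ I) ⊗ₜ[R] (g m * g m') =
            ((1 : R ⧸ I) ⊗ₜ[R] g m) * ((1 : R ⧸ I) ⊗ₜ[R] g m') := by
          rw [Algebra.TensorProduct.tmul_mul_tmul, one_mul]
        rw [this, hgc, hgc, hgc, ← map_mul, MonoidAlgebra.single_mul_single, one_mul] }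
  let Φ : MonoidAlgebra R M →ₐc[R] A :=
    (MonoidAlgebra.liftGroupLikeBialgHom (R := R) (A := A)).comp
      (MonoidAlgebra.mapDomainBialgHom R φ)
  have hΦ : ∀ m r, (Φ : MonoidAlgebra R M →ₗ[R] A) (MonoidAlgebra.single m r) = r • g m := by
    intro m r
    simp [Φ, φ, MonoidAlgebra.mapDomainBialgHom_single, MonoidAlgebra.lift_single]
  have hinj := injective_of_lifts hI g hg hgc h (Φ : MonoidAlgebra R M →ₗ[R] A) hΦ
  have hsurj := surjective_of_lifts hI g hg hgc h (Φ : MonoidAlgebra R M →ₗ[R] A) hΦ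
  exact ⟨M, inferInstance, ⟨(BialgEquiv.ofBijective Φ ⟨hinj, hsurj⟩).symm⟩⟩

end Groth.Agent.Lib.Helper19.GLift
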