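import Mathlib
import Groth.Prelude.Def_SGA3b
import Groth.Agent.Lib.Helper19.GLift3

/-!
# Kernels of homomorphisms of groups of multiplicative type, part 1 (helper19)

* `tm ρ`: the base change map `T ⊗ B → T' ⊗ B` along `ρ : T → T'`;
* `GLB R T B G`: a `T`-basis of `T ⊗[R] B` consisting of group-like elements, indexed
  multiplicatively by the group `G` (a diagonalisation of `T ⊗ B` of type `G`);
  `GLB.equiv`, `GLB.ofEquiv`, `GLB.map`, `GLB.congr`, uniqueness of the type over a domain;
* `exists_prime_tensor`, `Chart.exists_prime`.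
-/

set_option autoImplicit false
universe u
open TensorProduct

namespace Groth.Agent.Lib.Helper19.KerMT

open Groth.Agent.Lib.Helper1.MultType Groth.Agent.Lib.Helper19.GLift

attribute [local instance] Classical.propDecidable

section TMap

variable {R : Type u} [CommRing R] {B : Type u} [CommRing B] [Algebra R B]
  {T T' : Type u} [CommRing T] [Algebra R T] [CommRing T'] [Algebra R T']

/-- the base change map `T ⊗ B → T' ⊗ B` -/
noncomputable abbrev tm (ρ : T →ₐ[R] T') : T ⊗[R] B →ₐ[R] T' ⊗[R] B :=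
  Algebra.TensorProduct.map ρ (AlgHom.id R B)

lemma tm_tmul (ρ : T →ₐ[R] T') (t : T) (b : B) : tm ρ (t ⊗ₜ[R] b) = ρ t ⊗ₜ[R] b := by
  simp [tm]

lemma tm_smul (ρ : T →ₐ[R] T') (t : T) (z : T ⊗[R] B) :
    tm ρ (t • z) = ρ t • tm (B := B) ρ z := by
  induction z using TensorProduct.induction_on with
  | zero => simp
  | tmul s b =>
    rw [TensorProduct.smul_tmul', tm_tmul, tm_tmul, TensorProduct.smul_tmul', smul_eq_mul,
      smul_eq_mul, map_mul]
  | add x y hx hy => simp only [smul_add, map_add, hx, hy]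

lemma tm_surjective (ρ : T →ₐ[R] T') (hρ : Function.Surjective ρ) :
    Function.Surjective (tm (B := B) ρ) := by
  intro z
  induction z using TensorProduct.induction_on with
  | zero => exact ⟨0, map_zero _⟩
  | tmul t b =>
    obtain ⟨t', rfl⟩ := hρ t
    exact ⟨t' ⊗ₜ[R] b, tm_tmul ρ t' b⟩
  | add x y hx hy =>
    obtain ⟨x', rfl⟩ := hx
    obtain ⟨y', rfl⟩ := hy
    exact ⟨x' + y', map_add _ _ _⟩

lemma cancel_one_tmul [Algebra T T'] [IsScalarTower R T T'] (z : T ⊗[R] B) :
    TensorProduct.AlgebraTensorModule.cancelBaseChange R T T' T' B ((1 : T') ⊗ₜ[T] z) =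
      tm (IsScalarTower.toAlgHom R T T') z := by
  induction z using TensorProduct.induction_on with
  | zero => simp
  | tmul t b =>
    rw [TensorProduct.AlgebraTensorModule.cancelBaseChange_tmul, tm_tmul]
    simp [Algebra.smul_def]
  | add x y hx hy => rw [TensorProduct.tmul_add, map_add, map_add, hx, hy]

end TMap

/-- A `T`-basis of `T ⊗[R] B` consisting of group-like elements, indexed multiplicatively by the
group `G`. -/
structure GLB (R : Type u) [CommRing R] (T : Type u) [CommRing T] [Algebra R T]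
    (B : Type u) [CommRing B] [HopfAlgebra R B] (G : Type u) [CommGroup G] where
  χ : G → T ⊗[R] B
  map_one : χ 1 = 1
  map_mul : ∀ g h, χ (g * h) = χ g * χ h
  gl : ∀ g, IsGroupLikeElem T (χ g)
  li : LinearIndependent T χ
  sp : Submodule.span T (Set.range χ) = ⊤

namespace GLB

variable {R : Type u} [CommRing R] {T : Type u} [CommRing T] [Algebra R T]
  {B : Type u} [CommRing B] [HopfAlgebra R B] {G : Type u} [CommGroup G] (d : GLB R T B G)

/-- the characters as a monoid homomorphism to the group-like elements -/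
noncomputable def hom : G →* GroupLike T (T ⊗[R] B) where
  toFun g := ⟨d.χ g, d.gl g⟩
  map_one' := GroupLike.val_injective d.map_one
  map_mul' g h := GroupLike.val_injective (d.map_mul g h)

/-- the bialgebra map `T[G] → T ⊗ B` -/
noncomputable def Phi : MonoidAlgebra T G →ₐc[T] T ⊗[R] B :=
  (MonoidAlgebra.liftGroupLikeBialgHom (R := T) (A := T ⊗[R] B)).comp
    (MonoidAlgebra.mapDomainBialgHom T d.hom)

lemma Phi_single (g : G) (t : T) : d.Phi (MonoidAlgebra.single g t) = t • d.χ g := by
  simp [Phi, hom, MonoidAlgebra.mapDomainBialgHom_single, MonoidAlgebra.lift_single]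

lemma Phi_apply (x : MonoidAlgebra T G) :
    d.Phi x = ∑ g ∈ x.coeff.support, coeffFun g x • d.χ g := by
  conv_lhs => rw [← sum_single_coeff x]
  rw [map_sum]
  exact Finset.sum_congr rfl fun g _ => d.Phi_single g _

lemma Phi_injective : Function.Injective d.Phi := by
  rw [injective_iff_map_eq_zero]
  intro x hx
  rw [Phi_apply] at hx
  have h := linearIndependent_iff'.mp d.li x.coeff.support (fun g => coeffFun g x) hx
  apply eq_zero_of_coeffFun
  intro g
  by_cases hg : g ∈ x.coeff.support
  · exact h g hg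
  · exact coeffFun_eq_zero_of_notMem x hg

lemma Phi_surjective : Function.Surjective d.Phi := by
  intro z
  have hz : z ∈ Submodule.span T (Set.range d.χ) := by rw [d.sp]; exact Submodule.mem_top
  induction hz using Submodule.span_induction with
  | mem x hx =>
    obtain ⟨g, rfl⟩ := hx
    exact ⟨MonoidAlgebra.single g 1, by rw [Phi_single, one_smul]⟩
  | zero => exact ⟨0, map_zero _⟩
  | add x y _ _ hx hy =>
    obtain ⟨x', rfl⟩ := hx
    obtain ⟨y', rfl⟩ := hy
    exact ⟨x' + y', map_add _ _ _⟩
  | smul t x _ hx =>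
    obtain ⟨x', rfl⟩ := hx
    exact ⟨t • x', map_smul _ _ _⟩

/-- the diagonalisation as a bialgebra isomorphism -/
noncomputable def equiv : MonoidAlgebra T G ≃ₐc[T] T ⊗[R] B :=
  BialgEquiv.ofBijective d.Phi ⟨d.Phi_injective, d.Phi_surjective⟩

lemma equiv_apply (x : MonoidAlgebra T G) : d.equiv x = d.Phi x := rfl

lemma equiv_single (g : G) : d.equiv (MonoidAlgebra.single g 1) = d.χ g := by
  rw [equiv_apply, Phi_single, one_smul]

include d in
lemma isDiag : SGA3b.IsDiag T (T ⊗[R] B) := ⟨G, inferInstance, ⟨d.equiv.symm⟩⟩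

/-- a diagonalisation from a bialgebra isomorphism -/
noncomputable def ofEquiv (e : MonoidAlgebra T G ≃ₐc[T] T ⊗[R] B) : GLB R T B G where
  χ g := e (MonoidAlgebra.single g 1)
  map_one := by rw [← MonoidAlgebra.one_def, _root_.map_one]
  map_mul g h := by rw [← _root_.map_mul, MonoidAlgebra.single_mul_single, one_mul]
  gl g := (MonoidAlgebra.isGroupLikeElem_single_one (R := T) (A := T) g).map e
  li := by
    rw [linearIndependent_iff']
    intro s c hc g hg
    have h1 : e (∑ i ∈ s, MonoidAlgebra.single i (c i)) = 0 := by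
      rw [map_sum, ← hc]
      refine Finset.sum_congr rfl fun i _ => ?_
      rw [← map_smul, MonoidAlgebra.smul_single', mul_one]
    have h2 : ∑ i ∈ s, MonoidAlgebra.single i (c i) = (0 : MonoidAlgebra T G) :=
      EquivLike.injective e (h1.trans (map_zero e).symm)
    have h3 := congrArg (coeffFun g) h2
    rw [map_sum, map_zero, Finset.sum_eq_single g] at h3
    · rwa [coeffFun_single, if_pos rfl] at h3
    · intro i _ hne; rw [coeffFun_single, if_neg hne]
    · intro h; exact absurd hg h
  sp := by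
    rw [eq_top_iff]
    intro z _
    obtain ⟨x, rfl⟩ := EquivLike.surjective e z
    rw [← sum_single_coeff x, map_sum]
    refine Submodule.sum_mem _ fun g _ => ?_
    have : (MonoidAlgebra.single g (coeffFun g x) : MonoidAlgebra T G) =
        coeffFun g x • MonoidAlgebra.single g 1 := by
      rw [MonoidAlgebra.smul_single', mul_one]
    rw [this, map_smul]
    exact Submodule.smul_mem _ _ (Submodule.subset_span ⟨g, rfl⟩)

lemma map_li_sp {T' : Type u} [CommRing T'] [Algebra R T'] (ρ : T →ₐ[R] T') :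
    LinearIndependent T' (fun g => tm ρ (d.χ g)) ∧
      Submodule.span T' (Set.range fun g => tm ρ (d.χ g)) = ⊤ := by
  let _ : Algebra T T' := ρ.toRingHom.toAlgebra
  have : IsScalarTower R T T' := IsScalarTower.of_algebraMap_eq fun r => (ρ.commutes r).symm
  have hρ : IsScalarTower.toAlgHom R T T' = ρ := by ext t; rfl
  let b : Module.Basis G T (T ⊗[R] B) := Module.Basis.mk d.li d.sp.ge
  let b'' : Module.Basis G T' (T' ⊗[R] B) :=
    (b.baseChange T').map (TensorProduct.AlgebraTensorModule.cancelBaseChange R T T' T' B)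
  have key : (b'' : G → T' ⊗[R] B) = fun g => tm ρ (d.χ g) := by
    funext g
    rw [Module.Basis.map_apply, Module.Basis.baseChange_apply, Module.Basis.mk_apply,
      cancel_one_tmul, hρ]
  refine ⟨?_, ?_⟩
  · have := b''.linearIndependent
    rwa [key] at this
  · have := b''.span_eq
    rwa [key] at this

/-- base change of a diagonalisation -/
noncomputable def map {T' : Type u} [CommRing T'] [Algebra R T'] (ρ : T →ₐ[R] T') :
    GLB R T' B G where
  χ g := tm ρ (d.χ g)
  map_one := by rw [d.map_one, _root_.map_one]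
  map_mul g h := by rw [d.map_mul, _root_.map_mul]
  gl g := groupLike_map ρ (d.gl g)
  li := (d.map_li_sp ρ).1
  sp := (d.map_li_sp ρ).2

lemma map_χ {T' : Type u} [CommRing T'] [Algebra R T'] (ρ : T →ₐ[R] T') (g : G) :
    (d.map ρ).χ g = tm ρ (d.χ g) := rfl

/-- change of the indexing group -/
noncomputable def congr {G' : Type u} [CommGroup G'] (ε : G' ≃* G) : GLB R T B G' where
  χ g := d.χ (ε g)
  map_one := by rw [_root_.map_one, d.map_one]
  map_mul g h := by rw [_root_.map_mul, d.map_mul]
  gl g := d.gl (ε g)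
  li := d.li.comp ε ε.injective
  sp := by
    have : (Set.range fun g => d.χ (ε g)) = Set.range d.χ := by
      ext z
      constructor
      · rintro ⟨g, rfl⟩; exact ⟨ε g, rfl⟩
      · rintro ⟨g, rfl⟩; exact ⟨ε.symm g, by simp⟩
    rw [this, d.sp]

end GLB

section Unique

variable {R : Type u} [CommRing R] {B : Type u} [CommRing B] [HopfAlgebra R B]

theorem nonempty_mulEquiv_of_isDomain {D : Type u} [CommRing D] [IsDomain D] [Algebra R D]
    {G₁ G₂ : Type u} [CommGroup G₁] [CommGroup G₂] (d₁ : GLB R D B G₁) (d₂ : GLB R D B G₂) :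
    Nonempty (G₁ ≃* G₂) := by
  let E : MonoidAlgebra D G₁ ≃ₐc[D] MonoidAlgebra D G₂ := d₁.equiv.trans d₂.equiv.symm
  let f : G₁ →* G₂ := MonoidAlgebra.mapDomainOfBialgHom E.toBialgHom
  let f' : G₂ →* G₁ := MonoidAlgebra.mapDomainOfBialgHom E.symm.toBialgHom
  have h1 : f'.comp f = MonoidHom.id _ := by
    ext g
    apply MonoidAlgebra.single_left_injective (R := D) (one_ne_zero (α := D))
    show MonoidAlgebra.single (f' (f g)) (1 : D) = MonoidAlgebra.single g 1
    rw [MonoidAlgebra.single_mapDomainOfBialgHom, MonoidAlgebra.single_mapDomainOfBialgHom]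
    exact E.symm_apply_apply _
  have h2 : f.comp f' = MonoidHom.id _ := by
    ext g
    apply MonoidAlgebra.single_left_injective (R := D) (one_ne_zero (α := D))
    show MonoidAlgebra.single (f (f' g)) (1 : D) = MonoidAlgebra.single g 1
    rw [MonoidAlgebra.single_mapDomainOfBialgHom, MonoidAlgebra.single_mapDomainOfBialgHom]
    exact E.apply_symm_apply _
  exact ⟨MonoidHom.toMulEquiv f f' h1 h2⟩

end Unique

section Primes

open AlgebraicGeometry CategoryTheory CategoryTheory.Limits

/-- Two primes with the same contraction to the base come from a prime of the tensor product. -/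
theorem exists_prime_tensor {R R₁ R₂ : Type u} [CommRing R] [CommRing R₁] [CommRing R₂]
    [Algebra R R₁] [Algebra R R₂] (P₁ : Ideal R₁) [P₁.IsPrime] (P₂ : Ideal R₂) [P₂.IsPrime]
    (h : P₁.comap (algebraMap R R₁) = P₂.comap (algebraMap R R₂)) :
    ∃ P : Ideal (R₁ ⊗[R] R₂), P.IsPrime ∧ P.comap (algebraMap R₁ (R₁ ⊗[R] R₂)) = P₁ ∧
      P.comap (Algebra.TensorProduct.includeRight : R₂ →ₐ[R] R₁ ⊗[R] R₂).toRingHom = P₂ := by
  let x₁ : Spec (CommRingCat.of R₁) := (⟨P₁, inferInstance⟩ : PrimeSpectrum R₁)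
  let x₂ : Spec (CommRingCat.of R₂) := (⟨P₂, inferInstance⟩ : PrimeSpectrum R₂)
  have hx : Spec.map (CommRingCat.ofHom (algebraMap R R₁)) x₁ =
      Spec.map (CommRingCat.ofHom (algebraMap R R₂)) x₂ := PrimeSpectrum.ext h
  obtain ⟨z, hz1, hz2⟩ := Scheme.Pullback.exists_preimage_pullback x₁ x₂ hx
  let w : Spec (CommRingCat.of (R₁ ⊗[R] R₂)) := (pullbackSpecIso R R₁ R₂).hom z
  have hw1 : Spec.map (CommRingCat.ofHom (algebraMap R₁ (R₁ ⊗[R] R₂))) w = x₁ := by
    rw [← hz1, ← pullbackSpecIso_hom_fst' R R₁ R₂, Scheme.Hom.comp_apply]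
  have hw2 : Spec.map (CommRingCat.ofHom
      (Algebra.TensorProduct.includeRight : R₂ →ₐ[R] R₁ ⊗[R] R₂).toRingHom) w = x₂ := by
    rw [← hz2, ← pullbackSpecIso_hom_snd R R₁ R₂, Scheme.Hom.comp_apply]
    rfl
  refine ⟨w.asIdeal, w.isPrime, ?_, ?_⟩
  · exact congrArg PrimeSpectrum.asIdeal hw1
  · exact congrArg PrimeSpectrum.asIdeal hw2

variable {R : Type u} [CommRing R] {A : Type u} [CommRing A] [HopfAlgebra R A]

lemma _root_.Groth.Agent.Lib.Helper19.GLift.Chart.exists_prime {f : R} (c : Chart R A f)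
    (q : Ideal R) [hq : q.IsPrime] (hf : f ∉ q) :
    ∃ Q : Ideal c.S, Q.IsPrime ∧ Q.comap (algebraMap R c.S) = q := by
  have hdisj : Disjoint (Submonoid.powers f : Set R) (q : Set R) := by
    rw [Set.disjoint_left]
    rintro _ ⟨n, rfl⟩ hqn
    exact hf (hq.mem_of_pow_mem n hqn)
  have hq' : (Ideal.map (algebraMap R (Localization.Away f)) q).IsPrime :=
    IsLocalization.isPrime_of_isPrime_disjoint (Submonoid.powers f) _ q hq hdisj
  obtain ⟨Q, hQ⟩ := PrimeSpectrum.comap_surjective_of_faithfullyFlat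
    (A := Localization.Away f) (B := c.S) ⟨_, hq'⟩
  refine ⟨Q.asIdeal, Q.isPrime, ?_⟩
  have h1 : Q.asIdeal.comap (algebraMap (Localization.Away f) c.S) =
      Ideal.map (algebraMap R (Localization.Away f)) q := congrArg PrimeSpectrum.asIdeal hQ
  have h2 : algebraMap R c.S =
      (algebraMap (Localization.Away f) c.S).comp (algebraMap R (Localization.Away f)) := rfl
  rw [h2, ← Ideal.comap_comap, h1]
  exact IsLocalization.under_map_of_isPrime_disjoint (Submonoid.powers f) _ hq hdisj

end Primes

end Groth.Agent.Lib.Helper19.KerMT
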