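import Mathlib
import Groth.Prelude.Def_SGA3b
import Groth.Agent.Lib.Helper19.KerMT1

/-!
# Kernels of homomorphisms of groups of multiplicative type, part 2 (helper19)

* `ker_mk_iff`: the kernel of `T[M] → T[M/H]`, `H` generated by the `m j`, is generated by the
  `m j - 1`;
* `nonempty_glb_quot`: the quotient of a diagonalised Hopf algebra by "constant" group-like relations
  is diagonalised by the quotient group;
* `Sig`, `ee`: the decomposition of the base ring by the coefficients of finitely many group-like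
  elements of a group algebra.
-/

set_option autoImplicit false
universe u
open TensorProduct

namespace Groth.Agent.Lib.Helper19.KerMT

open Groth.Agent.Lib.Helper1.MultType Groth.Agent.Lib.Helper19.GLift
open Groth.Agent.Lib.Helper19

attribute [local instance] Classical.propDecidable

section Gen

lemma mem_span_of_map {X Y : Type*} [CommRing X] [CommRing Y] {F : Type*} [FunLike F X Y]
    [RingHomClass F X Y] (r : F) {ι : Type*} (a : ι → X) (b : ι → Y) (hab : ∀ j, r (a j) = b j)
    {x : X} (hx : x ∈ Ideal.span (Set.range a)) : r x ∈ Ideal.span (Set.range b) := by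
  have h1 : (r : X →+* Y) x ∈ Ideal.map (r : X →+* Y) (Ideal.span (Set.range a)) :=
    Ideal.mem_map_of_mem (r : X →+* Y) hx
  rw [Ideal.map_span] at h1
  refine Ideal.span_mono ?_ h1
  rintro _ ⟨_, ⟨j, rfl⟩, rfl⟩
  exact ⟨j, (hab j).symm⟩

lemma eq_one_of_idem_of_mul_eq_one {X : Type*} [CommRing X] {u v : X} (hu : u * u = u)
    (h : u * v = 1) : u = 1 :=
  calc u = u * (u * v) := by rw [h, mul_one]
    _ = (u * u) * v := by ring
    _ = u * v := by rw [hu]
    _ = 1 := h

variable {T : Type u} [CommRing T]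

theorem nonempty_equiv_of_ker_iff {B C₁ C₂ : Type u} [CommRing B] [CommRing C₁] [CommRing C₂]
    [Bialgebra T B] [Bialgebra T C₁] [Bialgebra T C₂]
    (p₁ : B →ₐc[T] C₁) (p₂ : B →ₐc[T] C₂) (h₁ : Function.Surjective p₁)
    (h₂ : Function.Surjective p₂) (hk : ∀ x, p₁ x = 0 ↔ p₂ x = 0) :
    Nonempty (C₁ ≃ₐc[T] C₂) := by
  have H : RingHom.ker (p₁ : B →ₐ[T] C₁).toRingHom ≤ RingHom.ker (p₂ : B →ₐ[T] C₂).toRingHom :=
    fun x hx => (RingHom.mem_ker).2 ((hk x).1 ((RingHom.mem_ker).1 hx))
  let φ : C₁ →ₐ[T] C₂ := AlgHom.liftOfSurjective (p₁ : B →ₐ[T] C₁) h₁ (p₂ : B →ₐ[T] C₂) H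
  have hφ : ∀ b, φ (p₁ b) = p₂ b := fun b =>
    AlgHom.liftOfSurjective_apply (p₁ : B →ₐ[T] C₁) h₁ (p₂ : B →ₐ[T] C₂) H b
  have hcounit : (Bialgebra.counitAlgHom T C₂).comp φ = Bialgebra.counitAlgHom T C₁ := by
    apply AlgHom.ext
    intro c
    obtain ⟨b, rfl⟩ := h₁ c
    show Coalgebra.counit (R := T) (φ (p₁ b)) = Coalgebra.counit (R := T) (p₁ b)
    rw [hφ, CoalgHomClass.counit_comp_apply, CoalgHomClass.counit_comp_apply]
  have hcomul : (Algebra.TensorProduct.map φ φ).comp (Bialgebra.comulAlgHom T C₁) =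
      (Bialgebra.comulAlgHom T C₂).comp φ := by
    apply AlgHom.ext
    intro c
    obtain ⟨b, rfl⟩ := h₁ c
    show Algebra.TensorProduct.map φ φ (Coalgebra.comul (R := T) (p₁ b)) =
      Coalgebra.comul (R := T) (φ (p₁ b))
    have e1 := CoalgHomClass.map_comp_comul_apply p₁ b
    have e2 := CoalgHomClass.map_comp_comul_apply p₂ b
    rw [hφ, ← e1, ← e2]
    generalize Coalgebra.comul (R := T) b = t
    induction t using TensorProduct.induction_on with
    | zero => simp only [map_zero]
    | tmul x y =>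
      show φ (p₁ x) ⊗ₜ[T] φ (p₁ y) = p₂ x ⊗ₜ[T] p₂ y
      rw [hφ, hφ]
    | add t t' ht ht' => simp only [map_add, ht, ht']
  let Φ : C₁ →ₐc[T] C₂ := BialgHom.ofAlgHom φ hcounit hcomul
  have hbij : Function.Bijective Φ := by
    constructor
    · apply (injective_iff_map_eq_zero φ).2
      intro c hc
      obtain ⟨b, rfl⟩ := h₁ c
      rw [hφ] at hc
      exact (hk b).2 hc
    · intro c
      obtain ⟨b, rfl⟩ := h₂ c
      exact ⟨p₁ b, hφ b⟩
  exact ⟨BialgEquiv.ofBijective Φ hbij⟩

end Gen

section GroupAlg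

variable {T : Type u} [CommRing T] {M : Type u} [CommGroup M]

lemma single_sub_one_mem {ι : Type*} (m : ι → M) (h : M)
    (hh : h ∈ Subgroup.closure (Set.range m)) :
    (MonoidAlgebra.single h 1 - 1 : MonoidAlgebra T M) ∈
      Ideal.span (Set.range fun j => (MonoidAlgebra.single (m j) 1 - 1 : MonoidAlgebra T M)) := by
  induction hh using Subgroup.closure_induction with
  | mem x hx =>
    obtain ⟨j, rfl⟩ := hx
    exact Ideal.subset_span ⟨j, rfl⟩
  | one =>
    rw [← MonoidAlgebra.one_def, sub_self]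
    exact Ideal.zero_mem _
  | mul a b _ _ ha hb =>
    have : (MonoidAlgebra.single (a * b) 1 - 1 : MonoidAlgebra T M) =
        MonoidAlgebra.single a 1 * (MonoidAlgebra.single b 1 - 1) +
          (MonoidAlgebra.single a 1 - 1) := by
      rw [mul_sub, MonoidAlgebra.single_mul_single, mul_one, mul_one]
      abel
    rw [this]
    exact Ideal.add_mem _ (Ideal.mul_mem_left _ _ hb) ha
  | inv a _ ha =>
    have : (MonoidAlgebra.single a⁻¹ 1 - 1 : MonoidAlgebra T M) =
        -(MonoidAlgebra.single a⁻¹ 1 * (MonoidAlgebra.single a 1 - 1)) := by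
      rw [mul_sub, MonoidAlgebra.single_mul_single, mul_one, mul_one, inv_mul_cancel,
        ← MonoidAlgebra.one_def]
      abel
    rw [this]
    exact neg_mem (Ideal.mul_mem_left _ _ ha)

lemma q_surj (H : Subgroup M) :
    Function.Surjective (MonoidAlgebra.mapDomainBialgHom T (QuotientGroup.mk' H)) := by
  intro z
  induction z using MonoidAlgebra.induction_linear with
  | zero => exact ⟨0, map_zero _⟩
  | add z w hz hw =>
    obtain ⟨z', rfl⟩ := hz
    obtain ⟨w', rfl⟩ := hw
    exact ⟨z' + w', map_add _ _ _⟩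
  | single c r =>
    obtain ⟨m, rfl⟩ := QuotientGroup.mk'_surjective H c
    exact ⟨MonoidAlgebra.single m r, MonoidAlgebra.mapDomainBialgHom_single _ _ _⟩

theorem ker_mk_iff {ι : Type*} (m : ι → M) (y : MonoidAlgebra T M) :
    MonoidAlgebra.mapDomainBialgHom T
        (QuotientGroup.mk' (Subgroup.closure (Set.range m))) y = 0 ↔
      y ∈ Ideal.span
        (Set.range fun j => (MonoidAlgebra.single (m j) 1 - 1 : MonoidAlgebra T M)) := by
  set H : Subgroup M := Subgroup.closure (Set.range m) with hH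
  set q : MonoidAlgebra T M →ₐc[T] MonoidAlgebra T (M ⧸ H) :=
    MonoidAlgebra.mapDomainBialgHom T (QuotientGroup.mk' H) with hq
  constructor
  · intro hy
    let t : M ⧸ H → M := Function.surjInv (QuotientGroup.mk'_surjective H)
    have ht : ∀ c, QuotientGroup.mk' H (t c) = c :=
      Function.surjInv_eq (QuotientGroup.mk'_surjective H)
    have key : ∀ x : MonoidAlgebra T M, x - MonoidAlgebra.mapDomain t (q x) ∈
        Ideal.span
          (Set.range fun j => (MonoidAlgebra.single (m j) 1 - 1 : MonoidAlgebra T M)) := by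
      intro x
      induction x using MonoidAlgebra.induction_linear with
      | zero =>
        rw [map_zero, MonoidAlgebra.mapDomain_zero, sub_zero]
        exact Ideal.zero_mem _
      | add x y hx hy =>
        have e : (x + y) - MonoidAlgebra.mapDomain t (q (x + y)) =
            (x - MonoidAlgebra.mapDomain t (q x)) + (y - MonoidAlgebra.mapDomain t (q y)) := by
          rw [map_add, MonoidAlgebra.mapDomain_add]; abel
        rw [e]
        exact Ideal.add_mem _ hx hy
      | single mm r =>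
        rw [hq, MonoidAlgebra.mapDomainBialgHom_single, MonoidAlgebra.mapDomain_single]
        have h1 : QuotientGroup.mk' H (t (QuotientGroup.mk' H mm)) = QuotientGroup.mk' H mm :=
          ht _
        have h2 : (t (QuotientGroup.mk' H mm))⁻¹ * mm ∈ H := QuotientGroup.eq.1 h1
        have h3 : (MonoidAlgebra.single mm r : MonoidAlgebra T M) -
            MonoidAlgebra.single (t (QuotientGroup.mk' H mm)) r =
            MonoidAlgebra.single (t (QuotientGroup.mk' H mm)) r *
              (MonoidAlgebra.single ((t (QuotientGroup.mk' H mm))⁻¹ * mm) 1 - 1) := by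
          rw [mul_sub, mul_one, MonoidAlgebra.single_mul_single, mul_one, mul_inv_cancel_left]
        rw [h3]
        exact Ideal.mul_mem_left _ _ (single_sub_one_mem m _ h2)
    have h := key y
    rw [hy, MonoidAlgebra.mapDomain_zero, sub_zero] at h
    exact h
  · intro hy
    have hle : Ideal.span
        (Set.range fun j => (MonoidAlgebra.single (m j) 1 - 1 : MonoidAlgebra T M)) ≤
        RingHom.ker (q : MonoidAlgebra T M →ₐ[T] MonoidAlgebra T (M ⧸ H)) := by
      rw [Ideal.span_le]
      rintro _ ⟨j, rfl⟩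
      rw [SetLike.mem_coe, RingHom.mem_ker]
      show q (MonoidAlgebra.single (m j) 1 - 1) = 0
      rw [map_sub, map_one, hq, MonoidAlgebra.mapDomainBialgHom_single]
      have : QuotientGroup.mk' H (m j) = 1 :=
        (QuotientGroup.eq_one_iff _).2 (Subgroup.subset_closure ⟨j, rfl⟩)
      rw [this, ← MonoidAlgebra.one_def, sub_self]
    exact (RingHom.mem_ker).1 (hle hy)

end GroupAlg

section Quot

variable (R : Type u) [CommRing R] {A : Type u} [CommRing A] [HopfAlgebra R A]
  (J : Ideal A) [J.IsHopfIdeal R]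
  (T : Type u) [CommRing T] [Algebra R T] {M : Type u} [CommGroup M]

/-- the base change of the quotient map -/
noncomputable abbrev pJ : T ⊗[R] A →ₐc[T] T ⊗[R] (A ⧸ J) :=
  Bialgebra.TensorProduct.map (BialgHom.id T T) (Bialgebra.Quotient.mkBialgHom (R := R) J)

lemma pJ_surjective : Function.Surjective (pJ R J T) := by
  intro z
  induction z using TensorProduct.induction_on with
  | zero => exact ⟨0, map_zero _⟩
  | tmul t c =>
    obtain ⟨a, rfl⟩ := Ideal.Quotient.mk_surjective c
    exact ⟨t ⊗ₜ[R] a, rfl⟩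
  | add z w hz hw =>
    obtain ⟨z', rfl⟩ := hz
    obtain ⟨w', rfl⟩ := hw
    exact ⟨z' + w', map_add _ _ _⟩

lemma pJ_eq_zero_iff (x : T ⊗[R] A) : pJ R J T x = 0 ↔
    x ∈ Ideal.map (Algebra.TensorProduct.includeRight : A →ₐ[R] T ⊗[R] A) J := by
  have h1 : RingHom.ker (Algebra.TensorProduct.map (AlgHom.id R T) (Ideal.Quotient.mkₐ R J)) =
      Ideal.map (Algebra.TensorProduct.includeRight : A →ₐ[R] T ⊗[R] A)
        (RingHom.ker (Ideal.Quotient.mkₐ R J)) :=
    Algebra.TensorProduct.lTensor_ker (A := T) (Ideal.Quotient.mkₐ R J)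
      (Ideal.Quotient.mkₐ_surjective R J)
  have hker : RingHom.ker (Ideal.Quotient.mkₐ R J) = J := by
    ext a
    rw [RingHom.mem_ker]
    exact Ideal.Quotient.eq_zero_iff_mem
  rw [hker] at h1
  have h3 : ∀ y : T ⊗[R] A, pJ R J T y =
      Algebra.TensorProduct.map (AlgHom.id R T) (Ideal.Quotient.mkₐ R J) y := by
    intro y
    induction y using TensorProduct.induction_on with
    | zero => rw [map_zero, map_zero]
    | tmul t a => rfl
    | add y z hy hz => rw [map_add, map_add, hy, hz]
  rw [← h1, RingHom.mem_ker, h3]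

variable {R T} in
theorem nonempty_glb_quot (d : GLB R T A M) {ι : Type u} (m : ι → M)
    (hk : ∀ x : T ⊗[R] A, pJ R J T x = 0 ↔
      x ∈ Ideal.span (Set.range fun j => d.χ (m j) - 1)) :
    Nonempty (GLB R T (A ⧸ J) (M ⧸ Subgroup.closure (Set.range m))) := by
  let p₂ : T ⊗[R] A →ₐc[T] MonoidAlgebra T (M ⧸ Subgroup.closure (Set.range m)) :=
    (MonoidAlgebra.mapDomainBialgHom T
      (QuotientGroup.mk' (Subgroup.closure (Set.range m)))).comp d.equiv.symm.toBialgHom
  have hs₂ : Function.Surjective p₂ :=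
    (q_surj (T := T) (Subgroup.closure (Set.range m))).comp (EquivLike.surjective d.equiv.symm)
  have hsym : ∀ g, d.equiv.symm (d.χ g) = MonoidAlgebra.single g 1 := by
    intro g
    rw [← d.equiv_single, BialgEquiv.symm_apply_apply]
  have hk' : ∀ x, pJ R J T x = 0 ↔ p₂ x = 0 := by
    intro x
    rw [hk]
    show _ ↔ MonoidAlgebra.mapDomainBialgHom T
      (QuotientGroup.mk' (Subgroup.closure (Set.range m))) (d.equiv.symm x) = 0
    rw [ker_mk_iff]
    constructor
    · intro hx
      refine mem_span_of_map d.equiv.symm _ _ (fun j => ?_) hx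
      rw [map_sub, map_one, hsym]
    · intro hx
      have h1 := mem_span_of_map d.equiv
        (fun j => (MonoidAlgebra.single (m j) 1 - 1 : MonoidAlgebra T M))
        (fun j => d.χ (m j) - 1) (fun j => by rw [map_sub, map_one, d.equiv_single]) hx
      rwa [BialgEquiv.apply_symm_apply] at h1
  obtain ⟨E⟩ := nonempty_equiv_of_ker_iff (pJ R J T) p₂ (pJ_surjective R J T) hs₂ hk'
  exact ⟨GLB.ofEquiv E.symm⟩

end Quot

section Idem

variable {T : Type u} [CommRing T] {M : Type u} [CommGroup M] {ι : Type u} [Fintype ι]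
  (x : ι → MonoidAlgebra T M)

/-- index set of the components -/
noncomputable def Sig : Finset (ι → M) := Fintype.piFinset fun j => (x j).coeff.support

/-- the idempotent of a component -/
noncomputable def ee (σ : ι → M) : T := ∏ j, coeffFun (σ j) (x j)

variable (hx : ∀ j, IsGroupLikeElem T (x j))

include hx

lemma sum_ee : ∑ σ ∈ Sig x, ee x σ = 1 := by
  unfold Sig ee
  rw [show (∑ σ ∈ Fintype.piFinset fun j => (x j).coeff.support, ∏ j, coeffFun (σ j) (x j)) =
    ∏ j, ∑ m ∈ (x j).coeff.support, coeffFun m (x j) from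
    (Finset.prod_univ_sum (fun j => (x j).coeff.support) (fun j m => coeffFun m (x j))).symm]
  apply Finset.prod_eq_one
  intro j _
  rw [← counit_eq_sum, (hx j).counit_eq_one]

lemma ee_mul_self (σ : ι → M) : ee x σ * ee x σ = ee x σ := by
  unfold ee
  rw [← Finset.prod_mul_distrib]
  exact Finset.prod_congr rfl fun j _ => MultLI.coeff_idem _ (hx j) _

lemma ee_mul_of_ne {σ τ : ι → M} (h : σ ≠ τ) : ee x σ * ee x τ = 0 := by
  obtain ⟨j, hj⟩ := Function.ne_iff.mp h
  unfold ee
  rw [← Finset.prod_mul_distrib]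
  exact Finset.prod_eq_zero (Finset.mem_univ j) (coeff_mul_coeff_of_ne _ (hx j) hj)

lemma map_coeff_of_ee_eq_one {T' : Type u} [CommRing T'] {F : Type*} [FunLike F T T']
    [RingHomClass F T T'] (ρ : F) (σ : ι → M) (h : ρ (ee x σ) = 1) (j : ι) (mm : M) :
    ρ (coeffFun mm (x j)) = if mm = σ j then 1 else 0 := by
  have hsplit : ee x σ = coeffFun (σ j) (x j) *
      ∏ k ∈ Finset.univ.erase j, coeffFun (σ k) (x k) := by
    unfold ee
    exact (Finset.mul_prod_erase Finset.univ (fun k => coeffFun (σ k) (x k))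
      (Finset.mem_univ j)).symm
  have hidem : ρ (coeffFun (σ j) (x j)) * ρ (coeffFun (σ j) (x j)) =
      ρ (coeffFun (σ j) (x j)) := by
    rw [← map_mul, MultLI.coeff_idem _ (hx j)]
  rw [hsplit, map_mul] at h
  have h1 : ρ (coeffFun (σ j) (x j)) = 1 := eq_one_of_idem_of_mul_eq_one hidem h
  split_ifs with hm
  · rw [hm]; exact h1
  · have h2 := congrArg ρ (coeff_mul_coeff_of_ne _ (hx j) hm)
    rw [map_mul, h1, mul_one, map_zero] at h2
    exact h2

end Idem

section Expand

variable {R : Type u} [CommRing R] {A : Type u} [CommRing A] [HopfAlgebra R A]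
  {T : Type u} [CommRing T] [Algebra R T] {M : Type u} [CommGroup M] {ι : Type u} [Fintype ι]

theorem tm_eq_χ (d : GLB R T A M) (u : ι → T ⊗[R] A) (hu : ∀ j, IsGroupLikeElem T (u j))
    {T' : Type u} [CommRing T'] [Algebra R T'] (ρ : T →ₐ[R] T') (σ : ι → M)
    (h : ρ (ee (fun j => d.equiv.symm (u j)) σ) = 1) (j : ι) :
    tm ρ (u j) = (d.map ρ).χ (σ j) := by
  have hx : ∀ j, IsGroupLikeElem T (d.equiv.symm (u j)) := fun j => (hu j).map d.equiv.symm
  have h1 : u j = ∑ g ∈ (d.equiv.symm (u j)).coeff.support,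
      coeffFun g (d.equiv.symm (u j)) • d.χ g := by
    rw [← d.Phi_apply, ← d.equiv_apply, BialgEquiv.apply_symm_apply]
  have h2 : tm ρ (u j) = ∑ g ∈ (d.equiv.symm (u j)).coeff.support,
      ρ (coeffFun g (d.equiv.symm (u j))) • tm ρ (d.χ g) := by
    conv_lhs => rw [h1]
    rw [map_sum]
    exact Finset.sum_congr rfl fun g _ => tm_smul ρ _ _
  rw [h2, Finset.sum_eq_single (σ j)]
  · rw [map_coeff_of_ee_eq_one _ hx ρ σ h j (σ j), if_pos rfl, one_smul]
    rfl
  · intro g _ hg
    rw [map_coeff_of_ee_eq_one _ hx ρ σ h j g, if_neg hg, zero_smul]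
  · intro hns
    rw [coeffFun_eq_zero_of_notMem _ hns, map_zero, zero_smul]

end Expand

end Groth.Agent.Lib.Helper19.KerMT
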