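import Mathlib
import Groth.Prelude.Def_SGA3b
import Groth.Agent.Lib.Helper19.KerMT2

/-!
# Kernels of homomorphisms of groups of multiplicative type, part 3: glueing (helper19)

`nonempty_glb_of_components`: if `e i` is a complete family of orthogonal idempotents of `T`
and `T/(1 - e i) ⊗ B` is diagonalised by the same group `G` for every `i`, then `T ⊗ B` is
diagonalised by `G`.
-/

set_option autoImplicit false
universe u
open TensorProduct

namespace Groth.Agent.Lib.Helper19.KerMT

open Groth.Agent.Lib.Helper1.MultType Groth.Agent.Lib.Helper19.GLift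
open Groth.Agent.Lib.Helper19 Groth.Agent.Lib.Helper28

attribute [local instance] Classical.propDecidable

section Cancel

variable {R : Type u} [CommRing R] {B : Type u} [CommRing B] [Algebra R B]
  {T T' : Type u} [CommRing T] [Algebra R T] [CommRing T'] [Algebra R T']

lemma cancel_one_tmul' [Algebra T T'] [IsScalarTower R T T'] (z : T ⊗[R] B) :
    Algebra.TensorProduct.cancelBaseChange R T T' T' B ((1 : T') ⊗ₜ[T] z) =
      tm (IsScalarTower.toAlgHom R T T') z := by
  induction z using TensorProduct.induction_on with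
  | zero => simp
  | tmul t b =>
    rw [Algebra.TensorProduct.cancelBaseChange_tmul, tm_tmul]
    simp [Algebra.smul_def]
  | add x y hx hy => rw [TensorProduct.tmul_add, map_add, map_add, hx, hy]

end Cancel

section Glue

variable {R : Type u} [CommRing R] {B : Type u} [CommRing B] [HopfAlgebra R B]
  {T : Type u} [CommRing T] [Algebra R T] {ι : Type u} [Fintype ι] (e : ι → T)

/-- the component rings -/
abbrev Ti (i : ι) : Type u := T ⧸ Ideal.span {1 - e i}

variable (R) in
/-- the projections -/
noncomputable abbrev prj (i : ι) : T →ₐ[R] Ti e i := Ideal.Quotient.mkₐ R (Ideal.span {1 - e i})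

variable (hsum : ∑ i, e i = 1) (horth : ∀ i j, i ≠ j → e i * e j = 0)

include hsum horth in
lemma e_idem (i : ι) : e i * e i = e i := by
  have h := congrArg (fun t => e i * t) hsum
  simp only [Finset.mul_sum, mul_one] at h
  rw [Finset.sum_eq_single i (fun j _ hj => horth i j (Ne.symm hj))
    (fun h' => absurd (Finset.mem_univ i) h')] at h
  exact h

lemma prj_self (i : ι) : prj R e i (e i) = 1 := by
  have h : Ideal.Quotient.mk (Ideal.span {1 - e i}) (1 - e i) = 0 :=
    Ideal.Quotient.eq_zero_iff_mem.2 (Ideal.subset_span rfl)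
  rw [map_sub, map_one, sub_eq_zero] at h
  exact h.symm

include horth in
lemma prj_ne {i j : ι} (h : j ≠ i) : prj R e i (e j) = 0 := by
  have h1 : prj R e i (e j) = prj R e i (e j) * prj R e i (e i) := by rw [prj_self, mul_one]
  rw [h1, ← map_mul, horth j i h, map_zero]

lemma prj_eq_zero_iff (i : ι) (t : T) : prj R e i t = 0 ↔ t ∈ Ideal.span {1 - e i} :=
  Ideal.Quotient.eq_zero_iff_mem

include hsum horth in
lemma e_mul_of_mem (i : ι) (t : T) (h : t ∈ Ideal.span {1 - e i}) : e i * t = 0 := by
  obtain ⟨w, rfl⟩ := Ideal.mem_span_singleton'.1 h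
  rw [mul_left_comm, mul_sub, mul_one, e_idem e hsum horth, sub_self, mul_zero]

include hsum horth in
lemma eq_zero_of_prj (t : T) (h : ∀ i, prj R e i t = 0) : t = 0 :=
  calc t = (∑ i, e i) * t := by rw [hsum, one_mul]
    _ = ∑ i, e i * t := Finset.sum_mul _ _ _
    _ = 0 := Finset.sum_eq_zero fun i _ =>
      e_mul_of_mem e hsum horth i t ((prj_eq_zero_iff (R := R) e i t).1 (h i))

include hsum horth in
lemma eq_zero_of_one_tmul {N : Type*} [AddCommGroup N] [Module T N] (n : N)
    (h : ∀ i, (1 : Ti e i) ⊗ₜ[T] n = 0) : n = 0 := by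
  have hi : ∀ i, e i • n = 0 := by
    intro i
    have h1 : n ∈ (Ideal.span {1 - e i} • ⊤ : Submodule T N) :=
      (one_tmul_eq_zero_iff (Ideal.span {1 - e i}) n).1 (h i)
    refine Submodule.smul_induction_on h1 ?_ ?_
    · intro r hr m _
      rw [← mul_smul, e_mul_of_mem e hsum horth i r hr, zero_smul]
    · intro x y hx hy
      rw [smul_add, hx, hy, add_zero]
  calc n = (∑ i, e i) • n := by rw [hsum, one_smul]
    _ = ∑ i, e i • n := Finset.sum_smul
    _ = 0 := Finset.sum_eq_zero fun i _ => hi i

include hsum horth in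
lemma eq_zero_of_tm (z : T ⊗[R] B) (h : ∀ i, tm (prj R e i) z = 0) : z = 0 := by
  have hi : ∀ i, (e i ⊗ₜ[R] (1 : B)) * z = 0 := by
    intro i
    have hker : RingHom.ker (prj R e i) = Ideal.span {1 - e i} := by
      ext a
      rw [RingHom.mem_ker]
      exact Ideal.Quotient.eq_zero_iff_mem
    have h1 := Algebra.TensorProduct.rTensor_ker (R := R) (C := B) (prj R e i)
      (Ideal.Quotient.mkₐ_surjective R _)
    rw [hker, Ideal.map_span, Set.image_singleton] at h1
    have h2 : z ∈ RingHom.ker (Algebra.TensorProduct.map (prj R e i) (AlgHom.id R B)) :=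
      (RingHom.mem_ker).2 (h i)
    rw [h1] at h2
    obtain ⟨w, rfl⟩ := Ideal.mem_span_singleton'.1 h2
    rw [Algebra.TensorProduct.includeLeft_apply, mul_left_comm,
      Algebra.TensorProduct.tmul_mul_tmul, mul_sub, mul_one, e_idem e hsum horth, sub_self,
      TensorProduct.zero_tmul, mul_zero]
  calc z = ((∑ i, e i) ⊗ₜ[R] (1 : B)) * z := by
        rw [hsum, ← Algebra.TensorProduct.one_def, one_mul]
    _ = ∑ i, (e i ⊗ₜ[R] (1 : B)) * z := by rw [TensorProduct.sum_tmul, Finset.sum_mul]
    _ = 0 := Finset.sum_eq_zero fun i _ => hi i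

include hsum horth in
theorem groupLike_of_components (z : T ⊗[R] B)
    (h : ∀ i, IsGroupLikeElem (Ti e i) (tm (prj R e i) z)) : IsGroupLikeElem T z := by
  have hg : ∀ i, IsGroupLikeElem (Ti e i) ((1 : Ti e i) ⊗ₜ[T] z) := by
    intro i
    have hbij : Function.Bijective
        (MultQuot.cancelBialgHom (L := R) (R' := T) (K := Ti e i) (B := B)) := by
      constructor
      · intro a b hab
        rw [MultQuot.cancelBialgHom_apply, MultQuot.cancelBialgHom_apply] at hab
        exact (Algebra.TensorProduct.cancelBaseChange R T (Ti e i) (Ti e i) B).injective hab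
      · exact MultQuot.cancelBialgHom_surjective
    have hE : (BialgEquiv.ofBijective _ hbij) ((1 : Ti e i) ⊗ₜ[T] z) = tm (prj R e i) z := by
      show Algebra.TensorProduct.cancelBaseChange R T (Ti e i) (Ti e i) B _ = _
      rw [cancel_one_tmul']
      rfl
    rw [← isGroupLikeElem_map_equiv (BialgEquiv.ofBijective _ hbij), hE]
    exact h i
  refine ⟨?_, ?_⟩
  · rw [← sub_eq_zero]
    apply eq_zero_of_prj (R := R) e hsum horth
    intro i
    have h1 := (hg i).counit_eq_one
    rw [TensorProduct.counit_tmul, CommSemiring.counit_apply] at h1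
    have h2 : prj R e i (Coalgebra.counit (R := T) z) = 1 := by
      rw [← h1, Algebra.smul_def, mul_one]
      rfl
    rw [map_sub, map_one, h2, sub_self]
  · rw [← sub_eq_zero]
    apply eq_zero_of_one_tmul e hsum horth
    intro i
    have h1 := (hg i).comul_eq_tmul_self
    rw [comul_one_tmul] at h1
    have h2 : ((1 : Ti e i) ⊗ₜ[T] z) ⊗ₜ[Ti e i] ((1 : Ti e i) ⊗ₜ[T] z) =
        AlgebraTensorModule.distribBaseChange T (Ti e i) (T ⊗[R] B) (T ⊗[R] B)
          ((1 : Ti e i) ⊗ₜ[T] (z ⊗ₜ[T] z)) := by
      rw [AlgebraTensorModule.distribBaseChange_tmul]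
    rw [h2] at h1
    have h3 := (AlgebraTensorModule.distribBaseChange T (Ti e i)
      (T ⊗[R] B) (T ⊗[R] B)).injective h1
    rw [TensorProduct.tmul_sub, h3, sub_self]

include hsum horth in
theorem nonempty_glb_of_components {G : Type u} [CommGroup G] (d : ∀ i, GLB R (Ti e i) B G) :
    Nonempty (GLB R T B G) := by
  have hsurj : ∀ i (g : G), ∃ y : T ⊗[R] B, tm (prj R e i) y = (d i).χ g := fun i g =>
    tm_surjective (prj R e i) (Ideal.Quotient.mkₐ_surjective R _) _
  choose y hy using hsurj
  obtain ⟨χ, hχ⟩ : ∃ χ : G → T ⊗[R] B, χ = fun g => ∑ i, e i • y i g := ⟨_, rfl⟩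
  have hχi : ∀ i g, tm (prj R e i) (χ g) = (d i).χ g := by
    intro i g
    rw [hχ, map_sum, Finset.sum_eq_single i]
    · rw [tm_smul, prj_self, one_smul, hy]
    · intro j _ hj
      rw [tm_smul, prj_ne e horth hj, zero_smul]
    · intro h; exact absurd (Finset.mem_univ i) h
  have hone : χ 1 = 1 := by
    rw [← sub_eq_zero]
    apply eq_zero_of_tm e hsum horth
    intro i
    rw [map_sub, hχi, map_one, (d i).map_one, sub_self]
  have hmul : ∀ g h, χ (g * h) = χ g * χ h := by
    intro g h
    rw [← sub_eq_zero]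
    apply eq_zero_of_tm e hsum horth
    intro i
    rw [map_sub, map_mul, hχi, hχi, hχi, (d i).map_mul, sub_self]
  have hgl : ∀ g, IsGroupLikeElem T (χ g) := by
    intro g
    exact groupLike_of_components e hsum horth (χ g) (fun i => by rw [hχi]; exact (d i).gl g)
  have hli : LinearIndependent T χ := by
    rw [linearIndependent_iff']
    intro s c hc g hg
    apply eq_zero_of_prj (R := R) e hsum horth
    intro i
    have h1 := congrArg (tm (prj R e i)) hc
    rw [map_sum, map_zero] at h1
    have h2 : ∑ g ∈ s, prj R e i (c g) • (d i).χ g = 0 := by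
      rw [← h1]
      exact Finset.sum_congr rfl fun g _ => by rw [tm_smul, hχi]
    exact linearIndependent_iff'.mp (d i).li s (fun g => prj R e i (c g)) h2 g hg
  have hsp : Submodule.span T (Set.range χ) = ⊤ := by
    rw [eq_top_iff]
    intro z _
    have hl : ∀ i, ∃ l : G →₀ Ti e i,
        (l.sum fun g a => a • (d i).χ g) = tm (prj R e i) z := by
      intro i
      apply Finsupp.mem_span_range_iff_exists_finsupp.mp
      rw [(d i).sp]
      exact Submodule.mem_top
    choose l hl using hl
    have hlift : ∀ i g, ∃ t : T, prj R e i t = l i g :=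
      fun i g => Ideal.Quotient.mkₐ_surjective R _ _
    choose lt hlt using hlift
    obtain ⟨z', hz'⟩ : ∃ z' : T ⊗[R] B,
        z' = ∑ i, ∑ g ∈ (l i).support, (e i * lt i g) • χ g := ⟨_, rfl⟩
    have hz'mem : z' ∈ Submodule.span T (Set.range χ) := by
      rw [hz']
      exact Submodule.sum_mem _ fun i _ => Submodule.sum_mem _ fun g _ =>
        Submodule.smul_mem _ _ (Submodule.subset_span ⟨g, rfl⟩)
    have hzz' : z = z' := by
      rw [← sub_eq_zero]
      apply eq_zero_of_tm e hsum horth
      intro j
      rw [map_sub, sub_eq_zero, hz', map_sum, Finset.sum_eq_single j]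
      · rw [map_sum, ← hl j, Finsupp.sum]
        refine Finset.sum_congr rfl fun g _ => ?_
        rw [tm_smul, map_mul, prj_self, one_mul, hlt, hχi]
      · intro i _ hij
        rw [map_sum]
        refine Finset.sum_eq_zero fun g _ => ?_
        rw [tm_smul, map_mul, prj_ne e horth hij, zero_mul, zero_smul]
      · intro h; exact absurd (Finset.mem_univ j) h
    rw [hzz']
    exact hz'mem
  exact ⟨{ χ := χ, map_one := hone, map_mul := hmul, gl := hgl, li := hli, sp := hsp }⟩

end Glue

end Groth.Agent.Lib.Helper19.KerMT
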