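import Mathlib
import Groth.Prelude.Def_SGA3b
import Groth.Agent.Lib.Helper19.KerMT3

/-!
# Kernels of homomorphisms of groups of multiplicative type, part 4 (helper19)

* `AugGen`: finitely many group-like elements generating the augmentation ideal of `T ⊗ C`;
  existence over a chart of a Hopf algebra of multiplicative type and of finite type;
* `ker_pJ_eq`: the kernel of `T ⊗ A → T ⊗ A/J`, `J` generated by the image of the augmentation
  ideal of `C`;
* `nonempty_glb_component`, `nonempty_mulEquiv_types`: the type of the kernel on a component;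
* `eT`, `eT_tmul_one`: the idempotent of the components of a given type is a descent datum.
-/

set_option autoImplicit false
universe u
open TensorProduct

namespace Groth.Agent.Lib.Helper19.KerMT

open Groth.Agent.Lib.Helper1.MultType Groth.Agent.Lib.Helper19.GLift
open Groth.Agent.Lib.Helper19 Groth.Agent.Lib.Helper28

attribute [local instance] Classical.propDecidable

section AugIdeal

variable {T : Type u} [CommRing T] {N : Type u} [CommGroup N]

theorem mem_span_of_counit_eq_zero {ι : Type*} (m : ι → N)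
    (hm : Subgroup.closure (Set.range m) = ⊤) (y : MonoidAlgebra T N)
    (hy : Coalgebra.counit (R := T) y = 0) :
    y ∈ Ideal.span
      (Set.range fun j => (MonoidAlgebra.single (m j) 1 - 1 : MonoidAlgebra T N)) := by
  have h2 : ∑ n ∈ y.coeff.support,
      coeffFun n y • (MonoidAlgebra.single n (1 : T) - 1 : MonoidAlgebra T N) =
      ∑ n ∈ y.coeff.support, MonoidAlgebra.single n (coeffFun n y) -
        (∑ n ∈ y.coeff.support, coeffFun n y) • (1 : MonoidAlgebra T N) := by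
    rw [Finset.sum_smul, ← Finset.sum_sub_distrib]
    refine Finset.sum_congr rfl fun n _ => ?_
    rw [smul_sub, MonoidAlgebra.smul_single', mul_one]
  have h1 : y = ∑ n ∈ y.coeff.support,
      coeffFun n y • (MonoidAlgebra.single n (1 : T) - 1 : MonoidAlgebra T N) := by
    rw [h2, sum_single_coeff, ← counit_eq_sum, hy, zero_smul, sub_zero]
  rw [h1]
  refine Ideal.sum_mem _ fun n _ => ?_
  exact Submodule.smul_of_tower_mem _ _
    (single_sub_one_mem m n (by rw [hm]; exact Subgroup.mem_top n))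

end AugIdeal

/-- finitely many group-like elements of `T ⊗ C` generating the augmentation ideal -/
structure AugGen (R : Type u) [CommRing R] (T : Type u) [CommRing T] [Algebra R T]
    (C : Type u) [CommRing C] [HopfAlgebra R C] (ι : Type u) where
  v : ι → T ⊗[R] C
  gl : ∀ j, IsGroupLikeElem T (v j)
  gen : ∀ x : C, Coalgebra.counit (R := R) x = 0 →
    (1 : T) ⊗ₜ[R] x ∈ Ideal.span (Set.range fun j => v j - 1)

namespace AugGen

variable {R : Type u} [CommRing R] {T : Type u} [CommRing T] [Algebra R T]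
  {C : Type u} [CommRing C] [HopfAlgebra R C] {ι : Type u}

/-- base change of generators of the augmentation ideal -/
noncomputable def map (a : AugGen R T C ι) {T' : Type u} [CommRing T'] [Algebra R T']
    (ρ : T →ₐ[R] T') : AugGen R T' C ι where
  v j := tm ρ (a.v j)
  gl j := groupLike_map ρ (a.gl j)
  gen x hx := by
    have h1 := mem_span_of_map (tm (B := C) ρ) (fun j => a.v j - 1)
      (fun j => tm ρ (a.v j) - 1) (fun j => by rw [map_sub, map_one]) (a.gen x hx)
    rwa [tm_tmul, map_one] at h1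

lemma map_v (a : AugGen R T C ι) {T' : Type u} [CommRing T'] [Algebra R T']
    (ρ : T →ₐ[R] T') (j : ι) : (a.map ρ).v j = tm ρ (a.v j) := rfl

end AugGen

section ChartAug

variable {R : Type u} [CommRing R] {C : Type u} [CommRing C] [HopfAlgebra R C]

theorem _root_.Groth.Agent.Lib.Helper19.GLift.Chart.exists_augGen {f : R} (c : Chart R C f)
    (hft : Algebra.FiniteType R C) [Nontrivial c.S] :
    ∃ (ι : Type u) (_ : Fintype ι), Nonempty (AugGen R c.S C ι) := by
  haveI := hft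
  have hft' : Algebra.FiniteType c.S (c.S ⊗[R] C) := inferInstance
  have hbij : Function.Bijective c.thetaB :=
    ⟨Function.LeftInverse.injective (g := c.theta) c.theta_thetaB,
      fun z => ⟨c.theta z, c.thetaB_theta z⟩⟩
  have hft'' : Algebra.FiniteType c.S (MonoidAlgebra c.S c.N) :=
    hft'.of_surjective ((BialgEquiv.ofBijective c.thetaB hbij).symm.toBialgHom :
      c.S ⊗[R] C →ₐ[c.S] MonoidAlgebra c.S c.N)
      (EquivLike.surjective (BialgEquiv.ofBijective c.thetaB hbij).symm)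
  have hfg : Group.FG c.N := MonoidAlgebra.finiteType_iff_group_fg.1 hft''
  obtain ⟨S, hS⟩ := hfg.out
  refine ⟨{n // n ∈ S}, inferInstance, ⟨?_⟩⟩
  have hm : Subgroup.closure (Set.range (Subtype.val : {n // n ∈ S} → c.N)) = ⊤ := by
    rw [Subtype.range_coe_subtype]
    exact hS
  refine
    { v := fun j => c.thetaB (MonoidAlgebra.single j.1 1)
      gl := fun j =>
        (MonoidAlgebra.isGroupLikeElem_single_one (R := c.S) (A := c.S) j.1).map c.thetaB
      gen := ?_ }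
  intro x hx
  have hy : Coalgebra.counit (R := c.S) (c.theta ((1 : c.S) ⊗ₜ[R] x)) = 0 := by
    have h1 : Coalgebra.counit (R := c.S) (c.thetaB (c.theta ((1 : c.S) ⊗ₜ[R] x))) =
        Coalgebra.counit (R := c.S) (c.theta ((1 : c.S) ⊗ₜ[R] x)) :=
      CoalgHomClass.counit_comp_apply c.thetaB _
    rw [← h1, c.thetaB_theta, TensorProduct.counit_tmul, CommSemiring.counit_apply, hx, zero_smul]
  have h2 := mem_span_of_counit_eq_zero (T := c.S) (Subtype.val : {n // n ∈ S} → c.N) hm _ hy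
  have h3 := mem_span_of_map c.thetaB
    (fun j : {n // n ∈ S} =>
      (MonoidAlgebra.single j.1 1 - 1 : MonoidAlgebra c.S c.N))
    (fun j => c.thetaB (MonoidAlgebra.single j.1 1) - 1)
    (fun j => by rw [map_sub, map_one]) h2
  rwa [c.thetaB_theta] at h3

end ChartAug

section Ker

variable {R : Type u} [CommRing R] {A : Type u} [CommRing A] [HopfAlgebra R A]
  {C : Type u} [CommRing C] [HopfAlgebra R C] (φ : C →ₐc[R] A)
  (J : Ideal A) [J.IsHopfIdeal R]
  (hJ : J = Ideal.map φ (RingHom.ker (Bialgebra.counitAlgHom R C)))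
  {T : Type u} [CommRing T] [Algebra R T] {ι : Type u}

/-- the base change of `φ` -/
noncomputable abbrev phiT (T : Type u) [CommRing T] [Algebra R T] :
    T ⊗[R] C →ₐc[T] T ⊗[R] A :=
  Bialgebra.TensorProduct.map (BialgHom.id T T) φ

lemma phiT_tmul (t : T) (c : C) : phiT φ T (t ⊗ₜ[R] c) = t ⊗ₜ[R] φ c := rfl

lemma tm_phiT {T' : Type u} [CommRing T'] [Algebra R T'] (ρ : T →ₐ[R] T') (z : T ⊗[R] C) :
    tm ρ (phiT φ T z) = phiT φ T' (tm ρ z) := by
  induction z using TensorProduct.induction_on with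
  | zero => simp only [map_zero]
  | tmul t c => rw [phiT_tmul, tm_tmul, tm_tmul, phiT_tmul]
  | add x y hx hy => simp only [map_add, hx, hy]

lemma algebraMap_counit_tmul (t : T) (c : C) :
    algebraMap T (T ⊗[R] A) (Coalgebra.counit (R := T) (t ⊗ₜ[R] c)) =
      t ⊗ₜ[R] algebraMap R A (Coalgebra.counit (R := R) c) := by
  have hct : Coalgebra.counit (R := T) (t ⊗ₜ[R] c) = Coalgebra.counit (R := R) c • t := by
    rfl
  rw [hct, Algebra.TensorProduct.algebraMap_apply, Algebra.algebraMap_self_apply,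
    TensorProduct.smul_tmul, Algebra.algebraMap_eq_smul_one]

include hJ in
lemma phiT_sub_mem (z : T ⊗[R] C) :
    phiT φ T z - algebraMap T (T ⊗[R] A) (Coalgebra.counit (R := T) z) ∈
      Ideal.map (Algebra.TensorProduct.includeRight : A →ₐ[R] T ⊗[R] A) J := by
  induction z using TensorProduct.induction_on with
  | zero =>
    rw [map_zero, map_zero, map_zero, sub_zero]
    exact Ideal.zero_mem _
  | tmul t c =>
    have hmem : φ (c - algebraMap R C (Coalgebra.counit (R := R) c)) ∈ J := by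
      rw [hJ]
      apply Ideal.mem_map_of_mem
      rw [RingHom.mem_ker]
      show Coalgebra.counit (R := R) (c - algebraMap R C (Coalgebra.counit (R := R) c)) = 0
      rw [map_sub, Bialgebra.counit_algebraMap, sub_self]
    have e2 : phiT φ T (t ⊗ₜ[R] c) -
        algebraMap T (T ⊗[R] A) (Coalgebra.counit (R := T) (t ⊗ₜ[R] c)) =
        (t ⊗ₜ[R] (1 : A)) * (Algebra.TensorProduct.includeRight : A →ₐ[R] T ⊗[R] A)
          (φ (c - algebraMap R C (Coalgebra.counit (R := R) c))) := by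
      rw [phiT_tmul, algebraMap_counit_tmul, Algebra.TensorProduct.includeRight_apply,
        Algebra.TensorProduct.tmul_mul_tmul, mul_one, one_mul, map_sub, AlgHomClass.commutes,
        TensorProduct.tmul_sub]
    rw [e2]
    exact Ideal.mul_mem_left _ _ (Ideal.mem_map_of_mem _ hmem)
  | add y z hy hz =>
    have e3 : phiT φ T (y + z) -
        algebraMap T (T ⊗[R] A) (Coalgebra.counit (R := T) (y + z)) =
        (phiT φ T y - algebraMap T (T ⊗[R] A) (Coalgebra.counit (R := T) y)) +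
        (phiT φ T z - algebraMap T (T ⊗[R] A) (Coalgebra.counit (R := T) z)) := by
      rw [map_add, map_add, map_add]; ring
    rw [e3]
    exact Ideal.add_mem _ hy hz

include hJ in
theorem ker_pJ_eq (a : AugGen R T C ι) (x : T ⊗[R] A) :
    pJ R J T x = 0 ↔ x ∈ Ideal.span (Set.range fun j => phiT φ T (a.v j) - 1) := by
  rw [pJ_eq_zero_iff]
  have heq : Ideal.map (Algebra.TensorProduct.includeRight : A →ₐ[R] T ⊗[R] A) J =
      Ideal.span (Set.range fun j => phiT φ T (a.v j) - 1) := by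
    apply le_antisymm
    · rw [Ideal.map_le_iff_le_comap, hJ, Ideal.map_le_iff_le_comap]
      intro c hc
      rw [RingHom.mem_ker] at hc
      rw [Ideal.mem_comap, Ideal.mem_comap]
      have h1 := mem_span_of_map (phiT φ T) (fun j => a.v j - 1)
        (fun j => phiT φ T (a.v j) - 1) (fun j => by rw [map_sub, map_one]) (a.gen c hc)
      rw [phiT_tmul] at h1
      exact h1
    · rw [Ideal.span_le]
      rintro _ ⟨j, rfl⟩
      have h1 := phiT_sub_mem φ J hJ (T := T) (a.v j)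
      rw [(a.gl j).counit_eq_one, map_one] at h1
      exact h1
  rw [heq]

variable [Fintype ι] {M : Type u} [CommGroup M]

include hJ in
theorem nonempty_glb_component (dA : GLB R T A M) (a : AugGen R T C ι)
    {T' : Type u} [CommRing T'] [Algebra R T'] (ρ : T →ₐ[R] T') (σ : ι → M)
    (h : ρ (ee (fun j => dA.equiv.symm (phiT φ T (a.v j))) σ) = 1) :
    Nonempty (GLB R T' (A ⧸ J) (M ⧸ Subgroup.closure (Set.range σ))) := by
  apply nonempty_glb_quot J (dA.map ρ) σ
  intro x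
  rw [ker_pJ_eq φ J hJ (a.map ρ)]
  have hgen : ∀ j, phiT φ T' ((a.map ρ).v j) = (dA.map ρ).χ (σ j) := by
    intro j
    rw [AugGen.map_v, ← tm_phiT]
    exact tm_eq_χ dA (fun j => phiT φ T (a.v j)) (fun j => (a.gl j).map (phiT φ T)) ρ σ h j
  simp only [hgen]

include hJ in
theorem nonempty_mulEquiv_types (dA : GLB R T A M) (a : AugGen R T C ι)
    {D : Type u} [CommRing D] [IsDomain D] [Algebra R D] (ρ₁ ρ₂ : T →ₐ[R] D) (σ τ : ι → M)
    (h₁ : ρ₁ (ee (fun j => dA.equiv.symm (phiT φ T (a.v j))) σ) = 1)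
    (h₂ : ρ₂ (ee (fun j => dA.equiv.symm (phiT φ T (a.v j))) τ) = 1) :
    Nonempty ((M ⧸ Subgroup.closure (Set.range σ)) ≃* (M ⧸ Subgroup.closure (Set.range τ))) := by
  obtain ⟨d₁⟩ := nonempty_glb_component φ J hJ dA a ρ₁ σ h₁
  obtain ⟨d₂⟩ := nonempty_glb_component φ J hJ dA a ρ₂ τ h₂
  exact nonempty_mulEquiv_of_isDomain d₁ d₂

end Ker

section Sums

variable {R : Type u} [CommRing R] {T : Type u} [CommRing T] [Algebra R T]

theorem sum_filter_tmul_one {κ : Type*} (S : Finset κ) (e : κ → T) (hsum : ∑ k ∈ S, e k = 1)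
    (P : κ → Prop)
    (h : ∀ k ∈ S, ∀ k' ∈ S, e k ⊗ₜ[R] e k' ≠ (0 : T ⊗[R] T) → (P k ↔ P k')) :
    (∑ k ∈ S.filter P, e k) ⊗ₜ[R] (1 : T) = (1 : T) ⊗ₜ[R] ∑ k ∈ S.filter P, e k :=
  calc (∑ k ∈ S.filter P, e k) ⊗ₜ[R] (1 : T)
      = (∑ k ∈ S, (if P k then e k else 0)) ⊗ₜ[R] (∑ k' ∈ S, e k') := by
        rw [Finset.sum_filter, hsum]
    _ = ∑ k ∈ S, ∑ k' ∈ S, (if P k then e k else 0) ⊗ₜ[R] e k' := by
        rw [TensorProduct.sum_tmul]
        exact Finset.sum_congr rfl fun k _ => TensorProduct.tmul_sum _ _ _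
    _ = ∑ k ∈ S, ∑ k' ∈ S, e k ⊗ₜ[R] (if P k' then e k' else 0) := by
        refine Finset.sum_congr rfl fun k hk => Finset.sum_congr rfl fun k' hk' => ?_
        by_cases hz : e k ⊗ₜ[R] e k' = (0 : T ⊗[R] T)
        · split_ifs <;> simp [hz]
        · have hiff := h k hk k' hk' hz
          by_cases hP : P k
          · rw [if_pos hP, if_pos (hiff.1 hP)]
          · rw [if_neg hP, if_neg (fun h' => hP (hiff.2 h')), TensorProduct.zero_tmul,
              TensorProduct.tmul_zero]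
    _ = (∑ k ∈ S, e k) ⊗ₜ[R] (∑ k' ∈ S, if P k' then e k' else 0) := by
        rw [TensorProduct.sum_tmul]
        exact (Finset.sum_congr rfl fun k _ => TensorProduct.tmul_sum _ _ _).symm
    _ = (1 : T) ⊗ₜ[R] ∑ k ∈ S.filter P, e k := by
        rw [hsum, Finset.sum_filter]

end Sums

section Types

variable {R : Type u} [CommRing R] {A : Type u} [CommRing A] [HopfAlgebra R A]
  {C : Type u} [CommRing C] [HopfAlgebra R C] (φ : C →ₐc[R] A)
  (J : Ideal A) [J.IsHopfIdeal R]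
  (hJ : J = Ideal.map φ (RingHom.ker (Bialgebra.counitAlgHom R C)))
  {T : Type u} [CommRing T] [Algebra R T] {ι : Type u} [Fintype ι] {M : Type u} [CommGroup M]
  (dA : GLB R T A M) (a : AugGen R T C ι)

/-- the group-like elements of `T[M]` which generate the ideal of the kernel -/
noncomputable def xx (j : ι) : MonoidAlgebra T M := dA.equiv.symm (phiT φ T (a.v j))

lemma xx_gl (j : ι) : IsGroupLikeElem T (xx φ dA a j) :=
  ((a.gl j).map (phiT φ T)).map dA.equiv.symm

/-- `σ` has the same type as `σ₀` -/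
def cls (σ₀ σ : ι → M) : Prop :=
  Nonempty ((M ⧸ Subgroup.closure (Set.range σ)) ≃* (M ⧸ Subgroup.closure (Set.range σ₀)))

/-- the idempotent of the components of the type of `σ₀` -/
noncomputable def eT (σ₀ : ι → M) : T :=
  ∑ σ ∈ (Sig (xx φ dA a)).filter (cls σ₀), ee (xx φ dA a) σ

include hJ in
theorem cls_iff_of_tmul_ne_zero (σ₀ σ τ : ι → M)
    (hne : ee (xx φ dA a) σ ⊗ₜ[R] ee (xx φ dA a) τ ≠ (0 : T ⊗[R] T)) :
    cls σ₀ σ ↔ cls σ₀ τ := by
  obtain ⟨w, hw⟩ : ∃ w : T ⊗[R] T, w = ee (xx φ dA a) σ ⊗ₜ[R] ee (xx φ dA a) τ := ⟨_, rfl⟩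
  have hidem : IsIdempotentElem w := by
    unfold IsIdempotentElem
    rw [hw, Algebra.TensorProduct.tmul_mul_tmul, ee_mul_self _ (xx_gl φ dA a),
      ee_mul_self _ (xx_gl φ dA a)]
  have hw0 : w ∉ (⊥ : Ideal (T ⊗[R] T)) := by
    rw [Ideal.mem_bot, hw]
    exact hne
  obtain ⟨𝔮, h𝔮, -, hw𝔮⟩ := Ideal.exists_le_prime_notMem_of_isIdempotentElem ⊥ w hidem hw0
  haveI := h𝔮
  obtain ⟨ρ₁, hρ₁⟩ : ∃ ρ₁ : T →ₐ[R] (T ⊗[R] T) ⧸ 𝔮,
      ρ₁ = (Ideal.Quotient.mkₐ R 𝔮).comp Algebra.TensorProduct.includeLeft := ⟨_, rfl⟩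
  obtain ⟨ρ₂, hρ₂⟩ : ∃ ρ₂ : T →ₐ[R] (T ⊗[R] T) ⧸ 𝔮,
      ρ₂ = (Ideal.Quotient.mkₐ R 𝔮).comp Algebra.TensorProduct.includeRight := ⟨_, rfl⟩
  have hprod : ρ₁ (ee (xx φ dA a) σ) * ρ₂ (ee (xx φ dA a) τ) ≠ 0 := by
    have h1 : ρ₁ (ee (xx φ dA a) σ) * ρ₂ (ee (xx φ dA a) τ) = Ideal.Quotient.mk 𝔮 w := by
      rw [hρ₁, hρ₂, hw]
      show Ideal.Quotient.mk 𝔮 (ee (xx φ dA a) σ ⊗ₜ[R] (1 : T)) *
        Ideal.Quotient.mk 𝔮 ((1 : T) ⊗ₜ[R] ee (xx φ dA a) τ) = _
      rw [← map_mul, Algebra.TensorProduct.tmul_mul_tmul, mul_one, one_mul]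
    rw [h1]
    intro h0
    exact hw𝔮 (Ideal.Quotient.eq_zero_iff_mem.1 h0)
  have hone : ∀ {F : Type u} [FunLike F T ((T ⊗[R] T) ⧸ 𝔮)] [RingHomClass F T ((T ⊗[R] T) ⧸ 𝔮)]
      (ρ : F) (ς : ι → M), ρ (ee (xx φ dA a) ς) ≠ 0 → ρ (ee (xx φ dA a) ς) = 1 := by
    intro F _ _ ρ ς hς
    have hid : ρ (ee (xx φ dA a) ς) * ρ (ee (xx φ dA a) ς) = ρ (ee (xx φ dA a) ς) := by
      rw [← map_mul, ee_mul_self _ (xx_gl φ dA a)]
    have h2 : ρ (ee (xx φ dA a) ς) * (ρ (ee (xx φ dA a) ς) - 1) = 0 := by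
      rw [mul_sub, hid, mul_one, sub_self]
    rcases mul_eq_zero.1 h2 with h3 | h3
    · exact absurd h3 hς
    · exact sub_eq_zero.1 h3
  have h₁ : ρ₁ (ee (xx φ dA a) σ) = 1 :=
    hone ρ₁ σ (fun h0 => hprod (by rw [h0, zero_mul]))
  have h₂ : ρ₂ (ee (xx φ dA a) τ) = 1 :=
    hone ρ₂ τ (fun h0 => hprod (by rw [h0, mul_zero]))
  obtain ⟨ε⟩ := nonempty_mulEquiv_types φ J hJ dA a ρ₁ ρ₂ σ τ h₁ h₂
  constructor
  · rintro ⟨ε'⟩
    exact ⟨ε.symm.trans ε'⟩
  · rintro ⟨ε'⟩
    exact ⟨ε.trans ε'⟩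

include hJ in
theorem eT_tmul_one (σ₀ : ι → M) :
    eT φ dA a σ₀ ⊗ₜ[R] (1 : T) = (1 : T) ⊗ₜ[R] eT φ dA a σ₀ := by
  unfold eT
  exact sum_filter_tmul_one _ _ (sum_ee _ (xx_gl φ dA a)) _
    (fun σ _ τ _ hne => cls_iff_of_tmul_ne_zero φ J hJ dA a σ₀ σ τ hne)

lemma eT_mul_ee (σ₀ : ι → M) (hσ₀ : σ₀ ∈ Sig (xx φ dA a)) :
    eT φ dA a σ₀ * ee (xx φ dA a) σ₀ = ee (xx φ dA a) σ₀ := by
  unfold eT
  rw [Finset.sum_mul, Finset.sum_eq_single σ₀]
  · exact ee_mul_self _ (xx_gl φ dA a) σ₀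
  · intro σ _ hσ
    exact ee_mul_of_ne _ (xx_gl φ dA a) hσ
  · intro h
    exact absurd (Finset.mem_filter.2 ⟨hσ₀, ⟨MulEquiv.refl _⟩⟩) h

end Types

end Groth.Agent.Lib.Helper19.KerMT
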