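import Mathlib
import Groth.Prelude.Def_SGA3b
import Groth.Agent.Lib.Helper19.KerMT4

/-!
# Kernels of homomorphisms of groups of multiplicative type, part 5 (helper19)

`kernel_isMultType`: the kernel of a homomorphism from a group of multiplicative type to a group
of multiplicative type and of finite type is of multiplicative type.
-/

set_option autoImplicit false
universe u
open TensorProduct

namespace Groth.Agent.Lib.Helper19.KerMT

open Groth.Agent.Lib.Helper1.MultType Groth.Agent.Lib.Helper19.GLift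
open Groth.Agent.Lib.Helper19 Groth.Agent.Lib.Helper28
open Groth.Agent.Lib.Lead.PureDescent (exists_of_eq)

attribute [local instance] Classical.propDecidable

section General

variable {R : Type u} [CommRing R]

lemma exists_prime_quot {X : Type*} [CommRing X] (I : Ideal X) (Q₀ : Ideal X) [Q₀.IsPrime]
    (h : I ≤ Q₀) : ∃ Q : Ideal (X ⧸ I), Q.IsPrime ∧ Q.comap (Ideal.Quotient.mk I) = Q₀ := by
  refine ⟨Q₀.map (Ideal.Quotient.mk I),
    Ideal.map_isPrime_of_surjective Ideal.Quotient.mk_surjective (by rwa [Ideal.mk_ker]), ?_⟩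
  rw [Ideal.comap_map_of_surjective _ Ideal.Quotient.mk_surjective, ← RingHom.ker_eq_comap_bot,
    Ideal.mk_ker, sup_eq_left.2 h]

theorem faithfullyFlat_away (g : R) (T : Type u) [CommRing T] [Algebra R T] [Module.Flat R T]
    [Algebra (Localization.Away g) T] [IsScalarTower R (Localization.Away g) T]
    (hprime : ∀ q : Ideal R, q.IsPrime → g ∉ q →
      ∃ Q : Ideal T, Q.IsPrime ∧ Q.comap (algebraMap R T) = q) :
    Module.FaithfullyFlat (Localization.Away g) T := by
  haveI : Module.Flat (Localization.Away g) T :=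
    (Module.flat_iff_of_isLocalization (Localization.Away g) (Submonoid.powers g) T).2
      inferInstance
  apply Module.FaithfullyFlat.of_comap_surjective
  intro 𝔭
  have hgq : g ∉ 𝔭.asIdeal.comap (algebraMap R (Localization.Away g)) := by
    intro hmem
    exact 𝔭.isPrime.ne_top
      (Ideal.eq_top_of_isUnit_mem _ hmem (IsLocalization.Away.algebraMap_isUnit g))
  obtain ⟨Q, hQ, hQq⟩ := hprime _ (Ideal.comap_isPrime _ _) hgq
  refine ⟨⟨Q, hQ⟩, ?_⟩
  apply PrimeSpectrum.localization_comap_injective (Localization.Away g) (Submonoid.powers g)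
  apply PrimeSpectrum.ext
  show (Q.comap (algebraMap (Localization.Away g) T)).comap
    (algebraMap R (Localization.Away g)) = 𝔭.asIdeal.comap _
  rw [Ideal.comap_comap, ← IsScalarTower.algebraMap_eq, hQq]

theorem exists_descent_elem (g : R) (T : Type u) [CommRing T] [Algebra R T]
    [Algebra (Localization.Away g) T] [IsScalarTower R (Localization.Away g) T]
    [Module.FaithfullyFlat (Localization.Away g) T] (x : T)
    (hx : x ⊗ₜ[R] (1 : T) = (1 : T) ⊗ₜ[R] x) :
    ∃ (n : ℕ) (a : R), x * algebraMap R T g ^ n = algebraMap R T a := by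
  have hx' : x ⊗ₜ[Localization.Away g] (1 : T) = (1 : T) ⊗ₜ[Localization.Away g] x := by
    have h := congrArg (TensorProduct.mapOfCompatibleSMul (Localization.Away g) R R T T) hx
    rwa [TensorProduct.mapOfCompatibleSMul_tmul, TensorProduct.mapOfCompatibleSMul_tmul] at h
  obtain ⟨m, hm⟩ := exists_of_eq T (Localization.Away g)
    (x ⊗ₜ[Localization.Away g] (1 : Localization.Away g))
    (Module.FaithfullyFlat.tensorProduct_mk_injective _)
    (by
      rw [LinearMap.rTensor_tmul, LinearMap.rTensor_tmul, AlgHom.toLinearMap_apply,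
        AlgHom.toLinearMap_apply, Algebra.TensorProduct.includeLeft_apply,
        Algebra.TensorProduct.includeRight_apply, hx'])
  have h1 := congrArg (TensorProduct.rid (Localization.Away g) T) hm
  rw [TensorProduct.rid_tmul, TensorProduct.rid_tmul, one_smul, Algebra.smul_def, mul_one] at h1
  obtain ⟨n, a, hna⟩ := IsLocalization.Away.surj g m
  refine ⟨n, a, ?_⟩
  have h2 := congrArg (algebraMap (Localization.Away g) T) hna
  rw [map_mul, map_pow, ← IsScalarTower.algebraMap_apply, ← IsScalarTower.algebraMap_apply,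
    ← h1] at h2
  exact h2

variable {B : Type u} [CommRing B] [HopfAlgebra R B]

theorem isMultType_of_forall_prime
    (h : ∀ p : Ideal R, p.IsPrime → ∃ g : R, g ∉ p ∧
      SGA3b.IsMultTypeConst (Localization.Away g) (Localization.Away g ⊗[R] B)) :
    SGA3b.IsMultType R B := by
  refine ⟨{g | SGA3b.IsMultTypeConst (Localization.Away g) (Localization.Away g ⊗[R] B)}, ?_,
    fun g hg => hg⟩
  by_contra hne
  obtain ⟨m, hm, hle⟩ := Ideal.exists_le_maximal _ hne
  obtain ⟨g, hgm, hg⟩ := h m hm.isPrime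
  exact hgm (hle (Ideal.subset_span hg))

theorem isMultTypeConst_away (g : R) (T : Type u) [CommRing T] [Algebra R T] [Module.Flat R T]
    (hunit : IsUnit (algebraMap R T g))
    (hprime : ∀ q : Ideal R, q.IsPrime → g ∉ q →
      ∃ Q : Ideal T, Q.IsPrime ∧ Q.comap (algebraMap R T) = q)
    (hdiag : SGA3b.IsDiag T (T ⊗[R] B)) :
    SGA3b.IsMultTypeConst (Localization.Away g) (Localization.Away g ⊗[R] B) := by
  letI : Algebra (Localization.Away g) T := (IsLocalization.Away.lift g hunit).toAlgebra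
  haveI : IsScalarTower R (Localization.Away g) T :=
    IsScalarTower.of_algebraMap_eq fun r => (IsLocalization.Away.lift_eq g hunit r).symm
  have hff : Module.FaithfullyFlat (Localization.Away g) T := faithfullyFlat_away g T hprime
  obtain ⟨M, _, ⟨e⟩⟩ := hdiag
  refine ⟨T, inferInstance, inferInstance, hff, M, inferInstance, ⟨?_⟩⟩
  have hbij : Function.Bijective
      (MultQuot.cancelBialgHom (L := R) (R' := Localization.Away g) (K := T) (B := B)) := by
    constructor
    · intro a b hab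
      rw [MultQuot.cancelBialgHom_apply, MultQuot.cancelBialgHom_apply] at hab
      exact (Algebra.TensorProduct.cancelBaseChange R (Localization.Away g) T T B).injective hab
    · exact MultQuot.cancelBialgHom_surjective
  exact (BialgEquiv.ofBijective _ hbij).trans e

end General

section Main

variable {R : Type u} [CommRing R] {A : Type u} [CommRing A] [HopfAlgebra R A]
  {C : Type u} [CommRing C] [HopfAlgebra R C] (φ : C →ₐc[R] A)
  (J : Ideal A) [J.IsHopfIdeal R]
  (hJ : J = Ideal.map φ (RingHom.ker (Bialgebra.counitAlgHom R C)))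

lemma _root_.Groth.Agent.Lib.Helper19.GLift.Chart.isUnit_f {f : R} (c : Chart R A f) :
    IsUnit (algebraMap R c.S f) :=
  (IsLocalization.Away.algebraMap_isUnit (S := Localization.Away f) f).map
    (algebraMap (Localization.Away f) c.S)

instance _root_.Groth.Agent.Lib.Helper19.GLift.Chart.flatR {f : R} (c : Chart R A f) :
    Module.Flat R c.S :=
  Module.Flat.trans R (Localization.Away f) c.S

variable {f f' : R} (cA : Chart R A f) (cC : Chart R C f')

lemma isUnit_S0 : IsUnit (algebraMap R (cA.S ⊗[R] cC.S) (f * f')) := by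
  rw [map_mul]
  apply IsUnit.mul
  · have h1 := (Algebra.TensorProduct.includeLeft : cA.S →ₐ[R] cA.S ⊗[R] cC.S).commutes f
    rw [← h1]
    exact cA.isUnit_f.map _
  · have h1 := (Algebra.TensorProduct.includeRight : cC.S →ₐ[R] cA.S ⊗[R] cC.S).commutes f'
    rw [← h1]
    exact cC.isUnit_f.map _

lemma exists_prime_S0 (q : Ideal R) [q.IsPrime] (hf : f ∉ q) (hf' : f' ∉ q) :
    ∃ Q : Ideal (cA.S ⊗[R] cC.S), Q.IsPrime ∧ Q.comap (algebraMap R (cA.S ⊗[R] cC.S)) = q := by
  obtain ⟨QA, hQA, hA⟩ := cA.exists_prime q hf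
  obtain ⟨QC, hQC, hC⟩ := cC.exists_prime q hf'
  obtain ⟨Q, hQ, h1, -⟩ := exists_prime_tensor QA QC (hA.trans hC.symm)
  refine ⟨Q, hQ, ?_⟩
  rw [IsScalarTower.algebraMap_eq R cA.S (cA.S ⊗[R] cC.S), ← Ideal.comap_comap, h1, hA]

variable {ι : Type u} [Fintype ι] {T : Type u} [CommRing T] [Algebra R T] {M : Type u}
  [CommGroup M] (dA : GLB R T A M) (a : AugGen R T C ι)

lemma eT_mul_self (σ₀ : ι → M) : eT φ dA a σ₀ * eT φ dA a σ₀ = eT φ dA a σ₀ := by
  unfold eT
  rw [Finset.sum_mul]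
  refine Finset.sum_congr rfl fun σ hσ => ?_
  rw [Finset.mul_sum, Finset.sum_eq_single σ]
  · exact ee_mul_self _ (xx_gl φ dA a) σ
  · intro τ _ hτ
    exact ee_mul_of_ne _ (xx_gl φ dA a) (Ne.symm hτ)
  · intro h
    exact absurd hσ h

include hJ in
/-- the kernel is diagonalisable over the component of the type of `σ₀` -/
theorem isDiag_component (σ₀ : ι → M) :
    SGA3b.IsDiag (T ⧸ Ideal.span {1 - eT φ dA a σ₀})
      ((T ⧸ Ideal.span {1 - eT φ dA a σ₀}) ⊗[R] (A ⧸ J)) := by
  obtain ⟨E, hE⟩ : ∃ E : T, E = eT φ dA a σ₀ := ⟨_, rfl⟩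
  rw [← hE]
  obtain ⟨F, hF⟩ : ∃ F : Finset (ι → M), F = (Sig (xx φ dA a)).filter (cls σ₀) := ⟨_, rfl⟩
  have hEsum : E = ∑ σ ∈ F, ee (xx φ dA a) σ := by rw [hE, hF]; rfl
  have hFcls : ∀ σ ∈ F, cls σ₀ σ := by
    intro σ hσ
    rw [hF] at hσ
    exact (Finset.mem_filter.1 hσ).2
  obtain ⟨e', he'⟩ : ∃ e' : {σ // σ ∈ F} → T ⧸ Ideal.span {1 - E},
      e' = fun k => Ideal.Quotient.mk _ (ee (xx φ dA a) k.1) := ⟨_, rfl⟩
  have hmkE : Ideal.Quotient.mk (Ideal.span {1 - E}) E = 1 := by
    have h : Ideal.Quotient.mk (Ideal.span {1 - E}) (1 - E) = 0 :=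
      Ideal.Quotient.eq_zero_iff_mem.2 (Ideal.subset_span rfl)
    rw [map_sub, map_one, sub_eq_zero] at h
    exact h.symm
  have hsum : ∑ k, e' k = 1 := by
    rw [he', Finset.sum_coe_sort F (fun σ => Ideal.Quotient.mk (Ideal.span {1 - E})
      (ee (xx φ dA a) σ)), ← map_sum, ← hEsum, hmkE]
  have horth : ∀ k k', k ≠ k' → e' k * e' k' = 0 := by
    intro k k' hkk'
    rw [he']
    show Ideal.Quotient.mk _ (ee (xx φ dA a) k.1) * Ideal.Quotient.mk _ (ee (xx φ dA a) k'.1) = 0
    rw [← map_mul, ee_mul_of_ne _ (xx_gl φ dA a) (fun h => hkk' (Subtype.ext h)), map_zero]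
  have hcomp : ∀ k : {σ // σ ∈ F}, Nonempty (GLB R (Ti e' k) (A ⧸ J)
      (M ⧸ Subgroup.closure (Set.range σ₀))) := by
    intro k
    have hk : ((prj R e' k).comp (Ideal.Quotient.mkₐ R (Ideal.span {1 - E})))
        (ee (xx φ dA a) k.1) = 1 := by
      have h1 := prj_self (R := R) e' k
      rw [he'] at h1
      rw [he']
      exact h1
    obtain ⟨d⟩ := nonempty_glb_component φ J hJ dA a
      ((prj R e' k).comp (Ideal.Quotient.mkₐ R (Ideal.span {1 - E}))) k.1 hk
    have hcls : cls σ₀ k.1 := hFcls k.1 k.2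
    obtain ⟨ε⟩ := hcls
    exact ⟨d.congr ε.symm⟩
  obtain ⟨d⟩ := nonempty_glb_of_components e' hsum horth (fun k => Classical.choice (hcomp k))
  exact d.isDiag

include hJ cA cC in
theorem exists_away_const (p : Ideal R) [hp : p.IsPrime] (hf : f ∉ p) (hf' : f' ∉ p)
    (hft : Algebra.FiniteType R C) :
    ∃ g : R, g ∉ p ∧
      SGA3b.IsMultTypeConst (Localization.Away g) (Localization.Away g ⊗[R] (A ⧸ J)) := by
  obtain ⟨QC, hQC, -⟩ := cC.exists_prime p hf'
  haveI : Nontrivial cC.S := by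
    refine ⟨⟨0, 1, fun h01 => hQC.ne_top ((Ideal.eq_top_iff_one QC).2 ?_)⟩⟩
    rw [← h01]
    exact QC.zero_mem
  obtain ⟨ι, _, ⟨a₀⟩⟩ := cC.exists_augGen hft
  have hbijA : Function.Bijective cA.thetaB :=
    ⟨Function.LeftInverse.injective (g := cA.theta) cA.theta_thetaB,
      fun z => ⟨cA.theta z, cA.thetaB_theta z⟩⟩
  have dA : GLB R (cA.S ⊗[R] cC.S) A cA.N :=
    (GLB.ofEquiv (BialgEquiv.ofBijective cA.thetaB hbijA)).map
      Algebra.TensorProduct.includeLeft
  have a : AugGen R (cA.S ⊗[R] cC.S) C ι := a₀.map Algebra.TensorProduct.includeRight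
  -- a prime over `p` and its component
  obtain ⟨P₀, hP₀, hP₀p⟩ := exists_prime_S0 cA cC p hf hf'
  have hσ₀ : ∃ σ₀ ∈ Sig (xx φ dA a), ee (xx φ dA a) σ₀ ∉ P₀ := by
    by_contra hcon
    push Not at hcon
    have h1 : (1 : cA.S ⊗[R] cC.S) ∈ P₀ := by
      rw [← sum_ee _ (xx_gl φ dA a)]
      exact Ideal.sum_mem _ hcon
    exact hP₀.ne_top ((Ideal.eq_top_iff_one _).2 h1)
  obtain ⟨σ₀, hσ₀S, hσ₀P⟩ := hσ₀
  obtain ⟨E, hE⟩ : ∃ E : cA.S ⊗[R] cC.S, E = eT φ dA a σ₀ := ⟨_, rfl⟩
  have hEdesc : E ⊗ₜ[R] (1 : cA.S ⊗[R] cC.S) = (1 : cA.S ⊗[R] cC.S) ⊗ₜ[R] E := by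
    rw [hE]
    exact eT_tmul_one φ J hJ dA a σ₀
  have hEidem : IsIdempotentElem E := by
    rw [hE]
    exact eT_mul_self φ dA a σ₀
  have hEP : E ∉ P₀ := by
    intro hmem
    apply hσ₀P
    rw [← eT_mul_ee φ dA a σ₀ hσ₀S, ← hE]
    exact Ideal.mul_mem_right _ _ hmem
  -- descent of the idempotent
  have hunit := isUnit_S0 cA cC
  letI : Algebra (Localization.Away (f * f')) (cA.S ⊗[R] cC.S) :=
    (IsLocalization.Away.lift (f * f') hunit).toAlgebra
  haveI : IsScalarTower R (Localization.Away (f * f')) (cA.S ⊗[R] cC.S) :=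
    IsScalarTower.of_algebraMap_eq fun r =>
      (IsLocalization.Away.lift_eq (f * f') hunit r).symm
  have hprime0 : ∀ q : Ideal R, q.IsPrime → f * f' ∉ q →
      ∃ Q : Ideal (cA.S ⊗[R] cC.S), Q.IsPrime ∧
        Q.comap (algebraMap R (cA.S ⊗[R] cC.S)) = q := by
    intro q hq hgq
    haveI := hq
    exact exists_prime_S0 cA cC q (fun h => hgq (Ideal.mul_mem_right _ _ h))
      (fun h => hgq (Ideal.mul_mem_left _ _ h))
  haveI : Module.FaithfullyFlat (Localization.Away (f * f')) (cA.S ⊗[R] cC.S) :=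
    faithfullyFlat_away (f * f') (cA.S ⊗[R] cC.S) hprime0
  obtain ⟨n, a', ha'⟩ := exists_descent_elem (f * f') (cA.S ⊗[R] cC.S) E hEdesc
  refine ⟨(f * f') * a', ?_, ?_⟩
  · intro hg
    rcases hp.mem_or_mem hg with h1 | h1
    · rcases hp.mem_or_mem h1 with h2 | h2
      · exact hf h2
      · exact hf' h2
    · have h3 : algebraMap R (cA.S ⊗[R] cC.S) a' ∈ P₀ := by
        rw [← hP₀p] at h1
        exact h1
      rw [← ha'] at h3
      rcases hP₀.mem_or_mem h3 with h4 | h4
      · exact hEP h4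
      · exact hP₀.ne_top (Ideal.eq_top_of_isUnit_mem _ h4 (hunit.pow n))
  · have hmkE : Ideal.Quotient.mk (Ideal.span {1 - E}) E = 1 := by
      have h : Ideal.Quotient.mk (Ideal.span {1 - E}) (1 - E) = 0 :=
        Ideal.Quotient.eq_zero_iff_mem.2 (Ideal.subset_span rfl)
      rw [map_sub, map_one, sub_eq_zero] at h
      exact h.symm
    haveI : IsLocalization.Away E ((cA.S ⊗[R] cC.S) ⧸ Ideal.span {1 - E}) :=
      IsLocalization.away_of_isIdempotentElem hEidem Ideal.mk_ker Ideal.Quotient.mk_surjective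
    haveI : Module.Flat (cA.S ⊗[R] cC.S) ((cA.S ⊗[R] cC.S) ⧸ Ideal.span {1 - E}) :=
      IsLocalization.flat _ (Submonoid.powers E)
    haveI : Module.Flat R ((cA.S ⊗[R] cC.S) ⧸ Ideal.span {1 - E}) :=
      Module.Flat.trans R (cA.S ⊗[R] cC.S) _
    apply isMultTypeConst_away ((f * f') * a') ((cA.S ⊗[R] cC.S) ⧸ Ideal.span {1 - E})
    · obtain ⟨u, hu⟩ : ∃ u : cA.S ⊗[R] cC.S, u = algebraMap R (cA.S ⊗[R] cC.S) (f * f') :=
        ⟨_, rfl⟩
      have hunit' : IsUnit u := by rw [hu]; exact hunit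
      have ha'' : E * u ^ n = algebraMap R (cA.S ⊗[R] cC.S) a' := by rw [hu]; exact ha'
      have h2 : algebraMap R (cA.S ⊗[R] cC.S) ((f * f') * a') = u * (E * u ^ n) := by
        rw [map_mul (algebraMap R (cA.S ⊗[R] cC.S)) (f * f') a', ← hu, ha'']
      have h1 : algebraMap R ((cA.S ⊗[R] cC.S) ⧸ Ideal.span {1 - E}) ((f * f') * a') =
          Ideal.Quotient.mk (Ideal.span {1 - E}) (u * (E * u ^ n)) := by
        rw [← h2]
        rfl
      rw [h1, map_mul, map_mul, map_pow, hmkE, one_mul]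
      exact (hunit'.map (Ideal.Quotient.mk (Ideal.span {1 - E}))).mul
        ((hunit'.map (Ideal.Quotient.mk (Ideal.span {1 - E}))).pow n)
    · intro q hq hgq
      haveI := hq
      have hq1 : f * f' ∉ q := fun h => hgq (Ideal.mul_mem_right _ _ h)
      have hq2 : a' ∉ q := fun h => hgq (Ideal.mul_mem_left _ _ h)
      obtain ⟨Q₀, hQ₀, hQ₀q⟩ := hprime0 q hq hq1
      haveI := hQ₀
      have hEQ : E ∉ Q₀ := by
        intro hmem
        apply hq2
        rw [← hQ₀q, Ideal.mem_comap, ← ha']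
        exact Ideal.mul_mem_right _ _ hmem
      have h1E : Ideal.span {1 - E} ≤ Q₀ := by
        rw [Ideal.span_le, Set.singleton_subset_iff]
        have h0 : E * (1 - E) ∈ Q₀ := by
          rw [mul_sub, mul_one, hEidem.eq, sub_self]
          exact Q₀.zero_mem
        rcases hQ₀.mem_or_mem h0 with h | h
        · exact absurd h hEQ
        · exact h
      obtain ⟨Q, hQ, hQc⟩ := exists_prime_quot (Ideal.span {1 - E}) Q₀ h1E
      refine ⟨Q, hQ, ?_⟩
      rw [IsScalarTower.algebraMap_eq R (cA.S ⊗[R] cC.S)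
        ((cA.S ⊗[R] cC.S) ⧸ Ideal.span {1 - E}), ← Ideal.comap_comap]
      show (Q.comap (Ideal.Quotient.mk (Ideal.span {1 - E}))).comap _ = q
      rw [hQc, hQ₀q]
    · rw [hE]
      exact isDiag_component φ J hJ dA a σ₀

include hJ in
theorem kernel_isMultType (hA : SGA3b.IsMultType R A) (hC : SGA3b.IsMultType R C)
    (hCft : Algebra.FiniteType R C) : SGA3b.IsMultType R (A ⧸ J) := by
  apply isMultType_of_forall_prime
  intro p hp
  haveI := hp
  obtain ⟨sA, hsA, hA'⟩ := hA
  obtain ⟨sC, hsC, hC'⟩ := hC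
  have exA : ∃ f ∈ sA, f ∉ p := by
    by_contra hcon
    push Not at hcon
    have h1 : Ideal.span sA ≤ p := Ideal.span_le.2 hcon
    rw [hsA] at h1
    exact hp.ne_top (top_le_iff.1 h1)
  have exC : ∃ f ∈ sC, f ∉ p := by
    by_contra hcon
    push Not at hcon
    have h1 : Ideal.span sC ≤ p := Ideal.span_le.2 hcon
    rw [hsC] at h1
    exact hp.ne_top (top_le_iff.1 h1)
  obtain ⟨f, hfA, hf⟩ := exA
  obtain ⟨f', hfC, hf'⟩ := exC
  obtain ⟨cA⟩ := Chart.nonempty_of_const (hA' f hfA)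
  obtain ⟨cC⟩ := Chart.nonempty_of_const (hC' f' hfC)
  exact exists_away_const φ J hJ cA cC p hf hf' hCft

end Main

end Groth.Agent.Lib.Helper19.KerMT
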