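import Mathlib
import Groth.Prelude.Def_SGA3b
import Groth.Agent.Lib.Helper19.KerMT5
import Groth.Agent.Lib.Helper19.GLift4
import Groth.Agent.Lib.Helper19.EtLift1

/-!
# Isotriviality of groups of multiplicative type modulo a nil ideal (helper19)

* `isDiag_cancel_iff`, `isDiag_map`: transport of diagonalisability along base rings;
* `isMultType_baseChange`: base change of groups of multiplicative type;
* `isDiag_of_surjective_nil`: for `A` of multiplicative type over `R` and a surjection of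
  `R`-algebras `T → T₀` with nil kernel, `A_T` is diagonalisable if `A_{T₀}` is;
* `isIsotrivial_of_mod_nil`, `isQuasiIsotrivial_of_mod_nil`.
-/

set_option autoImplicit false
universe u
open TensorProduct

namespace Groth.Agent.Lib.Helper19.EtLift

open Groth.Agent.Lib.Helper19.GLift Groth.Agent.Lib.Helper19.KerMT Groth.Agent.Lib.Helper28

section Transport

variable {R : Type u} [CommRing R] {A : Type u} [CommRing A] [HopfAlgebra R A]

lemma isDiag_iff_glb (T : Type u) [CommRing T] [Algebra R T] :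
    SGA3b.IsDiag T (T ⊗[R] A) ↔
      ∃ (G : Type u) (_ : CommGroup G), Nonempty (GLB R T A G) := by
  constructor
  · rintro ⟨G, _, ⟨e⟩⟩
    exact ⟨G, inferInstance, ⟨GLB.ofEquiv e.symm⟩⟩
  · rintro ⟨G, _, ⟨d⟩⟩
    exact d.isDiag

lemma isDiag_map {T T' : Type u} [CommRing T] [Algebra R T] [CommRing T'] [Algebra R T']
    (ρ : T →ₐ[R] T') (h : SGA3b.IsDiag T (T ⊗[R] A)) : SGA3b.IsDiag T' (T' ⊗[R] A) := by
  obtain ⟨G, _, ⟨d⟩⟩ := (isDiag_iff_glb T).1 h
  exact (d.map ρ).isDiag

lemma isDiag_cancel_iff (R' K : Type u) [CommRing R'] [CommRing K] [Algebra R R'] [Algebra R K]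
    [Algebra R' K] [IsScalarTower R R' K] :
    SGA3b.IsDiag K (K ⊗[R'] (R' ⊗[R] A)) ↔ SGA3b.IsDiag K (K ⊗[R] A) := by
  have hbij : Function.Bijective
      (MultQuot.cancelBialgHom (L := R) (R' := R') (K := K) (B := A)) := by
    constructor
    · intro a b hab
      rw [MultQuot.cancelBialgHom_apply, MultQuot.cancelBialgHom_apply] at hab
      exact (Algebra.TensorProduct.cancelBaseChange R R' K K A).injective hab
    · exact MultQuot.cancelBialgHom_surjective
  obtain ⟨E, -⟩ : ∃ _E : K ⊗[R'] (R' ⊗[R] A) ≃ₐc[K] K ⊗[R] A, True :=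
    ⟨BialgEquiv.ofBijective _ hbij, trivial⟩
  constructor
  · rintro ⟨G, _, ⟨e⟩⟩
    exact ⟨G, inferInstance, ⟨E.symm.trans e⟩⟩
  · rintro ⟨G, _, ⟨e⟩⟩
    exact ⟨G, inferInstance, ⟨E.trans e⟩⟩

theorem isMultType_baseChange (hA : SGA3b.IsMultType R A) (R' : Type u) [CommRing R']
    [Algebra R R'] : SGA3b.IsMultType R' (R' ⊗[R] A) := by
  obtain ⟨s, hs, hconst⟩ := hA
  apply isMultType_of_forall_prime
  intro p' hp'
  haveI := hp'
  have exf : ∃ f ∈ s, algebraMap R R' f ∉ p' := by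
    by_contra hcon
    push Not at hcon
    have h1 : Ideal.span s ≤ p'.comap (algebraMap R R') :=
      Ideal.span_le.2 (fun f hf => hcon f hf)
    rw [hs] at h1
    have h2 : (1 : R) ∈ p'.comap (algebraMap R R') := h1 Submodule.mem_top
    rw [Ideal.mem_comap, map_one] at h2
    exact hp'.ne_top ((Ideal.eq_top_iff_one _).2 h2)
  obtain ⟨f, hfs, hfp⟩ := exf
  obtain ⟨c⟩ := Chart.nonempty_of_const (hconst f hfs)
  refine ⟨algebraMap R R' f, hfp, ?_⟩
  apply isMultTypeConst_away (algebraMap R R' f) (R' ⊗[R] c.S)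
  · have h1 := (Algebra.TensorProduct.includeRight : c.S →ₐ[R] R' ⊗[R] c.S).commutes f
    rw [← IsScalarTower.algebraMap_apply R R' (R' ⊗[R] c.S), ← h1]
    exact c.isUnit_f.map _
  · intro q' hq' hfq'
    haveI := hq'
    have hfq : f ∉ q'.comap (algebraMap R R') := hfq'
    obtain ⟨Q, hQ, hQq⟩ := c.exists_prime (q'.comap (algebraMap R R')) hfq
    haveI := hQ
    obtain ⟨P, hP, hP1, -⟩ := exists_prime_tensor q' Q hQq.symm
    exact ⟨P, hP, hP1⟩
  · have hbij : Function.Bijective c.thetaB :=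
      ⟨Function.LeftInverse.injective (g := c.theta) c.theta_thetaB,
        fun z => ⟨c.theta z, c.thetaB_theta z⟩⟩
    have d : GLB R (R' ⊗[R] c.S) A c.N :=
      (GLB.ofEquiv (BialgEquiv.ofBijective c.thetaB hbij)).map
        Algebra.TensorProduct.includeRight
    exact (isDiag_cancel_iff R' (R' ⊗[R] c.S)).2 d.isDiag

theorem isDiag_of_surjective_nil (hA : SGA3b.IsMultType R A) {T T₀ : Type u} [CommRing T]
    [CommRing T₀] [Algebra R T] [Algebra R T₀] (φ : T →ₐ[R] T₀) (hφ : Function.Surjective φ)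
    (hnil : ∀ x ∈ RingHom.ker φ, IsNilpotent x) (h0 : SGA3b.IsDiag T₀ (T₀ ⊗[R] A)) :
    SGA3b.IsDiag T (T ⊗[R] A) := by
  have h1 : SGA3b.IsDiag (T ⧸ RingHom.ker φ) ((T ⧸ RingHom.ker φ) ⊗[R] A) :=
    isDiag_map (Ideal.quotientKerAlgEquivOfSurjective hφ).symm.toAlgHom h0
  have h2 : SGA3b.IsDiag (T ⧸ RingHom.ker φ) ((T ⧸ RingHom.ker φ) ⊗[T] (T ⊗[R] A)) :=
    (isDiag_cancel_iff T (T ⧸ RingHom.ker φ)).2 h1
  exact isDiag_of_isDiag_mod_nil (RingHom.ker φ) hnil (isMultType_baseChange hA T) h2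

end Transport

section Away

lemma away_surjective {R : Type u} [CommRing R] (I : Ideal R) (f : R)
    (L : Type u) [CommRing L] [Algebra R L] [IsLocalization.Away f L]
    (L₀ : Type u) [CommRing L₀] [Algebra (R ⧸ I) L₀]
    [IsLocalization.Away (Ideal.Quotient.mk I f) L₀]
    [Algebra R L₀] [IsScalarTower R (R ⧸ I) L₀] [Algebra L L₀] [IsScalarTower R L L₀] :
    Function.Surjective (algebraMap L L₀) := by
  intro y
  obtain ⟨n, a, hna⟩ := IsLocalization.Away.surj (Ideal.Quotient.mk I f) y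
  obtain ⟨r, rfl⟩ := Ideal.Quotient.mk_surjective a
  refine ⟨algebraMap R L r * IsLocalization.Away.invSelf f ^ n, ?_⟩
  have hu : IsUnit (algebraMap (R ⧸ I) L₀ (Ideal.Quotient.mk I f)) :=
    IsLocalization.Away.algebraMap_isUnit _
  have h1 : algebraMap (R ⧸ I) L₀ (Ideal.Quotient.mk I f) =
      algebraMap L L₀ (algebraMap R L f) :=
    (IsScalarTower.algebraMap_apply R (R ⧸ I) L₀ f).symm.trans
      (IsScalarTower.algebraMap_apply R L L₀ f)
  have h2 : algebraMap (R ⧸ I) L₀ (Ideal.Quotient.mk I r) =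
      algebraMap L L₀ (algebraMap R L r) :=
    (IsScalarTower.algebraMap_apply R (R ⧸ I) L₀ r).symm.trans
      (IsScalarTower.algebraMap_apply R L L₀ r)
  refine (hu.pow n).mul_left_inj.1 ?_
  rw [hna, h2, h1, ← map_pow, ← map_mul, mul_assoc, ← mul_pow,
    mul_comm (IsLocalization.Away.invSelf f), IsLocalization.Away.mul_invSelf, one_pow, mul_one]

lemma away_ker_nil {R : Type u} [CommRing R] (I : Ideal R) (hI : ∀ x ∈ I, IsNilpotent x) (f : R)
    (L : Type u) [CommRing L] [Algebra R L] [IsLocalization.Away f L]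
    (L₀ : Type u) [CommRing L₀] [Algebra (R ⧸ I) L₀]
    [IsLocalization.Away (Ideal.Quotient.mk I f) L₀]
    [Algebra R L₀] [IsScalarTower R (R ⧸ I) L₀] [Algebra L L₀] [IsScalarTower R L L₀] :
    ∀ x ∈ RingHom.ker (algebraMap L L₀), IsNilpotent x := by
  intro x hx
  rw [RingHom.mem_ker] at hx
  obtain ⟨n, a, hna⟩ := IsLocalization.Away.surj f x
  have h2 : algebraMap (R ⧸ I) L₀ (Ideal.Quotient.mk I a) =
      algebraMap L L₀ (algebraMap R L a) :=
    (IsScalarTower.algebraMap_apply R (R ⧸ I) L₀ a).symm.trans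
      (IsScalarTower.algebraMap_apply R L L₀ a)
  have h0 : algebraMap (R ⧸ I) L₀ (Ideal.Quotient.mk I a) = 0 := by
    have h3 := congrArg (algebraMap L L₀) hna
    rw [map_mul, hx, zero_mul] at h3
    rw [h2]
    exact h3.symm
  obtain ⟨⟨_, k, rfl⟩, hk⟩ :=
    (IsLocalization.map_eq_zero_iff (Submonoid.powers (Ideal.Quotient.mk I f)) L₀ _).1 h0
  have hmem : f ^ k * a ∈ I := by
    rw [← Ideal.Quotient.eq_zero_iff_mem, map_mul, map_pow]
    exact hk
  obtain ⟨N, hN⟩ := hI _ hmem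
  have hu : IsUnit (algebraMap R L f) := IsLocalization.Away.algebraMap_isUnit f
  have h3 : (algebraMap R L a) ^ N = 0 := by
    have h4 := congrArg (algebraMap R L) hN
    rw [map_pow, map_mul, map_pow, mul_pow, map_zero] at h4
    exact ((hu.pow k).pow N).mul_right_eq_zero.1 h4
  refine ⟨N, ?_⟩
  have h5 : (x * algebraMap R L f ^ n) ^ N = 0 := by rw [hna, h3]
  rw [mul_pow] at h5
  exact ((hu.pow n).pow N).mul_left_eq_zero.1 h5

end Away

section Main

variable {R : Type u} [CommRing R] {A : Type u} [CommRing A] [HopfAlgebra R A]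

theorem isIsotrivial_of_mod_nil (I : Ideal R) (hI : ∀ x ∈ I, IsNilpotent x)
    (h : SGA3b.IsMultType R A) (h0 : SGA3b.IsIsotrivial (R ⧸ I) ((R ⧸ I) ⊗[R] A)) :
    SGA3b.IsIsotrivial R A := by
  obtain ⟨R'₀, _, _, het, hfin, hff, hdiag⟩ := h0
  letI : Algebra R R'₀ := ((algebraMap (R ⧸ I) R'₀).comp (algebraMap R (R ⧸ I))).toAlgebra
  haveI : IsScalarTower R (R ⧸ I) R'₀ := IsScalarTower.of_algebraMap_eq (fun _ => rfl)
  have hd1 : SGA3b.IsDiag R'₀ (R'₀ ⊗[R] A) := (isDiag_cancel_iff (R ⧸ I) R'₀).1 hdiag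
  haveI := het
  obtain ⟨T, _, _, φ, hTet, hφs, hφn, hTff, hTfin⟩ :=
    exists_etale_lift (L := R) (L₀ := R ⧸ I) Ideal.Quotient.mk_surjective
      (fun x hx => hI x (by rwa [Ideal.Quotient.algebraMap_eq, Ideal.mk_ker] at hx)) R'₀
  exact ⟨T, inferInstance, inferInstance, hTet, hTfin hfin, hTff hff,
    isDiag_of_surjective_nil h φ hφs hφn hd1⟩

theorem quasiConst_of_mod_nil (h : SGA3b.IsMultType R A)
    (L : Type u) [CommRing L] [Algebra R L] (L₀ : Type u) [CommRing L₀] [Algebra R L₀]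
    [Algebra L L₀] [IsScalarTower R L L₀]
    (hsurj : Function.Surjective (algebraMap L L₀))
    (hnil : ∀ x ∈ RingHom.ker (algebraMap L L₀), IsNilpotent x)
    (T₀ : Type u) [CommRing T₀] [Algebra L₀ T₀] [Algebra.Etale L₀ T₀]
    [Module.FaithfullyFlat L₀ T₀] [Algebra R T₀] [IsScalarTower R L₀ T₀]
    (hd : SGA3b.IsDiag T₀ (T₀ ⊗[R] A)) :
    SGA3b.IsQuasiIsotrivialConst L (L ⊗[R] A) := by
  letI : Algebra L T₀ := ((algebraMap L₀ T₀).comp (algebraMap L L₀)).toAlgebra
  haveI : IsScalarTower L L₀ T₀ := IsScalarTower.of_algebraMap_eq (fun _ => rfl)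
  haveI : IsScalarTower R L T₀ := IsScalarTower.of_algebraMap_eq (fun r => by
    show algebraMap R T₀ r = algebraMap L₀ T₀ (algebraMap L L₀ (algebraMap R L r))
    rw [← IsScalarTower.algebraMap_apply R L L₀, ← IsScalarTower.algebraMap_apply R L₀ T₀])
  obtain ⟨T, _, _, φ, hTet, hφs, hφn, hTff, -⟩ := exists_etale_lift hsurj hnil T₀
  refine ⟨T, inferInstance, inferInstance, hTet, hTff inferInstance, ?_⟩
  letI : Algebra R T := ((algebraMap L T).comp (algebraMap R L)).toAlgebra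
  haveI : IsScalarTower R L T := IsScalarTower.of_algebraMap_eq (fun _ => rfl)
  exact (isDiag_cancel_iff L T).2
    (isDiag_of_surjective_nil h (φ.restrictScalars R) hφs
      (fun x hx => hφn x (by rw [RingHom.mem_ker] at hx ⊢; exact hx)) hd)

theorem isQuasiIsotrivial_of_mod_nil (I : Ideal R) (hI : ∀ x ∈ I, IsNilpotent x)
    (h : SGA3b.IsMultType R A)
    (h0 : SGA3b.IsQuasiIsotrivial (R ⧸ I) ((R ⧸ I) ⊗[R] A)) :
    SGA3b.IsQuasiIsotrivial R A := by
  obtain ⟨s₀, hs₀, hconst⟩ := h0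
  refine ⟨(Ideal.Quotient.mk I) ⁻¹' s₀, ?_, ?_⟩
  · have h1 : (Ideal.span ((Ideal.Quotient.mk I) ⁻¹' s₀)).map (Ideal.Quotient.mk I) = ⊤ := by
      rw [Ideal.map_span, Set.image_preimage_eq s₀ Ideal.Quotient.mk_surjective, hs₀]
    have h2 : (1 : R ⧸ I) ∈ (Ideal.span ((Ideal.Quotient.mk I) ⁻¹' s₀)).map
        (Ideal.Quotient.mk I) := by
      rw [h1]
      exact Submodule.mem_top
    obtain ⟨j, hj, hj1⟩ :=
      (Ideal.mem_map_iff_of_surjective (Ideal.Quotient.mk I) Ideal.Quotient.mk_surjective).1 h2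
    have h3 : 1 - j ∈ I := by
      rw [← Ideal.Quotient.eq_zero_iff_mem, map_sub, map_one, hj1, sub_self]
    have h4 : IsUnit j := by
      have h5 := (hI _ h3).isUnit_one_sub
      rwa [sub_sub_cancel] at h5
    exact Ideal.eq_top_of_isUnit_mem _ hj h4
  · intro f hf
    obtain ⟨R'₀, _, _, het, hff, hdiag⟩ := hconst (Ideal.Quotient.mk I f) hf
    have hunit : IsUnit (algebraMap R (Localization.Away (Ideal.Quotient.mk I f)) f) := by
      rw [IsScalarTower.algebraMap_apply R (R ⧸ I) (Localization.Away (Ideal.Quotient.mk I f))]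
      exact IsLocalization.Away.algebraMap_isUnit (Ideal.Quotient.mk I f)
    letI : Algebra (Localization.Away f) (Localization.Away (Ideal.Quotient.mk I f)) :=
      (IsLocalization.Away.lift (S := Localization.Away f) f hunit).toAlgebra
    haveI : IsScalarTower R (Localization.Away f) (Localization.Away (Ideal.Quotient.mk I f)) :=
      IsScalarTower.of_algebraMap_eq fun r => (IsLocalization.Away.lift_eq f hunit r).symm
    letI : Algebra (R ⧸ I) R'₀ :=
      ((algebraMap (Localization.Away (Ideal.Quotient.mk I f)) R'₀).comp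
        (algebraMap (R ⧸ I) (Localization.Away (Ideal.Quotient.mk I f)))).toAlgebra
    haveI : IsScalarTower (R ⧸ I) (Localization.Away (Ideal.Quotient.mk I f)) R'₀ :=
      IsScalarTower.of_algebraMap_eq (fun _ => rfl)
    letI : Algebra R R'₀ :=
      ((algebraMap (Localization.Away (Ideal.Quotient.mk I f)) R'₀).comp
        (algebraMap R (Localization.Away (Ideal.Quotient.mk I f)))).toAlgebra
    haveI : IsScalarTower R (Localization.Away (Ideal.Quotient.mk I f)) R'₀ :=
      IsScalarTower.of_algebraMap_eq (fun _ => rfl)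
    haveI : IsScalarTower R (R ⧸ I) R'₀ := IsScalarTower.of_algebraMap_eq (fun r => by
      show algebraMap (Localization.Away (Ideal.Quotient.mk I f)) R'₀
          (algebraMap R (Localization.Away (Ideal.Quotient.mk I f)) r) =
        algebraMap (Localization.Away (Ideal.Quotient.mk I f)) R'₀
          (algebraMap (R ⧸ I) (Localization.Away (Ideal.Quotient.mk I f))
            (algebraMap R (R ⧸ I) r))
      rw [← IsScalarTower.algebraMap_apply R (R ⧸ I)
        (Localization.Away (Ideal.Quotient.mk I f))])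
    have hd1 : SGA3b.IsDiag R'₀ (R'₀ ⊗[R ⧸ I] ((R ⧸ I) ⊗[R] A)) :=
      (isDiag_cancel_iff (R := R ⧸ I) (A := (R ⧸ I) ⊗[R] A)
        (Localization.Away (Ideal.Quotient.mk I f)) R'₀).1 hdiag
    have hd2 : SGA3b.IsDiag R'₀ (R'₀ ⊗[R] A) := (isDiag_cancel_iff (R ⧸ I) R'₀).1 hd1
    haveI := het
    haveI := hff
    exact quasiConst_of_mod_nil h (Localization.Away f)
      (Localization.Away (Ideal.Quotient.mk I f))
      (away_surjective I f _ _) (away_ker_nil I hI f _ _) R'₀ hd2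

end Main

end Groth.Agent.Lib.Helper19.EtLift
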