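import Mathlib
import Groth.Prelude.Def_SGA3b
import Groth.Agent.Lib.Helper19.AvgLift4
import Groth.Agent.Lib.Helper19.EtLift2
import Groth.Agent.Lib.Helper28.MultQuot

/-!
# Towers of liftings of homomorphisms modulo powers of an ideal (helper19)

* `gen_exists_bialgHom_lift`: the lifting theorem `AvgLift.exists_bialgHom_lift` for a general
  surjection `R → S` with nilpotent kernel (instead of `R → R ⧸ I`);
* `exists_step`: for ideals `J' ≤ J` of `A` with `J ^ m ≤ J'`, a bialgebra map modulo `J` from a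
  formally smooth Hopf algebra to one of multiplicative type lifts to a bialgebra map modulo `J'`;
* `exists_tower`: a compatible system of bialgebra maps modulo `I ^ (k + 1)` lifting a given
  bialgebra map modulo `I`;
* `isMultType_of_isIsotrivial`.
-/

set_option autoImplicit false
universe u
open TensorProduct

namespace Groth.Agent.Lib.Helper19.AdicHom

open Groth.Agent.Lib.Helper19.AvgLift
open Groth.Agent.Lib.Helper19.GLift (one_tmul_eq_iff one_tmul_eq_zero_iff exists_one_tmul_eq)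
open Groth.Agent.Lib.Helper19 Groth.Agent.Lib.Helper28

section Gen

variable {R : Type u} [CommRing R] (S : Type u) [CommRing S] [Algebra R S]

/-- the kernel of `R → S` -/
abbrev kerId : Ideal R := RingHom.ker (Algebra.ofId R S)

variable {S}
variable (hS : Function.Surjective (algebraMap R S))
include hS

lemma gen_one_tmul_eq_iff {X : Type*} [AddCommGroup X] [Module R X] (x y : X) :
    (1 : S) ⊗ₜ[R] x = (1 : S) ⊗ₜ[R] y ↔ x - y ∈ Sm (kerId (R := R) S) X := by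
  have hS' : Function.Surjective (Algebra.ofId R S) := hS
  let e : (R ⧸ kerId (R := R) S) ≃ₐ[R] S := Ideal.quotientKerAlgEquivOfSurjective hS'
  let E : (R ⧸ kerId (R := R) S) ⊗[R] X ≃ₗ[R] S ⊗[R] X :=
    TensorProduct.congr e.toLinearEquiv (LinearEquiv.refl R X)
  have hE : ∀ z : X, E ((1 : R ⧸ kerId (R := R) S) ⊗ₜ[R] z) = (1 : S) ⊗ₜ[R] z := by
    intro z
    rw [TensorProduct.congr_tmul]
    simp
  rw [← hE x, ← hE y, E.injective.eq_iff]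
  exact one_tmul_eq_iff (kerId (R := R) S) x y

lemma gen_mem_Sm_iff_one_tmul {X : Type*} [AddCommGroup X] [Module R X] (x y : X) :
    x - y ∈ Sm (kerId (R := R) S) X ↔ (1 : S) ⊗ₜ[R] x = (1 : S) ⊗ₜ[R] y :=
  (gen_one_tmul_eq_iff hS x y).symm

lemma gen_exists_one_tmul_eq {X : Type*} [AddCommGroup X] [Module R X] (γ : S ⊗[R] X) :
    ∃ x : X, (1 : S) ⊗ₜ[R] x = γ := by
  induction γ using TensorProduct.induction_on with
  | zero => exact ⟨0, TensorProduct.tmul_zero _ _⟩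
  | tmul s x =>
    obtain ⟨r, rfl⟩ := hS s
    refine ⟨r • x, ?_⟩
    rw [TensorProduct.tmul_smul, TensorProduct.smul_tmul', Algebra.algebraMap_eq_smul_one]
  | add a b ha hb =>
    obtain ⟨x, rfl⟩ := ha
    obtain ⟨y, rfl⟩ := hb
    exact ⟨x + y, TensorProduct.tmul_add _ _ _⟩

variable {A : Type u} [CommRing A] [HopfAlgebra R A] {C : Type u} [CommRing C] [HopfAlgebra R C]

lemma gen_isNilpotent_ker_includeRight (hK : IsNilpotent (kerId (R := R) S)) :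
    IsNilpotent (RingHom.ker (Algebra.TensorProduct.includeRight : A →ₐ[R] S ⊗[R] A)) := by
  have hle : RingHom.ker (Algebra.TensorProduct.includeRight : A →ₐ[R] S ⊗[R] A) ≤
      Ideal.map (algebraMap R A) (kerId (R := R) S) := by
    intro x hx
    rw [RingHom.mem_ker, Algebra.TensorProduct.includeRight_apply] at hx
    have h0 : (1 : S) ⊗ₜ[R] x = (1 : S) ⊗ₜ[R] (0 : A) := by rw [hx, TensorProduct.tmul_zero]
    have h1 := (gen_one_tmul_eq_iff hS x 0).mp h0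
    rw [sub_zero] at h1
    exact (mem_Sm_iff_mem_map _ x).mp h1
  obtain ⟨n, hn⟩ := hK
  refine ⟨n, ?_⟩
  rw [Ideal.zero_eq_bot, eq_bot_iff]
  refine (Ideal.pow_right_mono hle n).trans ?_
  rw [← Ideal.map_pow, hn, Ideal.zero_eq_bot, Ideal.map_bot]

theorem gen_exists_algHom_lift [Algebra.FormallySmooth R C]
    (hK : IsNilpotent (kerId (R := R) S))
    (φ₀ : (S ⊗[R] C) →ₐ[S] (S ⊗[R] A)) :
    ∃ ψ : C →ₐ[R] A, ∀ c, (1 : S) ⊗ₜ[R] ψ c = φ₀ ((1 : S) ⊗ₜ[R] c) := by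
  have hs : Function.Surjective
      (Algebra.TensorProduct.includeRight : A →ₐ[R] S ⊗[R] A) := by
    intro z
    obtain ⟨a, ha⟩ := gen_exists_one_tmul_eq hS z
    exact ⟨a, ha⟩
  refine ⟨Algebra.FormallySmooth.liftOfSurjective
    ((φ₀.restrictScalars R).comp Algebra.TensorProduct.includeRight)
    Algebra.TensorProduct.includeRight hs (gen_isNilpotent_ker_includeRight hS hK), fun c => ?_⟩
  exact Algebra.FormallySmooth.liftOfSurjective_apply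
    ((φ₀.restrictScalars R).comp Algebra.TensorProduct.includeRight)
    Algebra.TensorProduct.includeRight hs (gen_isNilpotent_ker_includeRight hS hK) c

omit hS in
lemma gen_iota2_eq_distrib (t : A ⊗[R] A) :
    ConvBC.iota2 R S A t =
      AlgebraTensorModule.distribBaseChange R S A A ((1 : S) ⊗ₜ[R] t) := by
  rw [ConvBC.iota2_apply, MultFinite.tttc_eq_distrib]

theorem gen_homMod_of_lift (φ₀ : (S ⊗[R] C) →ₐc[S] (S ⊗[R] A)) (ψ : C →ₐ[R] A)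
    (hψ : ∀ c, (1 : S) ⊗ₜ[R] ψ c = φ₀ ((1 : S) ⊗ₜ[R] c)) :
    HomMod (kerId (R := R) S) ψ.toLinearMap := by
  intro c
  rw [gen_mem_Sm_iff_one_tmul hS]
  apply (AlgebraTensorModule.distribBaseChange R S A A).injective
  rw [← gen_iota2_eq_distrib, ← gen_iota2_eq_distrib, AlgHom.toLinearMap_apply,
    ← ConvBC.comul_one_tmul, hψ, ← CoalgHomClass.map_comp_comul_apply φ₀, ConvBC.comul_one_tmul]
  generalize Coalgebra.comul (R := R) c = t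
  induction t using TensorProduct.induction_on with
  | zero => simp
  | tmul x y =>
    rw [ConvBC.iota2_tmul, TensorProduct.map_tmul, TensorProduct.map_tmul, ConvBC.iota2_tmul]
    change φ₀ _ ⊗ₜ[S] φ₀ _ = _
    rw [← hψ, ← hψ]
    rfl
  | add a b ha hb => simp only [map_add, ha, hb]

/-- the lifting theorem for a general surjection with nilpotent kernel -/
theorem gen_exists_bialgHom_lift [Algebra.FormallySmooth R C]
    (hK : IsNilpotent (kerId (R := R) S)) (hH : SGA3b.IsMultType R A)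
    (φ₀ : (S ⊗[R] C) →ₐc[S] (S ⊗[R] A)) :
    ∃ φ : C →ₐc[R] A, ∀ c : C, φ₀ ((1 : S) ⊗ₜ[R] c) = (1 : S) ⊗ₜ[R] (φ c) := by
  obtain ⟨ι, h1, hinv⟩ := MultIntegral.exists_integral hH
  obtain ⟨ψ, hψ⟩ := gen_exists_algHom_lift hS hK (φ₀ : (S ⊗[R] C) →ₐ[S] (S ⊗[R] A))
  have hψ' : ∀ c, (1 : S) ⊗ₜ[R] ψ c = φ₀ ((1 : S) ⊗ₜ[R] c) := hψ
  obtain ⟨Φ, hΦ⟩ := exists_bialgHom ι h1 hinv hK ψ (gen_homMod_of_lift hS φ₀ ψ hψ')
  refine ⟨Φ, fun c => ?_⟩
  rw [← hψ' c]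
  exact ((gen_mem_Sm_iff_one_tmul hS _ _).mp (hΦ c)).symm

end Gen

section Cancel

variable {L R' K B : Type u} [CommRing L] [CommRing R'] [CommRing K] [CommRing B]
  [Algebra L R'] [Algebra L K] [Algebra R' K] [IsScalarTower L R' K] [Bialgebra L B]

variable (L R' K B) in
/-- `K ⊗[R'] (R' ⊗[L] B) ≃ K ⊗[L] B` as bialgebras over `K` -/
noncomputable def cancelEquiv : K ⊗[R'] (R' ⊗[L] B) ≃ₐc[K] K ⊗[L] B :=
  BialgEquiv.ofBijective (MultQuot.cancelBialgHom (L := L) (R' := R') (K := K) (B := B))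
    ⟨fun a b hab => by
      rw [MultQuot.cancelBialgHom_apply, MultQuot.cancelBialgHom_apply] at hab
      exact (Algebra.TensorProduct.cancelBaseChange L R' K K B).injective hab,
     MultQuot.cancelBialgHom_surjective⟩

lemma cancelEquiv_tmul (k : K) (r : R') (b : B) :
    cancelEquiv L R' K B (k ⊗ₜ[R'] (r ⊗ₜ[L] b)) = (r • k) ⊗ₜ[L] b := by
  change MultQuot.cancelBialgHom (L := L) (R' := R') (K := K) (B := B) _ = _
  rw [MultQuot.cancelBialgHom_apply, Algebra.TensorProduct.cancelBaseChange_tmul]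

end Cancel

section Step

variable {A : Type u} [CommRing A] {B : Type u} [CommRing B] [HopfAlgebra A B]
  {C : Type u} [CommRing C] [HopfAlgebra A C]

theorem isMultType_of_isIsotrivial (h : SGA3b.IsIsotrivial A B) : SGA3b.IsMultType A B := by
  obtain ⟨T, _, _, _, _, hff, hdiag⟩ := h
  haveI := hff
  have hconst : SGA3b.IsMultTypeConst (Localization.Away (1 : A))
      (Localization.Away (1 : A) ⊗[A] B) := by
    apply KerMT.isMultTypeConst_away (1 : A) T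
    · rw [map_one]
      exact isUnit_one
    · intro q hq _
      obtain ⟨Q, hQ⟩ := PrimeSpectrum.comap_surjective_of_faithfullyFlat
        (A := A) (B := T) ⟨q, hq⟩
      exact ⟨Q.asIdeal, Q.isPrime, congrArg PrimeSpectrum.asIdeal hQ⟩
    · exact hdiag
  refine ⟨{1}, ?_, ?_⟩
  · rw [Ideal.span_singleton_one]
  · intro f hf
    rw [Set.mem_singleton_iff] at hf
    subst hf
    exact hconst

theorem exists_step [Algebra.FormallySmooth A C] (hB : SGA3b.IsMultType A B) (J' J : Ideal A)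
    (hle : J' ≤ J) (m : ℕ) (hpow : J ^ m ≤ J')
    (Φ : ((A ⧸ J) ⊗[A] C) →ₐc[A ⧸ J] ((A ⧸ J) ⊗[A] B)) :
    ∃ Φ' : ((A ⧸ J') ⊗[A] C) →ₐc[A ⧸ J'] ((A ⧸ J') ⊗[A] B),
      ∀ (c : C) (b : B), Φ' ((1 : A ⧸ J') ⊗ₜ[A] c) = (1 : A ⧸ J') ⊗ₜ[A] b →
        Φ ((1 : A ⧸ J) ⊗ₜ[A] c) = (1 : A ⧸ J) ⊗ₜ[A] b := by
  letI alg : Algebra (A ⧸ J') (A ⧸ J) := (Ideal.Quotient.factor hle).toAlgebra
  haveI tower : IsScalarTower A (A ⧸ J') (A ⧸ J) :=
    IsScalarTower.of_algebraMap_eq (fun a => rfl)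
  have hBR : SGA3b.IsMultType (A ⧸ J') ((A ⧸ J') ⊗[A] B) :=
    EtLift.isMultType_baseChange hB (A ⧸ J')
  have hsurj : Function.Surjective (algebraMap (A ⧸ J') (A ⧸ J)) :=
    Ideal.Quotient.factor_surjective hle
  have hnil : IsNilpotent (kerId (R := A ⧸ J') (A ⧸ J)) := by
    refine ⟨m, ?_⟩
    rw [Ideal.zero_eq_bot, eq_bot_iff]
    have hK : kerId (R := A ⧸ J') (A ⧸ J) ≤ J.map (Ideal.Quotient.mk J') := by
      intro x hx
      obtain ⟨a, rfl⟩ := Ideal.Quotient.mk_surjective x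
      rw [RingHom.mem_ker] at hx
      have h1 : Ideal.Quotient.mk J a = 0 := hx
      exact Ideal.mem_map_of_mem _ (Ideal.Quotient.eq_zero_iff_mem.mp h1)
    calc kerId (R := A ⧸ J') (A ⧸ J) ^ m ≤ (J.map (Ideal.Quotient.mk J')) ^ m :=
          Ideal.pow_right_mono hK m
      _ = (J ^ m).map (Ideal.Quotient.mk J') := (Ideal.map_pow _ _ _).symm
      _ ≤ J'.map (Ideal.Quotient.mk J') := Ideal.map_mono hpow
      _ = ⊥ := Ideal.map_quotient_self J'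
  let EC := cancelEquiv A (A ⧸ J') (A ⧸ J) C
  let EB := cancelEquiv A (A ⧸ J') (A ⧸ J) B
  let φbar : ((A ⧸ J) ⊗[A ⧸ J'] ((A ⧸ J') ⊗[A] C)) →ₐc[A ⧸ J]
      ((A ⧸ J) ⊗[A ⧸ J'] ((A ⧸ J') ⊗[A] B)) :=
    (EB.symm.toBialgHom.comp Φ).comp EC.toBialgHom
  obtain ⟨Φ', hΦ'⟩ := gen_exists_bialgHom_lift hsurj hnil hBR φbar
  refine ⟨Φ', fun c b hcb => ?_⟩
  have h1 := hΦ' ((1 : A ⧸ J') ⊗ₜ[A] c)
  rw [hcb] at h1
  have h2 : EC ((1 : A ⧸ J) ⊗ₜ[A ⧸ J'] ((1 : A ⧸ J') ⊗ₜ[A] c)) = (1 : A ⧸ J) ⊗ₜ[A] c := by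
    rw [cancelEquiv_tmul, one_smul]
  have h3 : EB ((1 : A ⧸ J) ⊗ₜ[A ⧸ J'] ((1 : A ⧸ J') ⊗ₜ[A] b)) = (1 : A ⧸ J) ⊗ₜ[A] b := by
    rw [cancelEquiv_tmul, one_smul]
  have h4 : EB.symm (Φ (EC ((1 : A ⧸ J) ⊗ₜ[A ⧸ J'] ((1 : A ⧸ J') ⊗ₜ[A] c)))) =
      (1 : A ⧸ J) ⊗ₜ[A ⧸ J'] ((1 : A ⧸ J') ⊗ₜ[A] b) := h1
  rw [h2] at h4
  have h5 := congrArg EB h4
  rw [BialgEquiv.apply_symm_apply, h3] at h5
  exact h5

/-- a compatible system of liftings modulo the powers of `I` -/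
theorem exists_tower [Algebra.FormallySmooth A C] (hB : SGA3b.IsMultType A B) (I : Ideal A)
    (φ₀ : ((A ⧸ I) ⊗[A] C) →ₐc[A ⧸ I] ((A ⧸ I) ⊗[A] B)) :
    ∃ s : ∀ k : ℕ, ((A ⧸ I ^ (k + 1)) ⊗[A] C) →ₐc[A ⧸ I ^ (k + 1)] ((A ⧸ I ^ (k + 1)) ⊗[A] B),
      (∀ (c : C) (b : B), s 0 ((1 : A ⧸ I ^ (0 + 1)) ⊗ₜ[A] c) = (1 : A ⧸ I ^ (0 + 1)) ⊗ₜ[A] b →
        φ₀ ((1 : A ⧸ I) ⊗ₜ[A] c) = (1 : A ⧸ I) ⊗ₜ[A] b) ∧
      ∀ (k : ℕ) (c : C) (b : B),
        s (k + 1) ((1 : A ⧸ I ^ (k + 1 + 1)) ⊗ₜ[A] c) = (1 : A ⧸ I ^ (k + 1 + 1)) ⊗ₜ[A] b →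
          s k ((1 : A ⧸ I ^ (k + 1)) ⊗ₜ[A] c) = (1 : A ⧸ I ^ (k + 1)) ⊗ₜ[A] b := by
  obtain ⟨Ψ0, h0⟩ := exists_step hB (I ^ (0 + 1)) I (by rw [zero_add, pow_one]) 1
    (by rw [zero_add]) φ₀
  have hstep : ∀ (k : ℕ)
      (Φ : ((A ⧸ I ^ (k + 1)) ⊗[A] C) →ₐc[A ⧸ I ^ (k + 1)] ((A ⧸ I ^ (k + 1)) ⊗[A] B)),
      ∃ Φ' : ((A ⧸ I ^ (k + 1 + 1)) ⊗[A] C) →ₐc[A ⧸ I ^ (k + 1 + 1)]
          ((A ⧸ I ^ (k + 1 + 1)) ⊗[A] B),
        ∀ (c : C) (b : B),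
          Φ' ((1 : A ⧸ I ^ (k + 1 + 1)) ⊗ₜ[A] c) = (1 : A ⧸ I ^ (k + 1 + 1)) ⊗ₜ[A] b →
            Φ ((1 : A ⧸ I ^ (k + 1)) ⊗ₜ[A] c) = (1 : A ⧸ I ^ (k + 1)) ⊗ₜ[A] b :=
    fun k Φ => exists_step hB (I ^ (k + 1 + 1)) (I ^ (k + 1))
      (Ideal.pow_le_pow_right (Nat.le_succ _)) 2
      (by rw [← pow_mul]; exact Ideal.pow_le_pow_right (by omega)) Φ
  let s : ∀ k : ℕ, ((A ⧸ I ^ (k + 1)) ⊗[A] C) →ₐc[A ⧸ I ^ (k + 1)] ((A ⧸ I ^ (k + 1)) ⊗[A] B) :=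
    fun k => Nat.rec (motive := fun k =>
      ((A ⧸ I ^ (k + 1)) ⊗[A] C) →ₐc[A ⧸ I ^ (k + 1)] ((A ⧸ I ^ (k + 1)) ⊗[A] B))
      Ψ0 (fun k Φ => Classical.choose (hstep k Φ)) k
  exact ⟨s, h0, fun k => Classical.choose_spec (hstep k (s k))⟩

end Step

end Groth.Agent.Lib.Helper19.AdicHom
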