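import Mathlib
import Groth.Agent.Lib.Helper19.AvgLift1

/-!
# Local finiteness of flat coalgebras over Noetherian rings, and a finiteness lemma (helper19)

* `exists_fg_subcomodule` (Serre): over a Noetherian ring `A`, every element of a flat coalgebra
  `C` lies in a finitely generated submodule `V` with `Δ V ⊆ V ⊗ C`;
* `finite_support_of_idem`: a family `u m : C → A'` of linear forms, each idempotent for the
  convolution product, such that for every `c` almost all `u m c` lie in `I A'` (with `I` in the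
  Jacobson radical and `A'` finite over `A`), vanishes at `c` for almost all `m`.
-/

set_option autoImplicit false
open TensorProduct

namespace Groth.Agent.Lib.Helper19.AdicHom

open Groth.Agent.Lib.Helper19.AvgLift

section Serre

variable {A : Type*} [CommRing A] {C : Type*} [AddCommGroup C] [Module A C]

lemma range_rTensor_mono {F F' : Submodule A C} (h : F ≤ F') :
    LinearMap.range (F.subtype.rTensor C) ≤ LinearMap.range (F'.subtype.rTensor C) := by
  rintro _ ⟨w, rfl⟩
  refine ⟨(Submodule.inclusion h).rTensor C w, ?_⟩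
  rw [← LinearMap.comp_apply, ← LinearMap.rTensor_comp, Submodule.subtype_comp_inclusion]

lemma exists_fg_range_rTensor (t : C ⊗[A] C) :
    ∃ F : Submodule A C, F.FG ∧ t ∈ LinearMap.range (F.subtype.rTensor C) := by
  induction t using TensorProduct.induction_on with
  | zero => exact ⟨⊥, Submodule.fg_bot, zero_mem _⟩
  | tmul x y =>
    refine ⟨Submodule.span A {x}, Submodule.fg_span_singleton x,
      ⟨(⟨x, Submodule.mem_span_singleton_self x⟩ : Submodule.span A {x}) ⊗ₜ[A] y, ?_⟩⟩
    rw [LinearMap.rTensor_tmul]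
    rfl
  | add a b ha hb =>
    obtain ⟨F₁, h₁, ha'⟩ := ha
    obtain ⟨F₂, h₂, hb'⟩ := hb
    exact ⟨F₁ ⊔ F₂, h₁.sup h₂, add_mem (range_rTensor_mono le_sup_left ha')
      (range_rTensor_mono le_sup_right hb')⟩

variable [Coalgebra A C]

/-- **Serre's lemma**: local finiteness of comodules, for the regular comodule. -/
theorem exists_fg_subcomodule [IsNoetherianRing A] [Module.Flat A C] (c : C) :
    ∃ V : Submodule A C, V.FG ∧ c ∈ V ∧
      ∀ v ∈ V, Coalgebra.comul (R := A) v ∈ LinearMap.range (V.subtype.rTensor C) := by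
  obtain ⟨F, hFfg, hFc⟩ := exists_fg_range_rTensor (Coalgebra.comul (R := A) c)
  obtain ⟨RF, hRF⟩ : ∃ RF : Submodule A (C ⊗[A] C),
    RF = LinearMap.range (F.subtype.rTensor C) := ⟨_, rfl⟩
  obtain ⟨g, hg⟩ : ∃ g : C →ₗ[A] (C ⊗[A] C) ⧸ RF,
    g = RF.mkQ ∘ₗ (Coalgebra.comul (R := A)) := ⟨_, rfl⟩
  have hmem : ∀ v : C, v ∈ LinearMap.ker g ↔ Coalgebra.comul (R := A) v ∈ RF := by
    intro v
    rw [LinearMap.mem_ker, hg, LinearMap.comp_apply, Submodule.mkQ_apply,
      Submodule.Quotient.mk_eq_zero]
  have hVF : LinearMap.ker g ≤ F := by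
    intro v hv
    have hv' := (hmem v).mp hv
    rw [hRF] at hv'
    obtain ⟨w, hw⟩ := hv'
    have key : ∀ w : F ⊗[A] C, TensorProduct.rid A C
        ((Coalgebra.counit (R := A) (A := C)).lTensor C (F.subtype.rTensor C w)) ∈ F := by
      intro w
      induction w using TensorProduct.induction_on with
      | zero => simp
      | tmul f x =>
        rw [LinearMap.rTensor_tmul, LinearMap.lTensor_tmul, TensorProduct.rid_tmul]
        exact F.smul_mem _ f.2
      | add a b ha hb =>
        rw [map_add, map_add, map_add]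
        exact F.add_mem ha hb
    have h1 := key w
    rw [hw, Coalgebra.lTensor_counit_comul, TensorProduct.rid_tmul, one_smul] at h1
    exact h1
  refine ⟨LinearMap.ker g, ?_, (hmem c).mpr (hRF ▸ hFc), ?_⟩
  · haveI : IsNoetherian A F := isNoetherian_of_fg_of_noetherian F hFfg
    have h1 : ((LinearMap.ker g).comap F.subtype).FG := IsNoetherian.noetherian _
    have h2 : ((LinearMap.ker g).comap F.subtype).map F.subtype = LinearMap.ker g := by
      rw [Submodule.map_comap_subtype, inf_eq_right.mpr hVF]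
    rw [← h2]
    exact h1.map _
  · intro v hv
    have hex : Function.Exact (LinearMap.ker g).subtype g := LinearMap.exact_subtype_ker_map g
    have hex' := Module.Flat.rTensor_exact C hex
    apply (hex' _).mp
    have hv' := (hmem v).mp hv
    rw [hRF] at hv'
    obtain ⟨w, hw⟩ := hv'
    have key : ∀ w : F ⊗[A] C, (RF.mkQ.rTensor C) ((TensorProduct.assoc A C C C).symm
        ((Coalgebra.comul (R := A) (A := C)).lTensor C (F.subtype.rTensor C w))) = 0 := by
      intro w
      induction w using TensorProduct.induction_on with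
      | zero => simp
      | tmul f x =>
        rw [LinearMap.rTensor_tmul, LinearMap.lTensor_tmul]
        generalize Coalgebra.comul (R := A) x = t
        induction t using TensorProduct.induction_on with
        | zero => simp
        | tmul y z =>
          rw [TensorProduct.assoc_symm_tmul, LinearMap.rTensor_tmul]
          have h0 : RF.mkQ ((F.subtype f) ⊗ₜ[A] y) = 0 := by
            rw [Submodule.mkQ_apply, Submodule.Quotient.mk_eq_zero, hRF]
            exact ⟨f ⊗ₜ[A] y, LinearMap.rTensor_tmul _ _ _ _⟩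
          rw [h0, TensorProduct.zero_tmul]
        | add a b ha hb =>
          rw [TensorProduct.tmul_add, map_add, map_add, ha, hb, add_zero]
      | add a b ha hb =>
        rw [map_add, map_add, map_add, map_add, ha, hb, add_zero]
    have h3 : (g.rTensor C) (Coalgebra.comul (R := A) v) = (RF.mkQ.rTensor C)
        ((Coalgebra.comul (R := A) (A := C)).rTensor C (Coalgebra.comul (R := A) v)) := by
      rw [hg, LinearMap.rTensor_comp, LinearMap.comp_apply]
    rw [h3, ← Coalgebra.coassoc_symm_apply, ← hw]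
    exact key w

end Serre

section Finiteness

theorem finite_support_of_idem {A : Type*} [CommRing A] [IsNoetherianRing A] (I : Ideal A)
    (hI : I ≤ Ideal.jacobson ⊥) {A' : Type*} [CommRing A'] [Algebra A A'] [Module.Finite A A']
    {C : Type*} [AddCommGroup C] [Module A C] [Coalgebra A C] [Module.Flat A C]
    {M : Type*} (u : M → C →ₗ[A] A')
    (hidem : ∀ m c, LinearMap.mul' A A'
      (TensorProduct.map (u m) (u m) (Coalgebra.comul (R := A) c)) = u m c)
    (hfin : ∀ c, {m | u m c ∉ Sm I A'}.Finite) (c : C) : {m | u m c ≠ 0}.Finite := by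
  classical
  obtain ⟨V, hVfg, hcV, hVΔ⟩ := exists_fg_subcomodule (A := A) c
  obtain ⟨S, hS⟩ := hVfg
  have hrep : ∀ z : V ⊗[A] C, ∃ f : C → C,
      V.subtype.rTensor C z = ∑ w ∈ S, w ⊗ₜ[A] f w := by
    intro z
    induction z using TensorProduct.induction_on with
    | zero => exact ⟨fun _ => 0, by simp⟩
    | tmul v x =>
      have hv : (v : C) ∈ Submodule.span A (S : Set C) := by rw [hS]; exact v.2
      obtain ⟨a, -, ha⟩ := Submodule.mem_span_finset.mp hv
      refine ⟨fun w => a w • x, ?_⟩
      rw [LinearMap.rTensor_tmul, Submodule.subtype_apply, ← ha, TensorProduct.sum_tmul]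
      refine Finset.sum_congr rfl (fun w _ => ?_)
      rw [TensorProduct.smul_tmul]
    | add z₁ z₂ h₁ h₂ =>
      obtain ⟨f₁, hf₁⟩ := h₁
      obtain ⟨f₂, hf₂⟩ := h₂
      refine ⟨fun w => f₁ w + f₂ w, ?_⟩
      rw [map_add, hf₁, hf₂, ← Finset.sum_add_distrib]
      refine Finset.sum_congr rfl (fun w _ => ?_)
      rw [TensorProduct.tmul_add]
  have hrep' : ∀ v : C, ∃ f : C → C,
      v ∈ S → Coalgebra.comul (R := A) v = ∑ w ∈ S, w ⊗ₜ[A] f w := by
    intro v
    by_cases hv : v ∈ S
    · have hvV : v ∈ V := by rw [← hS]; exact Submodule.subset_span hv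
      obtain ⟨z, hz⟩ := hVΔ v hvV
      obtain ⟨f, hf⟩ := hrep z
      exact ⟨f, fun _ => by rw [← hz, hf]⟩
    · exact ⟨fun _ => 0, fun h => absurd h hv⟩
  choose fv hfv using hrep'
  have hFfin : (⋃ v ∈ (S : Set C), ⋃ w ∈ (S : Set C), {m | u m (fv v w) ∉ Sm I A'}).Finite :=
    Set.Finite.biUnion S.finite_toSet
      (fun v _ => Set.Finite.biUnion S.finite_toSet (fun w _ => hfin _))
  refine hFfin.subset ?_
  intro m hm
  by_contra hcon
  have hall : ∀ v ∈ S, ∀ w ∈ S, u m (fv v w) ∈ Sm I A' := by
    intro v hv w hw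
    by_contra h
    exact hcon (Set.mem_biUnion (Finset.mem_coe.mpr hv) (Set.mem_biUnion (Finset.mem_coe.mpr hw) h))
  obtain ⟨N', hN'⟩ : ∃ N' : Ideal A', N' = Ideal.span ((fun w => u m w) '' (S : Set C)) :=
    ⟨_, rfl⟩
  obtain ⟨J', hJ'def⟩ : ∃ J' : Ideal A', J' = I.map (algebraMap A A') := ⟨_, rfl⟩
  have hJ' : J' ≤ Ideal.jacobson ⊥ := by
    haveI : Algebra.IsIntegral A A' := Algebra.IsIntegral.of_finite A A'
    unfold Ideal.jacobson
    refine le_sInf ?_
    rintro 𝔪 ⟨-, hmax⟩
    haveI := hmax
    rw [hJ'def, Ideal.map_le_iff_le_comap]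
    have hmax' := Ideal.isMaximal_comap_of_isIntegral_of_isMaximal (R := A) 𝔪
    have h2 : Ideal.jacobson (⊥ : Ideal A) ≤ 𝔪.comap (algebraMap A A') :=
      sInf_le ⟨bot_le, hmax'⟩
    exact hI.trans h2
  have hNfg : (N' : Submodule A' A').FG := by
    rw [hN']
    exact Submodule.fg_span ((S.finite_toSet).image _)
  have hgen : ∀ v ∈ S, u m v ∈ J' • N' := by
    intro v hv
    have h1 : u m v = ∑ w ∈ S, u m w * u m (fv v w) := by
      rw [← hidem m v, hfv v hv, map_sum, map_sum]
      refine Finset.sum_congr rfl (fun w _ => ?_)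
      rw [TensorProduct.map_tmul, LinearMap.mul'_apply]
    rw [h1]
    refine Submodule.sum_mem _ (fun w hw => ?_)
    rw [smul_eq_mul, mul_comm J' N']
    refine Ideal.mul_mem_mul ?_ ?_
    · rw [hN']
      exact Ideal.subset_span ⟨w, Finset.mem_coe.mpr hw, rfl⟩
    · rw [hJ'def]
      exact (mem_Sm_iff_mem_map I _).mp (hall v hv w hw)
  have hNle : N' ≤ J' • N' := by
    have h1 : Ideal.span ((fun w => u m w) '' (S : Set C)) ≤ J' • N' := by
      rw [Ideal.span_le]
      rintro _ ⟨v, hv, rfl⟩
      exact hgen v (Finset.mem_coe.mp hv)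
    rw [hN'] at h1 ⊢
    exact h1
  have hN0 : N' = ⊥ := Submodule.eq_bot_of_le_smul_of_le_jacobson_bot J' N' hNfg hNle hJ'
  have hker : V ≤ LinearMap.ker (u m) := by
    rw [← hS, Submodule.span_le]
    intro v hv
    rw [SetLike.mem_coe, LinearMap.mem_ker]
    have h1 : u m v ∈ N' := by
      rw [hN']
      exact Ideal.subset_span ⟨v, hv, rfl⟩
    rw [hN0] at h1
    exact (Submodule.mem_bot _).mp h1
  exact hm (LinearMap.mem_ker.mp (hker hcV))

end Finiteness

end Groth.Agent.Lib.Helper19.AdicHom
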