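import Mathlib
import Groth.Prelude.Def_SGA3b
import Groth.Agent.Lib.Helper19.AdicHom2
import Groth.Agent.Lib.Helper19.ConvBC
import Groth.Agent.Lib.Helper19.GLift1

/-!
# Adic separatedness, limits and coordinates (helper19)

* `eq_zero_of_forall_mem_Sm_pow`, `sep_tensor`: projective modules over an `I`-adically separated
  ring are `I`-adically separated;
* `exists_limit`: finite projective modules over an `I`-adically precomplete ring are precomplete;
* `exists_retraction`: a faithfully flat projective algebra `A → A'` has an `A`-linear retraction;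
* `coord e m`: the `m`-th coordinate `B → A'` attached to a diagonalisation `A' ⊗ B ≃ A'[M]`,
  with `coord_idem` (it is a convolution idempotent) and `baseChange_idem`;
* `projective_of_diag`.
-/

set_option autoImplicit false
universe u
open TensorProduct

namespace Groth.Agent.Lib.Helper19.AdicHom

open Groth.Agent.Lib.Helper19.AvgLift
open Groth.Agent.Lib.Helper19.GLift (one_tmul_eq_iff one_tmul_eq_zero_iff exists_one_tmul_eq)
open Groth.Agent.Lib.Helper19

section Sep

variable {A : Type*} [CommRing A] (I : Ideal A)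

lemma eq_zero_of_forall_mem_Sm_pow [IsHausdorff I A] {P : Type*} [AddCommGroup P] [Module A P]
    [Module.Projective A P] (x : P) (h : ∀ k : ℕ, x ∈ Sm (I ^ (k + 1)) P) : x = 0 := by
  obtain ⟨s, hs⟩ := Module.projective_def'.mp (inferInstance : Module.Projective A P)
  have hsx : s x = 0 := by
    ext p
    rw [Finsupp.zero_apply]
    apply IsHausdorff.haus (inferInstance : IsHausdorff I A)
    intro n
    rw [SModEq.zero]
    cases n with
    | zero =>
      rw [pow_zero, Ideal.one_eq_top, Submodule.top_smul]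
      exact Submodule.mem_top
    | succ k =>
      have h1 := map_mem_Sm (I ^ (k + 1)) ((Finsupp.lapply p : (P →₀ A) →ₗ[A] A) ∘ₗ s) (h k)
      exact h1
  have h2 := LinearMap.congr_fun hs x
  rw [LinearMap.comp_apply, hsx, map_zero, LinearMap.id_apply] at h2
  exact h2.symm

lemma sep_tensor [IsHausdorff I A] {P : Type*} [AddCommGroup P] [Module A P]
    [Module.Projective A P] (x y : P)
    (h : ∀ k : ℕ, (1 : A ⧸ I ^ (k + 1)) ⊗ₜ[A] x = (1 : A ⧸ I ^ (k + 1)) ⊗ₜ[A] y) : x = y := by
  rw [← sub_eq_zero]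
  exact eq_zero_of_forall_mem_Sm_pow I _ (fun k => (one_tmul_eq_iff (I ^ (k + 1)) x y).mp (h k))

lemma exists_limit [IsPrecomplete I A] {N : Type*} [AddCommGroup N] [Module A N]
    [Module.Finite A N] [Module.Projective A N] (x : ℕ → N)
    (hx : ∀ k, x (k + 1) - x k ∈ Sm (I ^ (k + 1)) N) :
    ∃ L : N, ∀ k, L - x k ∈ Sm (I ^ (k + 1)) N := by
  obtain ⟨n, p, hp⟩ := Module.Finite.exists_fin' A N
  obtain ⟨i, hi⟩ := Module.projective_lifting_property p LinearMap.id hp
  have hx' : ∀ m d, x (m + d) - x m ∈ Sm (I ^ (m + 1)) N := by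
    intro m d
    induction d with
    | zero =>
      rw [add_zero, sub_self]
      exact zero_mem _
    | succ d ih =>
      have h1 : x (m + (d + 1)) - x m = (x (m + d + 1) - x (m + d)) + (x (m + d) - x m) := by
        rw [← add_assoc]
        abel
      rw [h1]
      exact add_mem (Sm_mono (Ideal.pow_le_pow_right (by omega)) N (hx (m + d))) ih
  have hcoord : ∀ j : Fin n, ∃ L : A, ∀ k,
      L - ((LinearMap.proj j : (Fin n → A) →ₗ[A] A) ∘ₗ i) (x k) ∈ Sm (I ^ (k + 1)) A := by
    intro j
    obtain ⟨lj, hlj⟩ : ∃ lj : N →ₗ[A] A, lj = (LinearMap.proj j : (Fin n → A) →ₗ[A] A) ∘ₗ i :=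
      ⟨_, rfl⟩
    rw [← hlj]
    obtain ⟨L, hL⟩ := IsPrecomplete.prec (inferInstance : IsPrecomplete I A)
      (f := fun k => lj (x k)) (by
        intro m n' hmn
        obtain ⟨d, rfl⟩ := Nat.exists_eq_add_of_le hmn
        rw [SModEq.sub_mem, ← neg_sub, ← map_sub]
        exact neg_mem (Sm_mono (Ideal.pow_le_pow_right (Nat.le_succ m)) A
          (map_mem_Sm _ lj (hx' m d))))
    refine ⟨L, fun k => ?_⟩
    have h1 : L - lj (x k) = -(lj (x (k + 1)) - L) + lj (x (k + 1) - x k) := by
      rw [map_sub]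
      abel
    rw [h1]
    exact add_mem (neg_mem (SModEq.sub_mem.mp (hL (k + 1)))) (map_mem_Sm _ lj (hx k))
  choose Lc hLc using hcoord
  refine ⟨p Lc, fun k => ?_⟩
  have h1 : p Lc - x k = p (Lc - i (x k)) := by
    rw [map_sub]
    congr 1
    exact (LinearMap.congr_fun hi (x k)).symm
  rw [h1]
  apply map_mem_Sm
  have h2 : Lc - i (x k) =
      ∑ j, (LinearMap.single A (fun _ : Fin n => A) j) ((Lc - i (x k)) j) :=
    (Finset.univ_sum_single (Lc - i (x k))).symm
  rw [h2]
  exact Submodule.sum_mem _ (fun j _ => map_mem_Sm _ _ (hLc j k))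

end Sep

section Retraction

lemma exists_retraction {A : Type*} [CommRing A] {A' : Type*} [CommRing A'] [Algebra A A']
    [Module.Projective A A'] [Module.FaithfullyFlat A A'] : ∃ r : A' →ₗ[A] A, r 1 = 1 := by
  obtain ⟨s, hs⟩ := Module.projective_def'.mp (inferInstance : Module.Projective A A')
  by_contra hne
  obtain ⟨𝔞, h𝔞⟩ : ∃ 𝔞 : Ideal A,
    𝔞 = LinearMap.range ((LinearMap.applyₗ (1 : A')) : (A' →ₗ[A] A) →ₗ[A] A) := ⟨_, rfl⟩
  have hne' : 𝔞 ≠ ⊤ := by
    intro htop
    have h1 : (1 : A) ∈ 𝔞 := by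
      rw [htop]
      exact Submodule.mem_top
    rw [h𝔞] at h1
    obtain ⟨r, hr⟩ := h1
    exact hne ⟨r, hr⟩
  obtain ⟨𝔪, hmax, hle⟩ := Ideal.exists_le_maximal 𝔞 hne'
  apply Module.FaithfullyFlat.submodule_ne_top (R := A) (M := A') hmax
  rw [eq_top_iff]
  intro a' _
  have h1 : a' = Finsupp.linearCombination A id (s a') := by
    have h2 := LinearMap.congr_fun hs a'
    rw [LinearMap.comp_apply, LinearMap.id_apply] at h2
    exact h2.symm
  rw [h1, Finsupp.linearCombination_apply, Finsupp.sum]
  refine Submodule.sum_mem _ (fun p _ => ?_)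
  refine Submodule.smul_mem_smul (hle ?_) Submodule.mem_top
  rw [h𝔞]
  exact ⟨(Finsupp.lapply p : (A' →₀ A) →ₗ[A] A) ∘ₗ s ∘ₗ (LinearMap.mulLeft A a'), by simp⟩

end Retraction

section Coord

variable {A : Type u} [CommRing A] {A' : Type u} [CommRing A'] [Algebra A A']
  {B : Type u} [CommRing B] [HopfAlgebra A B] {M : Type u} [CommGroup M]

/-- the `m`-th coefficient, as a linear form on the group algebra -/
noncomputable def kap (m : M) : MonoidAlgebra A' M →ₗ[A'] A' :=
  (Finsupp.lapply m : (M →₀ A') →ₗ[A'] A') ∘ₗ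
    (MonoidAlgebra.coeffLinearEquiv A' (S := A') (M := M)).toLinearMap

lemma kap_apply (m : M) (f : MonoidAlgebra A' M) : kap m f = f.coeff m := rfl

lemma kap_idem (m : M) (f : MonoidAlgebra A' M) :
    LinearMap.mul' A' A' (TensorProduct.map (kap m) (kap m) (Coalgebra.comul (R := A') f)) =
      kap m f := by
  classical
  induction f using MonoidAlgebra.induction_linear with
  | zero => simp
  | add x y hx hy => simp only [map_add, hx, hy]
  | single g a =>
    rw [MonoidAlgebra.comul_single, CommSemiring.comul_apply, TensorProduct.map_tmul,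
      TensorProduct.map_tmul, LinearMap.mul'_apply, MonoidAlgebra.lsingle_apply,
      MonoidAlgebra.lsingle_apply]
    simp only [kap_apply, MonoidAlgebra.coeff_single, Finsupp.single_apply]
    by_cases h : g = m <;> simp [h]

variable (e : A' ⊗[A] B ≃ₐc[A'] MonoidAlgebra A' M)

/-- the `m`-th coordinate of `1 ⊗ b` -/
noncomputable def coord (m : M) : B →ₗ[A] A' :=
  (Finsupp.lapply m : (M →₀ A') →ₗ[A] A') ∘ₗ
    (MonoidAlgebra.coeffLinearEquiv A (S := A') (M := M)).toLinearMap ∘ₗ
      (e.toLinearEquiv.toLinearMap.restrictScalars A) ∘ₗ (TensorProduct.mk A A' B 1)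

lemma coord_apply (m : M) (b : B) : coord e m b = (e ((1 : A') ⊗ₜ[A] b)).coeff m := rfl

lemma coord_finite_support (b : B) : {m | coord e m b ≠ 0}.Finite :=
  (e ((1 : A') ⊗ₜ[A] b)).coeff.finite_support

lemma coord_idem (m : M) (b : B) :
    LinearMap.mul' A A' (TensorProduct.map (coord e m) (coord e m)
      (Coalgebra.comul (R := A) b)) = coord e m b := by
  have h1 := kap_idem m (e ((1 : A') ⊗ₜ[A] b))
  rw [← CoalgHomClass.map_comp_comul_apply e, ConvBC.comul_one_tmul] at h1
  refine Eq.trans ?_ h1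
  generalize Coalgebra.comul (R := A) b = t
  induction t using TensorProduct.induction_on with
  | zero => simp
  | tmul x y =>
    rw [ConvBC.iota2_tmul, TensorProduct.map_tmul, TensorProduct.map_tmul,
      TensorProduct.map_tmul, LinearMap.mul'_apply, LinearMap.mul'_apply]
    rfl
  | add a b ha hb => simp only [map_add, ha, hb]

end Coord

section Level

variable {A : Type u} [CommRing A] (Ak : Type u) [CommRing Ak] [Algebra A Ak]
  {A' : Type u} [CommRing A'] [Algebra A A'] {B : Type u} [CommRing B] [HopfAlgebra A B]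

lemma baseChange_idem (ℓ : B →ₗ[A] A')
    (hℓ : ∀ b, LinearMap.mul' A A' (TensorProduct.map ℓ ℓ (Coalgebra.comul (R := A) b)) = ℓ b)
    (z : Ak ⊗[A] B) :
    LinearMap.mul' Ak (Ak ⊗[A] A') (TensorProduct.map (ℓ.baseChange Ak) (ℓ.baseChange Ak)
      (Coalgebra.comul (R := Ak) z)) = ℓ.baseChange Ak z := by
  have key : ∀ t : B ⊗[A] B, LinearMap.mul' Ak (Ak ⊗[A] A')
      (TensorProduct.map (ℓ.baseChange Ak) (ℓ.baseChange Ak) (ConvBC.iota2 A Ak B t)) =
        (1 : Ak) ⊗ₜ[A] LinearMap.mul' A A' (TensorProduct.map ℓ ℓ t) := by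
    intro t
    induction t using TensorProduct.induction_on with
    | zero => simp
    | tmul x y =>
      rw [ConvBC.iota2_tmul, TensorProduct.map_tmul, LinearMap.mul'_apply,
        LinearMap.baseChange_tmul, LinearMap.baseChange_tmul,
        Algebra.TensorProduct.tmul_mul_tmul, mul_one, TensorProduct.map_tmul,
        LinearMap.mul'_apply]
    | add a b ha hb => simp only [map_add, TensorProduct.tmul_add, ha, hb]
  induction z using TensorProduct.induction_on with
  | zero => simp
  | tmul x b =>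
    have h1 : x ⊗ₜ[A] b = x • ((1 : Ak) ⊗ₜ[A] b) := by
      rw [TensorProduct.smul_tmul', smul_eq_mul, mul_one]
    rw [h1, map_smul, map_smul, map_smul, map_smul, ConvBC.comul_one_tmul, key, hℓ,
      LinearMap.baseChange_tmul]
  | add a b ha hb => simp only [map_add, ha, hb]

end Level

section Proj

variable {A : Type u} [CommRing A] (A' : Type u) [CommRing A'] [Algebra A A']
  {B : Type u} [CommRing B] [HopfAlgebra A B] (M : Type u) [CommGroup M]

lemma projective_of_diag [Module.Projective A A'] [Module.FaithfullyFlat A A']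
    (e : A' ⊗[A] B ≃ₐc[A'] MonoidAlgebra A' M) : Module.Projective A B := by
  classical
  obtain ⟨r, hr⟩ := exists_retraction (A := A) (A' := A')
  haveI : Module.Projective A (A' ⊗[A] B) := by
    have E : (Π₀ _ : M, A') ≃ₗ[A] A' ⊗[A] B :=
      (((e.toLinearEquiv.restrictScalars A).trans
        (MonoidAlgebra.coeffLinearEquiv A (S := A') (M := M))).trans
          (finsuppLequivDFinsupp A)).symm
    exact Module.Projective.of_equiv E
  exact Module.Projective.of_split (TensorProduct.mk A A' B 1)
    ((TensorProduct.lid A B).toLinearMap ∘ₗ r.rTensor B) (by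
      ext b
      simp [hr])

end Proj

end Groth.Agent.Lib.Helper19.AdicHom
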