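import Mathlib
import Groth.Prelude.Def_SGA3b
import Groth.Agent.Lib.Helper19.AdicHom1
import Groth.Agent.Lib.Helper19.AdicHom3

/-!
# Algebraization of formal homomorphisms from isotrivial groups of multiplicative type (helper19)

`A` Noetherian and `I`-adically complete, `B` a Hopf algebra over `A` which is diagonalisable over
a finite faithfully flat `A`-algebra `A'`, `C` a flat Hopf algebra over `A`.  A compatible system
of bialgebra maps `C/I^(k+1) → B/I^(k+1)` comes from a unique bialgebra map `C → B`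
(`exists_bialgHom_of_tower`; SGA 3 IX 7.1).  With `AdicHom1.exists_tower` this gives the lifting of
homomorphisms from `I`-adic reductions (`exists_bialgHom_lift_adic`; SGA 3 IX 7.3).
-/

set_option autoImplicit false
universe u
open TensorProduct

namespace Groth.Agent.Lib.Helper19.AdicHom

open Groth.Agent.Lib.Helper19.AvgLift
open Groth.Agent.Lib.Helper19.GLift (one_tmul_eq_iff one_tmul_eq_zero_iff exists_one_tmul_eq)
open Groth.Agent.Lib.Helper19

lemma map_smul_quot {A : Type*} [CommRing A] {Ak : Type*} [CommRing Ak] [Algebra A Ak]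
    {X Y : Type*} [AddCommGroup X] [Module A X] [Module Ak X] [IsScalarTower A Ak X]
    [AddCommGroup Y] [Module A Y] [Module Ak Y] [IsScalarTower A Ak Y]
    {F : Type*} [FunLike F X Y] [LinearMapClass F Ak X Y] (f : F) (a : A) (x : X) :
    f (a • x) = a • f x := by
  rw [← algebraMap_smul Ak a x, map_smul, algebraMap_smul]

section Main

variable {A : Type u} [CommRing A] [IsNoetherianRing A] (I : Ideal A) [IsAdicComplete I A]
  {B : Type u} [CommRing B] [HopfAlgebra A B] {C : Type u} [CommRing C] [HopfAlgebra A C]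
  [Module.Flat A C]
  (A' : Type u) [CommRing A'] [Algebra A A'] [Module.Finite A A'] [Module.FaithfullyFlat A A']
  (M : Type u) [CommGroup M] (e : A' ⊗[A] B ≃ₐc[A'] MonoidAlgebra A' M)
  (s : ∀ k : ℕ, ((A ⧸ I ^ (k + 1)) ⊗[A] C) →ₐc[A ⧸ I ^ (k + 1)] ((A ⧸ I ^ (k + 1)) ⊗[A] B))
  (hs : ∀ (k : ℕ) (c : C) (b : B),
    s (k + 1) ((1 : A ⧸ I ^ (k + 1 + 1)) ⊗ₜ[A] c) = (1 : A ⧸ I ^ (k + 1 + 1)) ⊗ₜ[A] b →
      s k ((1 : A ⧸ I ^ (k + 1)) ⊗ₜ[A] c) = (1 : A ⧸ I ^ (k + 1)) ⊗ₜ[A] b)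
include e hs

theorem exists_algebraization :
    ∃ φ : C → B, ∀ (k : ℕ) (c : C),
      (1 : A ⧸ I ^ (k + 1)) ⊗ₜ[A] φ c = s k ((1 : A ⧸ I ^ (k + 1)) ⊗ₜ[A] c) := by
  classical
  haveI : Module.FinitePresentation A A' := Module.finitePresentation_of_finite A A'
  haveI : Module.Projective A A' := Module.Flat.projective_of_finitePresentation
  obtain ⟨r, hr⟩ := exists_retraction (A := A) (A' := A')
  have hex : ∀ k c, ∃ b : B,
      (1 : A ⧸ I ^ (k + 1)) ⊗ₜ[A] b = s k ((1 : A ⧸ I ^ (k + 1)) ⊗ₜ[A] c) :=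
    fun k c => exists_one_tmul_eq (I ^ (k + 1)) _
  choose bk hbk using hex
  have hcau : ∀ k c, bk (k + 1) c - bk k c ∈ Sm (I ^ (k + 1)) B := by
    intro k c
    have h1 := hs k c (bk (k + 1) c) (hbk (k + 1) c).symm
    rw [← hbk k c] at h1
    have h2 := (one_tmul_eq_iff (I ^ (k + 1)) _ _).mp h1
    have h3 := neg_mem h2
    rwa [neg_sub] at h3
  have hlim : ∀ m c, ∃ L : A', ∀ k, L - coord e m (bk k c) ∈ Sm (I ^ (k + 1)) A' := by
    intro m c
    apply exists_limit I (fun k => coord e m (bk k c))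
    intro k
    rw [← map_sub]
    exact map_mem_Sm _ _ (hcau k c)
  choose u hu using hlim
  have hU1 : ∀ k m c, (1 : A ⧸ I ^ (k + 1)) ⊗ₜ[A] u m c =
      (coord e m).baseChange (A ⧸ I ^ (k + 1)) (s k ((1 : A ⧸ I ^ (k + 1)) ⊗ₜ[A] c)) := by
    intro k m c
    rw [← hbk k c, LinearMap.baseChange_tmul]
    exact (one_tmul_eq_iff (I ^ (k + 1)) _ _).mpr (hu m c k)
  have hsepA' : ∀ x y : A',
      (∀ k, (1 : A ⧸ I ^ (k + 1)) ⊗ₜ[A] x = (1 : A ⧸ I ^ (k + 1)) ⊗ₜ[A] y) → x = y :=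
    fun x y h => sep_tensor I x y h
  have hadd : ∀ m c c', u m (c + c') = u m c + u m c' := by
    intro m c c'
    apply hsepA'
    intro k
    rw [TensorProduct.tmul_add, hU1, hU1, hU1, TensorProduct.tmul_add, map_add, map_add]
  have hsmul : ∀ m (a : A) c, u m (a • c) = a • u m c := by
    intro m a c
    apply hsepA'
    intro k
    rw [TensorProduct.tmul_smul, hU1, hU1, TensorProduct.tmul_smul,
      map_smul_quot (Ak := A ⧸ I ^ (k + 1)) (s k), map_smul_quot (Ak := A ⧸ I ^ (k + 1))]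
  obtain ⟨um, hum⟩ : ∃ um : M → C →ₗ[A] A', ∀ m c, um m c = u m c :=
    ⟨fun m => { toFun := u m, map_add' := hadd m, map_smul' := fun a c => hsmul m a c },
      fun _ _ => rfl⟩
  have hidem : ∀ m c, LinearMap.mul' A A'
      (TensorProduct.map (um m) (um m) (Coalgebra.comul (R := A) c)) = um m c := by
    intro m c
    apply hsepA'
    intro k
    rw [hum, hU1, ← baseChange_idem (A ⧸ I ^ (k + 1)) (coord e m) (coord_idem e m),
      ← CoalgHomClass.map_comp_comul_apply (s k), ConvBC.comul_one_tmul]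
    generalize Coalgebra.comul (R := A) c = t
    induction t using TensorProduct.induction_on with
    | zero => simp
    | tmul x y =>
      rw [ConvBC.iota2_tmul, TensorProduct.map_tmul, TensorProduct.map_tmul,
        TensorProduct.map_tmul, LinearMap.mul'_apply, LinearMap.mul'_apply, hum, hum]
      change _ = (coord e m).baseChange _ (s k _) * (coord e m).baseChange _ (s k _)
      rw [← hU1, ← hU1, Algebra.TensorProduct.tmul_mul_tmul, mul_one]
    | add a b ha hb => simp only [map_add, TensorProduct.tmul_add, ha, hb]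
  have hfin0 : ∀ c, {m | um m c ∉ Sm I A'}.Finite := by
    intro c
    refine (coord_finite_support e (bk 0 c)).subset ?_
    intro m hm
    rw [Set.mem_setOf_eq]
    intro h0
    apply hm
    have h1 := hu m c 0
    rw [h0, sub_zero, zero_add, pow_one] at h1
    rw [hum]
    exact h1
  have hfin := finite_support_of_idem I (IsAdicComplete.le_jacobson_bot I) um hidem hfin0
  obtain ⟨y, hy⟩ : ∃ y : C → (M →₀ A'), ∀ c m, y c m = u m c := by
    refine ⟨fun c => Finsupp.ofSupportFinite (fun m => u m c) ?_, fun c m => rfl⟩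
    refine (hfin c).subset ?_
    intro m hm
    rw [Set.mem_setOf_eq, hum]
    exact hm
  obtain ⟨π, hπ⟩ : ∃ π : A' ⊗[A] B →ₗ[A] B, ∀ b, π ((1 : A') ⊗ₜ[A] b) = b :=
    ⟨(TensorProduct.lid A B).toLinearMap ∘ₗ r.rTensor B, fun b => by simp [hr]⟩
  refine ⟨fun c => π (e.symm (MonoidAlgebra.ofCoeff (y c))), fun k c => ?_⟩
  rw [← hbk k c, one_tmul_eq_iff]
  have h1 : π (e.symm (MonoidAlgebra.ofCoeff (y c))) - bk k c =
      π (e.symm (MonoidAlgebra.ofCoeff (y c) - e ((1 : A') ⊗ₜ[A] bk k c))) := by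
    rw [map_sub, BialgEquiv.symm_apply_apply, map_sub, hπ]
  rw [h1]
  obtain ⟨esl, hesl⟩ : ∃ esl : MonoidAlgebra A' M →ₗ[A] A' ⊗[A] B, ∀ z, esl z = e.symm z :=
    ⟨(e.symm.toLinearEquiv.toLinearMap).restrictScalars A, fun _ => rfl⟩
  rw [← hesl, ← LinearMap.comp_apply]
  apply map_mem_Sm
  obtain ⟨D, hD⟩ : ∃ D : MonoidAlgebra A' M,
    D = MonoidAlgebra.ofCoeff (y c) - e ((1 : A') ⊗ₜ[A] bk k c) := ⟨_, rfl⟩
  rw [← hD]
  have hDc : ∀ m, D.coeff m ∈ Sm (I ^ (k + 1)) A' := by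
    intro m
    have h2 : D.coeff m = u m c - coord e m (bk k c) := by
      rw [hD, coord_apply, MonoidAlgebra.coeff_sub, Finsupp.sub_apply,
        MonoidAlgebra.coeff_ofCoeff, hy]
    rw [h2]
    exact hu m c k
  rw [← MonoidAlgebra.sum_coeff_single D, Finsupp.sum]
  refine Submodule.sum_mem _ (fun m _ => ?_)
  exact map_mem_Sm _ (MonoidAlgebra.lsingle (R := A) m) (hDc m)

/-- **SGA 3 IX 7.1 (existence).** -/
theorem exists_bialgHom_of_tower :
    ∃ Φ : C →ₐc[A] B, ∀ (k : ℕ) (c : C),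
      (1 : A ⧸ I ^ (k + 1)) ⊗ₜ[A] Φ c = s k ((1 : A ⧸ I ^ (k + 1)) ⊗ₜ[A] c) := by
  classical
  obtain ⟨φ, hφ⟩ := exists_algebraization I A' M e s hs
  haveI : Module.FinitePresentation A A' := Module.finitePresentation_of_finite A A'
  haveI : Module.Projective A A' := Module.Flat.projective_of_finitePresentation
  haveI hPB : Module.Projective A B := projective_of_diag A' M e
  have hsepB : ∀ x y : B,
      (∀ k, (1 : A ⧸ I ^ (k + 1)) ⊗ₜ[A] x = (1 : A ⧸ I ^ (k + 1)) ⊗ₜ[A] y) → x = y :=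
    fun x y h => sep_tensor I x y h
  obtain ⟨φa, hφa⟩ : ∃ φa : C →ₐ[A] B, ∀ c, φa c = φ c := by
    refine ⟨
      { toFun := φ
        map_one' := ?_
        map_mul' := ?_
        map_zero' := ?_
        map_add' := ?_
        commutes' := ?_ }, fun _ => rfl⟩
    · apply hsepB
      intro k
      rw [hφ, ← Algebra.TensorProduct.one_def, map_one, Algebra.TensorProduct.one_def]
    · intro c c'
      apply hsepB
      intro k
      have h1 : (1 : A ⧸ I ^ (k + 1)) ⊗ₜ[A] (c * c') =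
          ((1 : A ⧸ I ^ (k + 1)) ⊗ₜ[A] c) * ((1 : A ⧸ I ^ (k + 1)) ⊗ₜ[A] c') := by
        rw [Algebra.TensorProduct.tmul_mul_tmul, one_mul]
      rw [hφ, h1, map_mul, ← hφ, ← hφ, Algebra.TensorProduct.tmul_mul_tmul, one_mul]
    · apply hsepB
      intro k
      rw [hφ, TensorProduct.tmul_zero, map_zero, TensorProduct.tmul_zero]
    · intro c c'
      apply hsepB
      intro k
      rw [hφ, TensorProduct.tmul_add, map_add, ← hφ, ← hφ, TensorProduct.tmul_add]
    · intro a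
      apply hsepB
      intro k
      rw [hφ, Algebra.algebraMap_eq_smul_one, Algebra.algebraMap_eq_smul_one,
        TensorProduct.tmul_smul, TensorProduct.tmul_smul,
        map_smul_quot (Ak := A ⧸ I ^ (k + 1)) (s k), ← Algebra.TensorProduct.one_def, map_one,
        Algebra.TensorProduct.one_def]
  have hφa' : ∀ k c, (1 : A ⧸ I ^ (k + 1)) ⊗ₜ[A] φa c =
      s k ((1 : A ⧸ I ^ (k + 1)) ⊗ₜ[A] c) := by
    intro k c
    rw [hφa]
    exact hφ k c
  have hhom : HomMod ⊥ φa.toLinearMap := by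
    intro c
    rw [Sm_bot, Submodule.mem_bot]
    apply eq_zero_of_forall_mem_Sm_pow I
    intro k
    exact homMod_of_lift (I ^ (k + 1)) (s k) φa (hφa' k) c
  obtain ⟨Φ, hΦ⟩ := exists_bialgHom_of_homMod_bot φa hhom
  exact ⟨Φ, fun k c => by rw [hΦ]; exact hφa' k c⟩

end Main

/-- **SGA 3 IX 7.3, affine case**: lifting homomorphisms from an isotrivial group of
multiplicative type to a smooth affine group over an adically complete Noetherian ring. -/
theorem exists_bialgHom_lift_adic {A : Type u} [CommRing A] [IsNoetherianRing A] (I : Ideal A)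
    [IsAdicComplete I A] {B : Type u} [CommRing B] [HopfAlgebra A B]
    (hH : SGA3b.IsIsotrivial A B) {C : Type u} [CommRing C] [HopfAlgebra A C]
    [Algebra.Smooth A C]
    (φ₀ : ((A ⧸ I) ⊗[A] C) →ₐc[A ⧸ I] ((A ⧸ I) ⊗[A] B)) :
    ∃ φ : C →ₐc[A] B, ∀ c : C, φ₀ ((1 : A ⧸ I) ⊗ₜ[A] c) = (1 : A ⧸ I) ⊗ₜ[A] (φ c) := by
  have hB : SGA3b.IsMultType A B := isMultType_of_isIsotrivial hH
  obtain ⟨A', _, _, -, hfin, hff, M, _, ⟨e⟩⟩ := hH
  haveI := hfin
  haveI := hff
  obtain ⟨s, h0, hs⟩ := exists_tower hB I φ₀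
  obtain ⟨Φ, hΦ⟩ := exists_bialgHom_of_tower I A' M e s hs
  exact ⟨Φ, fun c => h0 c (Φ c) (hΦ 0 c).symm⟩

end Groth.Agent.Lib.Helper19.AdicHom
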