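import Mathlib
import Groth.Prelude.Def_SGA3b
import Groth.Agent.Lib.Helper19.AdicHom4

/-!
# Algebraization of formal homomorphisms without flatness (helper19)

The same statements as in `AdicHom4`, without the hypothesis that `C` is flat over `A`
(SGA 3 IX 7.1 in its full generality for an affine target): the finiteness of the support of the
limit coordinates `u m : C → A'` is deduced from their orthogonality for the convolution product and
the Noetherian hypothesis (`finite_support_of_orth`).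
-/

set_option autoImplicit false
universe u
open TensorProduct

namespace Groth.Agent.Lib.Helper19.AdicHom

open Groth.Agent.Lib.Helper19.AvgLift
open Groth.Agent.Lib.Helper19.GLift (one_tmul_eq_iff one_tmul_eq_zero_iff exists_one_tmul_eq)
open Groth.Agent.Lib.Helper19

section Orth

variable {A : Type u} [CommRing A] {A' : Type u} [CommRing A'] [Algebra A A']
  {B : Type u} [CommRing B] [HopfAlgebra A B] {M : Type u} [CommGroup M]

lemma kap_orth {m m' : M} (h : m ≠ m') (f : MonoidAlgebra A' M) :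
    LinearMap.mul' A' A' (TensorProduct.map (kap m) (kap m') (Coalgebra.comul (R := A') f)) =
      0 := by
  classical
  induction f using MonoidAlgebra.induction_linear with
  | zero => simp
  | add x y hx hy => simp only [map_add, hx, hy, add_zero]
  | single g a =>
    rw [MonoidAlgebra.comul_single, CommSemiring.comul_apply, TensorProduct.map_tmul,
      TensorProduct.map_tmul, LinearMap.mul'_apply, MonoidAlgebra.lsingle_apply,
      MonoidAlgebra.lsingle_apply]
    simp only [kap_apply, MonoidAlgebra.coeff_single, Finsupp.single_apply]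
    by_cases h1 : g = m
    · have h2 : ¬ g = m' := fun h3 => h (h1.symm.trans h3)
      simp [h2]
    · simp [h1]

variable (e : A' ⊗[A] B ≃ₐc[A'] MonoidAlgebra A' M)

lemma coord_orth {m m' : M} (h : m ≠ m') (b : B) :
    LinearMap.mul' A A' (TensorProduct.map (coord e m) (coord e m')
      (Coalgebra.comul (R := A) b)) = 0 := by
  have h1 := kap_orth h (e ((1 : A') ⊗ₜ[A] b))
  rw [← CoalgHomClass.map_comp_comul_apply e, ConvBC.comul_one_tmul] at h1
  refine Eq.trans ?_ h1
  generalize Coalgebra.comul (R := A) b = t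
  induction t using TensorProduct.induction_on with
  | zero => simp
  | tmul x y =>
    rw [ConvBC.iota2_tmul, TensorProduct.map_tmul, TensorProduct.map_tmul,
      TensorProduct.map_tmul, LinearMap.mul'_apply, LinearMap.mul'_apply]
    rfl
  | add a b ha hb => simp only [map_add, ha, hb]

end Orth

section LevelOrth

variable {A : Type u} [CommRing A] (Ak : Type u) [CommRing Ak] [Algebra A Ak]
  {A' : Type u} [CommRing A'] [Algebra A A'] {B : Type u} [CommRing B] [HopfAlgebra A B]

lemma baseChange_orth (ℓ ℓ' : B →ₗ[A] A')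
    (hℓ : ∀ b, LinearMap.mul' A A' (TensorProduct.map ℓ ℓ' (Coalgebra.comul (R := A) b)) = 0)
    (z : Ak ⊗[A] B) :
    LinearMap.mul' Ak (Ak ⊗[A] A') (TensorProduct.map (ℓ.baseChange Ak) (ℓ'.baseChange Ak)
      (Coalgebra.comul (R := Ak) z)) = 0 := by
  have key : ∀ t : B ⊗[A] B, LinearMap.mul' Ak (Ak ⊗[A] A')
      (TensorProduct.map (ℓ.baseChange Ak) (ℓ'.baseChange Ak) (ConvBC.iota2 A Ak B t)) =
        (1 : Ak) ⊗ₜ[A] LinearMap.mul' A A' (TensorProduct.map ℓ ℓ' t) := by
    intro t
    induction t using TensorProduct.induction_on with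
    | zero => simp
    | tmul x y =>
      rw [ConvBC.iota2_tmul, TensorProduct.map_tmul, LinearMap.mul'_apply,
        LinearMap.baseChange_tmul, LinearMap.baseChange_tmul,
        Algebra.TensorProduct.tmul_mul_tmul, mul_one, TensorProduct.map_tmul,
        LinearMap.mul'_apply]
    | add a b ha hb => simp only [map_add, TensorProduct.tmul_add, ha, hb]
  induction z using TensorProduct.induction_on with
  | zero => simp
  | tmul x b =>
    have h1 : x ⊗ₜ[A] b = x • ((1 : Ak) ⊗ₜ[A] b) := by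
      rw [TensorProduct.smul_tmul', smul_eq_mul, mul_one]
    rw [h1, map_smul, map_smul, map_smul, ConvBC.comul_one_tmul, key, hℓ,
      TensorProduct.tmul_zero, smul_zero]
  | add a b ha hb => simp only [map_add, ha, hb, add_zero]

end LevelOrth

section Finiteness

theorem finite_support_of_orth {A : Type*} [CommRing A] [IsNoetherianRing A] {A' : Type*}
    [CommRing A'] [Algebra A A'] [Module.Finite A A']
    {C : Type*} [AddCommGroup C] [Module A C] [Coalgebra A C] {M : Type*} (u : M → C →ₗ[A] A')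
    (hidem : ∀ m c, LinearMap.mul' A A'
      (TensorProduct.map (u m) (u m) (Coalgebra.comul (R := A) c)) = u m c)
    (horth : ∀ m m', m ≠ m' → ∀ c, LinearMap.mul' A A'
      (TensorProduct.map (u m) (u m') (Coalgebra.comul (R := A) c)) = 0)
    (c : C) : {m | u m c ≠ 0}.Finite := by
  classical
  obtain ⟨S, hS⟩ := TensorProduct.exists_finset (Coalgebra.comul (R := A) c)
  obtain ⟨X, hX⟩ : ∃ X : M → ({p // p ∈ S} → A'), ∀ m p, X m p = u m p.1.1 :=
    ⟨fun m p => u m p.1.1, fun _ _ => rfl⟩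
  obtain ⟨L, hL⟩ : ∃ L : M → (({p // p ∈ S} → A') →ₗ[A] A'),
      ∀ m' x, L m' x = ∑ p : {p // p ∈ S}, x p * u m' p.1.2 := by
    refine ⟨fun m' =>
      { toFun := fun x => ∑ p : {p // p ∈ S}, x p * u m' p.1.2
        map_add' := fun x x' => by
          simp only [Pi.add_apply, add_mul, Finset.sum_add_distrib]
        map_smul' := fun a x => by
          simp only [Pi.smul_apply, smul_mul_assoc, Finset.smul_sum, RingHom.id_apply] },
      fun _ _ => rfl⟩
  have hLX : ∀ m m', L m' (X m) = LinearMap.mul' A A'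
      (TensorProduct.map (u m) (u m') (Coalgebra.comul (R := A) c)) := by
    intro m m'
    rw [hL, hS, map_sum, map_sum, ← Finset.sum_coe_sort S]
    refine Finset.sum_congr rfl (fun p _ => ?_)
    rw [hX, TensorProduct.map_tmul, LinearMap.mul'_apply]
  haveI : IsNoetherian A ({p // p ∈ S} → A') := isNoetherian_of_isNoetherianRing_of_finite A _
  have hfg : (Submodule.span A (Set.range X)).FG := IsNoetherian.noetherian _
  obtain ⟨F, hFsub, hFspan⟩ := (Submodule.fg_span_iff_fg_span_finset_subset (Set.range X)).mp hfg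
  have hmF : ∀ v : {v // v ∈ F}, ∃ m, X m = v.1 := fun v => hFsub v.2
  choose mv hmv using hmF
  refine (Set.finite_range mv).subset ?_
  intro m₀ hm₀
  rw [Set.mem_setOf_eq] at hm₀
  by_contra hnot
  apply hm₀
  have hker : Submodule.span A ((F : Set ({p // p ∈ S} → A'))) ≤ LinearMap.ker (L m₀) := by
    rw [Submodule.span_le]
    intro v hv
    have hv' : X (mv ⟨v, hv⟩) = v := hmv ⟨v, hv⟩
    rw [SetLike.mem_coe, LinearMap.mem_ker, ← hv', hLX]
    apply horth
    intro h
    exact hnot ⟨⟨v, hv⟩, h⟩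
  have hXm : X m₀ ∈ Submodule.span A ((F : Set ({p // p ∈ S} → A'))) := by
    rw [← hFspan]
    exact Submodule.subset_span ⟨m₀, rfl⟩
  have h0 := LinearMap.mem_ker.mp (hker hXm)
  rw [hLX, hidem] at h0
  exact h0

end Finiteness

section Main

variable {A : Type u} [CommRing A] [IsNoetherianRing A] (I : Ideal A) [IsAdicComplete I A]
  {B : Type u} [CommRing B] [HopfAlgebra A B] {C : Type u} [CommRing C] [HopfAlgebra A C]
  (A' : Type u) [CommRing A'] [Algebra A A'] [Module.Finite A A'] [Module.FaithfullyFlat A A']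
  (M : Type u) [CommGroup M] (e : A' ⊗[A] B ≃ₐc[A'] MonoidAlgebra A' M)
  (s : ∀ k : ℕ, ((A ⧸ I ^ (k + 1)) ⊗[A] C) →ₐc[A ⧸ I ^ (k + 1)] ((A ⧸ I ^ (k + 1)) ⊗[A] B))
  (hs : ∀ (k : ℕ) (c : C) (b : B),
    s (k + 1) ((1 : A ⧸ I ^ (k + 1 + 1)) ⊗ₜ[A] c) = (1 : A ⧸ I ^ (k + 1 + 1)) ⊗ₜ[A] b →
      s k ((1 : A ⧸ I ^ (k + 1)) ⊗ₜ[A] c) = (1 : A ⧸ I ^ (k + 1)) ⊗ₜ[A] b)
include e hs

theorem exists_algebraization' :
    ∃ φ : C → B, ∀ (k : ℕ) (c : C),
      (1 : A ⧸ I ^ (k + 1)) ⊗ₜ[A] φ c = s k ((1 : A ⧸ I ^ (k + 1)) ⊗ₜ[A] c) := by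
  classical
  haveI : Module.FinitePresentation A A' := Module.finitePresentation_of_finite A A'
  haveI : Module.Projective A A' := Module.Flat.projective_of_finitePresentation
  obtain ⟨r, hr⟩ := exists_retraction (A := A) (A' := A')
  have hex : ∀ k c, ∃ b : B,
      (1 : A ⧸ I ^ (k + 1)) ⊗ₜ[A] b = s k ((1 : A ⧸ I ^ (k + 1)) ⊗ₜ[A] c) :=
    fun k c => exists_one_tmul_eq (I ^ (k + 1)) _
  choose bk hbk using hex
  have hcau : ∀ k c, bk (k + 1) c - bk k c ∈ Sm (I ^ (k + 1)) B := by
    intro k c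
    have h1 := hs k c (bk (k + 1) c) (hbk (k + 1) c).symm
    rw [← hbk k c] at h1
    have h2 := (one_tmul_eq_iff (I ^ (k + 1)) _ _).mp h1
    have h3 := neg_mem h2
    rwa [neg_sub] at h3
  have hlim : ∀ m c, ∃ L : A', ∀ k, L - coord e m (bk k c) ∈ Sm (I ^ (k + 1)) A' := by
    intro m c
    apply exists_limit I (fun k => coord e m (bk k c))
    intro k
    rw [← map_sub]
    exact map_mem_Sm _ _ (hcau k c)
  choose u hu using hlim
  have hU1 : ∀ k m c, (1 : A ⧸ I ^ (k + 1)) ⊗ₜ[A] u m c =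
      (coord e m).baseChange (A ⧸ I ^ (k + 1)) (s k ((1 : A ⧸ I ^ (k + 1)) ⊗ₜ[A] c)) := by
    intro k m c
    rw [← hbk k c, LinearMap.baseChange_tmul]
    exact (one_tmul_eq_iff (I ^ (k + 1)) _ _).mpr (hu m c k)
  have hsepA' : ∀ x y : A',
      (∀ k, (1 : A ⧸ I ^ (k + 1)) ⊗ₜ[A] x = (1 : A ⧸ I ^ (k + 1)) ⊗ₜ[A] y) → x = y :=
    fun x y h => sep_tensor I x y h
  have hadd : ∀ m c c', u m (c + c') = u m c + u m c' := by
    intro m c c'
    apply hsepA'
    intro k
    rw [TensorProduct.tmul_add, hU1, hU1, hU1, TensorProduct.tmul_add, map_add, map_add]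
  have hsmul : ∀ m (a : A) c, u m (a • c) = a • u m c := by
    intro m a c
    apply hsepA'
    intro k
    rw [TensorProduct.tmul_smul, hU1, hU1, TensorProduct.tmul_smul,
      map_smul_quot (Ak := A ⧸ I ^ (k + 1)) (s k), map_smul_quot (Ak := A ⧸ I ^ (k + 1))]
  obtain ⟨um, hum⟩ : ∃ um : M → C →ₗ[A] A', ∀ m c, um m c = u m c :=
    ⟨fun m => { toFun := u m, map_add' := hadd m, map_smul' := fun a c => hsmul m a c },
      fun _ _ => rfl⟩
  have hidem : ∀ m c, LinearMap.mul' A A'
      (TensorProduct.map (um m) (um m) (Coalgebra.comul (R := A) c)) = um m c := by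
    intro m c
    apply hsepA'
    intro k
    rw [hum, hU1, ← baseChange_idem (A ⧸ I ^ (k + 1)) (coord e m) (coord_idem e m),
      ← CoalgHomClass.map_comp_comul_apply (s k), ConvBC.comul_one_tmul]
    generalize Coalgebra.comul (R := A) c = t
    induction t using TensorProduct.induction_on with
    | zero => simp
    | tmul x y =>
      rw [ConvBC.iota2_tmul, TensorProduct.map_tmul, TensorProduct.map_tmul,
        TensorProduct.map_tmul, LinearMap.mul'_apply, LinearMap.mul'_apply, hum, hum]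
      change _ = (coord e m).baseChange _ (s k _) * (coord e m).baseChange _ (s k _)
      rw [← hU1, ← hU1, Algebra.TensorProduct.tmul_mul_tmul, mul_one]
    | add a b ha hb => simp only [map_add, TensorProduct.tmul_add, ha, hb]
  have horth : ∀ m m', m ≠ m' → ∀ c, LinearMap.mul' A A'
      (TensorProduct.map (um m) (um m') (Coalgebra.comul (R := A) c)) = 0 := by
    intro m m' hne c
    apply hsepA'
    intro k
    refine Eq.trans ?_ ((baseChange_orth (A ⧸ I ^ (k + 1)) (coord e m) (coord e m')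
      (coord_orth e hne) (s k ((1 : A ⧸ I ^ (k + 1)) ⊗ₜ[A] c))).trans
        (TensorProduct.tmul_zero _ _).symm)
    rw [← CoalgHomClass.map_comp_comul_apply (s k), ConvBC.comul_one_tmul]
    generalize Coalgebra.comul (R := A) c = t
    induction t using TensorProduct.induction_on with
    | zero => simp
    | tmul x y =>
      rw [ConvBC.iota2_tmul, TensorProduct.map_tmul, TensorProduct.map_tmul,
        TensorProduct.map_tmul, LinearMap.mul'_apply, LinearMap.mul'_apply, hum, hum]
      change _ = (coord e m).baseChange _ (s k _) * (coord e m').baseChange _ (s k _)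
      rw [← hU1, ← hU1, Algebra.TensorProduct.tmul_mul_tmul, mul_one]
    | add a b ha hb => simp only [map_add, TensorProduct.tmul_add, ha, hb]
  have hfin : ∀ c, {m | um m c ≠ 0}.Finite := fun c => finite_support_of_orth um hidem horth c
  obtain ⟨y, hy⟩ : ∃ y : C → (M →₀ A'), ∀ c m, y c m = u m c := by
    refine ⟨fun c => Finsupp.ofSupportFinite (fun m => u m c) ?_, fun c m => rfl⟩
    refine (hfin c).subset ?_
    intro m hm
    rw [Set.mem_setOf_eq, hum]
    exact hm
  obtain ⟨π, hπ⟩ : ∃ π : A' ⊗[A] B →ₗ[A] B, ∀ b, π ((1 : A') ⊗ₜ[A] b) = b :=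
    ⟨(TensorProduct.lid A B).toLinearMap ∘ₗ r.rTensor B, fun b => by simp [hr]⟩
  refine ⟨fun c => π (e.symm (MonoidAlgebra.ofCoeff (y c))), fun k c => ?_⟩
  rw [← hbk k c, one_tmul_eq_iff]
  have h1 : π (e.symm (MonoidAlgebra.ofCoeff (y c))) - bk k c =
      π (e.symm (MonoidAlgebra.ofCoeff (y c) - e ((1 : A') ⊗ₜ[A] bk k c))) := by
    rw [map_sub, BialgEquiv.symm_apply_apply, map_sub, hπ]
  rw [h1]
  obtain ⟨esl, hesl⟩ : ∃ esl : MonoidAlgebra A' M →ₗ[A] A' ⊗[A] B, ∀ z, esl z = e.symm z :=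
    ⟨(e.symm.toLinearEquiv.toLinearMap).restrictScalars A, fun _ => rfl⟩
  rw [← hesl, ← LinearMap.comp_apply]
  apply map_mem_Sm
  obtain ⟨D, hD⟩ : ∃ D : MonoidAlgebra A' M,
    D = MonoidAlgebra.ofCoeff (y c) - e ((1 : A') ⊗ₜ[A] bk k c) := ⟨_, rfl⟩
  rw [← hD]
  have hDc : ∀ m, D.coeff m ∈ Sm (I ^ (k + 1)) A' := by
    intro m
    have h2 : D.coeff m = u m c - coord e m (bk k c) := by
      rw [hD, coord_apply, MonoidAlgebra.coeff_sub, Finsupp.sub_apply,
        MonoidAlgebra.coeff_ofCoeff, hy]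
    rw [h2]
    exact hu m c k
  rw [← MonoidAlgebra.sum_coeff_single D, Finsupp.sum]
  refine Submodule.sum_mem _ (fun m _ => ?_)
  exact map_mem_Sm _ (MonoidAlgebra.lsingle (R := A) m) (hDc m)

/-- **SGA 3 IX 7.1 (existence).** -/
theorem exists_bialgHom_of_tower' :
    ∃ Φ : C →ₐc[A] B, ∀ (k : ℕ) (c : C),
      (1 : A ⧸ I ^ (k + 1)) ⊗ₜ[A] Φ c = s k ((1 : A ⧸ I ^ (k + 1)) ⊗ₜ[A] c) := by
  classical
  obtain ⟨φ, hφ⟩ := exists_algebraization' I A' M e s hs
  haveI : Module.FinitePresentation A A' := Module.finitePresentation_of_finite A A'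
  haveI : Module.Projective A A' := Module.Flat.projective_of_finitePresentation
  haveI hPB : Module.Projective A B := projective_of_diag A' M e
  have hsepB : ∀ x y : B,
      (∀ k, (1 : A ⧸ I ^ (k + 1)) ⊗ₜ[A] x = (1 : A ⧸ I ^ (k + 1)) ⊗ₜ[A] y) → x = y :=
    fun x y h => sep_tensor I x y h
  obtain ⟨φa, hφa⟩ : ∃ φa : C →ₐ[A] B, ∀ c, φa c = φ c := by
    refine ⟨
      { toFun := φ
        map_one' := ?_
        map_mul' := ?_
        map_zero' := ?_
        map_add' := ?_
        commutes' := ?_ }, fun _ => rfl⟩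
    · apply hsepB
      intro k
      rw [hφ, ← Algebra.TensorProduct.one_def, map_one, Algebra.TensorProduct.one_def]
    · intro c c'
      apply hsepB
      intro k
      have h1 : (1 : A ⧸ I ^ (k + 1)) ⊗ₜ[A] (c * c') =
          ((1 : A ⧸ I ^ (k + 1)) ⊗ₜ[A] c) * ((1 : A ⧸ I ^ (k + 1)) ⊗ₜ[A] c') := by
        rw [Algebra.TensorProduct.tmul_mul_tmul, one_mul]
      rw [hφ, h1, map_mul, ← hφ, ← hφ, Algebra.TensorProduct.tmul_mul_tmul, one_mul]
    · apply hsepB
      intro k
      rw [hφ, TensorProduct.tmul_zero, map_zero, TensorProduct.tmul_zero]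
    · intro c c'
      apply hsepB
      intro k
      rw [hφ, TensorProduct.tmul_add, map_add, ← hφ, ← hφ, TensorProduct.tmul_add]
    · intro a
      apply hsepB
      intro k
      rw [hφ, Algebra.algebraMap_eq_smul_one, Algebra.algebraMap_eq_smul_one,
        TensorProduct.tmul_smul, TensorProduct.tmul_smul,
        map_smul_quot (Ak := A ⧸ I ^ (k + 1)) (s k), ← Algebra.TensorProduct.one_def, map_one,
        Algebra.TensorProduct.one_def]
  have hφa' : ∀ k c, (1 : A ⧸ I ^ (k + 1)) ⊗ₜ[A] φa c =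
      s k ((1 : A ⧸ I ^ (k + 1)) ⊗ₜ[A] c) := by
    intro k c
    rw [hφa]
    exact hφ k c
  have hhom : HomMod ⊥ φa.toLinearMap := by
    intro c
    rw [Sm_bot, Submodule.mem_bot]
    apply eq_zero_of_forall_mem_Sm_pow I
    intro k
    exact homMod_of_lift (I ^ (k + 1)) (s k) φa (hφa' k) c
  obtain ⟨Φ, hΦ⟩ := exists_bialgHom_of_homMod_bot φa hhom
  exact ⟨Φ, fun k c => by rw [hΦ]; exact hφa' k c⟩

end Main

end Groth.Agent.Lib.Helper19.AdicHom
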