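import Mathlib
import Groth.Prelude.Def_SGA3b
import Groth.Agent.Lib.Helper1.MultTypeRigid
import Groth.Agent.Lib.Helper9.NilpFlat
import Groth.Agent.Lib.Helper19.GLift1

/-!
# Flat deformations of diagonalisable groups, part 1 (helper19)

* `EE φ`: the operator `y ↦ ∑ φ(y₁) y₂` on a coalgebra, its compatibility with the
  comultiplication and with the convolution product;
* `redHom K`: reduction modulo `K` as a ring homomorphism of convolution rings, with nil kernel
  when `K` is nilpotent;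
* `lm K e0 m`: the coefficient functionals `A → R/K` attached to a diagonalisation `e0` of
  `A/KA`; they are orthogonal convolution idempotents;
* `bij_of_lifts`: for `A` flat over `R` and `K` nilpotent, lifts of the basis of `A/KA ≃ (R/K)[M]`
  form a basis of `A`;
* `exists_lift_lm`: the coefficient functionals lift to `R`-valued functionals.
-/

set_option autoImplicit false
universe u
open TensorProduct

namespace Groth.Agent.Lib.Helper19.FlatDef

open Groth.Agent.Lib.Helper1.MultType WithConv Coalgebra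
open Groth.Agent.Lib.Helper19.GLift

section Nak

/-- Nakayama for a nilpotent ideal. -/
lemma eq_top_of_top_le_sup_smul {B M : Type*} [CommRing B] [AddCommGroup M]
    [Module B M] (N : Submodule B M) (J : Ideal B) (hJ : IsNilpotent J)
    (h : (⊤ : Submodule B M) ≤ N ⊔ J • ⊤) : N = ⊤ := by
  obtain ⟨n, hn⟩ := hJ
  have key : ∀ k : ℕ, (⊤ : Submodule B M) ≤ N ⊔ (J ^ k) • ⊤ := by
    intro k
    induction k with
    | zero => simp
    | succ k ih =>
      calc (⊤ : Submodule B M) ≤ N ⊔ J • ⊤ := h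
        _ ≤ N ⊔ J • (N ⊔ (J ^ k) • ⊤) := sup_le_sup_left (Submodule.smul_mono le_rfl ih) _
        _ = N ⊔ (J • N ⊔ J • (J ^ k) • ⊤) := by rw [Submodule.smul_sup]
        _ ≤ N ⊔ (J ^ (k + 1)) • ⊤ := by
          refine sup_le le_sup_left (sup_le (le_sup_of_le_left Submodule.smul_le_right) ?_)
          rw [← Submodule.mul_smul, ← pow_succ']
          exact le_sup_right
  have := key n
  rw [hn] at this
  simpa using this

/-- Nakayama for a nilpotent ideal, relative form. -/
lemma le_of_le_sup_smul {R M : Type*} [CommRing R] [AddCommGroup M] [Module R M]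
    (K K₀ : Submodule R M) (J : Ideal R) (hJ : IsNilpotent J) (h : K ≤ K₀ ⊔ J • K) : K ≤ K₀ := by
  obtain ⟨n, hn⟩ := hJ
  have key : ∀ k : ℕ, K ≤ K₀ ⊔ (J ^ k) • K := by
    intro k
    induction k with
    | zero => simp
    | succ k ih =>
      calc K ≤ K₀ ⊔ J • K := h
        _ ≤ K₀ ⊔ J • (K₀ ⊔ (J ^ k) • K) := sup_le_sup_left (Submodule.smul_mono le_rfl ih) _
        _ = K₀ ⊔ (J • K₀ ⊔ J • (J ^ k) • K) := by rw [Submodule.smul_sup]
        _ ≤ K₀ ⊔ (J ^ (k + 1)) • K := by
          refine sup_le le_sup_left (sup_le (le_sup_of_le_left Submodule.smul_le_right) ?_)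
          rw [← Submodule.mul_smul, ← pow_succ']
          exact le_sup_right
  have := key n
  rw [hn] at this
  simpa using this

end Nak

section EE

variable {R : Type u} [CommRing R] {A : Type u} [CommRing A] [Bialgebra R A]

/-- the operator `y ↦ ∑ φ(y₁) y₂` -/
noncomputable def EE (φ : A →ₗ[R] R) : A →ₗ[R] A :=
  (TensorProduct.lid R A).toLinearMap ∘ₗ (φ.rTensor A) ∘ₗ Coalgebra.comul

lemma EE_apply (φ : A →ₗ[R] R) (y : A) :
    EE φ y = TensorProduct.lid R A (φ.rTensor A (Coalgebra.comul y)) := rfl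

lemma EE_groupLike (φ : A →ₗ[R] R) {g : A} (hg : IsGroupLikeElem R g) : EE φ g = φ g • g := by
  rw [EE_apply, hg.comul_eq_tmul_self, LinearMap.rTensor_tmul, TensorProduct.lid_tmul]

lemma comp_EE {S : Type*} [CommRing S] [Algebra R S] (ψ : A →ₗ[R] S) (φ : A →ₗ[R] R)
    (φ' : A →ₗ[R] S) (hφ : ∀ a, φ' a = algebraMap R S (φ a)) :
    ψ ∘ₗ EE φ = (toConv φ' * toConv ψ).ofConv := by
  refine LinearMap.ext fun y => ?_
  show ψ (TensorProduct.lid R A (φ.rTensor A (Coalgebra.comul y))) =
    LinearMap.mul' R S (TensorProduct.map φ' ψ (Coalgebra.comul y))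
  generalize Coalgebra.comul (R := R) y = t
  induction t with
  | zero => simp
  | tmul x z =>
    rw [LinearMap.rTensor_tmul, TensorProduct.lid_tmul, map_smul, TensorProduct.map_tmul,
      LinearMap.mul'_apply, hφ, Algebra.smul_def]
  | add x z hx hz => simp only [map_add, hx, hz]

lemma comul_EE (φ : A →ₗ[R] R) (y : A) :
    Coalgebra.comul (EE φ y) = (EE φ).rTensor A (Coalgebra.comul y) := by
  have hA : ∀ t : A ⊗[R] A,
      Coalgebra.comul (R := R) (TensorProduct.lid R A (φ.rTensor A t)) =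
        TensorProduct.lid R (A ⊗[R] A)
          (φ.rTensor (A ⊗[R] A) ((Coalgebra.comul (R := R) (A := A)).lTensor A t)) := by
    intro t
    induction t with
    | zero => simp
    | tmul x z =>
      rw [LinearMap.rTensor_tmul, TensorProduct.lid_tmul, map_smul, LinearMap.lTensor_tmul,
        LinearMap.rTensor_tmul, TensorProduct.lid_tmul]
    | add x z hx hz => simp only [map_add, hx, hz]
  have hB : ((TensorProduct.lid R A).toLinearMap ∘ₗ φ.rTensor A).rTensor A =
      (TensorProduct.lid R (A ⊗[R] A)).toLinearMap ∘ₗ φ.rTensor (A ⊗[R] A) ∘ₗ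
        (TensorProduct.assoc R A A A).toLinearMap := by
    apply TensorProduct.ext_threefold
    intro x z w
    show ((TensorProduct.lid R A) (φ.rTensor A (x ⊗ₜ z))) ⊗ₜ[R] w =
      (TensorProduct.lid R (A ⊗[R] A)) (φ.rTensor (A ⊗[R] A)
        ((TensorProduct.assoc R A A A) ((x ⊗ₜ z) ⊗ₜ w)))
    rw [TensorProduct.assoc_tmul, LinearMap.rTensor_tmul, LinearMap.rTensor_tmul,
      TensorProduct.lid_tmul, TensorProduct.lid_tmul, TensorProduct.smul_tmul']
  have hC : (EE φ).rTensor A =
      ((TensorProduct.lid R A).toLinearMap ∘ₗ φ.rTensor A).rTensor A ∘ₗ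
        ((Coalgebra.comul (R := R) (A := A)).rTensor A) := by
    have h : EE φ = ((TensorProduct.lid R A).toLinearMap ∘ₗ φ.rTensor A) ∘ₗ
        Coalgebra.comul := rfl
    rw [h, LinearMap.rTensor_comp]
  rw [EE_apply, hA, hC, LinearMap.comp_apply, hB, LinearMap.comp_apply, LinearMap.comp_apply]
  simp only [LinearEquiv.coe_coe]
  rw [Coalgebra.coassoc_apply]

lemma EE_comp (φ ψ : A →ₗ[R] R) : EE ψ ∘ₗ EE φ = EE (toConv φ * toConv ψ).ofConv := by
  refine LinearMap.ext fun y => ?_
  show EE ψ (EE φ y) = EE (toConv φ * toConv ψ).ofConv y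
  rw [EE_apply ψ, comul_EE, ← LinearMap.rTensor_comp_apply,
    comp_EE ψ φ φ (fun a => rfl), ← EE_apply]

end EE

section Red

variable {R : Type u} [CommRing R] {A : Type u} [CommRing A] [Bialgebra R A] (K : Ideal R)

/-- reduction modulo `K` as a linear map -/
noncomputable def mkL : R →ₗ[R] (R ⧸ K) := (Algebra.ofId R (R ⧸ K)).toLinearMap

lemma mkL_apply (r : R) : mkL K r = Ideal.Quotient.mk K r := rfl

/-- reduction modulo `K` on convolution rings -/
noncomputable def redHom : WithConv (A →ₗ[R] R) →+* WithConv (A →ₗ[R] (R ⧸ K)) where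
  toFun φ := toConv (mkL K ∘ₗ φ.ofConv)
  map_one' := by
    apply WithConv.ofConv_injective
    refine LinearMap.ext fun a => ?_
    show Ideal.Quotient.mk K (algebraMap R R (counit (R := R) a)) =
      algebraMap R (R ⧸ K) (counit (R := R) a)
    rfl
  map_mul' f g := by
    apply WithConv.ofConv_injective
    exact LinearMap.algHom_comp_convMul_distrib (Algebra.ofId R (R ⧸ K)) f g
  map_zero' := by
    apply WithConv.ofConv_injective
    show mkL K ∘ₗ (0 : A →ₗ[R] R) = 0
    rw [LinearMap.comp_zero]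
  map_add' f g := by
    apply WithConv.ofConv_injective
    show mkL K ∘ₗ (f.ofConv + g.ofConv) = mkL K ∘ₗ f.ofConv + mkL K ∘ₗ g.ofConv
    rw [LinearMap.comp_add]

lemma redHom_apply (φ : WithConv (A →ₗ[R] R)) :
    redHom (A := A) K φ = toConv (mkL K ∘ₗ φ.ofConv) := rfl

lemma redHom_ker_nil (hK : IsNilpotent K) :
    ∀ x ∈ RingHom.ker (redHom (A := A) K), IsNilpotent x := by
  intro x hx
  rw [RingHom.mem_ker, redHom_apply, WithConv.toConv_eq_zero] at hx
  have h1 : ValIn K 1 x.ofConv := by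
    intro a
    rw [pow_one]
    have h2 := LinearMap.congr_fun hx a
    exact Ideal.Quotient.eq_zero_iff_mem.1 h2
  have key : ∀ n, ValIn K n (x ^ n).ofConv := by
    intro n
    induction n with
    | zero => exact valIn_zero K _
    | succ n ih =>
      rw [pow_succ]
      exact valIn_mul ih h1
  obtain ⟨N, hN⟩ := hK
  refine ⟨N, ?_⟩
  apply WithConv.ofConv_injective
  ext a
  have := key N a
  rw [hN] at this
  simpa using this

end Red

section Restr

variable {R S : Type*} [CommRing R] [CommRing S] [Algebra R S]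
  {A : Type*} [AddCommGroup A] [Module R A] [Coalgebra R A]
  {T : Type*} [CommRing T] [Algebra S T] [Algebra R T] [IsScalarTower R S T]

lemma restr_mul (μ ν : S ⊗[R] A →ₗ[S] T) :
    toConv (restr μ) * toConv (restr ν) = toConv (restr (toConv μ * toConv ν).ofConv) := by
  apply WithConv.ofConv_injective
  refine LinearMap.ext fun a => ?_
  change LinearMap.mul' R T (TensorProduct.map (restr μ) (restr ν) (comul (R := R) a)) =
    LinearMap.mul' S T (TensorProduct.map μ ν (comul (R := S) ((1 : S) ⊗ₜ[R] a)))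
  rw [TensorProduct.comul_tmul, CommSemiring.comul_apply]
  generalize comul (R := R) a = t
  induction t with
  | zero => simp
  | tmul x y =>
    simp only [map_tmul, LinearMap.mul'_apply, restr_apply,
      AlgebraTensorModule.tensorTensorTensorComm_tmul]
  | add x y hx hy =>
    simp only [map_add, tmul_add] at hx hy ⊢
    rw [hx, hy]

end Restr

section GroupAlg

lemma coeffFun_mul_of_ne {T : Type*} [CommRing T] {M : Type*} [CommGroup M] {m x : M}
    (h : m ≠ x) : toConv (coeffFun (T := T) m) * toConv (coeffFun x) = 0 := by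
  classical
  apply WithConv.ofConv_injective
  apply MonoidAlgebra.lhom_ext'
  intro m'
  refine LinearMap.ext fun r => ?_
  change LinearMap.mul' T T (TensorProduct.map (coeffFun m) (coeffFun x)
    (comul (R := T) (MonoidAlgebra.single m' r))) = 0
  rw [MonoidAlgebra.comul_single]
  simp only [CommSemiring.comul_apply, map_tmul, MonoidAlgebra.lsingle_apply,
    LinearMap.mul'_apply, coeffFun_single]
  by_cases h1 : m' = m
  · have h2 : ¬ m' = x := fun h2 => h (h1.symm.trans h2)
    rw [if_neg h2, mul_zero]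
  · rw [if_neg h1, zero_mul]

end GroupAlg

section Lifts

variable {R : Type u} [CommRing R] {A : Type u} [CommRing A] [HopfAlgebra R A]
  (K : Ideal R) {M : Type u} [CommGroup M]
  (e0 : ((R ⧸ K) ⊗[R] A) ≃ₐc[R ⧸ K] MonoidAlgebra (R ⧸ K) M)

/-- coefficient functionals on `A/KA` -/
noncomputable def mu (m : M) : (R ⧸ K) ⊗[R] A →ₗ[R ⧸ K] (R ⧸ K) :=
  (coeffFun m).comp e0.toCoalgEquiv.toCoalgHom.toLinearMap

lemma mu_mul_self (m : M) :
    toConv (mu K e0 m) * toConv (mu K e0 m) = toConv (mu K e0 m) := by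
  have h1 := LinearMap.convMul_comp_coalgHom_distrib (toConv (coeffFun (T := R ⧸ K) m))
    (toConv (coeffFun m)) e0.toCoalgEquiv.toCoalgHom
  rw [coeffFun_idem] at h1
  apply WithConv.ofConv_injective
  exact h1.symm

lemma mu_mul_of_ne {m x : M} (h : m ≠ x) : toConv (mu K e0 m) * toConv (mu K e0 x) = 0 := by
  have h1 := LinearMap.convMul_comp_coalgHom_distrib (toConv (coeffFun (T := R ⧸ K) m))
    (toConv (coeffFun x)) e0.toCoalgEquiv.toCoalgHom
  rw [coeffFun_mul_of_ne h] at h1
  apply WithConv.ofConv_injective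
  exact h1.symm.trans (LinearMap.zero_comp _)

/-- the coefficient at `m` of the reduction, as an `R`-linear functional on `A` -/
noncomputable def lm (m : M) : A →ₗ[R] (R ⧸ K) := restr (mu K e0 m)

lemma lm_apply (m : M) (a : A) :
    lm K e0 m a = coeffFun m (e0 ((1 : R ⧸ K) ⊗ₜ[R] a)) := rfl

lemma lm_mul_self (m : M) :
    toConv (lm K e0 m) * toConv (lm K e0 m) = toConv (lm K e0 m) :=
  restr_idem _ (mu_mul_self K e0 m)

lemma lm_mul_of_ne {m x : M} (h : m ≠ x) : toConv (lm K e0 m) * toConv (lm K e0 x) = 0 := by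
  rw [lm, lm, restr_mul, mu_mul_of_ne K e0 h]
  apply WithConv.ofConv_injective
  refine LinearMap.ext fun a => ?_
  rfl

variable {K e0}

lemma one_tmul_eq_of_lm (z : A) (w : MonoidAlgebra (R ⧸ K) M)
    (h : ∀ x, lm K e0 x z = coeffFun x w) : (1 : R ⧸ K) ⊗ₜ[R] z = e0.symm w := by
  have h1 : e0 ((1 : R ⧸ K) ⊗ₜ[R] z) = w := by
    rw [← sub_eq_zero]
    apply eq_zero_of_coeffFun
    intro x
    rw [map_sub, ← lm_apply, h, sub_self]
  rw [← h1, BialgEquiv.symm_apply_apply]

lemma lm_lift [DecidableEq M] (y : M → A)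
    (hy : ∀ m, (1 : R ⧸ K) ⊗ₜ[R] y m = e0.symm (MonoidAlgebra.single m 1)) (x m : M) :
    lm K e0 x (y m) = if m = x then 1 else 0 := by
  rw [lm_apply, hy m, BialgEquiv.apply_symm_apply, coeffFun_single]

variable (y : M → A)
  (hy : ∀ m, (1 : R ⧸ K) ⊗ₜ[R] y m = e0.symm (MonoidAlgebra.single m 1))
  (Φ : MonoidAlgebra R M →ₗ[R] A)
  (hΦ : ∀ m r, Φ (MonoidAlgebra.single m r) = r • y m)

include hy hΦ in
lemma lm_comp (x : M) : lm K e0 x ∘ₗ Φ = mkL K ∘ₗ coeffFun x := by
  classical
  apply MonoidAlgebra.lhom_ext'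
  intro m
  refine LinearMap.ext fun r => ?_
  show lm K e0 x (Φ (MonoidAlgebra.single m r)) =
    Ideal.Quotient.mk K (coeffFun x (MonoidAlgebra.single m r))
  rw [hΦ, map_smul, lm_lift y hy, coeffFun_single]
  by_cases hmx : m = x
  · rw [if_pos hmx, if_pos hmx, Algebra.smul_def, mul_one]
    rfl
  · rw [if_neg hmx, if_neg hmx, smul_zero, map_zero]

include hy hΦ in
theorem surj_of_lifts (hK : IsNilpotent K) : Function.Surjective Φ := by
  have hS1 : ∀ a : A, ∃ p : MonoidAlgebra R M,
      (1 : R ⧸ K) ⊗ₜ[R] Φ p = (1 : R ⧸ K) ⊗ₜ[R] a := by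
    intro a
    have hsur : ∀ q : MonoidAlgebra (R ⧸ K) M, ∃ p : MonoidAlgebra R M,
        (1 : R ⧸ K) ⊗ₜ[R] Φ p = e0.symm q := by
      intro q
      refine MonoidAlgebra.induction_linear q ⟨0, by simp⟩ ?_ ?_
      · rintro q₁ q₂ ⟨p₁, h₁⟩ ⟨p₂, h₂⟩
        exact ⟨p₁ + p₂, by rw [map_add, TensorProduct.tmul_add, h₁, h₂, map_add]⟩
      · intro m r
        obtain ⟨r', rfl⟩ := Ideal.Quotient.mk_surjective r
        refine ⟨MonoidAlgebra.single m r', ?_⟩
        rw [hΦ, TensorProduct.tmul_smul, hy m, ← algebraMap_smul (R ⧸ K) r', ← map_smul,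
          MonoidAlgebra.smul_single', mul_one]
        rfl
    obtain ⟨p, hp⟩ := hsur (e0 ((1 : R ⧸ K) ⊗ₜ[R] a))
    exact ⟨p, by rw [hp, BialgEquiv.symm_apply_apply]⟩
  have htop : LinearMap.range Φ = ⊤ := by
    apply eq_top_of_top_le_sup_smul _ K hK
    intro a _
    obtain ⟨p, hp⟩ := hS1 a
    have h1 : a - Φ p ∈ (K • ⊤ : Submodule R A) := (one_tmul_eq_iff K _ _).1 hp.symm
    have h2 : a = Φ p + (a - Φ p) := by abel
    rw [h2]
    exact Submodule.add_mem_sup ⟨p, rfl⟩ h1
  exact LinearMap.range_eq_top.1 htop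

include hy hΦ in
theorem inj_of_lifts [Module.Flat R A] (hK : IsNilpotent K) : Function.Injective Φ := by
  classical
  apply Groth.Agent.Lib.Helper9.NilpFlat.injective_of_surjective_of_flat K hK Φ
    (surj_of_lifts y hy Φ hΦ hK)
  intro p hp
  have h0 : (1 : R ⧸ K) ⊗ₜ[R] Φ p = 0 := (one_tmul_eq_zero_iff K _).2 hp
  have hcoef : ∀ x, coeffFun x p ∈ K := by
    intro x
    have h1 := LinearMap.congr_fun (lm_comp y hy Φ hΦ x) p
    rw [LinearMap.comp_apply, LinearMap.comp_apply, lm_apply, h0, map_zero, map_zero,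
      mkL_apply] at h1
    exact Ideal.Quotient.eq_zero_iff_mem.1 h1.symm
  rw [← sum_single_coeff p]
  refine Submodule.sum_mem _ fun x _ => ?_
  have h3 : (MonoidAlgebra.single x (coeffFun x p) : MonoidAlgebra R M) =
      coeffFun x p • MonoidAlgebra.single x 1 := by
    rw [MonoidAlgebra.smul_single, smul_eq_mul, mul_one]
  rw [h3]
  exact Submodule.smul_mem_smul (hcoef x) Submodule.mem_top

include hy hΦ in
theorem bij_of_lifts [Module.Flat R A] (hK : IsNilpotent K) : Function.Bijective Φ :=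
  ⟨inj_of_lifts y hy Φ hΦ hK, surj_of_lifts y hy Φ hΦ hK⟩

variable (K e0)

theorem exists_lift_lm [Module.Flat R A] (hK : IsNilpotent K) (m : M) :
    ∃ c : A →ₗ[R] R, ∀ a, Ideal.Quotient.mk K (c a) = lm K e0 m a := by
  classical
  have hlift : ∀ x : M, ∃ a : A,
      (1 : R ⧸ K) ⊗ₜ[R] a = e0.symm (MonoidAlgebra.single x 1) :=
    fun x => exists_one_tmul_eq K _
  choose y hy using hlift
  obtain ⟨Φ, hΦ⟩ : ∃ Φ : MonoidAlgebra R M →ₗ[R] A,
      ∀ x r, Φ (MonoidAlgebra.single x r) = r • y x := by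
    refine ⟨(MonoidAlgebra.basis M R).constr R y, fun x r => ?_⟩
    have h1 : (MonoidAlgebra.single x r : MonoidAlgebra R M) =
        r • MonoidAlgebra.basis M R x := by
      rw [MonoidAlgebra.basis_apply, MonoidAlgebra.smul_single, smul_eq_mul, mul_one]
    rw [h1, map_smul, Module.Basis.constr_basis]
  have hbij := bij_of_lifts y hy Φ hΦ hK
  obtain ⟨Ψ, hΨ⟩ : ∃ Ψ : MonoidAlgebra R M ≃ₗ[R] A, ∀ p, Ψ p = Φ p :=
    ⟨LinearEquiv.ofBijective Φ hbij, fun p => rfl⟩
  refine ⟨(coeffFun m) ∘ₗ Ψ.symm.toLinearMap, fun a => ?_⟩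
  have h2 := LinearMap.congr_fun (lm_comp y hy Φ hΦ m) (Ψ.symm a)
  rw [LinearMap.comp_apply, LinearMap.comp_apply, ← hΨ, LinearEquiv.apply_symm_apply,
    mkL_apply] at h2
  exact h2.symm

end Lifts

end Groth.Agent.Lib.Helper19.FlatDef
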