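import Mathlib
import Groth.Prelude.Def_SGA3b
import Groth.Agent.Lib.Helper19.FlatDef1
import Groth.Agent.Lib.Helper19.GLift4

/-!
# Flat deformations of diagonalisable groups, part 2 (helper19)

* `exists_gl_lift`: for a flat Hopf algebra `A` over `R` and a nilpotent ideal `K` with
  `A/KA ≃ (R/K)[M]`, every basis element lifts to exactly one group-like element of `A`;
* `isDiag_of_flat_mod_nilpotent`: such an `A` is diagonalisable.
-/

set_option autoImplicit false
universe u
open TensorProduct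

namespace Groth.Agent.Lib.Helper19.FlatDef

open Groth.Agent.Lib.Helper1.MultType WithConv Coalgebra
open Groth.Agent.Lib.Helper19.GLift

section Lift

variable {R : Type u} [CommRing R] {A : Type u} [CommRing A] [HopfAlgebra R A]
  (K : Ideal R) {M : Type u} [CommGroup M]
  (e0 : ((R ⧸ K) ⊗[R] A) ≃ₐc[R ⧸ K] MonoidAlgebra (R ⧸ K) M)

lemma isUnit_of_sub_one_mem (hK : IsNilpotent K) {u : R} (h : u - 1 ∈ K) : IsUnit u := by
  obtain ⟨N, hN⟩ := hK
  have hn : IsNilpotent (u - 1) := ⟨N, by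
    have := Ideal.pow_mem_pow h N
    rw [hN] at this
    simpa using this⟩
  have := hn.isUnit_add_one
  rwa [sub_add_cancel] at this

theorem exists_gl_lift [Module.Flat R A] (hK : IsNilpotent K) (m : M) :
    ∃ h : A, IsGroupLikeElem R h ∧
      (1 : R ⧸ K) ⊗ₜ[R] h = e0.symm (MonoidAlgebra.single m 1) ∧
      ∀ g : A, IsGroupLikeElem R g →
        (1 : R ⧸ K) ⊗ₜ[R] g = e0.symm (MonoidAlgebra.single m 1) → g = h := by
  classical
  -- the idempotent functional
  obtain ⟨c, hc⟩ := exists_lift_lm K e0 hK m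
  have hrange : toConv (lm K e0 m) ∈ (redHom (A := A) K).range := by
    refine RingHom.mem_range.2 ⟨toConv c, ?_⟩
    rw [redHom_apply]
    congr 1
    refine LinearMap.ext fun a => ?_
    exact hc a
  obtain ⟨e, he, hem⟩ := exists_isIdempotentElem_eq_of_ker_isNilpotent (redHom (A := A) K)
    (redHom_ker_nil K hK) (toConv (lm K e0 m)) hrange (lm_mul_self K e0 m)
  obtain ⟨ε', hε'⟩ : ∃ ε' : A →ₗ[R] R, ε' = e.ofConv := ⟨_, rfl⟩
  have hεm : ∀ a, lm K e0 m a = algebraMap R (R ⧸ K) (ε' a) := by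
    intro a
    rw [redHom_apply] at hem
    have h1 := LinearMap.congr_fun (WithConv.toConv_injective hem) a
    rw [hε']
    exact h1.symm
  have hee : toConv ε' * toConv ε' = toConv ε' := by
    rw [hε', WithConv.toConv_ofConv]
    exact he
  obtain ⟨E, hE⟩ : ∃ E : A →ₗ[R] A, E = EE ε' := ⟨_, rfl⟩
  have hEE : ∀ y, E (E y) = E y := by
    intro y
    have h1 := LinearMap.congr_fun (EE_comp ε' ε') y
    rw [hee, WithConv.ofConv_toConv] at h1
    rw [hE]
    exact h1
  have hlmE : ∀ x y, lm K e0 x (E y) = if x = m then lm K e0 m y else 0 := by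
    intro x y
    have h2 : lm K e0 x (EE ε' y) = (toConv (lm K e0 m) * toConv (lm K e0 x)).ofConv y :=
      LinearMap.congr_fun (comp_EE (lm K e0 x) ε' (lm K e0 m) hεm) y
    rw [hE]
    by_cases hx : x = m
    · rw [if_pos hx, h2, hx, lm_mul_self, WithConv.ofConv_toConv]
    · rw [if_neg hx, h2, lm_mul_of_ne K e0 (Ne.symm hx), WithConv.ofConv_zero,
        LinearMap.zero_apply]
  have hΔE : ∀ y, Coalgebra.comul (R := R) (E y) = (E.rTensor A) (Coalgebra.comul y) := by
    intro y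
    rw [hE]
    exact comul_EE ε' y
  -- the lift
  obtain ⟨a, ha⟩ := exists_one_tmul_eq K (e0.symm (MonoidAlgebra.single m 1))
  have hlma : ∀ x, lm K e0 x a = if m = x then 1 else 0 := by
    intro x
    rw [lm_apply, ha, BialgEquiv.apply_symm_apply, coeffFun_single]
  obtain ⟨g₀, hg₀⟩ : ∃ g₀ : A, g₀ = E a := ⟨_, rfl⟩
  have hEg₀ : E g₀ = g₀ := by
    rw [hg₀]
    exact hEE a
  have hlmg₀ : ∀ x, lm K e0 x g₀ = if m = x then 1 else 0 := by
    intro x
    rw [hg₀, hlmE]
    by_cases hx : x = m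
    · rw [if_pos hx, hlma, if_pos rfl, if_pos hx.symm]
    · rw [if_neg hx, if_neg (fun h => hx h.symm)]
  have h1g₀ : (1 : R ⧸ K) ⊗ₜ[R] g₀ = e0.symm (MonoidAlgebra.single m 1) := by
    apply one_tmul_eq_of_lm
    intro x
    rw [hlmg₀, coeffFun_single]
  -- `E y ≡ r g₀` modulo `K`
  have hmod : ∀ y, ∃ r : R, E y - r • g₀ ∈ (K • ⊤ : Submodule R A) := by
    intro y
    obtain ⟨r, hr⟩ := Ideal.Quotient.mk_surjective (lm K e0 m y)
    refine ⟨r, ?_⟩
    rw [← one_tmul_eq_zero_iff K]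
    have h2 := one_tmul_eq_of_lm (K := K) (e0 := e0) (E y - r • g₀) 0 (by
      intro x
      rw [map_sub, map_smul, hlmE, hlmg₀, map_zero]
      by_cases hx : x = m
      · rw [if_pos hx, if_pos hx.symm, ← hr, Algebra.smul_def, mul_one]
        exact sub_self _
      · rw [if_neg hx, if_neg (fun h => hx h.symm), smul_zero, sub_zero])
    rw [h2, map_zero]
  have hL : LinearMap.range E ≤ Submodule.span R {g₀} := by
    apply le_of_le_sup_smul (LinearMap.range E) (Submodule.span R {g₀}) K hK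
    rintro _ ⟨y, rfl⟩
    obtain ⟨r, hr⟩ := hmod y
    have h1 : E y = r • g₀ + E (E y - r • g₀) := by
      rw [map_sub, map_smul, hEg₀, hEE y]
      abel
    rw [h1]
    refine Submodule.add_mem_sup
      (Submodule.smul_mem _ r (Submodule.mem_span_singleton_self g₀)) ?_
    have h2 : (K • (⊤ : Submodule R A)).map E = K • LinearMap.range E := by
      rw [Submodule.map_smul'', Submodule.map_top]
    rw [← h2]
    exact Submodule.mem_map_of_mem hr
  have hspan : ∀ y, ∃ r : R, E y = r • g₀ := by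
    intro y
    have h1 : E y ∈ Submodule.span R {g₀} := hL ⟨y, rfl⟩
    obtain ⟨r, hr⟩ := Submodule.mem_span_singleton.1 h1
    exact ⟨r, hr.symm⟩
  -- comultiplication of `g₀`
  have hten : ∀ t : A ⊗[R] A, ∃ h' : A, (E.rTensor A) t = g₀ ⊗ₜ[R] h' := by
    intro t
    induction t with
    | zero => exact ⟨0, by rw [map_zero, TensorProduct.tmul_zero]⟩
    | tmul x z =>
      obtain ⟨r, hr⟩ := hspan x
      exact ⟨r • z, by rw [LinearMap.rTensor_tmul, hr, TensorProduct.smul_tmul]⟩
    | add t₁ t₂ h₁ h₂ =>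
      obtain ⟨h₁', e₁⟩ := h₁
      obtain ⟨h₂', e₂⟩ := h₂
      exact ⟨h₁' + h₂', by rw [map_add, e₁, e₂, TensorProduct.tmul_add]⟩
  obtain ⟨h', hh'⟩ := hten (Coalgebra.comul (R := R) a)
  have hΔg₀ : Coalgebra.comul (R := R) g₀ = g₀ ⊗ₜ[R] h' := by
    rw [hg₀, hΔE, hh', ← hg₀]
  obtain ⟨u, hu0⟩ : ∃ u : R, u = Coalgebra.counit (R := R) g₀ := ⟨_, rfl⟩
  have hu : u • h' = g₀ := by
    have h1 := Coalgebra.rTensor_counit_comul (R := R) g₀
    rw [hΔg₀, LinearMap.rTensor_tmul, ← hu0] at h1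
    have h2 := congrArg (TensorProduct.lid R A) h1
    rw [TensorProduct.lid_tmul, TensorProduct.lid_tmul, one_smul] at h2
    exact h2
  have hγ : IsGroupLikeElem (R ⧸ K) (e0.symm (MonoidAlgebra.single m (1 : R ⧸ K))) :=
    (MonoidAlgebra.isGroupLikeElem_single_one (R := R ⧸ K) (A := R ⧸ K) m).map e0.symm
  have hum : u - 1 ∈ K := by
    rw [← h1g₀] at hγ
    rw [hu0]
    exact (GLmod_of_groupLike_quot K g₀ hγ).1
  obtain ⟨v, hv⟩ := (isUnit_of_sub_one_mem K hK hum).exists_left_inv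
  have hh'v : h' = v • g₀ := by
    have h1 : v • (u • h') = v • g₀ := by rw [hu]
    rw [smul_smul, hv, one_smul] at h1
    exact h1
  have hgl : IsGroupLikeElem R (v • g₀) :=
    { counit_eq_one := by rw [map_smul, ← hu0, smul_eq_mul, hv]
      comul_eq_tmul_self := by
        rw [map_smul, hΔg₀, hh'v, TensorProduct.smul_tmul'] }
  have hvm : v - 1 ∈ K := by
    have h1 : v - 1 = v * (1 - u) := by rw [mul_sub, mul_one, hv]
    rw [h1]
    have h2 : 1 - u ∈ K := by
      have h3 := neg_mem hum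
      rwa [neg_sub] at h3
    exact K.mul_mem_left v h2
  have hcong : (1 : R ⧸ K) ⊗ₜ[R] (v • g₀) = e0.symm (MonoidAlgebra.single m 1) := by
    rw [← h1g₀, one_tmul_eq_iff K]
    have h1 : v • g₀ - g₀ = (v - 1) • g₀ := by rw [sub_smul, one_smul]
    rw [h1]
    exact Submodule.smul_mem_smul hvm Submodule.mem_top
  refine ⟨v • g₀, hgl, hcong, ?_⟩
  -- uniqueness
  intro g hg hgc
  have h1 : E g = ε' g • g := by
    rw [hE]
    exact EE_groupLike ε' hg
  obtain ⟨r, hr⟩ := hspan g
  have hwm : ε' g - 1 ∈ K := by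
    have h2 := hεm g
    rw [lm_apply, hgc, BialgEquiv.apply_symm_apply, coeffFun_single, if_pos rfl] at h2
    have h3 : Ideal.Quotient.mk K (ε' g - 1) = 0 := by
      rw [map_sub, map_one, sub_eq_zero]
      exact h2.symm
    exact Ideal.Quotient.eq_zero_iff_mem.1 h3
  obtain ⟨w', hw'⟩ := (isUnit_of_sub_one_mem K hK hwm).exists_left_inv
  have h4 : g = (w' * r) • g₀ := by
    have h5 : ε' g • g = r • g₀ := h1.symm.trans hr
    have h6 : w' • (ε' g • g) = w' • (r • g₀) := by rw [h5]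
    rw [smul_smul, hw', one_smul, smul_smul] at h6
    exact h6
  have hs : (w' * r) * u = 1 := by
    have h7 := hg.counit_eq_one
    rw [h4, map_smul, smul_eq_mul, ← hu0] at h7
    exact h7
  have hsv : w' * r = v := by
    calc w' * r = (w' * r) * (u * v) := by rw [mul_comm u v, hv, mul_one]
      _ = ((w' * r) * u) * v := by ring
      _ = v := by rw [hs, one_mul]
  rw [h4, hsv]

end Lift

theorem isDiag_of_flat_mod_nilpotent {R : Type u} [CommRing R] {A : Type u} [CommRing A]
    [HopfAlgebra R A] [Module.Flat R A] (K : Ideal R) (hK : IsNilpotent K)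
    (h0 : SGA3b.IsDiag (R ⧸ K) ((R ⧸ K) ⊗[R] A)) : SGA3b.IsDiag R A := by
  obtain ⟨M, _, ⟨e0⟩⟩ := h0
  have hex := fun m => exists_gl_lift K e0 hK m
  choose g hg hgc huniq using hex
  let φ : M →* GroupLike R A :=
    { toFun := fun m => ⟨g m, hg m⟩
      map_one' := by
        apply GroupLike.val_injective
        show g 1 = 1
        refine (huniq 1 1 IsGroupLikeElem.one ?_).symm
        rw [← MonoidAlgebra.one_def, map_one, Algebra.TensorProduct.one_def]
      map_mul' := fun m m' => by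
        apply GroupLike.val_injective
        show g (m * m') = g m * g m'
        refine (huniq (m * m') (g m * g m') ((hg m).mul (hg m')) ?_).symm
        have : (1 : R ⧸ K) ⊗ₜ[R] (g m * g m') =
            ((1 : R ⧸ K) ⊗ₜ[R] g m) * ((1 : R ⧸ K) ⊗ₜ[R] g m') := by
          rw [Algebra.TensorProduct.tmul_mul_tmul, one_mul]
        rw [this, hgc, hgc, ← map_mul, MonoidAlgebra.single_mul_single, one_mul] }
  let Φ : MonoidAlgebra R M →ₐc[R] A :=
    (MonoidAlgebra.liftGroupLikeBialgHom (R := R) (A := A)).comp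
      (MonoidAlgebra.mapDomainBialgHom R φ)
  have hΦ : ∀ m r, (Φ : MonoidAlgebra R M →ₗ[R] A) (MonoidAlgebra.single m r) = r • g m := by
    intro m r
    simp [Φ, φ, MonoidAlgebra.mapDomainBialgHom_single, MonoidAlgebra.lift_single]
  have hbij := bij_of_lifts g hgc (Φ : MonoidAlgebra R M →ₗ[R] A) hΦ hK
  exact ⟨M, inferInstance, ⟨(BialgEquiv.ofBijective Φ hbij).symm⟩⟩

end Groth.Agent.Lib.Helper19.FlatDef
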