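import Mathlib
import Groth.Prelude.Def_SGA3b
import Groth.Agent.Lib.Helper19.FlatDef2
import Groth.Agent.Lib.Helper19.EtLift2

/-!
# Flat deformations of diagonalisable groups, part 3 (helper19)

`isQuasiIsotrivial_of_flat_mod_nilpotent`: a flat affine group over `R` which is quasi-isotrivial
of multiplicative type modulo a nilpotent ideal is quasi-isotrivial of multiplicative type.
-/

set_option autoImplicit false
universe u
open TensorProduct

namespace Groth.Agent.Lib.Helper19.FlatDef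

open Groth.Agent.Lib.Helper19.EtLift

section Nilp

lemma isNilpotent_of_le {T : Type*} [CommRing T] {J J' : Ideal T} (h : J ≤ J')
    (h' : IsNilpotent J') : IsNilpotent J := by
  obtain ⟨n, hn⟩ := h'
  refine ⟨n, ?_⟩
  have h1 : J ^ n ≤ J' ^ n := Ideal.pow_right_mono h n
  rw [hn] at h1
  exact le_bot_iff.1 h1

lemma isNilpotent_map' {L T : Type*} [CommRing L] [CommRing T] [Algebra L T] {I : Ideal L}
    (hI : IsNilpotent I) : IsNilpotent (I.map (algebraMap L T)) := by
  obtain ⟨k, hk⟩ := hI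
  refine ⟨k, ?_⟩
  rw [← Ideal.map_pow, hk, Ideal.zero_eq_bot, Ideal.map_bot]
  exact Ideal.zero_eq_bot.symm

lemma isNilpotent_of_mem {T : Type*} [CommRing T] {J : Ideal T} (hJ : IsNilpotent J) :
    ∀ x ∈ J, IsNilpotent x := by
  intro x hx
  obtain ⟨N, hN⟩ := hJ
  refine ⟨N, ?_⟩
  have := Ideal.pow_mem_pow hx N
  rw [hN] at this
  simpa using this

end Nilp

theorem exists_etale_lift_nilp {L : Type u} [CommRing L] {L₀ : Type u} [CommRing L₀]
    [Algebra L L₀]
    (hsurj : Function.Surjective (algebraMap L L₀))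
    (hnilp : IsNilpotent (RingHom.ker (algebraMap L L₀)))
    (T₀ : Type u) [CommRing T₀] [Algebra L₀ T₀] [Algebra L T₀] [IsScalarTower L L₀ T₀]
    [Algebra.Etale L₀ T₀] :
    ∃ (T : Type u) (_ : CommRing T) (_ : Algebra L T) (φ : T →ₐ[L] T₀),
      Algebra.Etale L T ∧ Function.Surjective φ ∧ IsNilpotent (RingHom.ker φ) ∧
      (Module.FaithfullyFlat L₀ T₀ → Module.FaithfullyFlat L T) := by
  have hnil : ∀ x ∈ RingHom.ker (algebraMap L L₀), IsNilpotent x := isNilpotent_of_mem hnilp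
  obtain ⟨I, hIdef⟩ : ∃ I : Ideal L, I = RingHom.ker (algebraMap L L₀) := ⟨_, rfl⟩
  have hI : ∀ x ∈ I, IsNilpotent x := by rw [hIdef]; exact hnil
  have hIn : IsNilpotent I := by rw [hIdef]; exact hnilp
  letI alg1 : Algebra (L ⧸ I) L₀ :=
    (Ideal.Quotient.lift I (algebraMap L L₀) (fun a ha => by rw [hIdef] at ha; exact ha)).toAlgebra
  haveI tw1 : IsScalarTower L (L ⧸ I) L₀ := IsScalarTower.of_algebraMap_eq (fun _ => rfl)
  have hbij : Function.Bijective (algebraMap (L ⧸ I) L₀) := by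
    constructor
    · rw [injective_iff_map_eq_zero]
      intro x hx
      obtain ⟨y, rfl⟩ := Ideal.Quotient.mk_surjective x
      rw [Ideal.Quotient.eq_zero_iff_mem, hIdef, RingHom.mem_ker]
      exact hx
    · intro z
      obtain ⟨y, rfl⟩ := hsurj z
      exact ⟨Ideal.Quotient.mk I y, rfl⟩
  haveI et1 : Algebra.Etale (L ⧸ I) L₀ :=
    Algebra.Etale.of_equiv (AlgEquiv.ofBijective (Algebra.ofId (L ⧸ I) L₀) hbij)
  letI alg2 : Algebra (L ⧸ I) T₀ :=
    ((algebraMap L₀ T₀).comp (algebraMap (L ⧸ I) L₀)).toAlgebra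
  haveI tw2 : IsScalarTower (L ⧸ I) L₀ T₀ := IsScalarTower.of_algebraMap_eq (fun _ => rfl)
  haveI tw3 : IsScalarTower L (L ⧸ I) T₀ := IsScalarTower.of_algebraMap_eq (fun x => by
    show algebraMap L T₀ x = algebraMap L₀ T₀ (algebraMap L L₀ x)
    exact IsScalarTower.algebraMap_apply L L₀ T₀ x)
  haveI et2 : Algebra.Etale (L ⧸ I) T₀ := Algebra.Etale.comp (L ⧸ I) L₀ T₀
  obtain ⟨T, _, _, hTet, ⟨ε⟩⟩ := exists_etale_lift_quot I hI T₀
  obtain ⟨φ, hφ⟩ : ∃ φ : T →ₐ[L] T₀,
      ∀ t, φ t = ε (Ideal.Quotient.mk (I.map (algebraMap L T)) t) :=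
    ⟨(ε.toAlgHom.restrictScalars L).comp (Ideal.Quotient.mkₐ L (I.map (algebraMap L T))),
      fun t => rfl⟩
  have hφs : Function.Surjective φ := by
    intro y
    obtain ⟨z, rfl⟩ := ε.surjective y
    obtain ⟨t, rfl⟩ := Ideal.Quotient.mk_surjective z
    exact ⟨t, hφ t⟩
  have hkerle : RingHom.ker φ ≤ I.map (algebraMap L T) := by
    intro x hx
    rw [RingHom.mem_ker, hφ] at hx
    have h1 : Ideal.Quotient.mk (I.map (algebraMap L T)) x = 0 :=
      ε.injective (hx.trans (map_zero ε).symm)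
    exact Ideal.Quotient.eq_zero_iff_mem.1 h1
  refine ⟨T, inferInstance, inferInstance, φ, hTet, hφs,
    isNilpotent_of_le hkerle (isNilpotent_map' hIn), ?_⟩
  intro hff
  haveI : Algebra.Smooth L T := (Algebra.Etale.iff_formallyUnramified_and_smooth.1 hTet).2
  haveI : Module.Flat L T := inferInstance
  apply Module.FaithfullyFlat.of_comap_surjective
  intro 𝔭
  have hIq : RingHom.ker (algebraMap L L₀) ≤ 𝔭.asIdeal := by
    intro x hx
    obtain ⟨n, hn⟩ := hnil x hx
    exact 𝔭.isPrime.mem_of_pow_mem n (by rw [hn]; exact 𝔭.asIdeal.zero_mem)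
  haveI hq₀ : (Ideal.map (algebraMap L L₀) 𝔭.asIdeal).IsPrime :=
    Ideal.map_isPrime_of_surjective hsurj hIq
  obtain ⟨Q₀, hQ₀⟩ := PrimeSpectrum.comap_surjective_of_faithfullyFlat
    (A := L₀) (B := T₀) ⟨_, hq₀⟩
  refine ⟨⟨Q₀.asIdeal.comap φ, Ideal.comap_isPrime _ _⟩, ?_⟩
  apply PrimeSpectrum.ext
  show (Q₀.asIdeal.comap φ).comap (algebraMap L T) = 𝔭.asIdeal
  have h1 : Q₀.asIdeal.comap (algebraMap L₀ T₀) = Ideal.map (algebraMap L L₀) 𝔭.asIdeal :=
    congrArg PrimeSpectrum.asIdeal hQ₀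
  have h2 : (Ideal.map (algebraMap L L₀) 𝔭.asIdeal).comap (algebraMap L L₀) = 𝔭.asIdeal := by
    rw [Ideal.comap_map_of_surjective _ hsurj]
    exact sup_eq_left.2 hIq
  refine Ideal.ext fun x => ?_
  have e1 : φ (algebraMap L T x) = algebraMap L₀ T₀ (algebraMap L L₀ x) := by
    rw [AlgHom.commutes, IsScalarTower.algebraMap_apply L L₀ T₀]
  have e2 : algebraMap L₀ T₀ (algebraMap L L₀ x) ∈ Q₀.asIdeal ↔
      algebraMap L L₀ x ∈ Ideal.map (algebraMap L L₀) 𝔭.asIdeal := by
    rw [← h1, Ideal.mem_comap]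
  have e3 : algebraMap L L₀ x ∈ Ideal.map (algebraMap L L₀) 𝔭.asIdeal ↔ x ∈ 𝔭.asIdeal := by
    conv_rhs => rw [← h2]
    rw [Ideal.mem_comap]
  rw [Ideal.mem_comap, Ideal.mem_comap, e1, e2, e3]

section Away

lemma away_ker_le {R : Type u} [CommRing R] (I : Ideal R) (f : R)
    (L : Type u) [CommRing L] [Algebra R L] [IsLocalization.Away f L]
    (L₀ : Type u) [CommRing L₀] [Algebra (R ⧸ I) L₀]
    [IsLocalization.Away (Ideal.Quotient.mk I f) L₀]
    [Algebra R L₀] [IsScalarTower R (R ⧸ I) L₀] [Algebra L L₀] [IsScalarTower R L L₀] :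
    RingHom.ker (algebraMap L L₀) ≤ I.map (algebraMap R L) := by
  intro x hx
  rw [RingHom.mem_ker] at hx
  obtain ⟨n, a, hna⟩ := IsLocalization.Away.surj f x
  have h2 : algebraMap (R ⧸ I) L₀ (Ideal.Quotient.mk I a) =
      algebraMap L L₀ (algebraMap R L a) :=
    (IsScalarTower.algebraMap_apply R (R ⧸ I) L₀ a).symm.trans
      (IsScalarTower.algebraMap_apply R L L₀ a)
  have h0 : algebraMap (R ⧸ I) L₀ (Ideal.Quotient.mk I a) = 0 := by
    have h3 := congrArg (algebraMap L L₀) hna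
    rw [map_mul, hx, zero_mul] at h3
    rw [h2]
    exact h3.symm
  obtain ⟨⟨_, k, rfl⟩, hk⟩ :=
    (IsLocalization.map_eq_zero_iff (Submonoid.powers (Ideal.Quotient.mk I f)) L₀ _).1 h0
  have hmem : f ^ k * a ∈ I := by
    rw [← Ideal.Quotient.eq_zero_iff_mem, map_mul, map_pow]
    exact hk
  have h3 : algebraMap R L (f ^ k * a) ∈ I.map (algebraMap R L) := Ideal.mem_map_of_mem _ hmem
  have hinv : algebraMap R L f * IsLocalization.Away.invSelf f = 1 :=
    IsLocalization.Away.mul_invSelf f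
  have h4 : x = algebraMap R L (f ^ k * a) * IsLocalization.Away.invSelf f ^ (n + k) := by
    rw [map_mul, map_pow, ← hna, pow_add]
    have h5 : algebraMap R L f ^ k * (x * algebraMap R L f ^ n) *
        (IsLocalization.Away.invSelf f ^ n * IsLocalization.Away.invSelf f ^ k) =
        x * (algebraMap R L f * IsLocalization.Away.invSelf f) ^ n *
          (algebraMap R L f * IsLocalization.Away.invSelf f) ^ k := by ring
    rw [h5, hinv, one_pow, one_pow, mul_one, mul_one]
  rw [h4]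
  exact Ideal.mul_mem_right _ _ h3

end Away

section Main

variable {R : Type u} [CommRing R] {A : Type u} [CommRing A] [HopfAlgebra R A]

theorem isDiag_of_surjective_nilp_flat [Module.Flat R A] {T T₀ : Type u} [CommRing T]
    [CommRing T₀] [Algebra R T] [Algebra R T₀] (φ : T →ₐ[R] T₀) (hφ : Function.Surjective φ)
    (hnil : IsNilpotent (RingHom.ker φ)) (h0 : SGA3b.IsDiag T₀ (T₀ ⊗[R] A)) :
    SGA3b.IsDiag T (T ⊗[R] A) := by
  have h1 : SGA3b.IsDiag (T ⧸ RingHom.ker φ) ((T ⧸ RingHom.ker φ) ⊗[R] A) :=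
    isDiag_map (Ideal.quotientKerAlgEquivOfSurjective hφ).symm.toAlgHom h0
  have h2 : SGA3b.IsDiag (T ⧸ RingHom.ker φ) ((T ⧸ RingHom.ker φ) ⊗[T] (T ⊗[R] A)) :=
    (isDiag_cancel_iff T (T ⧸ RingHom.ker φ)).2 h1
  haveI : Module.Flat T (T ⊗[R] A) := Module.Flat.baseChange R T A
  exact isDiag_of_flat_mod_nilpotent (RingHom.ker φ) hnil h2

theorem quasiConst_of_mod_nilp_flat [Module.Flat R A]
    (L : Type u) [CommRing L] [Algebra R L] (L₀ : Type u) [CommRing L₀] [Algebra R L₀]
    [Algebra L L₀] [IsScalarTower R L L₀]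
    (hsurj : Function.Surjective (algebraMap L L₀))
    (hnil : IsNilpotent (RingHom.ker (algebraMap L L₀)))
    (T₀ : Type u) [CommRing T₀] [Algebra L₀ T₀] [Algebra.Etale L₀ T₀]
    [Module.FaithfullyFlat L₀ T₀] [Algebra R T₀] [IsScalarTower R L₀ T₀]
    (hd : SGA3b.IsDiag T₀ (T₀ ⊗[R] A)) :
    SGA3b.IsQuasiIsotrivialConst L (L ⊗[R] A) := by
  letI : Algebra L T₀ := ((algebraMap L₀ T₀).comp (algebraMap L L₀)).toAlgebra
  haveI : IsScalarTower L L₀ T₀ := IsScalarTower.of_algebraMap_eq (fun _ => rfl)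
  haveI : IsScalarTower R L T₀ := IsScalarTower.of_algebraMap_eq (fun r => by
    show algebraMap R T₀ r = algebraMap L₀ T₀ (algebraMap L L₀ (algebraMap R L r))
    rw [← IsScalarTower.algebraMap_apply R L L₀, ← IsScalarTower.algebraMap_apply R L₀ T₀])
  obtain ⟨T, _, _, φ, hTet, hφs, hφn, hTff⟩ := exists_etale_lift_nilp hsurj hnil T₀
  refine ⟨T, inferInstance, inferInstance, hTet, hTff inferInstance, ?_⟩
  letI : Algebra R T := ((algebraMap L T).comp (algebraMap R L)).toAlgebra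
  haveI : IsScalarTower R L T := IsScalarTower.of_algebraMap_eq (fun _ => rfl)
  have hφn' : IsNilpotent (RingHom.ker (φ.restrictScalars R)) := by
    refine isNilpotent_of_le ?_ hφn
    intro x hx
    rw [RingHom.mem_ker] at hx ⊢
    exact hx
  exact (isDiag_cancel_iff L T).2
    (isDiag_of_surjective_nilp_flat (φ.restrictScalars R) hφs hφn' hd)

theorem isQuasiIsotrivial_of_flat_mod_nilpotent [Module.Flat R A] (I : Ideal R)
    (hIn : IsNilpotent I)
    (h0 : SGA3b.IsQuasiIsotrivial (R ⧸ I) ((R ⧸ I) ⊗[R] A)) :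
    SGA3b.IsQuasiIsotrivial R A := by
  have hI : ∀ x ∈ I, IsNilpotent x := isNilpotent_of_mem hIn
  obtain ⟨s₀, hs₀, hconst⟩ := h0
  refine ⟨(Ideal.Quotient.mk I) ⁻¹' s₀, ?_, ?_⟩
  · have h1 : (Ideal.span ((Ideal.Quotient.mk I) ⁻¹' s₀)).map (Ideal.Quotient.mk I) = ⊤ := by
      rw [Ideal.map_span, Set.image_preimage_eq s₀ Ideal.Quotient.mk_surjective, hs₀]
    have h2 : (1 : R ⧸ I) ∈ (Ideal.span ((Ideal.Quotient.mk I) ⁻¹' s₀)).map
        (Ideal.Quotient.mk I) := by
      rw [h1]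
      exact Submodule.mem_top
    obtain ⟨j, hj, hj1⟩ :=
      (Ideal.mem_map_iff_of_surjective (Ideal.Quotient.mk I) Ideal.Quotient.mk_surjective).1 h2
    have h3 : 1 - j ∈ I := by
      rw [← Ideal.Quotient.eq_zero_iff_mem, map_sub, map_one, hj1, sub_self]
    have h4 : IsUnit j := by
      have h5 := (hI _ h3).isUnit_one_sub
      rwa [sub_sub_cancel] at h5
    exact Ideal.eq_top_of_isUnit_mem _ hj h4
  · intro f hf
    obtain ⟨R'₀, _, _, het, hff, hdiag⟩ := hconst (Ideal.Quotient.mk I f) hf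
    have hunit : IsUnit (algebraMap R (Localization.Away (Ideal.Quotient.mk I f)) f) := by
      rw [IsScalarTower.algebraMap_apply R (R ⧸ I) (Localization.Away (Ideal.Quotient.mk I f))]
      exact IsLocalization.Away.algebraMap_isUnit (Ideal.Quotient.mk I f)
    letI : Algebra (Localization.Away f) (Localization.Away (Ideal.Quotient.mk I f)) :=
      (IsLocalization.Away.lift (S := Localization.Away f) f hunit).toAlgebra
    haveI : IsScalarTower R (Localization.Away f) (Localization.Away (Ideal.Quotient.mk I f)) :=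
      IsScalarTower.of_algebraMap_eq fun r => (IsLocalization.Away.lift_eq f hunit r).symm
    letI : Algebra (R ⧸ I) R'₀ :=
      ((algebraMap (Localization.Away (Ideal.Quotient.mk I f)) R'₀).comp
        (algebraMap (R ⧸ I) (Localization.Away (Ideal.Quotient.mk I f)))).toAlgebra
    haveI : IsScalarTower (R ⧸ I) (Localization.Away (Ideal.Quotient.mk I f)) R'₀ :=
      IsScalarTower.of_algebraMap_eq (fun _ => rfl)
    letI : Algebra R R'₀ :=
      ((algebraMap (Localization.Away (Ideal.Quotient.mk I f)) R'₀).comp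
        (algebraMap R (Localization.Away (Ideal.Quotient.mk I f)))).toAlgebra
    haveI : IsScalarTower R (Localization.Away (Ideal.Quotient.mk I f)) R'₀ :=
      IsScalarTower.of_algebraMap_eq (fun _ => rfl)
    haveI : IsScalarTower R (R ⧸ I) R'₀ := IsScalarTower.of_algebraMap_eq (fun r => by
      show algebraMap (Localization.Away (Ideal.Quotient.mk I f)) R'₀
          (algebraMap R (Localization.Away (Ideal.Quotient.mk I f)) r) =
        algebraMap (Localization.Away (Ideal.Quotient.mk I f)) R'₀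
          (algebraMap (R ⧸ I) (Localization.Away (Ideal.Quotient.mk I f))
            (algebraMap R (R ⧸ I) r))
      rw [← IsScalarTower.algebraMap_apply R (R ⧸ I)
        (Localization.Away (Ideal.Quotient.mk I f))])
    have hd1 : SGA3b.IsDiag R'₀ (R'₀ ⊗[R ⧸ I] ((R ⧸ I) ⊗[R] A)) :=
      (isDiag_cancel_iff (R := R ⧸ I) (A := (R ⧸ I) ⊗[R] A)
        (Localization.Away (Ideal.Quotient.mk I f)) R'₀).1 hdiag
    have hd2 : SGA3b.IsDiag R'₀ (R'₀ ⊗[R] A) := (isDiag_cancel_iff (R ⧸ I) R'₀).1 hd1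
    haveI := het
    haveI := hff
    have hkn : IsNilpotent (RingHom.ker (algebraMap (Localization.Away f)
        (Localization.Away (Ideal.Quotient.mk I f)))) :=
      isNilpotent_of_le (away_ker_le I f _ _) (isNilpotent_map' hIn)
    exact quasiConst_of_mod_nilp_flat (Localization.Away f)
      (Localization.Away (Ideal.Quotient.mk I f))
      (away_surjective I f _ _) hkn R'₀ hd2

end Main

end Groth.Agent.Lib.Helper19.FlatDef
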