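import Mathlib

/-!
# Flatness of the infinitesimal neighbourhoods of a locally flat algebra (helper19)

Let `A → C` be a ring map and `I` an ideal of `A` such that the localisations of `C` at the
primes containing `I C` are flat over `A`.

* `lTensor_injective_of_local_flat`: for an injection `N' → N` of `A`-modules with `N'` killed
  by a power of `I`, the map `C ⊗ N' → C ⊗ N` is injective;
* `flat_level`: for an ideal `J'` containing a power of `I`, `(A ⧸ J') ⊗ C` is flat over `A ⧸ J'`.
-/

set_option autoImplicit false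
universe u
open TensorProduct

namespace Groth.Agent.Lib.Helper19.MTFlat

variable {A : Type u} [CommRing A] {C : Type u} [CommRing C] [Algebra A C]

theorem lTensor_injective_of_local_flat (I : Ideal A)
    (hfl : ∀ (q : Ideal C) [q.IsPrime], Ideal.map (algebraMap A C) I ≤ q →
      Module.Flat A (Localization.AtPrime q))
    (m : ℕ) {N' N : Type u} [AddCommGroup N'] [Module A N'] [AddCommGroup N] [Module A N]
    (ι : N' →ₗ[A] N) (hι : Function.Injective ι) (hkill : ∀ a ∈ I ^ m, ∀ n : N', a • n = 0) :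
    Function.Injective (LinearMap.lTensor C ι) := by
  rw [injective_iff_map_eq_zero]
  intro x hx
  by_contra hne
  have htop : Ideal.torsionOf C (C ⊗[A] N') x ≠ ⊤ := by
    intro h
    have h1 : (1 : C) ∈ Ideal.torsionOf C (C ⊗[A] N') x := by
      rw [h]
      exact Submodule.mem_top
    rw [Ideal.mem_torsionOf_iff, one_smul] at h1
    exact hne h1
  obtain ⟨𝔫, hmax, hle⟩ := Ideal.exists_le_maximal _ htop
  haveI : 𝔫.IsPrime := hmax.isPrime
  by_cases hI : Ideal.map (algebraMap A C) I ≤ 𝔫
  · haveI : Module.Flat A (Localization.AtPrime 𝔫) := hfl 𝔫 hI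
    obtain ⟨g, hg⟩ : ∃ g : C ⊗[A] N' →ₗ[C] (Localization.AtPrime 𝔫) ⊗[A] N',
        g = TensorProduct.AlgebraTensorModule.rTensor A N'
          (Algebra.linearMap C (Localization.AtPrime 𝔫)) := ⟨_, rfl⟩
    have hcomm : ∀ y : C ⊗[A] N', LinearMap.lTensor (Localization.AtPrime 𝔫) ι (g y) =
        LinearMap.rTensor N ((Algebra.linearMap C (Localization.AtPrime 𝔫)).restrictScalars A)
          (LinearMap.lTensor C ι y) := by
      intro y
      induction y using TensorProduct.induction_on with
      | zero => simp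
      | tmul c n =>
        rw [hg, TensorProduct.AlgebraTensorModule.rTensor_tmul, LinearMap.lTensor_tmul,
          LinearMap.lTensor_tmul, LinearMap.rTensor_tmul]
        all_goals rfl
      | add a b ha hb => simp only [map_add, ha, hb]
    have hinj := Module.Flat.lTensor_preserves_injective_linearMap
      (M := Localization.AtPrime 𝔫) ι hι
    have hgx : g x = 0 := by
      apply hinj
      rw [map_zero, hcomm, hx, map_zero]
    haveI : IsLocalizedModule 𝔫.primeCompl g := by
      rw [hg]
      infer_instance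
    obtain ⟨s, hs⟩ := (IsLocalizedModule.eq_zero_iff 𝔫.primeCompl g).mp hgx
    have hs' : (s : C) • x = 0 := hs
    exact (Ideal.mem_primeCompl_iff.mp s.2) (hle ((Ideal.mem_torsionOf_iff x (s : C)).mpr hs'))
  · rw [Ideal.map_le_iff_le_comap] at hI
    obtain ⟨i, hiI, hi𝔫⟩ := SetLike.not_le_iff_exists.mp hI
    have hkx : ∀ y : C ⊗[A] N', (algebraMap A C i) ^ m • y = 0 := by
      intro y
      induction y using TensorProduct.induction_on with
      | zero => exact smul_zero _
      | tmul c n =>
        rw [TensorProduct.smul_tmul', ← map_pow, smul_eq_mul, ← Algebra.smul_def,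
          TensorProduct.smul_tmul, hkill _ (Ideal.pow_mem_pow hiI m), TensorProduct.tmul_zero]
      | add a b ha hb => rw [smul_add, ha, hb, add_zero]
    have hmem : (algebraMap A C i) ^ m ∈ 𝔫 :=
      hle ((Ideal.mem_torsionOf_iff x _).mpr (hkx x))
    exact hi𝔫 (Ideal.mem_comap.mpr (hmax.isPrime.mem_of_pow_mem m hmem))

theorem flat_level (I : Ideal A)
    (hfl : ∀ (q : Ideal C) [q.IsPrime], Ideal.map (algebraMap A C) I ≤ q →
      Module.Flat A (Localization.AtPrime q))
    (J' : Ideal A) (m : ℕ) (hpow : I ^ m ≤ J') :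
    Module.Flat (A ⧸ J') ((A ⧸ J') ⊗[A] C) := by
  rw [Module.Flat.iff_rTensor_injective']
  intro 𝔟
  obtain ⟨ιA, hιA⟩ : ∃ ιA : 𝔟 →ₗ[A] (A ⧸ J'), ∀ n, ιA n = (n : A ⧸ J') :=
    ⟨𝔟.subtype.restrictScalars A, fun _ => rfl⟩
  have hinj : Function.Injective ιA := fun a b hab =>
    Subtype.ext (by rw [← hιA, ← hιA, hab])
  have hkill : ∀ a ∈ I ^ m, ∀ n : 𝔟, a • n = 0 := by
    intro a ha n
    apply Subtype.ext
    rw [Submodule.coe_smul_of_tower, ZeroMemClass.coe_zero, Algebra.smul_def,
      Ideal.Quotient.algebraMap_eq, Ideal.Quotient.eq_zero_iff_mem.mpr (hpow ha), zero_mul]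
  have h1 := lTensor_injective_of_local_flat I hfl m ιA hinj hkill
  have hc : ∀ w : (𝔟 : Type u) ⊗[A] C,
      TensorProduct.comm A (A ⧸ J') C (LinearMap.rTensor C ιA w) =
        LinearMap.lTensor C ιA (TensorProduct.comm A 𝔟 C w) := by
    intro w
    induction w using TensorProduct.induction_on with
    | zero => simp
    | tmul n c => simp
    | add a b ha hb => simp only [map_add, ha, hb]
  have h2 : Function.Injective (LinearMap.rTensor C ιA) := by
    intro w w' hww
    apply (TensorProduct.comm A 𝔟 C).injective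
    apply h1
    rw [← hc, ← hc, hww]
  obtain ⟨E1, hE1⟩ : ∃ E1 : (𝔟 : Type u) ⊗[A ⧸ J'] ((A ⧸ J') ⊗[A] C) ≃ₗ[A ⧸ J']
      (𝔟 : Type u) ⊗[A] C,
      E1 = AlgebraTensorModule.cancelBaseChange A (A ⧸ J') (A ⧸ J') 𝔟 C := ⟨_, rfl⟩
  obtain ⟨E2, hE2⟩ : ∃ E2 : (A ⧸ J') ⊗[A ⧸ J'] ((A ⧸ J') ⊗[A] C) ≃ₗ[A ⧸ J']
      (A ⧸ J') ⊗[A] C,
      E2 = AlgebraTensorModule.cancelBaseChange A (A ⧸ J') (A ⧸ J') (A ⧸ J') C := ⟨_, rfl⟩
  have hnat : ∀ z, E2 (LinearMap.rTensor ((A ⧸ J') ⊗[A] C) 𝔟.subtype z) =
      LinearMap.rTensor C ιA (E1 z) := by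
    intro z
    induction z using TensorProduct.induction_on with
    | zero => simp
    | tmul n y =>
      induction y using TensorProduct.induction_on with
      | zero => simp
      | tmul r c =>
        rw [LinearMap.rTensor_tmul, hE1, hE2, AlgebraTensorModule.cancelBaseChange_tmul,
          AlgebraTensorModule.cancelBaseChange_tmul, LinearMap.rTensor_tmul, hιA,
          Submodule.subtype_apply]
        all_goals rfl
      | add a b ha hb => simp only [TensorProduct.tmul_add, map_add, ha, hb]
    | add a b ha hb => simp only [map_add, ha, hb]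
  intro z z' hzz
  apply E1.injective
  apply h2
  rw [← hnat, ← hnat, hzz]

end Groth.Agent.Lib.Helper19.MTFlat
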