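import Mathlib
import Groth.Prelude.Def_SGA3b
import Groth.Agent.Lib.Helper19.FlatDef3
import Groth.Agent.Lib.Helper19.MTFlat

/-!
# Infinitesimal neighbourhoods of a group which is of multiplicative type modulo `I` (helper19)

* `isQuasiIsotrivial_of_flat_gen`: the theorem `FlatDef.isQuasiIsotrivial_of_flat_mod_nilpotent`
  for a general surjection `R → R₀` with nilpotent kernel (and the hypothesis modulo the kernel in
  "cancelled" form);
* `isMultType_level`: if `C` is a Hopf algebra over `A`, flat over `A` at the primes containing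
  `I C`, and `C/IC` is quasi-isotrivial of multiplicative type over `A/I`, then `C/J'C` is of
  multiplicative type over `A/J'` for every ideal `J'` with `I ^ m ≤ J' ≤ I`.
-/

set_option autoImplicit false
universe u
open TensorProduct

namespace Groth.Agent.Lib.Helper19.MTLevel

open Groth.Agent.Lib.Helper19.FlatDef Groth.Agent.Lib.Helper19.EtLift

section Away

lemma gen_away_surjective {R : Type u} [CommRing R] {R₀ : Type u} [CommRing R₀] [Algebra R R₀]
    (hS : Function.Surjective (algebraMap R R₀)) (f : R)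
    (L : Type u) [CommRing L] [Algebra R L] [IsLocalization.Away f L]
    (L₀ : Type u) [CommRing L₀] [Algebra R₀ L₀] [IsLocalization.Away (algebraMap R R₀ f) L₀]
    [Algebra R L₀] [IsScalarTower R R₀ L₀] [Algebra L L₀] [IsScalarTower R L L₀] :
    Function.Surjective (algebraMap L L₀) := by
  intro y
  obtain ⟨n, a, hna⟩ := IsLocalization.Away.surj (algebraMap R R₀ f) y
  obtain ⟨r, rfl⟩ := hS a
  refine ⟨algebraMap R L r * IsLocalization.Away.invSelf f ^ n, ?_⟩
  have hu : IsUnit (algebraMap R₀ L₀ (algebraMap R R₀ f)) :=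
    IsLocalization.Away.algebraMap_isUnit _
  have h1 : algebraMap R₀ L₀ (algebraMap R R₀ f) = algebraMap L L₀ (algebraMap R L f) :=
    (IsScalarTower.algebraMap_apply R R₀ L₀ f).symm.trans
      (IsScalarTower.algebraMap_apply R L L₀ f)
  have h2 : algebraMap R₀ L₀ (algebraMap R R₀ r) = algebraMap L L₀ (algebraMap R L r) :=
    (IsScalarTower.algebraMap_apply R R₀ L₀ r).symm.trans
      (IsScalarTower.algebraMap_apply R L L₀ r)
  refine (hu.pow n).mul_left_inj.1 ?_
  rw [hna, h2, h1, ← map_pow, ← map_mul, mul_assoc, ← mul_pow,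
    mul_comm (IsLocalization.Away.invSelf f), IsLocalization.Away.mul_invSelf, one_pow, mul_one]

lemma gen_away_ker_le {R : Type u} [CommRing R] {R₀ : Type u} [CommRing R₀] [Algebra R R₀] (f : R)
    (L : Type u) [CommRing L] [Algebra R L] [IsLocalization.Away f L]
    (L₀ : Type u) [CommRing L₀] [Algebra R₀ L₀] [IsLocalization.Away (algebraMap R R₀ f) L₀]
    [Algebra R L₀] [IsScalarTower R R₀ L₀] [Algebra L L₀] [IsScalarTower R L L₀] :
    RingHom.ker (algebraMap L L₀) ≤ (RingHom.ker (algebraMap R R₀)).map (algebraMap R L) := by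
  intro x hx
  rw [RingHom.mem_ker] at hx
  obtain ⟨n, a, hna⟩ := IsLocalization.Away.surj f x
  have h2 : algebraMap R₀ L₀ (algebraMap R R₀ a) = algebraMap L L₀ (algebraMap R L a) :=
    (IsScalarTower.algebraMap_apply R R₀ L₀ a).symm.trans
      (IsScalarTower.algebraMap_apply R L L₀ a)
  have h0 : algebraMap R₀ L₀ (algebraMap R R₀ a) = 0 := by
    have h3 := congrArg (algebraMap L L₀) hna
    rw [map_mul, hx, zero_mul] at h3
    rw [h2]
    exact h3.symm
  obtain ⟨⟨_, k, rfl⟩, hk⟩ :=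
    (IsLocalization.map_eq_zero_iff (Submonoid.powers (algebraMap R R₀ f)) L₀ _).1 h0
  have hmem : f ^ k * a ∈ RingHom.ker (algebraMap R R₀) := by
    rw [RingHom.mem_ker, map_mul, map_pow]
    exact hk
  have h3 : algebraMap R L (f ^ k * a) ∈ (RingHom.ker (algebraMap R R₀)).map (algebraMap R L) :=
    Ideal.mem_map_of_mem _ hmem
  have hinv : algebraMap R L f * IsLocalization.Away.invSelf f = 1 :=
    IsLocalization.Away.mul_invSelf f
  have h4 : x = algebraMap R L (f ^ k * a) * IsLocalization.Away.invSelf f ^ (n + k) := by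
    rw [map_mul, map_pow, ← hna, pow_add]
    have h5 : algebraMap R L f ^ k * (x * algebraMap R L f ^ n) *
        (IsLocalization.Away.invSelf f ^ n * IsLocalization.Away.invSelf f ^ k) =
        x * (algebraMap R L f * IsLocalization.Away.invSelf f) ^ n *
          (algebraMap R L f * IsLocalization.Away.invSelf f) ^ k := by ring
    rw [h5, hinv, one_pow, one_pow, mul_one, mul_one]
  rw [h4]
  exact Ideal.mul_mem_right _ _ h3

end Away

theorem isMultType_of_isQuasiIsotrivial {R : Type u} [CommRing R] {X : Type u} [CommRing X]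
    [HopfAlgebra R X] (h : SGA3b.IsQuasiIsotrivial R X) : SGA3b.IsMultType R X := by
  obtain ⟨s, hs, h⟩ := h
  refine ⟨s, hs, fun f hf => ?_⟩
  obtain ⟨R', i1, i2, -, hff, hd⟩ := h f hf
  exact ⟨R', i1, i2, hff, hd⟩

theorem isQuasiIsotrivial_of_flat_gen {R : Type u} [CommRing R] {X : Type u} [CommRing X]
    [HopfAlgebra R X] [Module.Flat R X]
    (R₀ : Type u) [CommRing R₀] [Algebra R R₀]
    (hsurj : Function.Surjective (algebraMap R R₀))
    (hnil : IsNilpotent (RingHom.ker (algebraMap R R₀)))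
    (s₀ : Set R₀) (hs₀ : Ideal.span s₀ = ⊤)
    (hloc : ∀ f₀ ∈ s₀, ∃ (T₀ : Type u) (_ : CommRing T₀) (_ : Algebra (Localization.Away f₀) T₀)
      (_ : Algebra R T₀) (_ : IsScalarTower R (Localization.Away f₀) T₀),
      Algebra.Etale (Localization.Away f₀) T₀ ∧ Module.FaithfullyFlat (Localization.Away f₀) T₀ ∧
        SGA3b.IsDiag T₀ (T₀ ⊗[R] X)) :
    SGA3b.IsQuasiIsotrivial R X := by
  refine ⟨(algebraMap R R₀) ⁻¹' s₀, ?_, ?_⟩
  · have h1 : (Ideal.span ((algebraMap R R₀) ⁻¹' s₀)).map (algebraMap R R₀) = ⊤ := by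
      rw [Ideal.map_span, Set.image_preimage_eq s₀ hsurj, hs₀]
    have h2 : (1 : R₀) ∈ (Ideal.span ((algebraMap R R₀) ⁻¹' s₀)).map (algebraMap R R₀) := by
      rw [h1]
      exact Submodule.mem_top
    obtain ⟨j, hj, hj1⟩ := (Ideal.mem_map_iff_of_surjective (algebraMap R R₀) hsurj).1 h2
    have h3 : 1 - j ∈ RingHom.ker (algebraMap R R₀) := by
      rw [RingHom.mem_ker, map_sub, map_one, hj1, sub_self]
    have h4 : IsUnit j := by
      have h5 := (isNilpotent_of_mem hnil _ h3).isUnit_one_sub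
      rwa [sub_sub_cancel] at h5
    exact Ideal.eq_top_of_isUnit_mem _ hj h4
  · intro f hf
    obtain ⟨T₀, _, _, _, _, het, hff, hd⟩ := hloc (algebraMap R R₀ f) hf
    have hunit : IsUnit (algebraMap R (Localization.Away (algebraMap R R₀ f)) f) := by
      rw [IsScalarTower.algebraMap_apply R R₀ (Localization.Away (algebraMap R R₀ f))]
      exact IsLocalization.Away.algebraMap_isUnit (algebraMap R R₀ f)
    letI : Algebra (Localization.Away f) (Localization.Away (algebraMap R R₀ f)) :=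
      (IsLocalization.Away.lift (S := Localization.Away f) f hunit).toAlgebra
    haveI : IsScalarTower R (Localization.Away f) (Localization.Away (algebraMap R R₀ f)) :=
      IsScalarTower.of_algebraMap_eq fun r => (IsLocalization.Away.lift_eq f hunit r).symm
    haveI := het
    haveI := hff
    have hkn : IsNilpotent (RingHom.ker (algebraMap (Localization.Away f)
        (Localization.Away (algebraMap R R₀ f)))) :=
      isNilpotent_of_le (gen_away_ker_le f _ _) (isNilpotent_map' hnil)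
    exact quasiConst_of_mod_nilp_flat (Localization.Away f)
      (Localization.Away (algebraMap R R₀ f))
      (gen_away_surjective hsurj f _ _) hkn T₀ hd

theorem isMultType_level {A : Type u} [CommRing A] (I : Ideal A) {C : Type u} [CommRing C]
    [HopfAlgebra A C]
    (hfl : ∀ (q : Ideal C) [q.IsPrime], Ideal.map (algebraMap A C) I ≤ q →
      Module.Flat A (Localization.AtPrime q))
    (h0 : SGA3b.IsQuasiIsotrivial (A ⧸ I) ((A ⧸ I) ⊗[A] C))
    (J' : Ideal A) (hle : J' ≤ I) (m : ℕ) (hpow : I ^ m ≤ J') :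
    SGA3b.IsMultType (A ⧸ J') ((A ⧸ J') ⊗[A] C) := by
  letI alg : Algebra (A ⧸ J') (A ⧸ I) := (Ideal.Quotient.factor hle).toAlgebra
  haveI tower : IsScalarTower A (A ⧸ J') (A ⧸ I) :=
    IsScalarTower.of_algebraMap_eq (fun a => rfl)
  haveI : Module.Flat (A ⧸ J') ((A ⧸ J') ⊗[A] C) := MTFlat.flat_level I hfl J' m hpow
  have hsurj : Function.Surjective (algebraMap (A ⧸ J') (A ⧸ I)) :=
    Ideal.Quotient.factor_surjective hle
  have hnil : IsNilpotent (RingHom.ker (algebraMap (A ⧸ J') (A ⧸ I))) := by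
    refine ⟨m, ?_⟩
    rw [Ideal.zero_eq_bot, eq_bot_iff]
    have hK : RingHom.ker (algebraMap (A ⧸ J') (A ⧸ I)) ≤ I.map (Ideal.Quotient.mk J') := by
      intro x hx
      obtain ⟨a, rfl⟩ := Ideal.Quotient.mk_surjective x
      rw [RingHom.mem_ker] at hx
      have h1 : Ideal.Quotient.mk I a = 0 := hx
      exact Ideal.mem_map_of_mem _ (Ideal.Quotient.eq_zero_iff_mem.mp h1)
    calc RingHom.ker (algebraMap (A ⧸ J') (A ⧸ I)) ^ m
        ≤ (I.map (Ideal.Quotient.mk J')) ^ m := Ideal.pow_right_mono hK m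
      _ = (I ^ m).map (Ideal.Quotient.mk J') := (Ideal.map_pow _ _ _).symm
      _ ≤ J'.map (Ideal.Quotient.mk J') := Ideal.map_mono hpow
      _ = ⊥ := Ideal.map_quotient_self J'
  obtain ⟨s₀, hs₀, hconst⟩ := h0
  apply isMultType_of_isQuasiIsotrivial
  refine isQuasiIsotrivial_of_flat_gen (A ⧸ I) hsurj hnil s₀ hs₀ ?_
  intro f₀ hf₀
  obtain ⟨T₀, _, _, het, hff, hdiag⟩ := hconst f₀ hf₀
  letI a1 : Algebra (A ⧸ I) T₀ :=
    ((algebraMap (Localization.Away f₀) T₀).comp
      (algebraMap (A ⧸ I) (Localization.Away f₀))).toAlgebra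
  haveI t1 : IsScalarTower (A ⧸ I) (Localization.Away f₀) T₀ :=
    IsScalarTower.of_algebraMap_eq (fun _ => rfl)
  letI a2 : Algebra A T₀ := ((algebraMap (A ⧸ I) T₀).comp (algebraMap A (A ⧸ I))).toAlgebra
  haveI t2 : IsScalarTower A (A ⧸ I) T₀ := IsScalarTower.of_algebraMap_eq (fun _ => rfl)
  letI a3 : Algebra (A ⧸ J') T₀ :=
    ((algebraMap (A ⧸ I) T₀).comp (algebraMap (A ⧸ J') (A ⧸ I))).toAlgebra
  haveI t3 : IsScalarTower (A ⧸ J') (A ⧸ I) T₀ := IsScalarTower.of_algebraMap_eq (fun _ => rfl)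
  haveI t4 : IsScalarTower A (A ⧸ J') T₀ := IsScalarTower.of_algebraMap_eq (fun a => rfl)
  haveI t5 : IsScalarTower (A ⧸ J') (Localization.Away f₀) T₀ :=
    IsScalarTower.of_algebraMap_eq (fun x => by
      show algebraMap (A ⧸ I) T₀ (algebraMap (A ⧸ J') (A ⧸ I) x) =
        algebraMap (Localization.Away f₀) T₀ (algebraMap (A ⧸ J') (Localization.Away f₀) x)
      rw [IsScalarTower.algebraMap_apply (A ⧸ J') (A ⧸ I) (Localization.Away f₀)]
      rfl)
  have hd1 : SGA3b.IsDiag T₀ (T₀ ⊗[A ⧸ I] ((A ⧸ I) ⊗[A] C)) :=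
    (isDiag_cancel_iff (R := A ⧸ I) (A := (A ⧸ I) ⊗[A] C) (Localization.Away f₀) T₀).1 hdiag
  have hd2 : SGA3b.IsDiag T₀ (T₀ ⊗[A] C) :=
    (isDiag_cancel_iff (R := A) (A := C) (A ⧸ I) T₀).1 hd1
  have hd3 : SGA3b.IsDiag T₀ (T₀ ⊗[A ⧸ J'] ((A ⧸ J') ⊗[A] C)) :=
    (isDiag_cancel_iff (R := A) (A := C) (A ⧸ J') T₀).2 hd2
  exact ⟨T₀, inferInstance, inferInstance, a3, t5, het, hff, hd3⟩

end Groth.Agent.Lib.Helper19.MTLevel
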