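import Mathlib
import Groth.Prelude.Def_SGA3b
import Groth.Agent.Lib.Helper19.AdicHom1
import Groth.Agent.Lib.Helper19.GLift4
import Groth.Agent.Lib.Helper19.MultIntegral
import Groth.Agent.Lib.Helper19.FlatDef3

/-!
# Lifting homomorphisms between groups of multiplicative type: tools (helper19)

* `cancel_one_tmul`, `exists_baseChange`: base change of a bialgebra map `T ⊗ C → T ⊗ B` along a
  map of `R`-algebras `T → T'`, in "points" form;
* `mem_smulTop_of_map_mk_eq_zero`: the kernel of `S ⊗ X → (S/KS) ⊗ X`;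
* `bialgHom_eq_of_cong`: two bialgebra maps `T ⊗ C → T ⊗ B` (`B`, `C` of multiplicative type) which
  are congruent modulo a nilpotent ideal `K` of `R` are equal;
* `exists_descent_gen`, `cong_of_charts`: descent of elements of a module along a finite family of
  charts.
-/

set_option autoImplicit false
universe u
open TensorProduct

namespace Groth.Agent.Lib.Helper19.MTLift

open Groth.Agent.Lib.Helper19.AvgLift
open Groth.Agent.Lib.Helper19.GLift (one_tmul_eq_iff one_tmul_eq_zero_iff exists_one_tmul_eq)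
open Groth.Agent.Lib.Helper19 Groth.Agent.Lib.Helper28
open Groth.Agent.Lib.Helper19.AdicHom (cancelEquiv cancelEquiv_tmul)

attribute [local instance] Classical.propDecidable

section Cancel

variable {R : Type u} [CommRing R] {X : Type u} [CommRing X] [Bialgebra R X]
  {T T' : Type u} [CommRing T] [CommRing T'] [Algebra R T] [Algebra R T']

lemma cancel_one_tmul (ρ : T →ₐ[R] T') [Algebra T T'] [IsScalarTower R T T']
    (hρ : ∀ t, algebraMap T T' t = ρ t) (z : T ⊗[R] X) :
    cancelEquiv R T T' X ((1 : T') ⊗ₜ[T] z) =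
      Algebra.TensorProduct.map ρ (AlgHom.id R X) z := by
  induction z using TensorProduct.induction_on with
  | zero => simp
  | tmul t a =>
    rw [cancelEquiv_tmul, Algebra.TensorProduct.map_tmul, Algebra.smul_def, mul_one, hρ]
    all_goals rfl
  | add x y hx hy => rw [TensorProduct.tmul_add, map_add, map_add, hx, hy]

theorem exists_baseChange {B C : Type u} [CommRing B] [CommRing C] [Bialgebra R B]
    [Bialgebra R C] (ρ : T →ₐ[R] T') (Φ : (T ⊗[R] C) →ₐc[T] (T ⊗[R] B)) :
    ∃ Φ' : (T' ⊗[R] C) →ₐc[T'] (T' ⊗[R] B), ∀ z : T ⊗[R] C,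
      Φ' (Algebra.TensorProduct.map ρ (AlgHom.id R C) z) =
        Algebra.TensorProduct.map ρ (AlgHom.id R B) (Φ z) := by
  letI : Algebra T T' := ρ.toRingHom.toAlgebra
  haveI : IsScalarTower R T T' := IsScalarTower.of_algebraMap_eq fun r => (ρ.commutes r).symm
  refine ⟨((cancelEquiv R T T' B).toBialgHom.comp
    (Bialgebra.TensorProduct.map (BialgHom.id T' T') Φ)).comp
      (cancelEquiv R T T' C).symm.toBialgHom, fun z => ?_⟩
  rw [← cancel_one_tmul ρ (fun _ => rfl) z, ← cancel_one_tmul ρ (fun _ => rfl) (Φ z)]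
  show cancelEquiv R T T' B (Bialgebra.TensorProduct.map (BialgHom.id T' T') Φ
    ((cancelEquiv R T T' C).symm (cancelEquiv R T T' C ((1 : T') ⊗ₜ[T] z)))) = _
  rw [BialgEquiv.symm_apply_apply, Bialgebra.TensorProduct.map_tmul]
  all_goals rfl

lemma mem_smulTop_of_map_mk_eq_zero (K : Ideal R) (S : Type u) [CommRing S] [Algebra R S]
    (w : S ⊗[R] X)
    (h : Algebra.TensorProduct.map (Ideal.Quotient.mkₐ R (K.map (algebraMap R S)))
      (AlgHom.id R X) w = 0) :
    w ∈ (K • ⊤ : Submodule R (S ⊗[R] X)) := by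
  rw [GLift.mem_smulTop_iff K (T := S), ← one_tmul_eq_zero_iff]
  have h1 : cancelEquiv R S (S ⧸ K.map (algebraMap R S)) X
      ((1 : S ⧸ K.map (algebraMap R S)) ⊗ₜ[S] w) = 0 := by
    rw [cancel_one_tmul (Ideal.Quotient.mkₐ R (K.map (algebraMap R S))) (fun _ => rfl), h]
  have h2 := congrArg (cancelEquiv R S (S ⧸ K.map (algebraMap R S)) X).symm h1
  rwa [BialgEquiv.symm_apply_apply, map_zero] at h2

end Cancel

section Uniq

variable {R : Type u} [CommRing R] {B C : Type u} [CommRing B] [CommRing C] [HopfAlgebra R B]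
  [HopfAlgebra R C]

theorem bialgHom_eq_of_cong (K : Ideal R) (hK : IsNilpotent K) (hB : SGA3b.IsMultType R B)
    (hC : SGA3b.IsMultType R C) (T : Type u) [CommRing T] [Algebra R T]
    (Φ₁ Φ₂ : (T ⊗[R] C) →ₐc[T] (T ⊗[R] B))
    (h : ∀ x : C, (1 : R ⧸ K) ⊗ₜ[R] Φ₁ ((1 : T) ⊗ₜ[R] x) =
      (1 : R ⧸ K) ⊗ₜ[R] Φ₂ ((1 : T) ⊗ₜ[R] x)) :
    Φ₁ = Φ₂ := by
  have : Coalgebra.IsCocomm T (T ⊗[R] C) :=
    MultIntegral.isCocomm_of_isMultType (EtLift.isMultType_baseChange hC T)
  refine Groth.Agent.Lib.Helper1.MultType.bialgHom_eq_of_cocomm (K.map (algebraMap R T))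
    (FlatDef.isNilpotent_map' hK) (EtLift.isMultType_baseChange hB T) Φ₁ Φ₂ ?_
  intro z
  rw [one_tmul_eq_iff]
  induction z using TensorProduct.induction_on with
  | zero =>
    rw [map_zero, map_zero, sub_zero]
    exact Submodule.zero_mem _
  | tmul t x =>
    have h1 : t ⊗ₜ[R] x = t • ((1 : T) ⊗ₜ[R] x) := by
      rw [TensorProduct.smul_tmul', smul_eq_mul, mul_one]
    rw [h1, map_smul, map_smul, ← smul_sub]
    apply Submodule.smul_mem
    rw [← GLift.mem_smulTop_iff K (T := T)]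
    exact (one_tmul_eq_iff K _ _).mp (h x)
  | add a b ha hb =>
    rw [map_add, map_add, add_sub_add_comm]
    exact Submodule.add_mem _ ha hb

end Uniq

section Descent

open Groth.Agent.Lib.Helper19.GLift
open Groth.Agent.Lib.Lead.PureDescent (exists_of_eq injective_mk_pi)

variable {R : Type u} [CommRing R] {A : Type u} [CommRing A] [HopfAlgebra R A]
  (s : Finset R) (c : ∀ f ∈ s, Chart R A f) {B : Type u} [AddCommGroup B] [Module R B]

lemma rT_incL' (i : {f // f ∈ s}) (z : SF s c i ⊗[R] B) :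
    LinearMap.rTensor B ((Algebra.TensorProduct.includeLeft :
        (∀ i, SF s c i) →ₐ[R] (∀ i, SF s c i) ⊗[R] (∀ i, SF s c i)).toLinearMap)
      (LinearMap.rTensor B (sgl s c i) z) =
    ∑ j, LinearMap.rTensor B (TensorProduct.map (sgl s c i) (sgl s c j))
      (LinearMap.rTensor B ((Algebra.TensorProduct.includeLeft :
        SF s c i →ₐ[R] SF s c i ⊗[R] SF s c j).toLinearMap) z) := by
  induction z using TensorProduct.induction_on with
  | zero => simp
  | tmul y a =>
    simp only [LinearMap.rTensor_tmul, AlgHom.toLinearMap_apply,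
      Algebra.TensorProduct.includeLeft_apply, TensorProduct.map_tmul]
    rw [← TensorProduct.sum_tmul, ← TensorProduct.tmul_sum, sum_sgl_one]
  | add z w hz hw => simp only [map_add, hz, hw, Finset.sum_add_distrib]

lemma rT_incR' (j : {f // f ∈ s}) (z : SF s c j ⊗[R] B) :
    LinearMap.rTensor B ((Algebra.TensorProduct.includeRight :
        (∀ i, SF s c i) →ₐ[R] (∀ i, SF s c i) ⊗[R] (∀ i, SF s c i)).toLinearMap)
      (LinearMap.rTensor B (sgl s c j) z) =
    ∑ i, LinearMap.rTensor B (TensorProduct.map (sgl s c i) (sgl s c j))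
      (LinearMap.rTensor B ((Algebra.TensorProduct.includeRight :
        SF s c j →ₐ[R] SF s c i ⊗[R] SF s c j).toLinearMap) z) := by
  induction z using TensorProduct.induction_on with
  | zero => simp
  | tmul y a =>
    simp only [LinearMap.rTensor_tmul, AlgHom.toLinearMap_apply,
      Algebra.TensorProduct.includeRight_apply, TensorProduct.map_tmul]
    rw [← TensorProduct.sum_tmul, ← TensorProduct.sum_tmul, sum_sgl_one]
  | add z w hz hw => simp only [map_add, hz, hw, Finset.sum_add_distrib]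

theorem exists_descent_gen (hs : Ideal.span (s : Set R) = ⊤)
    (x : ∀ f (hf : f ∈ s), (c f hf).S ⊗[R] B)
    (key : ∀ i j : {f // f ∈ s},
      LinearMap.rTensor B ((Algebra.TensorProduct.includeLeft :
        SF s c i →ₐ[R] SF s c i ⊗[R] SF s c j).toLinearMap) (x i.1 i.2) =
      LinearMap.rTensor B ((Algebra.TensorProduct.includeRight :
        SF s c j →ₐ[R] SF s c i ⊗[R] SF s c j).toLinearMap) (x j.1 j.2)) :
    ∃ g : B, ∀ f hf, (1 : (c f hf).S) ⊗ₜ[R] g = x f hf := by
  obtain ⟨xtot, hxtot⟩ : ∃ xtot : (∀ i, SF s c i) ⊗[R] B,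
      xtot = ∑ i : {f // f ∈ s}, LinearMap.rTensor B (sgl s c i) (x i.1 i.2) := ⟨_, rfl⟩
  have hpure : Function.Injective (TensorProduct.mk R (∀ i, SF s c i)
      (((∀ i, SF s c i) ⊗[R] B) ⧸
        LinearMap.range (TensorProduct.mk R (∀ i, SF s c i) B 1)) 1) := by
    apply injective_mk_pi (SF s c)
    intro n hn
    exact eq_zero_of_charts s hs c n (fun f hf => hn ⟨f, hf⟩)
  have hxeq : LinearMap.rTensor B ((Algebra.TensorProduct.includeLeft :
        (∀ i, SF s c i) →ₐ[R] (∀ i, SF s c i) ⊗[R] (∀ i, SF s c i)).toLinearMap) xtot =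
      LinearMap.rTensor B ((Algebra.TensorProduct.includeRight :
        (∀ i, SF s c i) →ₐ[R] (∀ i, SF s c i) ⊗[R] (∀ i, SF s c i)).toLinearMap) xtot := by
    rw [hxtot, map_sum, map_sum]
    simp only [rT_incL', rT_incR', key]
    exact Finset.sum_comm
  obtain ⟨g, hg⟩ := exists_of_eq (∀ i, SF s c i) B xtot hpure hxeq
  refine ⟨g, fun f hf => ?_⟩
  have h6 := congrArg (LinearMap.rTensor B
    (LinearMap.proj (R := R) (φ := SF s c) ⟨f, hf⟩)) hg
  rw [LinearMap.rTensor_tmul, hxtot, map_sum] at h6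
  rw [Finset.sum_eq_single (⟨f, hf⟩ : {f // f ∈ s})] at h6
  · rw [← LinearMap.rTensor_comp_apply] at h6
    have h7 : (LinearMap.proj (R := R) (φ := SF s c) ⟨f, hf⟩) ∘ₗ sgl s c ⟨f, hf⟩ =
        LinearMap.id := LinearMap.proj_comp_single_same R (SF s c) ⟨f, hf⟩
    rw [h7, LinearMap.rTensor_id, LinearMap.id_apply] at h6
    exact h6.symm
  · intro j _ hj
    rw [← LinearMap.rTensor_comp_apply]
    have h7 : (LinearMap.proj (R := R) (φ := SF s c) ⟨f, hf⟩) ∘ₗ sgl s c j = 0 :=
      LinearMap.proj_comp_single_ne R (SF s c) ⟨f, hf⟩ j (Ne.symm hj)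
    rw [h7, LinearMap.rTensor_zero, LinearMap.zero_apply]
  · intro h
    exact absurd (Finset.mem_univ _) h

theorem cong_of_charts (K : Ideal R) (hs : Ideal.span (s : Set R) = ⊤) (g a : B)
    (hc : ∀ f hf, (1 : R ⧸ K) ⊗ₜ[R] ((1 : (c f hf).S) ⊗ₜ[R] g) =
      (1 : R ⧸ K) ⊗ₜ[R] ((1 : (c f hf).S) ⊗ₜ[R] a)) :
    (1 : R ⧸ K) ⊗ₜ[R] g = (1 : R ⧸ K) ⊗ₜ[R] a := by
  rw [← sub_eq_zero, ← TensorProduct.tmul_sub]
  apply eq_zero_of_charts s hs c
  intro f hf
  apply (TensorProduct.leftComm R (c f hf).S (R ⧸ K) B).injective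
  rw [TensorProduct.leftComm_tmul, map_zero, TensorProduct.tmul_sub, TensorProduct.tmul_sub,
    hc f hf, sub_self]

end Descent

end Groth.Agent.Lib.Helper19.MTLift
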