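import Mathlib
import Groth.Prelude.Def_SGA3b
import Groth.Agent.Lib.Helper19.MTLift1

/-!
# Lifting homomorphisms between groups of multiplicative type: the diagonalisable case (helper19)

`exists_local_lift`: let `K` be a nilpotent ideal of `R`, `B` a Hopf algebra of multiplicative type
over `R`, `C` a Hopf algebra over `R` and `S` an `R`-algebra over which `C` is diagonalisable.  Every
bialgebra map `(S/KS) ⊗ C → (S/KS) ⊗ B` over `S/KS` lifts to a bialgebra map `S ⊗ C → S ⊗ B`
over `S` (by lifting group-like elements).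
-/

set_option autoImplicit false
universe u
open TensorProduct

namespace Groth.Agent.Lib.Helper19.MTLift

open Groth.Agent.Lib.Helper19.AvgLift
open Groth.Agent.Lib.Helper19.GLift (one_tmul_eq_iff one_tmul_eq_zero_iff exists_one_tmul_eq)
open Groth.Agent.Lib.Helper19 Groth.Agent.Lib.Helper28
open Groth.Agent.Lib.Helper19.AdicHom (cancelEquiv cancelEquiv_tmul)

section Local

variable {R : Type u} [CommRing R] (K : Ideal R) (S : Type u) [CommRing S] [Algebra R S]

lemma map_mk_smul (X : Type u) [CommRing X] [Algebra R X] (r : S) (w : S ⊗[R] X) :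
    Algebra.TensorProduct.map (Ideal.Quotient.mkₐ R (K.map (algebraMap R S))) (AlgHom.id R X)
        (r • w) =
      Ideal.Quotient.mk (K.map (algebraMap R S)) r •
        Algebra.TensorProduct.map (Ideal.Quotient.mkₐ R (K.map (algebraMap R S)))
          (AlgHom.id R X) w := by
  induction w using TensorProduct.induction_on with
  | zero => simp
  | tmul t x =>
    rw [TensorProduct.smul_tmul', Algebra.TensorProduct.map_tmul, Algebra.TensorProduct.map_tmul,
      TensorProduct.smul_tmul', smul_eq_mul, map_mul]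
    all_goals rfl
  | add a b ha hb => rw [smul_add, map_add, map_add, ha, hb, smul_add]

variable {B C : Type u} [CommRing B] [CommRing C] [HopfAlgebra R B] [HopfAlgebra R C]
  {N : Type u} [CommGroup N]

local notation "KS" => Ideal.map (algebraMap R S) K
local notation "redB" =>
  Algebra.TensorProduct.map (Ideal.Quotient.mkₐ R (Ideal.map (algebraMap R S) K)) (AlgHom.id R B)
local notation "redC" =>
  Algebra.TensorProduct.map (Ideal.Quotient.mkₐ R (Ideal.map (algebraMap R S) K)) (AlgHom.id R C)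

theorem exists_local_lift (hK : IsNilpotent K) (hB : SGA3b.IsMultType R B)
    (θ : S ⊗[R] C ≃ₐc[S] MonoidAlgebra S N)
    (φbar : ((S ⧸ KS) ⊗[R] C) →ₐc[S ⧸ KS] ((S ⧸ KS) ⊗[R] B)) :
    ∃ Φ : (S ⊗[R] C) →ₐc[S] (S ⊗[R] B), ∀ z : S ⊗[R] C, redB (Φ z) = φbar (redC z) := by
  classical
  have hBS : SGA3b.IsMultType S (S ⊗[R] B) := EtLift.isMultType_baseChange hB S
  have hnil : ∀ x ∈ KS, IsNilpotent x :=
    FlatDef.isNilpotent_of_mem (FlatDef.isNilpotent_map' hK)
  have hredB : ∀ w : S ⊗[R] B,
      cancelEquiv R S (S ⧸ KS) B ((1 : S ⧸ KS) ⊗ₜ[S] w) = redB w :=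
    fun w => cancel_one_tmul (Ideal.Quotient.mkₐ R KS) (fun _ => rfl) w
  have hcancel : ∀ u v : (S ⧸ KS) ⊗[S] (S ⊗[R] B),
      cancelEquiv R S (S ⧸ KS) B u = cancelEquiv R S (S ⧸ KS) B v → u = v := by
    intro u v huv
    have h2 := congrArg (cancelEquiv R S (S ⧸ KS) B).symm huv
    rwa [BialgEquiv.symm_apply_apply, BialgEquiv.symm_apply_apply] at h2
  have huniq : ∀ g g' : S ⊗[R] B, IsGroupLikeElem S g → IsGroupLikeElem S g' →
      redB g = redB g' → g = g' := by
    intro g g' hg hg' h
    refine GLift.groupLike_unique_of_cong hBS KS hnil g g' hg hg' ?_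
    apply hcancel
    rw [hredB, hredB, h]
  obtain ⟨y, hy⟩ : ∃ y : N → S ⊗[R] C, ∀ n, y n = θ.symm (MonoidAlgebra.single n 1) :=
    ⟨_, fun _ => rfl⟩
  have hygl : ∀ n, IsGroupLikeElem S (y n) := fun n => by
    rw [hy]
    exact (MonoidAlgebra.isGroupLikeElem_single_one (R := S) (A := S) n).map θ.symm
  have hy1 : y 1 = 1 := by
    rw [hy, ← MonoidAlgebra.one_def, map_one]
  have hymul : ∀ n n', y (n * n') = y n * y n' := fun n n' => by
    rw [hy, hy, hy, ← map_mul, MonoidAlgebra.single_mul_single, one_mul]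
  have hlift : ∀ n, ∃ g : S ⊗[R] B, IsGroupLikeElem S g ∧ redB g = φbar (redC (y n)) := by
    intro n
    have h1 : IsGroupLikeElem (S ⧸ KS) (φbar (redC (y n))) :=
      (GLift.groupLike_map (Ideal.Quotient.mkₐ R KS) (hygl n)).map φbar
    obtain ⟨a, ha⟩ := exists_one_tmul_eq KS
      ((cancelEquiv R S (S ⧸ KS) B).symm (φbar (redC (y n))))
    have ha' : redB a = φbar (redC (y n)) := by
      rw [← hredB, ha, BialgEquiv.apply_symm_apply]
    have h2 : IsGroupLikeElem (S ⧸ KS) ((1 : S ⧸ KS) ⊗ₜ[S] a) := by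
      rw [ha]
      exact h1.map (cancelEquiv R S (S ⧸ KS) B).symm
    obtain ⟨g, hg, hgc⟩ := GLift.exists_groupLike_lift_of_isMultType hBS KS hnil a
      (GLift.GLmod_of_groupLike_quot KS a h2)
    refine ⟨g, hg, ?_⟩
    rw [← ha', ← hredB, ← hredB, hgc]
  choose g hg hgc using hlift
  let γ : N →* GroupLike S (S ⊗[R] B) :=
    { toFun := fun n => ⟨g n, hg n⟩
      map_one' := by
        apply GroupLike.val_injective
        show g 1 = 1
        refine huniq _ _ (hg 1) IsGroupLikeElem.one ?_
        rw [hgc, hy1]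
        simp only [map_one]
      map_mul' := fun n n' => by
        apply GroupLike.val_injective
        show g (n * n') = g n * g n'
        refine huniq _ _ (hg _) ((hg n).mul (hg n')) ?_
        rw [hgc, hymul]
        simp only [map_mul, hgc] }
  obtain ⟨Ψ, hΨ⟩ : ∃ Ψ : MonoidAlgebra S N →ₐc[S] S ⊗[R] B,
      ∀ n r, Ψ (MonoidAlgebra.single n r) = r • g n := by
    refine ⟨(MonoidAlgebra.liftGroupLikeBialgHom (R := S) (A := S ⊗[R] B)).comp
      (MonoidAlgebra.mapDomainBialgHom S γ), fun n r => ?_⟩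
    simp [γ, MonoidAlgebra.mapDomainBialgHom_single, MonoidAlgebra.lift_single]
  refine ⟨Ψ.comp θ.toBialgHom, fun z => ?_⟩
  obtain ⟨w, rfl⟩ : ∃ w, z = θ.symm w := ⟨θ z, (BialgEquiv.symm_apply_apply θ z).symm⟩
  show redB (Ψ (θ (θ.symm w))) = _
  rw [BialgEquiv.apply_symm_apply]
  induction w using MonoidAlgebra.induction_linear with
  | zero => simp only [map_zero]
  | add a b ha hb => simp only [map_add, ha, hb]
  | single n r =>
    have e1 : redB (Ψ (MonoidAlgebra.single n r)) =
        Ideal.Quotient.mk KS r • φbar (redC (y n)) := by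
      rw [hΨ, map_mk_smul K S B, hgc]
    have e2 : θ.symm (MonoidAlgebra.single n r) = r • y n := by
      rw [hy, ← map_smul, MonoidAlgebra.smul_single', mul_one]
    rw [e1, e2, map_mk_smul K S C, map_smul]

end Local

end Groth.Agent.Lib.Helper19.MTLift
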