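import Mathlib
import Groth.Prelude.Def_SGA3b
import Groth.Agent.Lib.Helper19.MTLift2
import Groth.Agent.Lib.Helper19.AdicHom4

/-!
# Lifting homomorphisms between groups of multiplicative type modulo a nilpotent ideal (helper19)

`exists_bialgHom_lift_of_isMultType` (SGA 3 IX 3.2/3.3 for groups of multiplicative type): let
`R → S₀` be a surjection of rings with nilpotent kernel, and `B`, `C` Hopf algebras of
multiplicative type over `R`.  Every bialgebra map `S₀ ⊗ C → S₀ ⊗ B` over `S₀` lifts to a bialgebra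
map `C → B` over `R` (uniquely, by `Helper1.MultType.bialgHom_eq_of_cocomm`).

The lifting is constructed over the members of a finite family of charts diagonalising `C`
(`MTLift.exists_local_lift`), and descended using the uniqueness.
-/

set_option autoImplicit false
universe u
open TensorProduct

namespace Groth.Agent.Lib.Helper19.MTLift

open Groth.Agent.Lib.Helper19.AvgLift
open Groth.Agent.Lib.Helper19.GLift (one_tmul_eq_iff one_tmul_eq_zero_iff exists_one_tmul_eq
  Chart SF eq_zero_of_charts)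
open Groth.Agent.Lib.Helper19 Groth.Agent.Lib.Helper28
open Groth.Agent.Lib.Helper19.AdicHom (cancelEquiv cancelEquiv_tmul kerId gen_one_tmul_eq_iff
  gen_exists_one_tmul_eq gen_iota2_eq_distrib map_smul_quot)

section Main

variable {R : Type u} [CommRing R] {S₀ : Type u} [CommRing S₀] [Algebra R S₀]
  {B C : Type u} [CommRing B] [CommRing C] [HopfAlgebra R B] [HopfAlgebra R C]

theorem exists_lift_over (hS : Function.Surjective (algebraMap R S₀))
    (hK : IsNilpotent (kerId (R := R) S₀)) (hB : SGA3b.IsMultType R B)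
    (φ₀ : (S₀ ⊗[R] C) →ₐc[S₀] (S₀ ⊗[R] B))
    (S : Type u) [CommRing S] [Algebra R S] {N : Type u} [CommGroup N]
    (θ : S ⊗[R] C ≃ₐc[S] MonoidAlgebra S N) :
    ∃ Φ : (S ⊗[R] C) →ₐc[S] (S ⊗[R] B), ∀ (x : C) (b : B),
      φ₀ ((1 : S₀) ⊗ₜ[R] x) = (1 : S₀) ⊗ₜ[R] b →
        (1 : R ⧸ kerId (R := R) S₀) ⊗ₜ[R] Φ ((1 : S) ⊗ₜ[R] x) =
          (1 : R ⧸ kerId (R := R) S₀) ⊗ₜ[R] ((1 : S) ⊗ₜ[R] b) := by
  have hS' : Function.Surjective (Algebra.ofId R S₀) := hS
  have hle : ∀ a : R, a ∈ kerId (R := R) S₀ →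
      Algebra.ofId R (S ⧸ (kerId (R := R) S₀).map (algebraMap R S)) a = 0 := by
    intro a ha
    show algebraMap R (S ⧸ (kerId (R := R) S₀).map (algebraMap R S)) a = 0
    rw [IsScalarTower.algebraMap_apply R S (S ⧸ (kerId (R := R) S₀).map (algebraMap R S)),
      Ideal.Quotient.algebraMap_eq, Ideal.Quotient.eq_zero_iff_mem]
    exact Ideal.mem_map_of_mem _ ha
  obtain ⟨i, -⟩ : ∃ _ : S₀ →ₐ[R] (S ⧸ (kerId (R := R) S₀).map (algebraMap R S)), True :=
    ⟨(Ideal.Quotient.liftₐ (kerId (R := R) S₀) (Algebra.ofId R _) hle).comp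
      (Ideal.quotientKerAlgEquivOfSurjective hS').symm.toAlgHom, trivial⟩
  obtain ⟨φbar, hφbar⟩ := exists_baseChange i φ₀
  obtain ⟨Φ, hΦ⟩ := exists_local_lift (kerId (R := R) S₀) S hK hB θ φbar
  refine ⟨Φ, fun x b hxb => ?_⟩
  rw [one_tmul_eq_iff]
  apply mem_smulTop_of_map_mk_eq_zero
  rw [map_sub, hΦ, sub_eq_zero]
  have e1 : Algebra.TensorProduct.map
      (Ideal.Quotient.mkₐ R ((kerId (R := R) S₀).map (algebraMap R S))) (AlgHom.id R C)
        ((1 : S) ⊗ₜ[R] x) =
      Algebra.TensorProduct.map i (AlgHom.id R C) ((1 : S₀) ⊗ₜ[R] x) := by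
    rw [Algebra.TensorProduct.map_tmul, Algebra.TensorProduct.map_tmul, map_one, map_one]
  rw [e1, hφbar, hxb, Algebra.TensorProduct.map_tmul, Algebra.TensorProduct.map_tmul, map_one,
    map_one]

/-- **Lifting homomorphisms between groups of multiplicative type** through a nilpotent
thickening. -/
theorem exists_bialgHom_lift_of_isMultType (hS : Function.Surjective (algebraMap R S₀))
    (hK : IsNilpotent (kerId (R := R) S₀)) (hB : SGA3b.IsMultType R B)
    (hC : SGA3b.IsMultType R C) (φ₀ : (S₀ ⊗[R] C) →ₐc[S₀] (S₀ ⊗[R] B)) :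
    ∃ φ : C →ₐc[R] B, ∀ c : C, φ₀ ((1 : S₀) ⊗ₜ[R] c) = (1 : S₀) ⊗ₜ[R] (φ c) := by
  classical
  have hC' := hC
  obtain ⟨s0, hs0, hf0⟩ := hC
  obtain ⟨s, hss, hs⟩ := (Ideal.span_eq_top_iff_finite s0).mp hs0
  have hch : ∀ f ∈ s, Nonempty (Chart R C f) :=
    fun f hf => Chart.nonempty_of_const (hf0 f (hss hf))
  have c : ∀ f ∈ s, Chart R C f := fun f hf => Classical.choice (hch f hf)
  have hloc : ∀ f (hf : f ∈ s),
      ∃ Φ : ((c f hf).S ⊗[R] C) →ₐc[(c f hf).S] ((c f hf).S ⊗[R] B),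
      ∀ (x : C) (b : B), φ₀ ((1 : S₀) ⊗ₜ[R] x) = (1 : S₀) ⊗ₜ[R] b →
        (1 : R ⧸ kerId (R := R) S₀) ⊗ₜ[R] Φ ((1 : (c f hf).S) ⊗ₜ[R] x) =
          (1 : R ⧸ kerId (R := R) S₀) ⊗ₜ[R] ((1 : (c f hf).S) ⊗ₜ[R] b) :=
    fun f hf => exists_lift_over hS hK hB φ₀ (c f hf).S
      ((cancelEquiv R (Localization.Away f) (c f hf).S C).symm.trans (c f hf).e)
  choose Φ hΦ using hloc
  -- agreement on overlaps
  have key : ∀ (x : C) (i j : {f // f ∈ s}),
      LinearMap.rTensor B ((Algebra.TensorProduct.includeLeft :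
        SF s c i →ₐ[R] SF s c i ⊗[R] SF s c j).toLinearMap)
          (Φ i.1 i.2 ((1 : SF s c i) ⊗ₜ[R] x)) =
      LinearMap.rTensor B ((Algebra.TensorProduct.includeRight :
        SF s c j →ₐ[R] SF s c i ⊗[R] SF s c j).toLinearMap)
          (Φ j.1 j.2 ((1 : SF s c j) ⊗ₜ[R] x)) := by
    intro x i j
    rw [GLift.rT_eq_map, GLift.rT_eq_map]
    obtain ⟨Φi', hΦi'⟩ := exists_baseChange (Algebra.TensorProduct.includeLeft :
      SF s c i →ₐ[R] SF s c i ⊗[R] SF s c j) (Φ i.1 i.2)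
    obtain ⟨Φj', hΦj'⟩ := exists_baseChange (Algebra.TensorProduct.includeRight :
      SF s c j →ₐ[R] SF s c i ⊗[R] SF s c j) (Φ j.1 j.2)
    have hi : ∀ x' : C, Φi' ((1 : SF s c i ⊗[R] SF s c j) ⊗ₜ[R] x') =
        Algebra.TensorProduct.map (Algebra.TensorProduct.includeLeft :
          SF s c i →ₐ[R] SF s c i ⊗[R] SF s c j) (AlgHom.id R B)
            (Φ i.1 i.2 ((1 : SF s c i) ⊗ₜ[R] x')) := by
      intro x'
      rw [← hΦi', Algebra.TensorProduct.map_tmul, map_one]
      all_goals rfl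
    have hj : ∀ x' : C, Φj' ((1 : SF s c i ⊗[R] SF s c j) ⊗ₜ[R] x') =
        Algebra.TensorProduct.map (Algebra.TensorProduct.includeRight :
          SF s c j →ₐ[R] SF s c i ⊗[R] SF s c j) (AlgHom.id R B)
            (Φ j.1 j.2 ((1 : SF s c j) ⊗ₜ[R] x')) := by
      intro x'
      rw [← hΦj', Algebra.TensorProduct.map_tmul, map_one]
      all_goals rfl
    have heq : Φi' = Φj' := by
      apply bialgHom_eq_of_cong (kerId (R := R) S₀) hK hB hC' (SF s c i ⊗[R] SF s c j)
      intro x'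
      obtain ⟨b, hb⟩ := gen_exists_one_tmul_eq hS (φ₀ ((1 : S₀) ⊗ₜ[R] x'))
      have c1 := GLift.cong_map (kerId (R := R) S₀)
        (Algebra.TensorProduct.map (Algebra.TensorProduct.includeLeft :
          SF s c i →ₐ[R] SF s c i ⊗[R] SF s c j) (AlgHom.id R B)).toLinearMap
        (hΦ i.1 i.2 x' b hb.symm)
      have c2 := GLift.cong_map (kerId (R := R) S₀)
        (Algebra.TensorProduct.map (Algebra.TensorProduct.includeRight :
          SF s c j →ₐ[R] SF s c i ⊗[R] SF s c j) (AlgHom.id R B)).toLinearMap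
        (hΦ j.1 j.2 x' b hb.symm)
      simp only [AlgHom.toLinearMap_apply, Algebra.TensorProduct.map_tmul, map_one,
        AlgHom.coe_id, id_eq] at c1 c2
      rw [hi, hj]
      exact c1.trans c2.symm
    rw [← hi x, ← hj x, heq]
  -- descent of the values
  have hex : ∀ x : C, ∃ g : B, ∀ f hf,
      (1 : (c f hf).S) ⊗ₜ[R] g = Φ f hf ((1 : (c f hf).S) ⊗ₜ[R] x) :=
    fun x => exists_descent_gen s c hs (fun f hf => Φ f hf ((1 : (c f hf).S) ⊗ₜ[R] x)) (key x)
  choose φf hφf using hex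
  have hinj : ∀ b b' : B,
      (∀ f hf, (1 : (c f hf).S) ⊗ₜ[R] b = (1 : (c f hf).S) ⊗ₜ[R] b') → b = b' := by
    intro b b' h
    rw [← sub_eq_zero]
    apply eq_zero_of_charts s hs c
    intro f hf
    rw [TensorProduct.tmul_sub, h f hf, sub_self]
  obtain ⟨ψ, hψ⟩ : ∃ ψ : C →ₐ[R] B, ∀ x, ψ x = φf x := by
    refine ⟨
      { toFun := φf
        map_one' := ?_
        map_mul' := ?_
        map_zero' := ?_
        map_add' := ?_
        commutes' := ?_ }, fun _ => rfl⟩
    · apply hinj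
      intro f hf
      rw [hφf, ← Algebra.TensorProduct.one_def, map_one, Algebra.TensorProduct.one_def]
    · intro x x'
      apply hinj
      intro f hf
      have h1 : (1 : (c f hf).S) ⊗ₜ[R] (x * x') =
          ((1 : (c f hf).S) ⊗ₜ[R] x) * ((1 : (c f hf).S) ⊗ₜ[R] x') := by
        rw [Algebra.TensorProduct.tmul_mul_tmul, one_mul]
      rw [hφf, h1, map_mul, ← hφf, ← hφf, Algebra.TensorProduct.tmul_mul_tmul, one_mul]
    · apply hinj
      intro f hf
      rw [hφf, TensorProduct.tmul_zero, map_zero, TensorProduct.tmul_zero]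
    · intro x x'
      apply hinj
      intro f hf
      rw [hφf, TensorProduct.tmul_add, map_add, ← hφf, ← hφf, TensorProduct.tmul_add]
    · intro a
      apply hinj
      intro f hf
      rw [hφf, Algebra.algebraMap_eq_smul_one, Algebra.algebraMap_eq_smul_one,
        TensorProduct.tmul_smul, TensorProduct.tmul_smul,
        map_smul_quot (Ak := (c f hf).S) (Φ f hf), ← Algebra.TensorProduct.one_def, map_one,
        Algebra.TensorProduct.one_def]
  have hψ' : ∀ f hf (x : C),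
      (1 : (c f hf).S) ⊗ₜ[R] ψ x = Φ f hf ((1 : (c f hf).S) ⊗ₜ[R] x) := by
    intro f hf x
    rw [hψ, hφf]
  -- comultiplicativity
  have hhom : HomMod ⊥ ψ.toLinearMap := by
    intro x
    rw [Sm_bot, Submodule.mem_bot]
    apply eq_zero_of_charts s hs c
    intro f hf
    rw [TensorProduct.tmul_sub, sub_eq_zero]
    apply (AlgebraTensorModule.distribBaseChange R (c f hf).S B B).injective
    rw [← gen_iota2_eq_distrib, ← gen_iota2_eq_distrib, AlgHom.toLinearMap_apply,
      ← ConvBC.comul_one_tmul, hψ' f hf, ← CoalgHomClass.map_comp_comul_apply (Φ f hf),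
      ConvBC.comul_one_tmul]
    generalize Coalgebra.comul (R := R) x = t
    induction t using TensorProduct.induction_on with
    | zero => simp
    | tmul y z =>
      rw [ConvBC.iota2_tmul, TensorProduct.map_tmul, TensorProduct.map_tmul, ConvBC.iota2_tmul]
      change Φ f hf _ ⊗ₜ[(c f hf).S] Φ f hf _ = _
      rw [← hψ' f hf, ← hψ' f hf]
      rfl
    | add a b ha hb => simp only [map_add, ha, hb]
  obtain ⟨Φfin, hΦfin⟩ := exists_bialgHom_of_homMod_bot ψ hhom
  refine ⟨Φfin, fun x => ?_⟩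
  obtain ⟨b, hb⟩ := gen_exists_one_tmul_eq hS (φ₀ ((1 : S₀) ⊗ₜ[R] x))
  rw [← hb]
  refine (gen_one_tmul_eq_iff hS _ _).mpr ?_
  refine (one_tmul_eq_iff (kerId (R := R) S₀) _ _).mp ?_
  refine (cong_of_charts s c (kerId (R := R) S₀) hs (Φfin x) b (fun f hf => ?_)).symm
  rw [hΦfin, hψ' f hf]
  exact hΦ f hf x b hb.symm

end Main

end Groth.Agent.Lib.Helper19.MTLift
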