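import Mathlib
import Groth.Prelude.Def_SGA3b
import Groth.Agent.Lib.Helper19.AdicHom5
import Groth.Agent.Lib.Helper19.MTLift3
import Groth.Agent.Lib.Helper19.MTLevel

/-!
# Homomorphisms from an isotrivial group of multiplicative type over an adically complete base:
reduction modulo `I` is bijective (helper19)

SGA 3 IX 7.1 + X 2.1 type statement, in Hopf algebra form: `A` Noetherian and `I`-adically complete,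
`B` isotrivial of multiplicative type, `C` a Hopf algebra over `A`, flat over `A` at the primes
containing `I C`, with `C/IC` quasi-isotrivial of multiplicative type.  Then bialgebra maps `C → B`
correspond bijectively to bialgebra maps `C/IC → B/IB`
(`bialgHom_reduction_bijective`).
-/

set_option autoImplicit false
universe u
open TensorProduct

namespace Groth.Agent.Lib.Helper19.AdicHom

open Groth.Agent.Lib.Helper19.AvgLift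
open Groth.Agent.Lib.Helper19.GLift (one_tmul_eq_iff one_tmul_eq_zero_iff exists_one_tmul_eq)
open Groth.Agent.Lib.Helper19 Groth.Agent.Lib.Helper28

section Step'

variable {A : Type u} [CommRing A] {B : Type u} [CommRing B] [HopfAlgebra A B]
  {C : Type u} [CommRing C] [HopfAlgebra A C]

theorem exists_step' (hB : SGA3b.IsMultType A B) (J' J : Ideal A)
    (hle : J' ≤ J) (m : ℕ) (hpow : J ^ m ≤ J')
    (hC : SGA3b.IsMultType (A ⧸ J') ((A ⧸ J') ⊗[A] C))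
    (Φ : ((A ⧸ J) ⊗[A] C) →ₐc[A ⧸ J] ((A ⧸ J) ⊗[A] B)) :
    ∃ Φ' : ((A ⧸ J') ⊗[A] C) →ₐc[A ⧸ J'] ((A ⧸ J') ⊗[A] B),
      ∀ (c : C) (b : B), Φ' ((1 : A ⧸ J') ⊗ₜ[A] c) = (1 : A ⧸ J') ⊗ₜ[A] b →
        Φ ((1 : A ⧸ J) ⊗ₜ[A] c) = (1 : A ⧸ J) ⊗ₜ[A] b := by
  letI alg : Algebra (A ⧸ J') (A ⧸ J) := (Ideal.Quotient.factor hle).toAlgebra
  haveI tower : IsScalarTower A (A ⧸ J') (A ⧸ J) :=
    IsScalarTower.of_algebraMap_eq (fun a => rfl)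
  have hBR : SGA3b.IsMultType (A ⧸ J') ((A ⧸ J') ⊗[A] B) :=
    EtLift.isMultType_baseChange hB (A ⧸ J')
  have hsurj : Function.Surjective (algebraMap (A ⧸ J') (A ⧸ J)) :=
    Ideal.Quotient.factor_surjective hle
  have hnil : IsNilpotent (kerId (R := A ⧸ J') (A ⧸ J)) := by
    refine ⟨m, ?_⟩
    rw [Ideal.zero_eq_bot, eq_bot_iff]
    have hK : kerId (R := A ⧸ J') (A ⧸ J) ≤ J.map (Ideal.Quotient.mk J') := by
      intro x hx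
      obtain ⟨a, rfl⟩ := Ideal.Quotient.mk_surjective x
      rw [RingHom.mem_ker] at hx
      have h1 : Ideal.Quotient.mk J a = 0 := hx
      exact Ideal.mem_map_of_mem _ (Ideal.Quotient.eq_zero_iff_mem.mp h1)
    calc kerId (R := A ⧸ J') (A ⧸ J) ^ m ≤ (J.map (Ideal.Quotient.mk J')) ^ m :=
          Ideal.pow_right_mono hK m
      _ = (J ^ m).map (Ideal.Quotient.mk J') := (Ideal.map_pow _ _ _).symm
      _ ≤ J'.map (Ideal.Quotient.mk J') := Ideal.map_mono hpow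
      _ = ⊥ := Ideal.map_quotient_self J'
  let EC := cancelEquiv A (A ⧸ J') (A ⧸ J) C
  let EB := cancelEquiv A (A ⧸ J') (A ⧸ J) B
  let φbar : ((A ⧸ J) ⊗[A ⧸ J'] ((A ⧸ J') ⊗[A] C)) →ₐc[A ⧸ J]
      ((A ⧸ J) ⊗[A ⧸ J'] ((A ⧸ J') ⊗[A] B)) :=
    (EB.symm.toBialgHom.comp Φ).comp EC.toBialgHom
  obtain ⟨Φ', hΦ'⟩ := MTLift.exists_bialgHom_lift_of_isMultType hsurj hnil hBR hC φbar
  refine ⟨Φ', fun c b hcb => ?_⟩
  have h1 := hΦ' ((1 : A ⧸ J') ⊗ₜ[A] c)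
  rw [hcb] at h1
  have h2 : EC ((1 : A ⧸ J) ⊗ₜ[A ⧸ J'] ((1 : A ⧸ J') ⊗ₜ[A] c)) = (1 : A ⧸ J) ⊗ₜ[A] c := by
    rw [cancelEquiv_tmul, one_smul]
  have h3 : EB ((1 : A ⧸ J) ⊗ₜ[A ⧸ J'] ((1 : A ⧸ J') ⊗ₜ[A] b)) = (1 : A ⧸ J) ⊗ₜ[A] b := by
    rw [cancelEquiv_tmul, one_smul]
  have h4 : EB.symm (Φ (EC ((1 : A ⧸ J) ⊗ₜ[A ⧸ J'] ((1 : A ⧸ J') ⊗ₜ[A] c)))) =
      (1 : A ⧸ J) ⊗ₜ[A ⧸ J'] ((1 : A ⧸ J') ⊗ₜ[A] b) := h1
  rw [h2] at h4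
  have h5 := congrArg EB h4
  rw [BialgEquiv.apply_symm_apply, h3] at h5
  exact h5

theorem exists_tower' (hB : SGA3b.IsMultType A B) (I : Ideal A)
    (hC : ∀ k : ℕ, SGA3b.IsMultType (A ⧸ I ^ (k + 1)) ((A ⧸ I ^ (k + 1)) ⊗[A] C))
    (φ₀ : ((A ⧸ I) ⊗[A] C) →ₐc[A ⧸ I] ((A ⧸ I) ⊗[A] B)) :
    ∃ s : ∀ k : ℕ, ((A ⧸ I ^ (k + 1)) ⊗[A] C) →ₐc[A ⧸ I ^ (k + 1)] ((A ⧸ I ^ (k + 1)) ⊗[A] B),
      (∀ (c : C) (b : B), s 0 ((1 : A ⧸ I ^ (0 + 1)) ⊗ₜ[A] c) = (1 : A ⧸ I ^ (0 + 1)) ⊗ₜ[A] b →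
        φ₀ ((1 : A ⧸ I) ⊗ₜ[A] c) = (1 : A ⧸ I) ⊗ₜ[A] b) ∧
      ∀ (k : ℕ) (c : C) (b : B),
        s (k + 1) ((1 : A ⧸ I ^ (k + 1 + 1)) ⊗ₜ[A] c) = (1 : A ⧸ I ^ (k + 1 + 1)) ⊗ₜ[A] b →
          s k ((1 : A ⧸ I ^ (k + 1)) ⊗ₜ[A] c) = (1 : A ⧸ I ^ (k + 1)) ⊗ₜ[A] b := by
  obtain ⟨Ψ0, h0⟩ := exists_step' hB (I ^ (0 + 1)) I (by rw [zero_add, pow_one]) 1
    (by rw [zero_add]) (hC 0) φ₀
  have hstep : ∀ (k : ℕ)
      (Φ : ((A ⧸ I ^ (k + 1)) ⊗[A] C) →ₐc[A ⧸ I ^ (k + 1)] ((A ⧸ I ^ (k + 1)) ⊗[A] B)),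
      ∃ Φ' : ((A ⧸ I ^ (k + 1 + 1)) ⊗[A] C) →ₐc[A ⧸ I ^ (k + 1 + 1)]
          ((A ⧸ I ^ (k + 1 + 1)) ⊗[A] B),
        ∀ (c : C) (b : B),
          Φ' ((1 : A ⧸ I ^ (k + 1 + 1)) ⊗ₜ[A] c) = (1 : A ⧸ I ^ (k + 1 + 1)) ⊗ₜ[A] b →
            Φ ((1 : A ⧸ I ^ (k + 1)) ⊗ₜ[A] c) = (1 : A ⧸ I ^ (k + 1)) ⊗ₜ[A] b :=
    fun k Φ => exists_step' hB (I ^ (k + 1 + 1)) (I ^ (k + 1))
      (Ideal.pow_le_pow_right (Nat.le_succ _)) 2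
      (by rw [← pow_mul]; exact Ideal.pow_le_pow_right (by omega)) (hC (k + 1)) Φ
  let s : ∀ k : ℕ, ((A ⧸ I ^ (k + 1)) ⊗[A] C) →ₐc[A ⧸ I ^ (k + 1)] ((A ⧸ I ^ (k + 1)) ⊗[A] B) :=
    fun k => Nat.rec (motive := fun k =>
      ((A ⧸ I ^ (k + 1)) ⊗[A] C) →ₐc[A ⧸ I ^ (k + 1)] ((A ⧸ I ^ (k + 1)) ⊗[A] B))
      Ψ0 (fun k Φ => Classical.choose (hstep k Φ)) k
  exact ⟨s, h0, fun k => Classical.choose_spec (hstep k (s k))⟩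

/-- uniqueness: two bialgebra maps with the same reduction modulo `I` are equal -/
theorem bialgHom_ext_adic (I : Ideal A) [IsHausdorff I A] [Module.Projective A B]
    (hB : SGA3b.IsMultType A B)
    (hC : ∀ k : ℕ, SGA3b.IsMultType (A ⧸ I ^ (k + 1)) ((A ⧸ I ^ (k + 1)) ⊗[A] C))
    (φ ψ : C →ₐc[A] B)
    (h : ∀ c : C, (1 : A ⧸ I) ⊗ₜ[A] (φ c) = (1 : A ⧸ I) ⊗ₜ[A] (ψ c)) : φ = ψ := by
  apply DFunLike.ext
  intro c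
  apply sep_tensor I
  intro k
  obtain ⟨Φk, hΦk⟩ : ∃ Φk : ((A ⧸ I ^ (k + 1)) ⊗[A] C) →ₐc[A ⧸ I ^ (k + 1)]
      ((A ⧸ I ^ (k + 1)) ⊗[A] B),
      ∀ x, Φk ((1 : A ⧸ I ^ (k + 1)) ⊗ₜ[A] x) = (1 : A ⧸ I ^ (k + 1)) ⊗ₜ[A] φ x :=
    ⟨Bialgebra.TensorProduct.map (BialgHom.id _ _) φ, fun x => rfl⟩
  obtain ⟨Ψk, hΨk⟩ : ∃ Ψk : ((A ⧸ I ^ (k + 1)) ⊗[A] C) →ₐc[A ⧸ I ^ (k + 1)]
      ((A ⧸ I ^ (k + 1)) ⊗[A] B),
      ∀ x, Ψk ((1 : A ⧸ I ^ (k + 1)) ⊗ₜ[A] x) = (1 : A ⧸ I ^ (k + 1)) ⊗ₜ[A] ψ x :=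
    ⟨Bialgebra.TensorProduct.map (BialgHom.id _ _) ψ, fun x => rfl⟩
  have hnil : IsNilpotent (I.map (algebraMap A (A ⧸ I ^ (k + 1)))) := by
    refine ⟨k + 1, ?_⟩
    rw [Ideal.zero_eq_bot, ← Ideal.map_pow, Ideal.Quotient.algebraMap_eq,
      Ideal.map_quotient_self]
  have : Coalgebra.IsCocomm (A ⧸ I ^ (k + 1)) ((A ⧸ I ^ (k + 1)) ⊗[A] C) :=
    MultIntegral.isCocomm_of_isMultType (hC k)
  have heq : Φk = Ψk := by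
    refine Groth.Agent.Lib.Helper1.MultType.bialgHom_eq_of_cocomm
      (I.map (algebraMap A (A ⧸ I ^ (k + 1)))) hnil
      (EtLift.isMultType_baseChange hB (A ⧸ I ^ (k + 1))) Φk Ψk ?_
    intro z
    obtain ⟨x, rfl⟩ := exists_one_tmul_eq (I ^ (k + 1)) z
    rw [hΦk, hΨk, one_tmul_eq_iff, ← TensorProduct.tmul_sub,
      ← GLift.mem_smulTop_iff I (T := A ⧸ I ^ (k + 1))]
    exact GLift.map_mem_smulTop I (TensorProduct.mk A (A ⧸ I ^ (k + 1)) B 1)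
      ((one_tmul_eq_iff I _ _).mp (h x))
  rw [← hΦk, ← hΨk, heq]

end Step'

/-- **Reduction modulo `I` is bijective on homomorphisms** from an isotrivial group of
multiplicative type to an affine group which is, near `V(I)`, flat with quasi-isotrivial
reduction of multiplicative type (adically complete Noetherian base). -/
theorem bialgHom_reduction_bijective {A : Type u} [CommRing A] [IsNoetherianRing A] (I : Ideal A)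
    [IsAdicComplete I A] {B : Type u} [CommRing B] [HopfAlgebra A B]
    (hG : SGA3b.IsIsotrivial A B) {C : Type u} [CommRing C] [HopfAlgebra A C]
    (hfl : ∀ (q : Ideal C) [q.IsPrime], Ideal.map (algebraMap A C) I ≤ q →
      Module.Flat A (Localization.AtPrime q))
    (h0 : SGA3b.IsQuasiIsotrivial (A ⧸ I) ((A ⧸ I) ⊗[A] C)) :
    (∀ φ ψ : C →ₐc[A] B,
      (∀ c : C, (1 : A ⧸ I) ⊗ₜ[A] (φ c) = (1 : A ⧸ I) ⊗ₜ[A] (ψ c)) → φ = ψ) ∧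
    (∀ φ₀ : ((A ⧸ I) ⊗[A] C) →ₐc[A ⧸ I] ((A ⧸ I) ⊗[A] B),
      ∃ φ : C →ₐc[A] B, ∀ c : C, φ₀ ((1 : A ⧸ I) ⊗ₜ[A] c) = (1 : A ⧸ I) ⊗ₜ[A] (φ c)) := by
  have hB : SGA3b.IsMultType A B := isMultType_of_isIsotrivial hG
  have hCk : ∀ k : ℕ, SGA3b.IsMultType (A ⧸ I ^ (k + 1)) ((A ⧸ I ^ (k + 1)) ⊗[A] C) :=
    fun k => MTLevel.isMultType_level I hfl h0 (I ^ (k + 1))
      (Ideal.pow_le_self (Nat.succ_ne_zero k)) (k + 1) le_rfl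
  obtain ⟨A', _, _, -, hfin, hff, M, _, ⟨e⟩⟩ := hG
  haveI := hfin
  haveI := hff
  haveI : Module.FinitePresentation A A' := Module.finitePresentation_of_finite A A'
  haveI : Module.Projective A A' := Module.Flat.projective_of_finitePresentation
  haveI hPB : Module.Projective A B := projective_of_diag A' M e
  refine ⟨fun φ ψ h => bialgHom_ext_adic I hB hCk φ ψ h, fun φ₀ => ?_⟩
  obtain ⟨s, h0', hs⟩ := exists_tower' hB I hCk φ₀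
  obtain ⟨Φ, hΦ⟩ := exists_bialgHom_of_tower' I A' M e s hs
  exact ⟨Φ, fun c => h0' c (Φ c) (hΦ 0 c).symm⟩

end Groth.Agent.Lib.Helper19.AdicHom
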