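import Mathlib
import Groth.Prelude.Def_ArtFun4
import Groth.Agent.Lib.Helper19.AffDef

/-!
# Affine deformations as algebraic data (helper19)

`AData A B₀`: a flat `A`-algebra `R` with a surjection `R → B₀` of kernel `𝔪_A R`, compatible with the
augmentation.  Every deformation of `Spec B₀` over `A` is isomorphic to `D.toDefSch` for some datum `D`
(`exists_adata`), and isomorphisms between such deformations are the `A`-algebra isomorphisms compatible
with the projections (`iso_iff`).
-/

set_option autoImplicit false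
set_option linter.style.haveILetI false
set_option linter.unusedSectionVars false
universe u

open CategoryTheory CategoryTheory.Limits AlgebraicGeometry

namespace Groth.Agent.Lib.Helper19.AffDef

open ArtFun ArtFun.Art

variable {k : Type u} [Field k] (A : Art k k) (B₀ : Type u) [CommRing B₀] [Algebra k B₀]

/-- algebraic form of a deformation of `Spec B₀` over `A`. -/
structure AData where
  R : Type u
  [cr : CommRing R]
  [alg : Algebra A R]
  [flat : Module.Flat A R]
  π : R →+* B₀
  h1 : ∀ a : A, π (algebraMap A R a) = algebraMap k B₀ (A.res a)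
  h2 : Function.Surjective π
  h3 : RingHom.ker π = (IsLocalRing.maximalIdeal A).map (algebraMap A R)

attribute [instance] AData.cr AData.alg AData.flat

variable {A B₀}

theorem AData.isPushout (D : AData A B₀) :
    IsPushout (CommRingCat.ofHom (algebraMap A D.R)) (CommRingCat.ofHom A.res.toRingHom)
      (CommRingCat.ofHom D.π) (CommRingCat.ofHom (algebraMap k B₀)) := by
  have w : CommRingCat.ofHom (algebraMap A D.R) ≫ CommRingCat.ofHom D.π =
      CommRingCat.ofHom A.res.toRingHom ≫ CommRingCat.ofHom (algebraMap k B₀) := by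
    ext a
    exact D.h1 a
  have hcond : ∀ (s : PushoutCocone (CommRingCat.ofHom (algebraMap A D.R))
      (CommRingCat.ofHom A.res.toRingHom)) (a : A),
      s.inl.hom (algebraMap A D.R a) = s.inr.hom (A.res a) := fun s a =>
    congrArg (fun f : CommRingCat.of A ⟶ s.pt => f.hom a) s.condition
  have hker : ∀ s : PushoutCocone (CommRingCat.ofHom (algebraMap A D.R))
      (CommRingCat.ofHom A.res.toRingHom), RingHom.ker D.π ≤ RingHom.ker s.inl.hom := by
    intro s
    rw [D.h3, Ideal.map_le_iff_le_comap]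
    intro a ha
    rw [Ideal.mem_comap, RingHom.mem_ker, hcond]
    rw [← ker_e A.res, RingHom.mem_ker] at ha
    change A.res a = 0 at ha
    rw [ha, map_zero]
  have hπk : ∀ c : k, algebraMap k B₀ c = D.π (algebraMap A D.R (algebraMap k A c)) := by
    intro c
    rw [D.h1, A.res.commutes]
    rfl
  refine ⟨⟨w⟩, ⟨PushoutCocone.IsColimit.mk w
    (fun s => CommRingCat.ofHom (D.π.liftOfSurjective D.h2 ⟨s.inl.hom, hker s⟩)) ?_ ?_ ?_⟩⟩
  · intro s
    ext r
    exact RingHom.liftOfSurjective_comp_apply D.π D.h2 ⟨s.inl.hom, hker s⟩ r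
  · intro s
    ext c
    change (D.π.liftOfSurjective D.h2 ⟨s.inl.hom, hker s⟩) (algebraMap k B₀ c) = s.inr.hom c
    rw [hπk, RingHom.liftOfSurjective_comp_apply]
    change s.inl.hom _ = _
    rw [hcond, A.res.commutes]
    rfl
  · intro s m hm _
    ext b
    obtain ⟨r, rfl⟩ := D.h2 b
    change m.hom (D.π r) = (D.π.liftOfSurjective D.h2 ⟨s.inl.hom, hker s⟩) (D.π r)
    rw [RingHom.liftOfSurjective_comp_apply]
    exact congrArg (fun f : CommRingCat.of D.R ⟶ s.pt => f.hom r) hm

/-- the deformation attached to an algebraic datum. -/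
noncomputable def AData.toDefSch (D : AData A B₀) :
    DefSch (Spec (CommRingCat.of B₀)) (Spec.map (CommRingCat.ofHom (algebraMap k B₀))) A where
  total := Spec (CommRingCat.of D.R)
  f := Spec.map (CommRingCat.ofHom (algebraMap A D.R))
  flat := Flat.SpecMap_iff.mpr (RingHom.flat_algebraMap_iff.mpr D.flat)
  i := Spec.map (CommRingCat.ofHom D.π)
  isPullback := isPullback_SpecMap_of_isPushout _ _ _ _ D.isPushout

theorem exists_adata
    (ξ : DefSch (Spec (CommRingCat.of B₀)) (Spec.map (CommRingCat.ofHom (algebraMap k B₀))) A) :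
    ∃ D : AData A B₀, Nonempty (DefSch.Iso D.toDefSch ξ) := by
  obtain ⟨R, _, _, _, π, α, h1, h2, h3, h4, h5⟩ := algebraize A.res ξ.f ξ.i ξ.isPullback
  refine ⟨⟨R, π, h1, h2, h3⟩, ⟨{ iso := α.symm, hom_f := h4, i_hom := ?_ }⟩⟩
  change Spec.map (CommRingCat.ofHom π) ≫ α.inv = ξ.i
  rw [← h5, Category.assoc, Iso.hom_inv_id, Category.comp_id]

theorem iso_iff (D₁ D₂ : AData A B₀) :
    Nonempty (DefSch.Iso D₁.toDefSch D₂.toDefSch) ↔
      ∃ θ : D₁.R ≃+* D₂.R, (∀ a : A, θ (algebraMap A D₁.R a) = algebraMap A D₂.R a) ∧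
        ∀ r, D₂.π (θ r) = D₁.π r := by
  constructor
  · rintro ⟨I⟩
    let θ₂₁ : CommRingCat.of D₂.R ⟶ CommRingCat.of D₁.R := Spec.preimage I.iso.hom
    let θ₁₂ : CommRingCat.of D₁.R ⟶ CommRingCat.of D₂.R := Spec.preimage I.iso.inv
    have h21 : Spec.map θ₂₁ = I.iso.hom := Spec.map_preimage _
    have h12 : Spec.map θ₁₂ = I.iso.inv := Spec.map_preimage _
    have c1 : θ₂₁ ≫ θ₁₂ = 𝟙 _ := by
      apply Spec.map_injective
      rw [Spec.map_comp, h21, h12, Iso.inv_hom_id, Spec.map_id]
    have c2 : θ₁₂ ≫ θ₂₁ = 𝟙 _ := by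
      apply Spec.map_injective
      rw [Spec.map_comp, h21, h12, Iso.hom_inv_id, Spec.map_id]
    have hf : CommRingCat.ofHom (algebraMap A D₂.R) ≫ θ₂₁ = CommRingCat.ofHom (algebraMap A D₁.R) := by
      apply Spec.map_injective
      rw [Spec.map_comp, h21]
      exact I.hom_f
    have hi : θ₂₁ ≫ CommRingCat.ofHom D₁.π = CommRingCat.ofHom D₂.π := by
      apply Spec.map_injective
      rw [Spec.map_comp, h21]
      exact I.i_hom
    have e1 : ∀ r, θ₁₂.hom (θ₂₁.hom r) = r := fun r =>
      congrArg (fun f : CommRingCat.of D₂.R ⟶ CommRingCat.of D₂.R => f.hom r) c1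
    have e2 : ∀ r, θ₂₁.hom (θ₁₂.hom r) = r := fun r =>
      congrArg (fun f : CommRingCat.of D₁.R ⟶ CommRingCat.of D₁.R => f.hom r) c2
    have e3 : ∀ a : A, θ₂₁.hom (algebraMap A D₂.R a) = algebraMap A D₁.R a := fun a =>
      congrArg (fun f : CommRingCat.of A ⟶ CommRingCat.of D₁.R => f.hom a) hf
    have e4 : ∀ r, D₁.π (θ₂₁.hom r) = D₂.π r := fun r =>
      congrArg (fun f : CommRingCat.of D₂.R ⟶ CommRingCat.of B₀ => f.hom r) hi
    refine ⟨RingEquiv.ofRingHom θ₁₂.hom θ₂₁.hom (RingHom.ext e1) (RingHom.ext e2), ?_, ?_⟩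
    · intro a
      change θ₁₂.hom (algebraMap A D₁.R a) = _
      rw [← e3, e1]
    · intro r
      change D₂.π (θ₁₂.hom r) = _
      rw [← e4, e2]
  · rintro ⟨θ, hθA, hθπ⟩
    have hsymmA : ∀ a : A, θ.symm (algebraMap A D₂.R a) = algebraMap A D₁.R a := by
      intro a
      rw [← hθA, RingEquiv.symm_apply_apply]
    have hsymmπ : ∀ r, D₁.π (θ.symm r) = D₂.π r := by
      intro r
      rw [← hθπ, RingEquiv.apply_symm_apply]
    let γ : Spec (CommRingCat.of D₁.R) ≅ Spec (CommRingCat.of D₂.R) :=
      ⟨Spec.map (CommRingCat.ofHom θ.symm.toRingHom), Spec.map (CommRingCat.ofHom θ.toRingHom),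
        by
          rw [← Spec.map_comp, ← Spec.map_id]
          congr 1
          ext r
          exact θ.symm_apply_apply r,
        by
          rw [← Spec.map_comp, ← Spec.map_id]
          congr 1
          ext r
          exact θ.apply_symm_apply r⟩
    refine ⟨{ iso := γ, hom_f := ?_, i_hom := ?_ }⟩
    · change Spec.map _ ≫ Spec.map _ = Spec.map _
      rw [← Spec.map_comp]
      congr 1
      ext a
      exact hsymmA a
    · change Spec.map _ ≫ Spec.map _ = Spec.map _
      rw [← Spec.map_comp]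
      congr 1
      ext r
      exact hsymmπ r

end Groth.Agent.Lib.Helper19.AffDef
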