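import Mathlib
import Groth.Prelude.Def_ArtFun4
import Groth.Prelude.Def_Exal
import Groth.Agent.Lib.Helper19.AffDefAlg
import Groth.Agent.Lib.Helper19.AffDefExt

/-!
# Deformations over a "simple" Artinian algebra (e.g. the dual numbers) and algebra extensions (helper19)
-/

set_option autoImplicit false
set_option linter.style.haveILetI false
set_option linter.unusedSectionVars false
universe u

open CategoryTheory CategoryTheory.Limits AlgebraicGeometry

namespace Groth.Agent.Lib.Helper19.AffDef

open ArtFun ArtFun.Art

variable {k : Type u} [Field k] {A : Art k k} {B₀ : Type u} [CommRing B₀] [Algebra k B₀]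

/-- the maximal ideal of `A` is generated by `t` and is killed by `t` (so `A = k ⊕ k t`). -/
structure Simple (A : Art k k) (t : A) : Prop where
  max_eq : IsLocalRing.maximalIdeal A = Ideal.span {t}
  mul_zero : ∀ a ∈ IsLocalRing.maximalIdeal A, a * t = 0
  colon : ∀ a : A, a * t = 0 → a ∈ IsLocalRing.maximalIdeal A

namespace AData

variable (D : AData A B₀) {t : A} (hS : Simple A t)

/-- the `k`-algebra structure of the total ring. -/
noncomputable def kAlg : Algebra k D.R := ((algebraMap A D.R).comp (algebraMap k A)).toAlgebra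

lemma hcomm (c : k) : D.π ((algebraMap A D.R) (algebraMap k A c)) = algebraMap k B₀ c := by
  rw [D.h1, A.res.commutes]
  rfl

include hS in
lemma t_mem : t ∈ IsLocalRing.maximalIdeal A := by
  rw [hS.max_eq]
  exact Ideal.mem_span_singleton_self t

include hS in
lemma res_t : A.res t = 0 := by
  have := t_mem hS
  rw [← ker_e A.res, RingHom.mem_ker] at this
  exact this

include hS in
lemma kf1 (r₁ r₂ : D.R) (h : D.π r₁ = D.π r₂) :
    algebraMap A D.R t * r₁ = algebraMap A D.R t * r₂ := by
  rw [← sub_eq_zero, ← mul_sub]
  have hker : r₁ - r₂ ∈ (IsLocalRing.maximalIdeal A).map (algebraMap A D.R) := by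
    rw [← D.h3, RingHom.mem_ker, map_sub, h, sub_self]
  have : algebraMap A D.R t * (r₁ - r₂) ∈
      (Ideal.span {t} * IsLocalRing.maximalIdeal A).map (algebraMap A D.R) := by
    rw [Ideal.map_mul]
    exact Ideal.mul_mem_mul (Ideal.mem_map_of_mem _ (Ideal.mem_span_singleton_self t)) hker
  have hbot : Ideal.span {t} * IsLocalRing.maximalIdeal A = ⊥ := by
    rw [eq_bot_iff, Ideal.span_singleton_mul_le_iff]
    intro z hz
    rw [mul_comm, hS.mul_zero z hz]
    exact Ideal.zero_mem _
  rw [hbot, Ideal.map_bot] at this
  exact Ideal.mem_bot.mp this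

lemma lift_spec (b : B₀) : D.π (Function.surjInv D.h2 b) = b := Function.surjInv_eq D.h2 b

include hS in
lemma incl_inj_aux (b : B₀) (h : algebraMap A D.R t * Function.surjInv D.h2 b = 0) : b = 0 := by
  have h0 : algebraMap A D.R t * Function.surjInv D.h2 b ∈ (⊥ : Ideal A).map (algebraMap A D.R) := by
    rw [h]
    exact Ideal.zero_mem _
  have := mem_map_of_mul_mem (⊥ : Ideal A) (IsLocalRing.maximalIdeal A) t
    (fun a ha => hS.colon a (Ideal.mem_bot.mp ha)) _ h0
  rw [← D.h3, RingHom.mem_ker, D.lift_spec] at this
  exact this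

include hS in
lemma exact_aux (x : D.R) :
    D.π x = 0 ↔ ∃ b, algebraMap A D.R t * Function.surjInv D.h2 b = x := by
  constructor
  · intro hx
    have hmem : x ∈ (IsLocalRing.maximalIdeal A).map (algebraMap A D.R) := by
      rw [← D.h3, RingHom.mem_ker]
      exact hx
    rw [hS.max_eq, Ideal.map_span, Set.image_singleton] at hmem
    obtain ⟨y, rfl⟩ := Ideal.mem_span_singleton'.mp hmem
    refine ⟨D.π y, ?_⟩
    rw [D.kf1 hS _ y (D.lift_spec _), mul_comm]
  · rintro ⟨b, rfl⟩
    rw [map_mul, D.h1, res_t hS, map_zero, zero_mul]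

include hS in
lemma mul_incl_aux (x : D.R) (z : B₀) :
    x * (algebraMap A D.R t * Function.surjInv D.h2 z) =
      algebraMap A D.R t * Function.surjInv D.h2 (D.π x * z) := by
  rw [mul_left_comm]
  exact D.kf1 hS _ _ (by rw [map_mul, D.lift_spec, D.lift_spec])

/-- the extension of `B₀` by `B₀` attached to a deformation over a simple `A`. -/
noncomputable def ext : Exal.Ext k B₀ B₀ :=
  letI : Algebra k D.R := D.kAlg
  { E := D.R
    proj := { D.π with commutes' := D.hcomm }
    incl :=
      { toFun := fun b => algebraMap A D.R t * Function.surjInv D.h2 b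
        map_zero' := by
          rw [D.kf1 hS _ 0 (by rw [D.lift_spec, map_zero]), mul_zero]
        map_add' := fun b₁ b₂ => by
          rw [← mul_add]
          exact D.kf1 hS _ _ (by rw [map_add, D.lift_spec, D.lift_spec, D.lift_spec]) }
    isExtension :=
      { proj_surjective := D.h2
        incl_injective := by
          rw [injective_iff_map_eq_zero]
          intro b hb
          exact D.incl_inj_aux hS b hb
        exact := fun x => by
          rw [Set.mem_range]
          exact D.exact_aux hS x
        mul_incl := fun x z => by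
          rw [smul_eq_mul]
          exact D.mul_incl_aux hS x z } }

end AData

end Groth.Agent.Lib.Helper19.AffDef
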