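import Mathlib
import Groth.Prelude.Def_ArtFun4
import Groth.Prelude.Def_Exal
import Groth.Agent.Lib.Helper19.AffDefDual

/-!
# First-order deformations of an affine scheme are the algebra extensions of `B₀` by `B₀` (helper19)
-/

set_option autoImplicit false
set_option linter.style.haveILetI false
set_option linter.unusedSectionVars false
universe u

open CategoryTheory CategoryTheory.Limits AlgebraicGeometry TensorProduct

namespace Groth.Agent.Lib.Helper19.AffDef

open ArtFun ArtFun.Art

variable {k : Type u} [Field k] {A : Art k k} {B₀ : Type u} [CommRing B₀] [Algebra k B₀]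

namespace AData

variable (D₁ D₂ : AData A B₀) {t : A} (hS : Simple A t)

include hS in
lemma decomp (a : A) : ∃ c c' : k, a = algebraMap k A c + algebraMap k A c' * t := by
  have h1 := sub_mem_max A.res a
  rw [hS.max_eq] at h1
  obtain ⟨a', ha'⟩ := Ideal.mem_span_singleton'.mp h1
  have h2 := sub_mem_max A.res a'
  have h3 := hS.mul_zero _ h2
  refine ⟨A.res a, A.res a', ?_⟩
  have : a' * t = algebraMap k A (A.res a') * t := by
    rw [sub_mul, sub_eq_zero] at h3
    exact h3
  rw [← this, ha']
  ring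

theorem ext_equiv_iff : Nonempty (Exal.Ext.Equiv (D₁.ext hS) (D₂.ext hS)) ↔
    ∃ θ : D₁.R ≃+* D₂.R, (∀ a : A, θ (algebraMap A D₁.R a) = algebraMap A D₂.R a) ∧
      ∀ r, D₂.π (θ r) = D₁.π r := by
  constructor
  · rintro ⟨Θ⟩
    let θ : D₁.R ≃+* D₂.R := Θ.toAlgEquiv.toRingEquiv
    have hk : ∀ c : k, θ (algebraMap A D₁.R (algebraMap k A c)) =
        algebraMap A D₂.R (algebraMap k A c) := fun c => Θ.toAlgEquiv.commutes c
    have ht : θ (algebraMap A D₁.R t) = algebraMap A D₂.R t := by
      have h1 : algebraMap A D₁.R t = (D₁.ext hS).incl 1 := by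
        change _ = algebraMap A D₁.R t * Function.surjInv D₁.h2 1
        rw [D₁.kf1 hS _ 1 (by rw [D₁.lift_spec, map_one]), mul_one]
      have h2 : algebraMap A D₂.R t = (D₂.ext hS).incl 1 := by
        change _ = algebraMap A D₂.R t * Function.surjInv D₂.h2 1
        rw [D₂.kf1 hS _ 1 (by rw [D₂.lift_spec, map_one]), mul_one]
      rw [h1, h2]
      exact Θ.apply_incl 1
    refine ⟨θ, ?_, fun r => Θ.proj_apply r⟩
    intro a
    obtain ⟨c, c', rfl⟩ := decomp hS a
    rw [map_add, map_mul, map_add, map_mul, map_add, map_mul, hk, hk, ht]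
  · rintro ⟨θ, hθA, hθπ⟩
    letI := D₁.kAlg
    letI := D₂.kAlg
    let Θ : D₁.R ≃ₐ[k] D₂.R := AlgEquiv.ofRingEquiv (f := θ) (fun c => hθA _)
    refine ⟨{ toAlgEquiv := Θ, proj_apply := hθπ, apply_incl := fun z => ?_ }⟩
    change θ (algebraMap A D₁.R t * Function.surjInv D₁.h2 z) =
      algebraMap A D₂.R t * Function.surjInv D₂.h2 z
    rw [map_mul, hθA]
    exact D₂.kf1 hS _ _ (by rw [hθπ, D₁.lift_spec, D₂.lift_spec])

end AData

section Dual

lemma mul_eps (a : DualNumber k) :
    a * DualNumber.eps = TrivSqZeroExt.inr (TrivSqZeroExt.fst a) := by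
  apply TrivSqZeroExt.ext
  · rw [TrivSqZeroExt.fst_mul, DualNumber.fst_eps, mul_zero, TrivSqZeroExt.fst_inr]
  · rw [DualNumber.snd_mul, DualNumber.fst_eps, DualNumber.snd_eps, mul_one, mul_zero, add_zero,
      TrivSqZeroExt.snd_inr]

/-- view an element of the object `dual` as a dual number. -/
abbrev toDN (a : (dual k k : Art k k)) : DualNumber k := a

/-- view a dual number as an element of the object `dual`. -/
abbrev ofDN (a : DualNumber k) : (dual k k : Art k k) := a

lemma mem_max_dual (a : (dual k k : Art k k)) :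
    a ∈ IsLocalRing.maximalIdeal (dual k k : Art k k) ↔ TrivSqZeroExt.fst (toDN a) = 0 := by
  rw [← ker_e (dual k k).res, RingHom.mem_ker]
  rfl

lemma mul_epsD (a : (dual k k : Art k k)) :
    a * ofDN (DualNumber.eps : DualNumber k) = ofDN (TrivSqZeroExt.inr (TrivSqZeroExt.fst (toDN a))) :=
  mul_eps (toDN a)

theorem dual_simple : Simple (dual k k) (ofDN (DualNumber.eps : DualNumber k)) where
  max_eq := by
    ext a
    rw [mem_max_dual, Ideal.mem_span_singleton']
    constructor
    · intro h
      refine ⟨ofDN (TrivSqZeroExt.inl (TrivSqZeroExt.snd (toDN a))), ?_⟩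
      rw [mul_epsD]
      change (TrivSqZeroExt.inr (TrivSqZeroExt.fst (TrivSqZeroExt.inl (TrivSqZeroExt.snd (toDN a)) :
        DualNumber k)) : DualNumber k) = toDN a
      rw [TrivSqZeroExt.fst_inl]
      apply TrivSqZeroExt.ext
      · rw [TrivSqZeroExt.fst_inr, h]
      · rw [TrivSqZeroExt.snd_inr]
    · rintro ⟨b, rfl⟩
      rw [mul_epsD]
      exact TrivSqZeroExt.fst_inr _ _
  mul_zero := fun a ha => by
    rw [mem_max_dual] at ha
    rw [mul_epsD, ha]
    exact TrivSqZeroExt.inr_zero _
  colon := fun a ha => by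
    rw [mem_max_dual]
    rw [mul_epsD] at ha
    exact TrivSqZeroExt.inr_injective (ha.trans (TrivSqZeroExt.inr_zero _).symm)

end Dual

section OfExt

variable (E : Exal.Ext k B₀ B₀)

lemma proj_incl (z : B₀) : E.proj (E.incl z) = 0 := (E.isExtension.exact _).mpr ⟨z, rfl⟩

lemma incl_one_sq : E.incl 1 * E.incl 1 = 0 := by
  rw [E.isExtension.mul_incl, proj_incl, zero_smul, map_zero]

/-- the structure map `k[ε] → E`. -/
noncomputable def liftHom : DualNumber k →ₐ[k] E.E :=
  DualNumber.lift ⟨(Algebra.ofId k E.E, E.incl 1), incl_one_sq E, fun _ => Commute.all _ _⟩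

lemma liftHom_apply (a : DualNumber k) : liftHom E a =
    algebraMap k E.E (TrivSqZeroExt.fst a) + algebraMap k E.E (TrivSqZeroExt.snd a) * E.incl 1 :=
  DualNumber.lift_apply_apply _ a

lemma liftHom_eps : liftHom E DualNumber.eps = E.incl 1 := DualNumber.lift_apply_eps _

lemma mul_incl_one (y : E.E) : E.incl 1 * y = E.incl (E.proj y) := by
  rw [mul_comm, E.isExtension.mul_incl, smul_eq_mul, mul_one]

set_option maxHeartbeats 800000 in
theorem flat_ofExt :
    @Module.Flat (DualNumber k) E.E _ _ (liftHom E).toRingHom.toAlgebra.toModule := by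
  letI : Algebra (DualNumber k) E.E := (liftHom E).toRingHom.toAlgebra
  haveI : IsScalarTower k (DualNumber k) E.E :=
    IsScalarTower.of_algebraMap_eq' (liftHom E).comp_algebraMap.symm
  obtain ⟨σ, hσ⟩ := E.proj.toLinearMap.exists_rightInverse_of_surjective
    (LinearMap.range_eq_top.mpr E.isExtension.proj_surjective)
  have hσ' : ∀ b, E.proj (σ b) = b := fun b => LinearMap.congr_fun hσ b
  let Φ : DualNumber k ⊗[k] B₀ →ₗ[DualNumber k] E.E := σ.liftBaseChange (DualNumber k)
  have hΦ : ∀ b b' : B₀, Φ ((1 : DualNumber k) ⊗ₜ b + DualNumber.eps ⊗ₜ b') = σ b + E.incl b' := by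
    intro b b'
    rw [map_add, LinearMap.liftBaseChange_tmul, LinearMap.liftBaseChange_tmul, one_smul,
      Algebra.smul_def]
    change _ + liftHom E DualNumber.eps * σ b' = _
    rw [liftHom_eps, mul_incl_one, hσ']
  have hdec : ∀ x : DualNumber k ⊗[k] B₀, ∃ b b' : B₀,
      x = (1 : DualNumber k) ⊗ₜ b + DualNumber.eps ⊗ₜ b' := by
    intro x
    induction x using TensorProduct.induction_on with
    | zero => exact ⟨0, 0, by simp⟩
    | tmul a b =>
      refine ⟨TrivSqZeroExt.fst a • b, TrivSqZeroExt.snd a • b, ?_⟩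
      rw [TensorProduct.tmul_smul, TensorProduct.tmul_smul, TensorProduct.smul_tmul',
        TensorProduct.smul_tmul', ← TensorProduct.add_tmul]
      congr 1
      apply TrivSqZeroExt.ext <;> simp
    | add x y hx hy =>
      obtain ⟨b₁, b₁', rfl⟩ := hx
      obtain ⟨b₂, b₂', rfl⟩ := hy
      exact ⟨b₁ + b₂, b₁' + b₂', by rw [TensorProduct.tmul_add, TensorProduct.tmul_add]; abel⟩
  have hinj : Function.Injective Φ := by
    rw [injective_iff_map_eq_zero]
    intro x hx
    obtain ⟨b, b', rfl⟩ := hdec x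
    rw [hΦ] at hx
    have hb : b = 0 := by
      have := congrArg E.proj hx
      rw [map_add, hσ', proj_incl, add_zero, map_zero] at this
      exact this
    subst hb
    rw [map_zero, zero_add] at hx
    have hb' : b' = 0 := E.isExtension.incl_injective (hx.trans (map_zero E.incl).symm)
    subst hb'
    simp
  have hsurj : Function.Surjective Φ := by
    intro y
    have h0 : E.proj (y - σ (E.proj y)) = 0 := by rw [map_sub, hσ', sub_self]
    obtain ⟨b', hb'⟩ := (E.isExtension.exact _).mp h0
    refine ⟨(1 : DualNumber k) ⊗ₜ E.proj y + DualNumber.eps ⊗ₜ b', ?_⟩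
    rw [hΦ, hb']
    abel
  exact Module.Flat.of_linearEquiv (LinearEquiv.ofBijective Φ ⟨hinj, hsurj⟩).symm

/-- the algebraic deformation datum attached to an extension. -/
noncomputable def ofExt : AData (dual k k) B₀ where
  R := E.E
  alg := (liftHom E).toRingHom.toAlgebra
  flat := flat_ofExt E
  π := E.proj.toRingHom
  h1 := fun a => by
    change E.proj (liftHom E a) = _
    rw [liftHom_apply, map_add, map_mul, proj_incl, mul_zero, add_zero, AlgHom.commutes]
    rfl
  h2 := E.isExtension.proj_surjective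
  h3 := by
    apply le_antisymm
    · intro x hx
      rw [RingHom.mem_ker] at hx
      obtain ⟨b, rfl⟩ := (E.isExtension.exact x).mp hx
      obtain ⟨y, rfl⟩ := E.isExtension.proj_surjective b
      rw [← mul_incl_one, ← liftHom_eps]
      exact Ideal.mul_mem_right _ _ (Ideal.mem_map_of_mem _ (AData.t_mem dual_simple))
    · rw [Ideal.map_le_iff_le_comap]
      intro a ha
      rw [mem_max_dual] at ha
      rw [Ideal.mem_comap, RingHom.mem_ker]
      change E.proj (liftHom E a) = 0
      rw [liftHom_apply, map_add, map_mul, proj_incl, mul_zero, add_zero, AlgHom.commutes, ha,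
        map_zero]

theorem ofExt_equiv : Nonempty (Exal.Ext.Equiv ((ofExt E).ext dual_simple) E) := by
  letI := (ofExt E).kAlg
  let Θ : (ofExt E).R ≃ₐ[k] E.E :=
    AlgEquiv.ofRingEquiv (f := RingEquiv.refl E.E) (fun c => (liftHom E).commutes c)
  refine ⟨{ toAlgEquiv := Θ, proj_apply := fun _ => rfl, apply_incl := fun z => ?_ }⟩
  change liftHom E DualNumber.eps * (show E.E from Function.surjInv (ofExt E).h2 z) = E.incl z
  rw [liftHom_eps, mul_incl_one]
  congr 1
  exact (ofExt E).lift_spec z

end OfExt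

section Main

variable (k B₀)

theorem nonempty_equiv_defFunctor_dual :
    Nonempty ((defFunctor (Λ := k) (Spec (CommRingCat.of B₀))
      (Spec.map (CommRingCat.ofHom (algebraMap k B₀)))).obj (dual k k) ≃ Exal.Exalcom k B₀ B₀) := by
  classical
  let Dof : DefSch (Spec (CommRingCat.of B₀)) (Spec.map (CommRingCat.ofHom (algebraMap k B₀)))
      (dual k k) → AData (dual k k) B₀ := fun ξ => (exists_adata ξ).choose
  have hDof : ∀ ξ, Nonempty (DefSch.Iso (Dof ξ).toDefSch ξ) := fun ξ => (exists_adata ξ).choose_spec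
  have key : ∀ ξ ξ', Nonempty (DefSch.Iso ξ ξ') ↔
      Nonempty (Exal.Ext.Equiv ((Dof ξ).ext dual_simple) ((Dof ξ').ext dual_simple)) := by
    intro ξ ξ'
    rw [AData.ext_equiv_iff, ← iso_iff]
    obtain ⟨I⟩ := hDof ξ
    obtain ⟨I'⟩ := hDof ξ'
    exact ⟨fun ⟨J⟩ => ⟨(I.trans J).trans I'.symm⟩, fun ⟨J⟩ => ⟨(I.symm.trans J).trans I'⟩⟩
  let F : Quotient (DefSch.setoid (Spec (CommRingCat.of B₀))
      (Spec.map (CommRingCat.ofHom (algebraMap k B₀))) (dual k k)) → Exal.Exalcom k B₀ B₀ :=
    Quotient.lift (fun ξ => ((Dof ξ).ext dual_simple).cl)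
      (fun ξ ξ' h => Quotient.sound ((key ξ ξ').mp h))
  have hinj : Function.Injective F := by
    intro q q'
    induction q using Quotient.inductionOn with
    | h ξ =>
      induction q' using Quotient.inductionOn with
      | h ξ' =>
        intro h
        exact Quotient.sound ((key ξ ξ').mpr (Quotient.exact h))
  have hsurj : Function.Surjective F := by
    intro q
    induction q using Quotient.inductionOn with
    | h E =>
      refine ⟨Quotient.mk _ (ofExt E).toDefSch, ?_⟩
      apply Quotient.sound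
      obtain ⟨e1⟩ := (AData.ext_equiv_iff (Dof (ofExt E).toDefSch) (ofExt E) dual_simple).mpr
        ((iso_iff _ _).mp (hDof _))
      obtain ⟨e2⟩ := ofExt_equiv E
      exact ⟨e1.trans e2⟩
  exact ⟨Equiv.ofBijective F ⟨hinj, hsurj⟩⟩

end Main

end Groth.Agent.Lib.Helper19.AffDef
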