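import Mathlib
import Groth.Agent.Lib.Helper19.AffDefTriv

/-!
# Deformations of a smooth affine scheme over a local Artinian algebra are trivial (helper19)
-/

set_option autoImplicit false
set_option linter.style.haveILetI false
set_option linter.unusedSectionVars false
universe u

open CategoryTheory CategoryTheory.Limits AlgebraicGeometry TensorProduct

namespace Groth.Agent.Lib.Helper19.AffDef

set_option backward.isDefEq.respectTransparency false in
theorem exists_iso_pullback_of_smooth {k : Type u} [Field k] (X : Scheme.{u})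
    (hX : X ⟶ Spec (CommRingCat.of k)) [IsAffine X] [Smooth hX]
    (A : Type u) [CommRing A] [IsLocalRing A] [IsArtinianRing A] [Algebra k A] (e : A →ₐ[k] k)
    (X' : Scheme.{u}) (g : X' ⟶ Spec (CommRingCat.of A)) [Flat g] (i : X ⟶ X')
    (hsq : IsPullback i hX g (Spec.map (CommRingCat.ofHom e.toRingHom))) :
    ∃ φ : X' ≅ Limits.pullback hX (Spec.map (CommRingCat.ofHom (algebraMap k A))),
      φ.hom ≫ Limits.pullback.snd hX (Spec.map (CommRingCat.ofHom (algebraMap k A))) = g := by
  let B₀ : Type u := Γ(X, ⊤)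
  let β : X ≅ Spec (CommRingCat.of B₀) := X.isoSpec
  let ι : CommRingCat.of k ⟶ CommRingCat.of B₀ := Spec.preimage (β.inv ≫ hX)
  have hι : Spec.map ι = β.inv ≫ hX := Spec.map_preimage _
  letI : Algebra k B₀ := ι.hom.toAlgebra
  have hι' : Spec.map (CommRingCat.ofHom (algebraMap k B₀)) = β.inv ≫ hX := by rw [← hι]; rfl
  have hsq' : IsPullback (β.inv ≫ i) (Spec.map (CommRingCat.ofHom (algebraMap k B₀))) g
      (Spec.map (CommRingCat.ofHom e.toRingHom)) :=
    hsq.of_iso β (Iso.refl _) (Iso.refl _) (Iso.refl _) (by simp) (by rw [hι']; simp) (by simp)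
      (by simp)
  obtain ⟨R, _, _, _, π, α, h1, h2, h3, h4, h5⟩ := algebraize e g (β.inv ≫ i) hsq'
  haveI : Algebra.FormallySmooth k B₀ := by
    have hsm : Smooth (Spec.map ι) := by rw [hι]; infer_instance
    have := (HasRingHomProperty.Spec_iff (P := @Smooth)).mp hsm
    exact this.toAlgebra.formallySmooth
  letI : Algebra k R := ((algebraMap A R).comp (algebraMap k A)).toAlgebra
  haveI : IsScalarTower k A R := IsScalarTower.of_algebraMap_eq (fun _ => rfl)
  have hcomm : ∀ c : k, π (algebraMap k R c) = algebraMap k B₀ c := by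
    intro c
    change π (algebraMap A R (algebraMap k A c)) = _
    rw [h1, e.commutes]
    rfl
  let π' : R →ₐ[k] B₀ := { π with commutes' := hcomm }
  have hπ'surj : Function.Surjective π' := h2
  have hnil : IsNilpotent (RingHom.ker (π' : R →+* B₀)) := by
    change IsNilpotent (RingHom.ker π)
    rw [h3]
    obtain ⟨n, hn⟩ := isNilpotent_max A
    refine ⟨n, ?_⟩
    rw [← Ideal.map_pow, hn]
    simp
  let s : B₀ →ₐ[k] R := Algebra.FormallySmooth.liftOfSurjective (AlgHom.id k B₀) π' hπ'surj hnil
  have hs : ∀ b, π (s b) = b := fun b =>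
    Algebra.FormallySmooth.liftOfSurjective_apply (AlgHom.id k B₀) π' hπ'surj hnil b
  have hpb := isPullback_of_section e π h1 h3 s.toRingHom hs (fun c => s.commutes c)
  have hfinal : IsPullback (α.hom ≫ Spec.map (CommRingCat.ofHom s.toRingHom) ≫ β.inv) g hX
      (Spec.map (CommRingCat.ofHom (algebraMap k A))) :=
    hpb.of_iso α.symm β.symm (Iso.refl _) (Iso.refl _) (by simp) (by rw [← h4]; simp)
      (by rw [hι']; simp) (by simp)
  exact ⟨hfinal.isoPullback, hfinal.isoPullback_hom_snd⟩

end Groth.Agent.Lib.Helper19.AffDef
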