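import Mathlib
import Groth.Agent.Lib.Helper19.ArtFunBasic
import Groth.Agent.Lib.Helper19.ArtFunLength

/-!
# Hensel's lemma in `ArtFun.Art Λ k` and fibre products for separable residue fields (helper19)

* `isAdicComplete_of_pow_eq_bot`, `henselianLocalRing_of_forall_isNilpotent` (as in Helper8/HenselNil,
  repeated here so that this file is self-contained);
* `henselian A`: every object of `Art Λ k` is a henselian local ring;
* `exists_root`, `root_unique`: lifting simple roots from `k` to `A`, uniquely;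
* `exists_monic_lift`: a monic polynomial over `Λ` with `c` as a simple root, for `k` separable over
  the image of `Λ`;
* `exists_isFibreProd_of_isSeparable`: all fibre products exist in `Art Λ k` in the separable case.
-/

set_option autoImplicit false
universe u v

open CategoryTheory Polynomial

namespace Groth.Agent.Lib.Helper19.ArtFunHensel

open ArtFun ArtFun.Art Groth.Agent.Lib.Helper19.ArtFunBasic Groth.Agent.Lib.Helper19.ArtFunLength

theorem isAdicComplete_of_pow_eq_bot {R : Type*} [CommRing R] (I : Ideal R) (N : ℕ)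
    (h : I ^ N = ⊥) : IsAdicComplete I R := by
  have hbot : (I ^ N • ⊤ : Submodule R R) = ⊥ := by
    rw [h]; simp
  refine { haus' := fun x hx => ?_, prec' := fun f hf => ⟨f N, fun n => ?_⟩ }
  · have := hx N
    rw [hbot, SModEq.bot] at this
    exact this
  · rcases le_total n N with hn | hn
    · exact hf hn
    · have := hf hn
      rw [hbot, SModEq.bot] at this
      rw [this]

theorem henselianLocalRing_of_forall_isNilpotent (R : Type*) [CommRing R] [IsLocalRing R]
    (h : ∀ x ∈ IsLocalRing.maximalIdeal R, IsNilpotent x) : HenselianLocalRing R := by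
  refine ⟨fun f hf a₀ h₁ h₂ => ?_⟩
  obtain ⟨N, hN⟩ := h _ h₁
  let I : Ideal R := Ideal.span {f.eval a₀}
  have hI : I ^ N = ⊥ := by
    rw [Ideal.span_singleton_pow, hN]; simp
  have hcomp : IsAdicComplete I R := isAdicComplete_of_pow_eq_bot I N hI
  have hH : HenselianRing R I := inferInstance
  obtain ⟨a, ha, haI⟩ := hH.is_henselian f hf a₀ (Ideal.subset_span rfl)
    (h₂.map (Ideal.Quotient.mk I))
  refine ⟨a, ha, ?_⟩
  have hIm : I ≤ IsLocalRing.maximalIdeal R := by
    rw [Ideal.span_le, Set.singleton_subset_iff]; exact h₁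
  exact hIm haI

variable {Λ : Type u} {k : Type u} [CommRing Λ] [Field k] [Algebra Λ k]

/-- Every object of `Art Λ k` is a henselian local ring. -/
theorem henselian (A : Art Λ k) : HenselianLocalRing A := by
  apply henselianLocalRing_of_forall_isNilpotent
  intro x hx
  obtain ⟨n, hn⟩ := exists_maximalIdeal_pow_eq_bot A
  refine ⟨n, ?_⟩
  have : x ^ n ∈ IsLocalRing.maximalIdeal A ^ n := Ideal.pow_mem_pow hx n
  rw [hn] at this
  exact this

/-- Simple roots in `k` lift to roots in `A`. -/
theorem exists_root (A : Art Λ k) (g : Λ[X]) (hg : g.Monic) (c : k) (hc : aeval c g = 0)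
    (hc' : aeval c (derivative g) ≠ 0) : ∃ a : A, aeval a g = 0 ∧ A.res a = c := by
  haveI := henselian A
  obtain ⟨a₀, ha₀⟩ := A.res_surjective c
  have h1 : (g.map (algebraMap Λ A)).eval a₀ ∈ IsLocalRing.maximalIdeal A := by
    rw [mem_maximalIdeal_iff, eval_map_algebraMap, ← aeval_algHom_apply, ha₀, hc]
  have h2 : IsUnit ((g.map (algebraMap Λ A)).derivative.eval a₀) := by
    by_contra h
    have h3 : (g.map (algebraMap Λ A)).derivative.eval a₀ ∈ IsLocalRing.maximalIdeal A :=
      (IsLocalRing.mem_maximalIdeal _).2 h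
    rw [mem_maximalIdeal_iff, derivative_map, eval_map_algebraMap, ← aeval_algHom_apply, ha₀] at h3
    exact hc' h3
  obtain ⟨a, ha, haa⟩ := HenselianLocalRing.is_henselian (g.map (algebraMap Λ A))
    (hg.map _) a₀ h1 h2
  refine ⟨a, ?_, ?_⟩
  · rw [← eval_map_algebraMap]
    exact ha
  · rw [mem_maximalIdeal_iff, map_sub, ha₀, sub_eq_zero] at haa
    exact haa

/-- Roots lifting a simple root are unique. -/
theorem root_unique (A : Art Λ k) (g : Λ[X]) (a b : A) (ha : aeval a g = 0) (hb : aeval b g = 0)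
    (hab : A.res a = A.res b) (hc' : aeval (A.res a) (derivative g) ≠ 0) : a = b := by
  apply IsLocalRing.eq_of_eval_eq_zero_of_not_isUnit_sub (f := g.map (algebraMap Λ A))
  · rw [eval_map_algebraMap]; exact ha
  · rw [eval_map_algebraMap]; exact hb
  · intro h
    have : a - b ∈ IsLocalRing.maximalIdeal A := by
      rw [mem_maximalIdeal_iff, map_sub, hab, sub_self]
    exact (IsLocalRing.mem_maximalIdeal _).1 this h
  · by_contra h
    have h3 : (g.map (algebraMap Λ A)).derivative.eval a ∈ IsLocalRing.maximalIdeal A :=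
      (IsLocalRing.mem_maximalIdeal _).2 h
    rw [mem_maximalIdeal_iff, derivative_map, eval_map_algebraMap, ← aeval_algHom_apply] at h3
    exact hc' h3

/-- For `k` separable over the image of `Λ`, every `c : k` is a simple root of a monic polynomial
over `Λ`. -/
theorem exists_monic_lift [Algebra.IsSeparable (↥(algebraMap Λ k).range) k] (c : k) :
    ∃ g : Λ[X], g.Monic ∧ aeval c g = 0 ∧ aeval c (derivative g) ≠ 0 := by
  let κ := (algebraMap Λ k).range
  have hsep : (minpoly κ c).Separable := Algebra.IsSeparable.isSeparable κ c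
  have hint : IsIntegral κ c := Algebra.IsSeparable.isIntegral κ c
  have hmonic : (minpoly κ c).Monic := minpoly.monic hint
  let f : Λ →+* κ := (algebraMap Λ k).rangeRestrict
  have hlifts : minpoly κ c ∈ lifts f := by
    rw [lifts_iff_coeff_lifts]
    intro n
    exact (algebraMap Λ k).rangeRestrict_surjective _
  obtain ⟨g, hg, -, hgm⟩ := lifts_and_natDegree_eq_and_monic hlifts hmonic
  have hcomp : (algebraMap κ k).comp f = algebraMap Λ k := RingHom.ext fun x => rfl
  have hmap : g.map (algebraMap Λ k) = (minpoly κ c).map (algebraMap κ k) := by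
    rw [← hg, Polynomial.map_map, hcomp]
  refine ⟨g, hgm, ?_, ?_⟩
  · rw [← eval_map_algebraMap, hmap, eval_map_algebraMap, minpoly.aeval]
  · rw [← eval_map_algebraMap, ← derivative_map, hmap, derivative_map, eval_map_algebraMap]
    exact hsep.aeval_derivative_ne_zero (minpoly.aeval κ c)

variable [IsNoetherianRing Λ] [Module.Finite Λ k]

/-- All fibre products exist in `Art Λ k` when `k` is separable over the image of `Λ`. -/
theorem exists_isFibreProd_of_isSeparable [Algebra.IsSeparable (↥(algebraMap Λ k).range) k]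
    {A A₁ A₂ : Art Λ k} (f₁ : A₁ ⟶ A) (f₂ : A₂ ⟶ A) :
    ∃ (B : Art Λ k) (p₁ : B ⟶ A₁) (p₂ : B ⟶ A₂), IsFibreProd p₁ p₂ f₁ f₂ := by
  let B₀ : Subalgebra Λ (A₁ × A₂) := AlgHom.pullback f₁.toAlgHom f₂.toAlgHom
  haveI : IsLocalHom f₂.toAlgHom := Art.isLocalHom f₂
  haveI : IsLocalRing B₀ := AlgHom.isLocalRing_pullback f₁.toAlgHom f₂.toAlgHom
  haveI : IsArtinian Λ A₁ := isArtinian_art A₁
  haveI : IsArtinian Λ A₂ := isArtinian_art A₂
  haveI : IsArtinian Λ (A₁ × A₂) := inferInstance
  haveI : IsArtinian Λ B₀ :=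
    isArtinian_of_injective (Subalgebra.toSubmodule B₀).subtype Subtype.val_injective
  haveI : IsArtinianRing B₀ := isArtinian_of_tower Λ (inferInstance : IsArtinian Λ B₀)
  let p₁ : B₀ →ₐ[Λ] A₁ := AlgHom.pullbackFst f₁.toAlgHom f₂.toAlgHom
  let p₂ : B₀ →ₐ[Λ] A₂ := AlgHom.pullbackSnd f₁.toAlgHom f₂.toAlgHom
  have hres : Function.Surjective (A₁.res.comp p₁) := by
    intro c
    obtain ⟨g, hgm, hg0, hg1⟩ := exists_monic_lift (Λ := Λ) c
    obtain ⟨a₁, ha₁, hr₁⟩ := exists_root A₁ g hgm c hg0 hg1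
    obtain ⟨a₂, ha₂, hr₂⟩ := exists_root A₂ g hgm c hg0 hg1
    have heq : f₁ a₁ = f₂ a₂ := by
      apply root_unique A g
      · change aeval (f₁.toAlgHom a₁) g = 0
        rw [aeval_algHom_apply, ha₁, map_zero]
      · change aeval (f₂.toAlgHom a₂) g = 0
        rw [aeval_algHom_apply, ha₂, map_zero]
      · rw [res_app, res_app, hr₁, hr₂]
      · rw [res_app, hr₁]; exact hg1
    exact ⟨⟨(a₁, a₂), heq⟩, hr₁⟩
  let B : Art Λ k := Art.of B₀ (A₁.res.comp p₁) hres
  have hcomm : f₁.toAlgHom.comp p₁ = f₂.toAlgHom.comp p₂ :=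
    AlgHom.pullback_comm_sq f₁.toAlgHom f₂.toAlgHom
  have hp₂res : A₂.res.comp p₂ = A₁.res.comp p₁ := by
    rw [← f₂.res_comp, ← f₁.res_comp, AlgHom.comp_assoc, AlgHom.comp_assoc, hcomm]
  refine ⟨B, Art.homMk p₁ rfl, Art.homMk p₂ hp₂res, ?_, ?_, ?_⟩
  · exact Art.hom_ext hcomm
  · intro b₁ b₂ h1 h2
    exact Subtype.ext (Prod.ext h1 h2)
  · intro a' a'' h
    exact ⟨⟨(a', a''), h⟩, rfl, rfl⟩

end Groth.Agent.Lib.Helper19.ArtFunHensel
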