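import Mathlib
import Groth.Prelude.Def_ArtFun5
import Groth.Agent.Lib.Helper19.ArtFunCRing

/-!
# Minimal smooth presentations of Artinian objects (helper19)

When `Λ → k` is surjective, every `R : Art Λ k` is a quotient `P → R` of a coefficient ring `P`
with smooth functor of points such that the kernel lies in `m_P ^ 2 ⊔ m_Λ P`
(`exists_minimal_presentation_art`).
-/

set_option autoImplicit false
universe u v

open CategoryTheory

namespace Groth.Agent.Lib.Helper19.ArtFunMinPres

open ArtFun ArtFun.Art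
open Groth.Agent.Lib.Helper19.ArtFunBasic
open Groth.Agent.Lib.Helper19.ArtFunComplete
open Groth.Agent.Lib.Helper19.ArtFunCRing

variable {Λ : Type u} {k : Type u} [CommRing Λ] [Field k] [Algebra Λ k]

theorem mem_span_X_of_constantCoeff_eq_zero {d : ℕ} (f : MvPolynomial (Fin d) Λ)
    (hc : MvPolynomial.constantCoeff f = 0) : f ∈ Ideal.span (Set.range MvPolynomial.X) := by
  have himg : (MvPolynomial.X '' (Set.univ : Set (Fin d)) : Set (MvPolynomial (Fin d) Λ)) =
      Set.range MvPolynomial.X := Set.image_univ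
  rw [← himg, MvPolynomial.mem_ideal_span_X_image]
  intro m hm
  by_contra hcon
  push_neg at hcon
  have hm0 : m = 0 := by
    ext i
    exact hcon i (Set.mem_univ i)
  rw [MvPolynomial.mem_support_iff, hm0] at hm
  exact hm hc

theorem ker_le_span_X_sup {d : ℕ} (π₀ : MvPolynomial (Fin d) Λ →ₐ[Λ] k)
    (hπ₀ : ∀ i, π₀ (MvPolynomial.X i) = 0) :
    RingHom.ker (π₀ : MvPolynomial (Fin d) Λ →+* k) ≤
      Ideal.span (Set.range MvPolynomial.X) ⊔
        (RingHom.ker (algebraMap Λ k)).map (algebraMap Λ (MvPolynomial (Fin d) Λ)) := by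
  intro f hf
  rw [RingHom.mem_ker] at hf
  have e1 : π₀ f = algebraMap Λ k (MvPolynomial.constantCoeff f) := by
    have h1 := AlgHom.congr_fun (MvPolynomial.aeval_unique π₀) f
    have h0 : (⇑π₀ ∘ MvPolynomial.X) = (fun _ : Fin d => (0 : k)) := funext hπ₀
    rw [h0, MvPolynomial.aeval_zero'] at h1
    exact h1
  have hc : MvPolynomial.constantCoeff f ∈ RingHom.ker (algebraMap Λ k) := by
    rw [RingHom.mem_ker, ← e1]
    exact hf
  have hsplit : f = (f - MvPolynomial.C (MvPolynomial.constantCoeff f)) +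
      MvPolynomial.C (MvPolynomial.constantCoeff f) := by ring
  rw [hsplit]
  refine Submodule.add_mem_sup ?_ ?_
  · apply mem_span_X_of_constantCoeff_eq_zero
    rw [map_sub, MvPolynomial.constantCoeff_C, sub_self]
  · rw [← MvPolynomial.algebraMap_eq]
    exact Ideal.mem_map_of_mem _ hc

variable [IsNoetherianRing Λ] [Module.Finite Λ k]

/-- minimal generators of the maximal ideal relative to `Λ` -/
theorem exists_minimal_gens (R : Art Λ k) :
    ∃ (n : ℕ) (s : Fin n → R), (∀ i, s i ∈ IsLocalRing.maximalIdeal R) ∧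
      IsLocalRing.maximalIdeal R ≤ Ideal.span (Set.range s) ⊔
        (IsLocalRing.maximalIdeal R ^ 2 ⊔
          (RingHom.ker (algebraMap Λ k)).map (algebraMap Λ R)) ∧
      ∀ c : Fin n → R, ∑ i, c i * s i ∈ IsLocalRing.maximalIdeal R ^ 2 ⊔
          (RingHom.ker (algebraMap Λ k)).map (algebraMap Λ R) →
        ∀ i, c i ∈ IsLocalRing.maximalIdeal R := by
  classical
  set N : Ideal R := IsLocalRing.maximalIdeal R ^ 2 ⊔
    (RingHom.ker (algebraMap Λ k)).map (algebraMap Λ R) with hN
  let Q : ℕ → Prop := fun n => ∃ s : Fin n → R, (∀ i, s i ∈ IsLocalRing.maximalIdeal R) ∧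
    IsLocalRing.maximalIdeal R ≤ Ideal.span (Set.range s) ⊔ N
  have hQ : ∃ n, Q n := by
    obtain ⟨n, s, hs⟩ := Submodule.fg_iff_exists_fin_generating_family.mp
      (IsNoetherian.noetherian (IsLocalRing.maximalIdeal R))
    have hs' : Ideal.span (Set.range s) = IsLocalRing.maximalIdeal R := hs
    refine ⟨n, s, fun i => ?_, ?_⟩
    · rw [← hs']; exact Ideal.subset_span ⟨i, rfl⟩
    · rw [hs']; exact le_sup_left
  obtain ⟨s, hsm, hsgen⟩ := Nat.find_spec hQ
  refine ⟨Nat.find hQ, s, hsm, hsgen, ?_⟩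
  intro c hc j
  by_contra hj
  have hu : IsUnit (c j) := by
    by_contra hnu
    exact hj ((IsLocalRing.mem_maximalIdeal _).mpr hnu)
  obtain ⟨n', hn'⟩ : ∃ n', Nat.find hQ = n' + 1 := by
    cases h : Nat.find hQ with
    | zero => exact (Fin.elim0 (h ▸ j))
    | succ n' => exact ⟨n', rfl⟩
  -- transport along `hn'`
  have key : ∀ (m : ℕ) (s : Fin (m + 1) → R) (c : Fin (m + 1) → R) (j : Fin (m + 1)),
      (∀ i, s i ∈ IsLocalRing.maximalIdeal R) →
      IsLocalRing.maximalIdeal R ≤ Ideal.span (Set.range s) ⊔ N →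
      ∑ i, c i * s i ∈ N → IsUnit (c j) → Q m := by
    intro m s c j hsm hsgen hc hu
    refine ⟨fun i => s (j.succAbove i), fun i => hsm _, ?_⟩
    refine hsgen.trans (sup_le ?_ le_sup_right)
    rw [Ideal.span_le]
    rintro _ ⟨i, rfl⟩
    have hsj : s j ∈ Ideal.span (Set.range fun i => s (j.succAbove i)) ⊔ N := by
      obtain ⟨v, hv⟩ := hu.exists_left_inv
      have e : s j = v * (∑ i, c i * s i) - ∑ i' : Fin m, (v * c (j.succAbove i')) *
          s (j.succAbove i') := by
        rw [Fin.sum_univ_succAbove _ j, mul_add, ← mul_assoc, hv, one_mul, Finset.mul_sum]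
        have : ∑ i' : Fin m, v * (c (j.succAbove i') * s (j.succAbove i')) =
            ∑ i' : Fin m, (v * c (j.succAbove i')) * s (j.succAbove i') :=
          Finset.sum_congr rfl (fun i' _ => by ring)
        rw [this]
        ring
      rw [e]
      refine Ideal.sub_mem _ ?_ ?_
      · exact Ideal.mul_mem_left _ _ (Ideal.mem_sup_right hc)
      · refine Ideal.mem_sup_left (Ideal.sum_mem _ (fun i' _ => ?_))
        exact Ideal.mul_mem_left _ _ (Ideal.subset_span ⟨i', rfl⟩)
    rcases Fin.eq_self_or_eq_succAbove j i with h | ⟨i', h⟩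
    · rw [h]; exact hsj
    · rw [h]
      exact Ideal.mem_sup_left (Ideal.subset_span ⟨i', rfl⟩)
  have hQn' : Q n' := by
    have hgen : ∀ (n : ℕ) (hn : n = n' + 1) (s : Fin n → R) (c : Fin n → R) (j : Fin n),
        (∀ i, s i ∈ IsLocalRing.maximalIdeal R) →
        IsLocalRing.maximalIdeal R ≤ Ideal.span (Set.range s) ⊔ N →
        ∑ i, c i * s i ∈ N → IsUnit (c j) → Q n' := by
      intro n hn
      subst hn
      exact key n'
    exact hgen _ hn' s c j hsm hsgen hc hu
  exact Nat.find_min hQ (by rw [hn']; exact Nat.lt_succ_self n') hQn'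

/-- Minimal smooth presentation of an Artinian object. -/
theorem exists_minimal_presentation_art (hk : Function.Surjective (algebraMap Λ k))
    (R : Art Λ k) :
    ∃ (P : CRing Λ k) (π : HomSet P.carrier P.res R), Function.Surjective π.1 ∧
      IsSmoothFunctor (hR P.carrier P.res) ∧
      RingHom.ker π.1 ≤ IsLocalRing.maximalIdeal P.carrier ^ 2 ⊔
        (RingHom.ker (algebraMap Λ k)).map (algebraMap Λ P.carrier) := by
  classical
  obtain ⟨n, s, hsm, hsgen, hsind⟩ := exists_minimal_gens R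
  let g : MvPolynomial (Fin n) Λ →ₐ[Λ] R := MvPolynomial.aeval s
  have hgX : ∀ i, g (MvPolynomial.X i) = s i := fun i => MvPolynomial.aeval_X s i
  let π₀ : MvPolynomial (Fin n) Λ →ₐ[Λ] k := R.res.comp g
  have hπ₀X : ∀ i, π₀ (MvPolynomial.X i) = 0 := by
    intro i
    change R.res (g (MvPolynomial.X i)) = 0
    rw [hgX, ← Art.mem_maximalIdeal_iff]
    exact hsm i
  have hπ₀ : Function.Surjective π₀ := by
    intro c
    obtain ⟨l, hl⟩ := hk c
    refine ⟨MvPolynomial.C l, ?_⟩
    change R.res (g (MvPolynomial.C l)) = c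
    rw [show g (MvPolynomial.C l) = algebraMap Λ R l from MvPolynomial.aeval_C s l,
      AlgHom.commutes]
    exact hl
  obtain ⟨P, ι, hι, hex, huniq, hsmooth, hmax⟩ := exists_smooth_cring_strong n π₀ hπ₀
  obtain ⟨π, hπ⟩ := hex R g rfl
  have hπιX : ∀ i, π.1 (ι (MvPolynomial.X i)) = s i := fun i =>
    (AlgHom.congr_fun hπ _).trans (hgX i)
  have hresπ : ∀ p, R.res (π.1 p) = P.res p := fun p => AlgHom.congr_fun π.2 p
  -- the maximal ideal of `P`
  have hmP : IsLocalRing.maximalIdeal P.carrier ≤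
      Ideal.span (Set.range fun i => ι (MvPolynomial.X i)) ⊔
        (RingHom.ker (algebraMap Λ k)).map (algebraMap Λ P.carrier) := by
    rw [hmax]
    refine (Ideal.map_mono (ker_le_span_X_sup π₀ hπ₀X)).trans ?_
    rw [Ideal.map_sup, Ideal.map_span, ← Set.range_comp, Ideal.map_map]
    refine sup_le_sup (le_of_eq rfl) (le_of_eq ?_)
    congr 1
    exact ι.comp_algebraMap
  have hXm : ∀ i, ι (MvPolynomial.X i) ∈ IsLocalRing.maximalIdeal P.carrier := by
    intro i
    rw [CRing.mem_maximalIdeal_iff]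
    have e : P.res (ι (MvPolynomial.X i)) = π₀ (MvPolynomial.X i) := AlgHom.congr_fun hι _
    rw [e, hπ₀X]
  have hΛP : (RingHom.ker (algebraMap Λ k)).map (algebraMap Λ P.carrier) ≤
      IsLocalRing.maximalIdeal P.carrier := by
    rw [Ideal.map_le_iff_le_comap]
    intro l hl
    rw [Ideal.mem_comap, CRing.mem_maximalIdeal_iff, AlgHom.commutes]
    exact hl
  have hΛPR : ((RingHom.ker (algebraMap Λ k)).map (algebraMap Λ P.carrier)).map
      (π.1 : P.carrier →+* R) = (RingHom.ker (algebraMap Λ k)).map (algebraMap Λ R) := by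
    rw [Ideal.map_map]
    congr 1
    exact π.1.comp_algebraMap
  -- surjectivity
  have hmRle : IsLocalRing.maximalIdeal R ≤
      (IsLocalRing.maximalIdeal P.carrier).map (π.1 : P.carrier →+* R) := by
    have h1 : IsLocalRing.maximalIdeal R ≤ Ideal.span (Set.range s) ⊔
        (RingHom.ker (algebraMap Λ k)).map (algebraMap Λ R) := by
      refine Submodule.le_of_le_smul_of_le_jacobson_bot (IsNoetherian.noetherian _)
        (I := IsLocalRing.maximalIdeal R) ?_ ?_
      · rw [IsLocalRing.jacobson_eq_maximalIdeal ⊥ bot_ne_top]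
      · rw [smul_eq_mul, ← pow_two]
        refine hsgen.trans (le_of_eq ?_)
        rw [sup_assoc, sup_comm (IsLocalRing.maximalIdeal R ^ 2), ← sup_assoc]
    refine h1.trans (sup_le ?_ ?_)
    · rw [Ideal.span_le]
      rintro _ ⟨i, rfl⟩
      rw [← hπιX i]
      exact Ideal.mem_map_of_mem _ (hXm i)
    · rw [← hΛPR]
      exact Ideal.map_mono hΛP
  have hπs : Function.Surjective π.1 := by
    obtain ⟨N, hN⟩ := exists_pow_le_ker P π
    obtain ⟨B, β, hβs, hβk⟩ := exists_art_quot P (RingHom.ker π.1) (homSet_ker_le P π) N hN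
    obtain ⟨t, ht⟩ := exists_factor β hβs π (le_of_eq hβk)
    have htβ : ∀ p, t (β.1 p) = π.1 p := fun p => AlgHom.congr_fun (congrArg Subtype.val ht) p
    have hts : Function.Surjective t := by
      apply surjective_of_map_maximalIdeal
      refine hmRle.trans ?_
      rw [Ideal.map_le_iff_le_comap]
      intro p hp
      rw [Ideal.mem_comap]
      have e : (π.1 : P.carrier →+* R) p = t.toAlgHom (β.1 p) := (htβ p).symm
      rw [e]
      exact Ideal.mem_map_of_mem _ (homSet_mem_maximalIdeal P β hp)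
    intro r
    obtain ⟨b, rfl⟩ := hts r
    obtain ⟨p, rfl⟩ := hβs b
    exact ⟨p, (htβ p).symm⟩
  refine ⟨P, π, hπs, hsmooth, ?_⟩
  intro p hp
  rw [RingHom.mem_ker] at hp
  have hpm : p ∈ IsLocalRing.maximalIdeal P.carrier := by
    rw [CRing.mem_maximalIdeal_iff, ← hresπ, hp, map_zero]
  obtain ⟨x, hx, y, hy, hxy⟩ := Submodule.mem_sup.mp (hmP hpm)
  obtain ⟨a, ha⟩ := (Ideal.mem_span_range_iff_exists_fun).mp hx
  have hsum : ∑ i, π.1 (a i) * s i ∈ IsLocalRing.maximalIdeal R ^ 2 ⊔
      (RingHom.ker (algebraMap Λ k)).map (algebraMap Λ R) := by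
    have e : ∑ i, π.1 (a i) * s i = - π.1 y := by
      have h0 : π.1 x + π.1 y = 0 := by rw [← map_add, hxy, hp]
      have h1 : π.1 x = ∑ i, π.1 (a i) * s i := by
        rw [← ha, map_sum]
        refine Finset.sum_congr rfl (fun i _ => ?_)
        rw [map_mul, hπιX]
      rw [← h1]
      exact eq_neg_of_add_eq_zero_left h0
    rw [e]
    refine (Ideal.neg_mem_iff _).mpr (Ideal.mem_sup_right ?_)
    rw [← hΛPR]
    exact Ideal.mem_map_of_mem _ hy
  have hai := hsind (fun i => π.1 (a i)) hsum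
  have hai' : ∀ i, a i ∈ IsLocalRing.maximalIdeal P.carrier := by
    intro i
    rw [CRing.mem_maximalIdeal_iff, ← hresπ, ← Art.mem_maximalIdeal_iff]
    exact hai i
  rw [← hxy]
  refine Submodule.add_mem_sup ?_ hy
  rw [← ha, pow_two]
  exact Ideal.sum_mem _ (fun i _ => Ideal.mul_mem_mul (hai' i) (hXm i))

end Groth.Agent.Lib.Helper19.ArtFunMinPres
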