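import Mathlib
import Groth.Prelude.Def_ArtFun5
import Groth.Agent.Lib.Helper15.ComplSurj
import Groth.Agent.Lib.Helper19.ArtFunBasic
import Groth.Agent.Lib.Helper19.ArtFunLength
import Groth.Agent.Lib.Helper19.ArtFunComplete

/-!
# Completion of a Noetherian augmented algebra as a coefficient ring (helper19)

`exists_cring_of_noetherian`: the variant of `ArtFunComplete.exists_cring_of_finiteType_strong`
for an arbitrary Noetherian `Λ`-algebra `A` with a surjection `π : A → k` (same proof).
-/

set_option autoImplicit false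
universe u v

open CategoryTheory

namespace Groth.Agent.Lib.Helper19.ArtFunNoeth

open ArtFun ArtFun.Art
open Groth.Agent.Lib.Helper19.ArtFunBasic
open Groth.Agent.Lib.Helper19.ArtFunComplete

variable {Λ : Type u} {k : Type u} [CommRing Λ] [Field k] [Algebra Λ k]

variable [IsNoetherianRing Λ]

theorem exists_cring_of_noetherian (A : Type u) [CommRing A] [Algebra Λ A]
    [IsNoetherianRing A] (π : A →ₐ[Λ] k) (hπ : Function.Surjective π) :
    ∃ (P : CRing Λ k) (ι : A →ₐ[Λ] P.carrier), P.res.comp ι = π ∧
      (∀ (B : Art Λ k) (φ : A →ₐ[Λ] B), B.res.comp φ = π →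
        ∃ ψ : HomSet P.carrier P.res B, ψ.1.comp ι = φ) ∧
      (∀ (B : Art Λ k) (ψ₁ ψ₂ : HomSet P.carrier P.res B), ψ₁.1.comp ι = ψ₂.1.comp ι →
        ψ₁ = ψ₂) ∧
      IsLocalRing.maximalIdeal P.carrier =
        (RingHom.ker (π : A →+* k)).map (ι : A →+* P.carrier) := by
  classical
  set m : Ideal A := RingHom.ker (π : A →+* k) with hm
  haveI hmax : m.IsMaximal := RingHom.ker_isMaximal_of_surjective (π : A →+* k) hπ
  have fg : m.FG := IsNoetherian.noetherian m
  haveI hmapmax : (m.map (algebraMap A (AdicCompletion m A))).IsMaximal :=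
    AdicCompletion.isMaximal_map_of_le m m le_rfl fg
  haveI hcomp : IsAdicComplete (m.map (algebraMap A (AdicCompletion m A))) (AdicCompletion m A) :=
    AdicCompletion.isAdicComplete_self m fg
  haveI hloc : IsLocalRing (AdicCompletion m A) :=
    isLocalRing_of_isAdicComplete_maximal (m.map (algebraMap A (AdicCompletion m A)))
  have hmeq : IsLocalRing.maximalIdeal (AdicCompletion m A) =
      m.map (algebraMap A (AdicCompletion m A)) := (IsLocalRing.eq_maximalIdeal hmapmax).symm
  -- Noetherian
  have hsurjq : Function.Surjective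
      (algebraMap A (AdicCompletion m A ⧸ m.map (algebraMap A (AdicCompletion m A)))) := by
    intro y
    obtain ⟨p, rfl⟩ := Ideal.Quotient.mk_surjective y
    obtain ⟨a, ha⟩ := exists_sub_mem m fg 1 p
    refine ⟨a, ?_⟩
    rw [IsScalarTower.algebraMap_apply A (AdicCompletion m A)
      (AdicCompletion m A ⧸ m.map (algebraMap A (AdicCompletion m A))),
      Ideal.Quotient.algebraMap_eq, Ideal.Quotient.eq]
    rw [pow_one] at ha
    have := Ideal.neg_mem_iff _ |>.mpr ha
    rwa [neg_sub] at this
  have hB : Algebra.FiniteType A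
      (AdicCompletion m A ⧸ m.map (algebraMap A (AdicCompletion m A))) :=
    Algebra.FiniteType.of_surjective (Algebra.ofId A _) hsurjq
  haveI hnoeth : IsNoetherianRing (AdicCompletion m A) :=
    Groth.Agent.Lib.Helper15.CS.isNoetherianRing_of_isAdicComplete_of_finiteType_quotient
      A m (AdicCompletion m A) hB
  -- the augmentation
  let resP : AdicCompletion m A →ₐ[Λ] k :=
    extend m 1 π (fun a ha => by rw [pow_one] at ha; exact ha)
  have hresP : ∀ a : A, resP (algebraMap A (AdicCompletion m A) a) = π a := fun a =>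
    extend_of m 1 π _ a
  have hresPsurj : Function.Surjective resP := fun c => by
    obtain ⟨a, ha⟩ := hπ c
    exact ⟨algebraMap A (AdicCompletion m A) a, (hresP a).trans ha⟩
  have hcompl : IsAdicComplete (IsLocalRing.maximalIdeal (AdicCompletion m A))
      (AdicCompletion m A) := by
    rw [hmeq]; exact hcomp
  let ι : A →ₐ[Λ] AdicCompletion m A :=
    { toRingHom := algebraMap A (AdicCompletion m A)
      commutes' := fun l => by
        change algebraMap A (AdicCompletion m A) (algebraMap Λ A l) =
          algebraMap Λ (AdicCompletion m A) l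
        rw [AdicCompletion.algebraMap_apply, AdicCompletion.algebraMap_apply]
        rfl }
  have hιapp : ∀ a, ι a = algebraMap A (AdicCompletion m A) a := fun a => rfl
  -- killing
  have hkillmap : ∀ (B : Art Λ k) (ψ : AdicCompletion m A →ₐ[Λ] B), B.res.comp ψ = resP →
      ∀ N, IsLocalRing.maximalIdeal B ^ N = ⊥ →
        ∀ y ∈ (m ^ N).map (algebraMap A (AdicCompletion m A)), ψ y = 0 := by
    intro B ψ hψ N hN
    have h1 : (m ^ N).map (algebraMap A (AdicCompletion m A)) ≤ RingHom.ker ψ := by
      rw [Ideal.map_le_iff_le_comap]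
      intro a ha
      rw [Ideal.mem_comap, RingHom.mem_ker]
      have hφ : B.res.comp (ψ.comp ι) = π := by
        rw [← AlgHom.comp_assoc, hψ]
        exact AlgHom.ext hresP
      exact kill_pow π B (ψ.comp ι) hφ N hN a ha
    intro y hy
    exact h1 hy
  refine ⟨{ carrier := AdicCompletion m A, res := resP, res_surjective := hresPsurj,
            isAdicComplete := hcompl }, ι, AlgHom.ext hresP, ?_, ?_, hmeq⟩
  · intro B φ hφ
    obtain ⟨n, hn⟩ := exists_maximalIdeal_pow_eq_bot B
    have hn' : IsLocalRing.maximalIdeal B ^ (n + 1) = ⊥ := by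
      rw [pow_succ, hn, Ideal.bot_mul]
    have hk := kill_pow π B φ hφ (n + 1) hn'
    let ψ₀ : AdicCompletion m A →ₐ[Λ] B := extend m (n + 1) φ hk
    have hψ₀ : ∀ a, ψ₀ (algebraMap A (AdicCompletion m A) a) = φ a := fun a =>
      extend_of m (n + 1) φ hk a
    have hψ₀kill : ∀ y ∈ (m ^ (n + 1)).map (algebraMap A (AdicCompletion m A)), ψ₀ y = 0 := by
      have h1 : (m ^ (n + 1)).map (algebraMap A (AdicCompletion m A)) ≤ RingHom.ker ψ₀ := by
        rw [Ideal.map_le_iff_le_comap]
        intro a ha
        rw [Ideal.mem_comap, RingHom.mem_ker, hψ₀]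
        exact hk a ha
      intro y hy
      exact h1 hy
    have hresPkill : ∀ y ∈ (m ^ (n + 1)).map (algebraMap A (AdicCompletion m A)), resP y = 0 := by
      have h1 : (m ^ (n + 1)).map (algebraMap A (AdicCompletion m A)) ≤ RingHom.ker resP := by
        rw [Ideal.map_le_iff_le_comap]
        intro a ha
        rw [Ideal.mem_comap, RingHom.mem_ker, hresP]
        exact Ideal.pow_le_self (Nat.succ_ne_zero n) ha
      intro y hy
      exact h1 hy
    have hres : B.res.comp ψ₀ = resP := by
      apply AlgHom.ext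
      intro x
      obtain ⟨a, ha⟩ := exists_sub_mem m fg (n + 1) x
      have hx : x = algebraMap A (AdicCompletion m A) a +
          (x - algebraMap A (AdicCompletion m A) a) := by ring
      change B.res (ψ₀ x) = resP x
      rw [hx, map_add, map_add, map_add, hψ₀kill _ ha, hresPkill _ ha, hψ₀, hresP, map_zero,
        add_zero, add_zero]
      exact AlgHom.congr_fun hφ a
    refine ⟨⟨ψ₀, hres⟩, ?_⟩
    apply AlgHom.ext
    intro a
    exact hψ₀ a
  · intro B ψ₁ ψ₂ h
    obtain ⟨n, hn⟩ := exists_maximalIdeal_pow_eq_bot B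
    apply Subtype.ext
    apply AlgHom.ext
    intro x
    obtain ⟨a, ha⟩ := exists_sub_mem m fg n x
    have hx : x = algebraMap A (AdicCompletion m A) a +
        (x - algebraMap A (AdicCompletion m A) a) := by ring
    have e1 := hkillmap B ψ₁.1 ψ₁.2 n hn _ ha
    have e2 := hkillmap B ψ₂.1 ψ₂.2 n hn _ ha
    have e3 : ψ₁.1 (algebraMap A (AdicCompletion m A) a) =
        ψ₂.1 (algebraMap A (AdicCompletion m A) a) := AlgHom.congr_fun h a
    rw [hx, map_add, map_add, e1, e2, e3]

end Groth.Agent.Lib.Helper19.ArtFunNoeth
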