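import Mathlib

/-!
# Elements of a pullback of `Type`-valued functors (helper19)

For `f : H ⟶ F`, `g : G ⟶ F` natural transformations of functors `D ⥤ Type v`:
* `pb_ext`: elements of `(pullback f g).obj X` are determined by their two components;
* `pb_exists`: every compatible pair of components comes from an element.
-/

set_option autoImplicit false
universe v u₂ v₂

open CategoryTheory CategoryTheory.Limits

namespace Groth.Agent.Lib.Helper19.ArtFunPullback

variable {D : Type u₂} [Category.{v₂} D] {F G H : D ⥤ Type v} (f : H ⟶ F) (g : G ⟶ F)

theorem fst_objIso (X : D) (z : (pullback f g).obj X) :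
    pullback.fst (f.app X) (g.app X) ((pullbackObjIso f g X).hom z) =
      (pullback.fst f g).app X z := by
  have := ConcreteCategory.congr_hom (pullbackObjIso_hom_comp_fst f g X) z
  exact this

theorem snd_objIso (X : D) (z : (pullback f g).obj X) :
    pullback.snd (f.app X) (g.app X) ((pullbackObjIso f g X).hom z) =
      (pullback.snd f g).app X z := by
  have := ConcreteCategory.congr_hom (pullbackObjIso_hom_comp_snd f g X) z
  exact this

theorem pb_ext (X : D) (z₁ z₂ : (pullback f g).obj X)
    (h1 : (pullback.fst f g).app X z₁ = (pullback.fst f g).app X z₂)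
    (h2 : (pullback.snd f g).app X z₁ = (pullback.snd f g).app X z₂) : z₁ = z₂ := by
  have inj1 : Function.Injective (pullbackObjIso f g X).hom :=
    ((isIso_iff_bijective _).mp inferInstance).1
  have inj2 : Function.Injective (Types.pullbackIsoPullback (f.app X) (g.app X)).hom :=
    ((isIso_iff_bijective _).mp inferInstance).1
  apply inj1
  apply inj2
  apply Subtype.ext
  apply Prod.ext
  · rw [Types.pullbackIsoPullback_hom_fst, Types.pullbackIsoPullback_hom_fst, fst_objIso,
      fst_objIso, h1]
  · rw [Types.pullbackIsoPullback_hom_snd, Types.pullbackIsoPullback_hom_snd, snd_objIso,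
      snd_objIso, h2]

theorem pb_exists (X : D) (h : H.obj X) (g' : G.obj X) (hc : f.app X h = g.app X g') :
    ∃ z : (pullback f g).obj X, (pullback.fst f g).app X z = h ∧
      (pullback.snd f g).app X z = g' := by
  let p : Types.PullbackObj (f.app X) (g.app X) := ⟨(h, g'), hc⟩
  let w := (Types.pullbackIsoPullback (f.app X) (g.app X)).inv p
  have hw : (Types.pullbackIsoPullback (f.app X) (g.app X)).hom w = p := by
    change ((Types.pullbackIsoPullback (f.app X) (g.app X)).inv ≫
      (Types.pullbackIsoPullback (f.app X) (g.app X)).hom) p = p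
    rw [Iso.inv_hom_id]
    rfl
  let z := (pullbackObjIso f g X).inv w
  have hz : (pullbackObjIso f g X).hom z = w := by
    change ((pullbackObjIso f g X).inv ≫ (pullbackObjIso f g X).hom) w = w
    rw [Iso.inv_hom_id]
    rfl
  refine ⟨z, ?_, ?_⟩
  · rw [← fst_objIso, hz, ← Types.pullbackIsoPullback_hom_fst, hw]
  · rw [← snd_objIso, hz, ← Types.pullbackIsoPullback_hom_snd, hw]

theorem pb_condition (X : D) (z : (pullback f g).obj X) :
    f.app X ((pullback.fst f g).app X z) = g.app X ((pullback.snd f g).app X z) := by
  have h : pullback.fst f g ≫ f = pullback.snd f g ≫ g := pullback.condition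
  have := congrArg (fun t => (t.app X) z) h
  exact this

end Groth.Agent.Lib.Helper19.ArtFunPullback
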