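import Mathlib
import Groth.Prelude.Def_ArtFun2
import Groth.Prelude.Def_ArtFun3
import Groth.Agent.Lib.Helper19.ArtFunBasic
import Groth.Agent.Lib.Helper19.ArtFunLength

/-!
# Square-zero objects with a section, and `Heps` (helper19)

* `exists_dualHom`: for `E` with a section `σ : k → E`, `m_E² = 0` and `0 ≠ t ∈ m_E`, a morphism
  `r : E → k[ε]` making `E` the fibre product of `E/(t)` and `k[ε]` over `k`;
* `bij_of_iso`, `bij_step`, `bijective_cmp_sqZero`: under `Heps`, the comparison map of
  `A ×_k E` is bijective for all such `E`.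
-/

set_option autoImplicit false
universe u v

open CategoryTheory

namespace Groth.Agent.Lib.Helper19.ArtFunSqZero

open ArtFun ArtFun.Art Groth.Agent.Lib.Helper19.ArtFunBasic Groth.Agent.Lib.Helper19.ArtFunLength

variable {Λ : Type u} {k : Type u} [CommRing Λ] [Field k] [Algebra Λ k]

theorem res_section {E : Art Λ k} (σ : base Λ k ⟶ E) (c : k) : E.res (σ c) = c :=
  res_app σ c

theorem sub_section_mem {E : Art Λ k} (σr : k →+* E) (hσres : ∀ c, E.res (σr c) = c) (e : E) :
    e - σr (E.res e) ∈ IsLocalRing.maximalIdeal E := by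
  rw [mem_maximalIdeal_iff, map_sub, hσres, sub_self]

theorem mul_eq_zero_of_sq {E : Art Λ k} (hE : IsLocalRing.maximalIdeal E ^ 2 = ⊥) {x y : E}
    (hx : x ∈ IsLocalRing.maximalIdeal E) (hy : y ∈ IsLocalRing.maximalIdeal E) : x * y = 0 := by
  have : x * y ∈ IsLocalRing.maximalIdeal E ^ 2 := by
    rw [pow_two]; exact Ideal.mul_mem_mul hx hy
  rw [hE] at this
  exact this

/-- The projection of a square-zero object with a section onto `k[ε]` along a functional. -/
theorem exists_dualHom' {E : Art Λ k} (σr : k →+* E) (hσres : ∀ c, E.res (σr c) = c)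
    (hσalg : ∀ l : Λ, σr (algebraMap Λ k l) = algebraMap Λ E l)
    (hE : IsLocalRing.maximalIdeal E ^ 2 = ⊥) (t : E) (ht : t ∈ IsLocalRing.maximalIdeal E)
    (ht0 : t ≠ 0) :
    ∃ r : E ⟶ dual Λ k, ∀ (hK : Ideal.span {t} ≤ IsLocalRing.maximalIdeal E),
      IsFibreProd (quotMk E (Ideal.span {t}) hK) r (toBase _) (toBase (dual Λ k)) := by
  classical
  let V := ↥(IsLocalRing.maximalIdeal E)
  letI : Module k V := Module.compHom V σr
  have hsmul : ∀ (c : k) (v : V), ((c • v : V) : E) = σr c * (v : E) := fun c v => rfl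
  have htV : (⟨t, ht⟩ : V) ≠ 0 := fun h => ht0 (congrArg Subtype.val h)
  obtain ⟨φ, hφ⟩ := Module.Projective.exists_dual_eq_one k htV
  let vv : E → V := fun e => ⟨e - σr (E.res e), sub_section_mem σr hσres e⟩
  have hvv_add : ∀ e e', vv (e + e') = vv e + vv e' := by
    intro e e'
    apply Subtype.ext
    change (e + e') - σr (E.res (e + e')) = (e - σr (E.res e)) + (e' - σr (E.res e'))
    rw [map_add, map_add]; ring
  have hvv_mul : ∀ e e', vv (e * e') = E.res e • vv e' + E.res e' • vv e := by
    intro e e'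
    apply Subtype.ext
    change (e * e') - σr (E.res (e * e')) =
      σr (E.res e) * (e' - σr (E.res e')) + σr (E.res e') * (e - σr (E.res e))
    have h0 : (e - σr (E.res e)) * (e' - σr (E.res e')) = 0 :=
      mul_eq_zero_of_sq hE (sub_section_mem σr hσres e) (sub_section_mem σr hσres e')
    rw [map_mul, map_mul]
    linear_combination h0
  have hvv_sec : ∀ c : k, vv (σr c) = 0 := by
    intro c
    apply Subtype.ext
    change σr c - σr (E.res (σr c)) = 0
    rw [hσres, sub_self]
  let r₀ : E →ₐ[Λ] DualNumber k :=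
    { toFun := fun e => (E.res e, φ (vv e))
      map_one' := by
        have h1 : vv 1 = 0 := by
          have := hvv_sec 1
          rwa [map_one] at this
        refine TrivSqZeroExt.ext ?_ ?_
        · exact map_one E.res
        · change φ (vv 1) = 0
          rw [h1, map_zero]
      map_mul' := by
        intro e e'
        refine TrivSqZeroExt.ext ?_ ?_
        · exact map_mul E.res e e'
        · change φ (vv (e * e')) = E.res e • φ (vv e') + MulOpposite.op (E.res e') • φ (vv e)
          rw [hvv_mul, map_add, map_smul, map_smul, op_smul_eq_smul]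
      map_zero' := by
        have h1 : vv 0 = 0 := by
          have := hvv_sec 0
          rwa [map_zero] at this
        refine TrivSqZeroExt.ext ?_ ?_
        · exact map_zero E.res
        · change φ (vv 0) = 0
          rw [h1, map_zero]
      map_add' := by
        intro e e'
        refine TrivSqZeroExt.ext ?_ ?_
        · exact map_add E.res e e'
        · change φ (vv (e + e')) = φ (vv e) + φ (vv e')
          rw [hvv_add, map_add]
      commutes' := by
        intro l
        have h1 : vv (algebraMap Λ E l) = 0 := by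
          rw [← hσalg]; exact hvv_sec _
        refine TrivSqZeroExt.ext ?_ ?_
        · exact E.res.commutes l
        · change φ (vv (algebraMap Λ E l)) = 0
          rw [h1, map_zero] }
  have hr₀ : ∀ e, r₀ e = (E.res e, φ (vv e)) := fun e => rfl
  let r : E ⟶ dual Λ k := ⟨r₀, AlgHom.ext fun e => rfl⟩
  have hr : ∀ e, r e = (E.res e, φ (vv e)) := fun e => rfl
  refine ⟨r, fun hK => ⟨?_, ?_, ?_⟩⟩
  · rw [eq_toBase (quotMk E _ hK ≫ toBase _), eq_toBase (r ≫ toBase _)]
  · intro e₁ e₂ h1 h2
    have hd : e₁ - e₂ ∈ Ideal.span {t} := Ideal.Quotient.eq.mp h1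
    obtain ⟨b, hb⟩ := Ideal.mem_span_singleton'.mp hd
    have hres : E.res e₁ = E.res e₂ := congrArg TrivSqZeroExt.fst h2
    have hφeq : φ (vv e₁) = φ (vv e₂) := congrArg TrivSqZeroExt.snd h2
    have hvd : vv e₁ - vv e₂ = E.res b • (⟨t, ht⟩ : V) := by
      apply Subtype.ext
      change (e₁ - σr (E.res e₁)) - (e₂ - σr (E.res e₂)) = σr (E.res b) * t
      have h0 : (b - σr (E.res b)) * t = 0 := mul_eq_zero_of_sq hE (sub_section_mem σr hσres b) ht
      rw [hres]
      linear_combination hb.symm + h0
    have hb0 : E.res b = 0 := by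
      have := congrArg φ hvd
      rw [map_sub, hφeq, sub_self, map_smul, hφ, smul_eq_mul, mul_one] at this
      exact this.symm
    have hbm : b ∈ IsLocalRing.maximalIdeal E := (mem_maximalIdeal_iff E b).2 hb0
    have : e₁ - e₂ = 0 := by
      rw [← hb]; exact mul_eq_zero_of_sq hE hbm ht
    exact sub_eq_zero.mp this
  · intro a' a'' h
    obtain ⟨e₁, rfl⟩ := quotMk_surjective E _ hK a'
    have hres : E.res e₁ = a''.fst := by
      have h' : (quot E _ hK).res (quotMk E _ hK e₁) = a''.fst := h
      rw [res_app] at h'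
      exact h'
    let c : k := a''.snd - φ (vv e₁)
    refine ⟨e₁ + σr c * t, ?_, ?_⟩
    · apply Ideal.Quotient.eq.mpr
      rw [add_sub_cancel_left]
      exact Ideal.mul_mem_left _ _ (Ideal.subset_span rfl)
    · have htres : E.res t = 0 := (mem_maximalIdeal_iff E t).1 ht
      have h1 : E.res (e₁ + σr c * t) = E.res e₁ := by
        rw [map_add, map_mul, htres, mul_zero, add_zero]
      have h2 : vv (e₁ + σr c * t) = vv e₁ + c • (⟨t, ht⟩ : V) := by
        apply Subtype.ext
        change (e₁ + σr c * t) - σr (E.res (e₁ + σr c * t)) = (e₁ - σr (E.res e₁)) + σr c * t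
        rw [h1]; ring
      rw [hr, h1, h2, map_add, map_smul, hφ, smul_eq_mul, mul_one]
      refine TrivSqZeroExt.ext hres ?_
      change φ (vv e₁) + c = a''.snd
      simp only [c]
      ring

theorem exists_dualHom {E : Art Λ k} (σ : base Λ k ⟶ E)
    (hE : IsLocalRing.maximalIdeal E ^ 2 = ⊥) (t : E) (ht : t ∈ IsLocalRing.maximalIdeal E)
    (ht0 : t ≠ 0) :
    ∃ r : E ⟶ dual Λ k, ∀ (hK : Ideal.span {t} ≤ IsLocalRing.maximalIdeal E),
      IsFibreProd (quotMk E (Ideal.span {t}) hK) r (toBase _) (toBase (dual Λ k)) := by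
  let σr : k →+* E := AlgHom.toRingHom σ.toAlgHom
  have h1 : ∀ c, E.res (σr c) = c := fun c => res_section σ c
  have h2 : ∀ l : Λ, σr (algebraMap Λ k l) = algebraMap Λ E l := by
    intro l
    exact AlgHom.commutes σ.toAlgHom l
  exact exists_dualHom' σr h1 h2 hE t ht ht0

section Functor

variable {F : Art Λ k ⥤ Type v}

/-- the property to be established -/
def PP (F : Art Λ k ⥤ Type v) (E : Art Λ k) : Prop :=
  ∀ ⦃B A : Art Λ k⦄ (p' : B ⟶ A) (p'' : B ⟶ E)
    (h : IsFibreProd p' p'' (toBase A) (toBase E)), Function.Bijective (cmp F h)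

theorem map_map {X Y Z : Art Λ k} (f : X ⟶ Y) (g : Y ⟶ Z) (w : F.obj X) :
    F.map g (F.map f w) = F.map (f ≫ g) w := by
  rw [F.map_comp]; rfl

/-- base case: `E → k` bijective -/
theorem PP_of_bijective (E : Art Λ k) (hE : Function.Bijective (toBase E)) : PP F E := by
  intro B A p' p'' h
  haveI : IsIso (toBase E) := isIso_of_bijective _ hE
  have hp' : Function.Bijective p' := by
    constructor
    · intro b₁ b₂ hb
      apply h.inj b₁ b₂ hb
      apply hE.1
      rw [← h.w_apply, ← h.w_apply]
      exact congrArg _ hb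
    · intro a'
      obtain ⟨a'', ha''⟩ := hE.2 (toBase A a')
      obtain ⟨b, hb, -⟩ := h.surj a' a'' ha''.symm
      exact ⟨b, hb⟩
  haveI : IsIso p' := isIso_of_bijective p' hp'
  have hinjF : Function.Injective (F.map p') := by
    have : IsIso (F.map p') := inferInstance
    exact ((isIso_iff_bijective (F.map p')).mp this).1
  have hinjE : Function.Injective (F.map (toBase E)) := by
    have : IsIso (F.map (toBase E)) := inferInstance
    exact ((isIso_iff_bijective (F.map (toBase E))).mp this).1
  constructor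
  · intro z₁ z₂ hz
    apply hinjF
    exact congrArg (fun t => t.1.1) hz
  · intro x
    refine ⟨F.map (inv p') x.1.1, ?_⟩
    have h1 : F.map p' (F.map (inv p') x.1.1) = x.1.1 := by
      rw [map_map, IsIso.inv_hom_id, F.map_id]
      rfl
    apply FibProd.ext
    · exact h1
    · change F.map p'' (F.map (inv p') x.1.1) = x.1.2
      apply hinjE
      have h2 : F.map (toBase E) (F.map p'' (F.map (inv p') x.1.1)) =
          F.map (toBase A) (F.map p' (F.map (inv p') x.1.1)) := by
        rw [map_map, map_map (f := p'), h.w]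
      rw [h2, h1]
      exact x.2

variable [IsNoetherianRing Λ] [Module.Finite Λ k]

/-- inductive step: `E = E' ×_k k[ε]` -/
theorem PP_step (hF : Heps F) {E E' : Art Λ k} (q : E ⟶ E') (r : E ⟶ dual Λ k)
    (hE : IsFibreProd q r (toBase E') (toBase (dual Λ k))) (hE' : PP F E') : PP F E := by
  intro B A p' p'' h
  obtain ⟨B', s', s'', hB'⟩ := exists_isFibreProd (toBase A) (toBase E') E'.res_surjective
  -- the map `u : B ⟶ B'`
  have hφ : (toBase A).toAlgHom.comp p'.toAlgHom =
      (toBase E').toAlgHom.comp (q.toAlgHom.comp p''.toAlgHom) := by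
    have h1 : p' ≫ toBase A = (p'' ≫ q) ≫ toBase E' := by
      rw [eq_toBase (p' ≫ toBase A), eq_toBase ((p'' ≫ q) ≫ toBase E')]
    exact congrArg Art.Hom.toAlgHom h1
  obtain ⟨u₀, hu₁, hu₂⟩ := exists_lift_of_isFibreProd hB' p'.toAlgHom
    (q.toAlgHom.comp p''.toAlgHom) hφ
  have hures : B'.res.comp u₀ = B.res := by
    rw [← s'.res_comp, AlgHom.comp_assoc, hu₁, p'.res_comp]
  let u : B ⟶ B' := Art.homMk u₀ hures
  have hu₁' : u ≫ s' = p' := Art.hom_ext hu₁
  have hu₂' : u ≫ s'' = p'' ≫ q := Art.hom_ext hu₂
  have hu₁a : ∀ b, s' (u b) = p' b := fun b => AlgHom.congr_fun hu₁ b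
  have hu₂a : ∀ b, s'' (u b) = q (p'' b) := fun b => AlgHom.congr_fun hu₂ b
  have hsq : IsFibreProd u (p'' ≫ r) (toBase B') (toBase (dual Λ k)) := by
    refine ⟨?_, ?_, ?_⟩
    · rw [eq_toBase (u ≫ toBase B'), eq_toBase ((p'' ≫ r) ≫ toBase _)]
    · intro b₁ b₂ h1 h2
      apply h.inj
      · rw [← hu₁a, ← hu₁a, h1]
      · apply hE.inj
        · rw [← hu₂a, ← hu₂a, h1]
        · exact h2
    · intro b' d hb'd
      have hb'd' : B'.res b' = (dual Λ k).res d := hb'd
      have h1 : toBase E' (s'' b') = toBase (dual Λ k) d := by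
        change E'.res (s'' b') = (dual Λ k).res d
        rw [res_app, hb'd']
      obtain ⟨e, he1, he2⟩ := hE.surj (s'' b') d h1
      have h2 : toBase A (s' b') = toBase E e := by
        change A.res (s' b') = E.res e
        rw [res_app, ← res_app q e, he1, res_app]
      obtain ⟨b, hb1, hb2⟩ := h.surj (s' b') e h2
      refine ⟨b, ?_, ?_⟩
      · apply hB'.inj
        · rw [hu₁a, hb1]
        · rw [hu₂a, hb2, he1]
      · change r (p'' b) = d
        rw [hb2, he2]
  have hEbij := hF q r hE
  have hBbij := hF u (p'' ≫ r) hsq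
  have hB'bij := hE' s' s'' hB'
  constructor
  · intro z₁ z₂ hz
    have hz1 : F.map p' z₁ = F.map p' z₂ := congrArg (fun t => t.1.1) hz
    have hz2 : F.map p'' z₁ = F.map p'' z₂ := congrArg (fun t => t.1.2) hz
    apply hBbij.1
    apply FibProd.ext
    · change F.map u z₁ = F.map u z₂
      apply hB'bij.1
      apply FibProd.ext
      · change F.map s' (F.map u z₁) = F.map s' (F.map u z₂)
        rw [map_map, map_map, hu₁', hz1]
      · change F.map s'' (F.map u z₁) = F.map s'' (F.map u z₂)
        rw [map_map, map_map, hu₂', ← map_map, ← map_map, hz2]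
    · change F.map (p'' ≫ r) z₁ = F.map (p'' ≫ r) z₂
      rw [← map_map, ← map_map, hz2]
  · intro x
    have hx : F.map (toBase A) x.1.1 = F.map (toBase E) x.1.2 := x.2
    have hqE : q ≫ toBase E' = toBase E := eq_toBase _
    have hrE : r ≫ toBase (dual Λ k) = toBase E := eq_toBase _
    have hx' : F.map (toBase A) x.1.1 = F.map (toBase E') (F.map q x.1.2) := by
      rw [map_map, hqE]; exact hx
    obtain ⟨w, hw⟩ := hB'bij.2 ⟨(x.1.1, F.map q x.1.2), hx'⟩
    have hw1 : F.map s' w = x.1.1 := congrArg (fun t => t.1.1) hw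
    have hw2 : F.map s'' w = F.map q x.1.2 := congrArg (fun t => t.1.2) hw
    have hs'B : s' ≫ toBase A = toBase B' := eq_toBase _
    have hwd : F.map (toBase B') w = F.map (toBase (dual Λ k)) (F.map r x.1.2) := by
      rw [map_map, hrE, ← hs'B, ← map_map, hw1]; exact hx
    obtain ⟨z, hz⟩ := hBbij.2 ⟨(w, F.map r x.1.2), hwd⟩
    have hz1 : F.map u z = w := congrArg (fun t => t.1.1) hz
    have hz2 : F.map (p'' ≫ r) z = F.map r x.1.2 := congrArg (fun t => t.1.2) hz
    refine ⟨z, ?_⟩
    apply FibProd.ext
    · change F.map p' z = x.1.1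
      rw [← hu₁', ← map_map, hz1, hw1]
    · change F.map p'' z = x.1.2
      apply hEbij.1
      apply FibProd.ext
      · change F.map q (F.map p'' z) = F.map q x.1.2
        rw [map_map, ← hu₂', ← map_map, hz1, hw2]
      · change F.map r (F.map p'' z) = F.map r x.1.2
        rw [map_map, hz2]

/-- Under `Heps`, the comparison map of `A ×_k E` is bijective for every square-zero `E` with a
section. -/
theorem PP_sqZero (hF : Heps F) (n : ℕ) :
    ∀ (E : Art Λ k) (σ : base Λ k ⟶ E) (hE : IsLocalRing.maximalIdeal E ^ 2 = ⊥)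
      (S : Finset E), S.card ≤ n → Ideal.span (S : Set E) = IsLocalRing.maximalIdeal E →
      PP F E := by
  classical
  induction n with
  | zero =>
    intro E σ hE S hS hspan
    have hS0 : S = ∅ := Finset.card_eq_zero.mp (Nat.le_zero.mp hS)
    rw [hS0, Finset.coe_empty, Ideal.span_empty] at hspan
    apply PP_of_bijective
    constructor
    · intro e₁ e₂ he
      have he' : E.res e₁ = E.res e₂ := he
      have : e₁ - e₂ ∈ IsLocalRing.maximalIdeal E := by
        rw [mem_maximalIdeal_iff, map_sub, he', sub_self]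
      rw [← hspan] at this
      exact sub_eq_zero.mp this
    · exact E.res_surjective
  | succ n ih =>
    intro E σ hE S hS hspan
    by_cases hSe : S = ∅
    · exact ih E σ hE S (by rw [hSe]; simp) hspan
    obtain ⟨t, htS⟩ := Finset.nonempty_iff_ne_empty.mpr hSe
    have htm : t ∈ IsLocalRing.maximalIdeal E := by
      rw [← hspan]; exact Ideal.subset_span htS
    by_cases ht0 : t = 0
    · -- drop `t`
      refine ih E σ hE (S.erase t) ?_ ?_
      · rw [Finset.card_erase_of_mem htS]; omega
      · rw [← hspan]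
        apply le_antisymm (Ideal.span_mono (Finset.coe_subset.mpr (Finset.erase_subset t S)))
        rw [Ideal.span_le]
        intro s hs
        by_cases hst : s = t
        · rw [hst, ht0]; exact Ideal.zero_mem _
        · exact Ideal.subset_span (Finset.mem_coe.mpr (Finset.mem_erase.mpr ⟨hst, hs⟩))
    · have hK : Ideal.span {t} ≤ IsLocalRing.maximalIdeal E := by
        rw [Ideal.span_le, Set.singleton_subset_iff]; exact htm
      obtain ⟨r, hr⟩ := exists_dualHom σ hE t htm ht0
      let E' := quot E (Ideal.span {t}) hK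
      let q : E ⟶ E' := quotMk E _ hK
      have hqs : Function.Surjective q := quotMk_surjective E _ hK
      have hmE' : IsLocalRing.maximalIdeal E' =
          Ideal.map q.toAlgHom (IsLocalRing.maximalIdeal E) := by
        apply le_antisymm
        · intro x hx
          obtain ⟨e, rfl⟩ := hqs x
          exact Ideal.mem_map_of_mem _ ((quotMk_mem_maximalIdeal_iff E _ hK e).mp hx)
        · exact map_maximalIdeal_le q
      refine PP_step hF q r (hr hK) (ih E' (σ ≫ q) ?_ ((S.erase t).image q) ?_ ?_)
      · rw [hmE', ← Ideal.map_pow, hE, Ideal.map_bot]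
      · refine le_trans Finset.card_image_le ?_
        rw [Finset.card_erase_of_mem htS]; omega
      · rw [hmE', ← hspan, Ideal.map_span]
        apply le_antisymm
        · apply Ideal.span_mono
          intro x hx
          rw [Finset.coe_image] at hx
          obtain ⟨s, hs, rfl⟩ := hx
          exact ⟨s, Finset.mem_coe.mpr (Finset.mem_of_mem_erase (Finset.mem_coe.mp hs)), rfl⟩
        · rw [Ideal.span_le]
          rintro x ⟨s, hs, rfl⟩
          by_cases hst : s = t
          · have : q.toAlgHom s = 0 := by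
              rw [hst]
              exact (quotMk_eq_zero_iff E _ hK t).mpr (Ideal.subset_span rfl)
            rw [this]; exact Ideal.zero_mem _
          · apply Ideal.subset_span
            rw [Finset.coe_image]
            exact ⟨s, Finset.mem_coe.mpr (Finset.mem_erase.mpr ⟨hst, hs⟩), rfl⟩

theorem bijective_cmp_sqZero (hF : Heps F) {E : Art Λ k} (hσ : Nonempty (base Λ k ⟶ E))
    (hE : IsLocalRing.maximalIdeal E ^ 2 = ⊥) : PP F E := by
  obtain ⟨σ⟩ := hσ
  obtain ⟨S, hS⟩ := (IsNoetherian.noetherian (IsLocalRing.maximalIdeal E) :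
    (IsLocalRing.maximalIdeal E).FG)
  exact PP_sqZero hF S.card E σ hE S le_rfl hS

end Functor

end Groth.Agent.Lib.Helper19.ArtFunSqZero
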