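import Mathlib
import Groth.Agent.Lib.Helper19.AvgLift3

/-!
# Conjugacy of congruent homomorphisms, by averaging (helper19)

`C` a formally smooth commutative Hopf algebra over `R`, `A` a commutative Hopf algebra with a
normalised invariant integral, `K` a nilpotent ideal of `R`.  Two bialgebra maps `C → A` which are
congruent modulo `K` are conjugate under a point of `Spec C` with values in `R` congruent to the
unit modulo `K` (`exists_conj`; SGA 3 IX 3.3 in Hopf-algebra form).
-/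

set_option autoImplicit false

open TensorProduct WithConv

namespace Groth.Agent.Lib.Helper19.AvgLift

section Monoid

variable {R : Type*} [CommRing R] {C : Type*} [CommRing C] [HopfAlgebra R C]
  {T : Type*} [CommRing T] [Algebra R T] {T' : Type*} [CommRing T'] [Algebra R T']

lemma cinv_mul_cancel_left (x y : WithConv (C →ₐ[R] T)) : cinv x * (x * y) = y := by
  rw [← mul_assoc, cinv_mul, one_mul]

lemma mul_cinv_cancel_left (x y : WithConv (C →ₐ[R] T)) : x * (cinv x * y) = y := by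
  rw [← mul_assoc, mul_cinv, one_mul]

lemma cinv_mul_rev (x y : WithConv (C →ₐ[R] T)) : cinv (x * y) = cinv y * cinv x := by
  refine left_inv_eq_right_inv (cinv_mul (x * y)) ?_
  rw [mul_assoc, mul_cinv_cancel_left, mul_cinv]

lemma cinv_one : cinv (1 : WithConv (C →ₐ[R] T)) = 1 := by
  have h := mul_cinv (1 : WithConv (C →ₐ[R] T))
  rwa [one_mul] at h

lemma V_push {K : Ideal R} (g : T →ₐ[R] T') {x y : WithConv (C →ₐ[R] T)}
    (h : V K (lin x - lin y)) : V K (lin (push g x) - lin (push g y)) := by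
  have e : lin (push g x) - lin (push g y) =
      toConv (g.toLinearMap ∘ₗ (lin x - lin y).ofConv) := by
    apply WithConv.ext
    ext c
    change g (x.ofConv c) - g (y.ofConv c) = g (x.ofConv c - y.ofConv c)
    rw [map_sub]
  rw [e]
  exact V.comp g.toLinearMap h

lemma V_conj {K : Ideal R} (p q : WithConv (C →ₐ[R] T)) {x y : WithConv (C →ₐ[R] T)}
    (h : V K (lin x - lin y)) : V K (lin (p * x * q) - lin (p * y * q)) := by
  have e : lin (p * x * q) - lin (p * y * q) = lin p * (lin x - lin y) * lin q := by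
    rw [lin_mul, lin_mul, lin_mul, lin_mul, mul_sub, sub_mul]
  rw [e]
  exact (h.mul_left (lin p)).mul_right (lin q)

lemma V_cinv {K : Ideal R} {x : WithConv (C →ₐ[R] T)} (h : V K (lin x - 1)) :
    V K (lin (cinv x) - 1) := by
  have e : lin (cinv x) - 1 = -(lin (cinv x) * (lin x - 1)) := by
    rw [mul_sub, ← lin_mul, cinv_mul, lin_one, mul_one]; abel
  rw [e]
  exact (h.mul_left _).neg

lemma V_mul_one {K : Ideal R} {x y : WithConv (C →ₐ[R] T)} (hx : V K (lin x - 1))
    (hy : V K (lin y - 1)) : V K (lin (x * y) - 1) := by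
  have e : lin (x * y) - 1 = (lin x - 1) * lin y + (lin y - 1) := by
    rw [lin_mul, sub_mul, one_mul]; abel
  rw [e]
  exact (hx.mul_right _).add hy

/-- the constant point -/
noncomputable def cst (T : Type*) [CommRing T] [Algebra R T] (g : WithConv (C →ₐ[R] R)) :
    WithConv (C →ₐ[R] T) := push (Algebra.ofId R T) g

lemma push_cst (u : T →ₐ[R] T') (g : WithConv (C →ₐ[R] R)) : push u (cst T g) = cst T' g := by
  unfold cst
  rw [push_push, show u.comp (Algebra.ofId R T) = Algebra.ofId R T' from Subsingleton.elim _ _]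

lemma cst_mul (g g' : WithConv (C →ₐ[R] R)) : cst T (g * g') = cst T g * cst T g' :=
  map_mul _ _ _

lemma cst_one : cst T (1 : WithConv (C →ₐ[R] R)) = 1 := map_one _

/-- conjugation by a constant point -/
noncomputable def conj (g : WithConv (C →ₐ[R] R)) (x : WithConv (C →ₐ[R] T)) :
    WithConv (C →ₐ[R] T) := cst T g * x * cinv (cst T g)

lemma conj_mul (g : WithConv (C →ₐ[R] R)) (x y : WithConv (C →ₐ[R] T)) :
    conj g (x * y) = conj g x * conj g y := by
  unfold conj
  simp only [mul_assoc, cinv_mul_cancel_left]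

lemma push_conj (u : T →ₐ[R] T') (g : WithConv (C →ₐ[R] R)) (x : WithConv (C →ₐ[R] T)) :
    push u (conj g x) = conj g (push u x) := by
  unfold conj
  rw [map_mul, map_mul, push_cinv, push_cst]

lemma conj_conj (g g' : WithConv (C →ₐ[R] R)) (x : WithConv (C →ₐ[R] T)) :
    conj g (conj g' x) = conj (g * g') x := by
  unfold conj
  rw [cst_mul, cinv_mul_rev]
  simp only [mul_assoc]

lemma conj_one (x : WithConv (C →ₐ[R] T)) : conj 1 x = x := by
  unfold conj
  rw [cst_one, cinv_one, one_mul, mul_one]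

lemma V_conj_sub {K : Ideal R} {g : WithConv (C →ₐ[R] R)} (hg : V K (lin g - 1))
    (x : WithConv (C →ₐ[R] T)) : V K (lin (conj g x) - lin x) := by
  have h1 : V K (lin (cst T g) - 1) := by
    have := V_push (Algebra.ofId R T) (x := g) (y := 1) (by rwa [lin_one])
    rwa [map_one, lin_one] at this
  have h2 := V_cinv h1
  have e : lin (conj g x) - lin x = (lin (cst T g) - 1) * lin x * lin (cinv (cst T g)) +
      lin x * (lin (cinv (cst T g)) - 1) := by
    unfold conj
    rw [lin_mul, lin_mul, sub_mul, sub_mul, one_mul, mul_sub, mul_one]; abel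
  rw [e]
  exact ((h1.mul_right _).mul_right _).add (h2.mul_left _)

end Monoid

section Hom

variable {R : Type*} [CommRing R] {C : Type*} [CommRing C] [HopfAlgebra R C]
  {A : Type*} [CommRing A] [HopfAlgebra R A]

/-- multiplicativity of an exact homomorphism on points -/
lemma ev_mul_of_homMod_bot {ψ : C →ₐ[R] A} (hψ : HomMod ⊥ ψ.toLinearMap)
    {T : Type*} [CommRing T] [Algebra R T] (u v : WithConv (A →ₐ[R] T)) :
    ev ψ (u * v) = ev ψ u * ev ψ v := by
  have h := eq_zero_of_V_bot (V_ev_mul hψ u v)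
  rw [sub_eq_zero, ← lin_mul] at h
  exact lin_injective h

lemma homMod_bot_of_ev_mul {ψ : C →ₐ[R] A}
    (h : ev ψ (toConv (Algebra.TensorProduct.includeLeft : A →ₐ[R] A ⊗[R] A) *
      toConv (Algebra.TensorProduct.includeRight : A →ₐ[R] A ⊗[R] A)) =
      ev ψ (toConv Algebra.TensorProduct.includeLeft) *
        ev ψ (toConv Algebra.TensorProduct.includeRight)) : HomMod ⊥ ψ.toLinearMap := by
  intro c
  rw [inl_mul_inr] at h
  have h2 := congrArg (fun x => (lin x).ofConv c) h
  simp only [lin_mul] at h2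
  have e : lin (ev ψ (toConv (Algebra.TensorProduct.includeLeft : A →ₐ[R] A ⊗[R] A))) *
      lin (ev ψ (toConv (Algebra.TensorProduct.includeRight : A →ₐ[R] A ⊗[R] A))) =
      toConv (TensorProduct.map ψ.toLinearMap ψ.toLinearMap ∘ₗ Coalgebra.comul) :=
    inl_conv_inr ψ.toLinearMap ψ.toLinearMap
  rw [e] at h2
  have h3 : Coalgebra.comul (R := R) (ψ.toLinearMap c) =
      TensorProduct.map ψ.toLinearMap ψ.toLinearMap (Coalgebra.comul (R := R) c) := h2
  rw [h3, sub_self]
  exact zero_mem _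

lemma homMod_bot_of_bialgHom (Φ : C →ₐc[R] A) : HomMod ⊥ (Φ : C →ₐ[R] A).toLinearMap := by
  intro c
  have h := CoalgHomClass.map_comp_comul_apply Φ c
  have h3 : Coalgebra.comul (R := R) ((Φ : C →ₐ[R] A).toLinearMap c) =
      TensorProduct.map (Φ : C →ₐ[R] A).toLinearMap (Φ : C →ₐ[R] A).toLinearMap
        (Coalgebra.comul (R := R) c) := h.symm
  rw [h3, sub_self]
  exact zero_mem _

/-- the conjugate of an exact homomorphism is an exact homomorphism -/
lemma homMod_bot_conj {ψ : C →ₐ[R] A} (hψ : HomMod ⊥ ψ.toLinearMap)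
    (g : WithConv (C →ₐ[R] R)) : HomMod ⊥ (conj g (toConv ψ)).ofConv.toLinearMap := by
  apply homMod_bot_of_ev_mul
  have key : ∀ u : WithConv (A →ₐ[R] A ⊗[R] A),
      ev (conj g (toConv ψ)).ofConv u = conj g (ev ψ u) := by
    intro u
    change push u.ofConv (conj g (toConv ψ)) = _
    rw [push_conj]
    rfl
  rw [key, key, key, ev_mul_of_homMod_bot hψ, conj_mul]

end Hom

section Step

variable {R : Type*} [CommRing R] {C : Type*} [CommRing C] [HopfAlgebra R C]
  {A : Type*} [CommRing A] [HopfAlgebra R A] (ι : A →ₗ[R] R)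
  (h1 : ι 1 = 1)
  (hinv : ∀ a : A, av ι A (Coalgebra.comul (R := R) a) = algebraMap R A (ι a))

include h1 in
lemma iota_mul_cong {K : Ideal R} (x x' : A) (r r' : R)
    (hx : x - algebraMap R A r ∈ Sm K A) (hx' : x' - algebraMap R A r' ∈ Sm K A) :
    ι (x * x') - ι x * ι x' ∈ Sm (K * K) R := by
  obtain ⟨d, hd⟩ : ∃ d, d = x - algebraMap R A r := ⟨_, rfl⟩
  obtain ⟨d', hd'⟩ : ∃ d', d' = x' - algebraMap R A r' := ⟨_, rfl⟩
  have ex : x = r • (1 : A) + d := by rw [hd, Algebra.algebraMap_eq_smul_one]; abel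
  have ex' : x' = r' • (1 : A) + d' := by rw [hd', Algebra.algebraMap_eq_smul_one]; abel
  rw [← hd] at hx
  rw [← hd'] at hx'
  have hprod : x * x' = (r * r') • (1 : A) + r • d' + r' • d + d * d' := by
    rw [ex, ex', add_mul, mul_add, mul_add, smul_mul_smul_comm, mul_one, smul_mul_assoc, one_mul,
      mul_smul_comm, mul_one]
    abel
  have a1 : ι x = r + ι d := by rw [ex, map_add, map_smul, h1, smul_eq_mul, mul_one]
  have a2 : ι x' = r' + ι d' := by rw [ex', map_add, map_smul, h1, smul_eq_mul, mul_one]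
  have a3 : ι (x * x') = r * r' + r * ι d' + r' * ι d + ι (d * d') := by
    rw [hprod, map_add, map_add, map_add, map_smul, map_smul, map_smul, h1, smul_eq_mul,
      smul_eq_mul, smul_eq_mul, mul_one]
  have e4 : ι (x * x') - ι x * ι x' = ι (d * d') - ι d * ι d' := by
    rw [a1, a2, a3]; ring
  rw [e4]
  exact sub_mem (map_mem_Sm _ _ (mul_mem_Sm K K hx hx'))
    (mul_mem_Sm K K (map_mem_Sm _ _ hx) (map_mem_Sm _ _ hx'))

include h1 hinv in
/-- one step of the conjugacy argument -/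
theorem exists_conj_step [Algebra.FormallySmooth R C] {K : Ideal R} (hK : IsNilpotent K)
    {ψ₁ ψ₂ : C →ₐ[R] A} (hψ₁ : HomMod ⊥ ψ₁.toLinearMap) (hψ₂ : HomMod ⊥ ψ₂.toLinearMap)
    (hc : V K (lin (toConv ψ₂) - lin (toConv ψ₁))) :
    ∃ g : WithConv (C →ₐ[R] R), V K (lin g - 1) ∧
      V (K * K) (lin (toConv ψ₂) - lin (conj g (toConv ψ₁))) := by
  obtain ⟨P₁, hP₁⟩ : ∃ P₁ : WithConv (C →ₐ[R] A), P₁ = toConv ψ₁ := ⟨_, rfl⟩
  obtain ⟨P₂, hP₂⟩ : ∃ P₂ : WithConv (C →ₐ[R] A), P₂ = toConv ψ₂ := ⟨_, rfl⟩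
  rw [← hP₁, ← hP₂] at hc ⊢
  obtain ⟨a, ha⟩ : ∃ a : WithConv (C →ₐ[R] A), a = P₂ * cinv P₁ := ⟨_, rfl⟩
  -- `a ≡ 1`
  have ha1 : V K (lin a - 1) := by
    have e : lin a - 1 = (lin P₂ - lin P₁) * lin (cinv P₁) := by
      rw [ha, sub_mul, ← lin_mul, ← lin_mul, mul_cinv, lin_one]
    rw [e]
    exact hc.mul_right _
  have ha1' : ∀ c, a.ofConv c - algebraMap R A (Coalgebra.counit (R := R) c) ∈ Sm K A :=
    fun c => ha1 c
  -- the averaged point
  obtain ⟨eL, heL⟩ : ∃ eL : C →ₗ[R] R, eL = ι ∘ₗ a.ofConv.toLinearMap := ⟨_, rfl⟩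
  have heL_apply : ∀ c, eL c = ι (a.ofConv c) := fun c => by rw [heL]; rfl
  have heL1 : ∀ c, eL c - Coalgebra.counit (R := R) c ∈ Sm K R := by
    intro c
    have := map_mem_Sm K ι (ha1' c)
    rwa [map_sub, Algebra.algebraMap_eq_smul_one, map_smul, h1, smul_eq_mul, mul_one,
      ← heL_apply] at this
  -- the lift
  obtain ⟨𝔞, h𝔞⟩ : ∃ 𝔞 : Ideal R, 𝔞 = Ideal.map (algebraMap R R) (K * K) := ⟨_, rfl⟩
  have hmem : ∀ x : R, x ∈ Sm (K * K) R ↔ x ∈ 𝔞 := fun x => by
    rw [h𝔞]; exact mem_Sm_iff_mem_map _ x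
  obtain ⟨eb, heb⟩ : ∃ eb : C →ₐ[R] R ⧸ 𝔞, ∀ c, eb c = Ideal.Quotient.mk 𝔞 (eL c) := by
    refine ⟨AlgHom.ofLinearMap ((Ideal.Quotient.mkₐ R 𝔞).toLinearMap ∘ₗ eL) ?_ ?_,
      fun c => rfl⟩
    · rw [LinearMap.comp_apply, heL_apply, map_one, h1, AlgHom.toLinearMap_apply, map_one]
    · intro c c'
      rw [LinearMap.comp_apply, LinearMap.comp_apply, LinearMap.comp_apply,
        AlgHom.toLinearMap_apply, AlgHom.toLinearMap_apply, AlgHom.toLinearMap_apply, ← map_mul,
        Ideal.Quotient.mkₐ_eq_mk]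
      refine Ideal.Quotient.eq.mpr ((hmem _).mp ?_)
      rw [heL_apply, heL_apply, heL_apply, map_mul]
      exact iota_mul_cong ι h1 _ _ _ _ (ha1' c) (ha1' c')
  have hnil : IsNilpotent (RingHom.ker (Ideal.Quotient.mkₐ R 𝔞)) := by
    have hker : RingHom.ker (Ideal.Quotient.mkₐ R 𝔞) = 𝔞 := by
      ext x
      rw [RingHom.mem_ker, Ideal.Quotient.mkₐ_eq_mk, Ideal.Quotient.eq_zero_iff_mem]
    rw [hker]
    obtain ⟨n, hn⟩ := hK
    refine ⟨n, ?_⟩
    rw [h𝔞, ← Ideal.map_pow, mul_pow, hn]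
    simp
  obtain ⟨g₀, hg₀⟩ : ∃ g₀ : C →ₐ[R] R, ∀ c, Ideal.Quotient.mk 𝔞 (g₀ c) = eb c := by
    refine ⟨Algebra.FormallySmooth.liftOfSurjective eb (Ideal.Quotient.mkₐ R 𝔞)
      (Ideal.Quotient.mkₐ_surjective R 𝔞) hnil, fun c => ?_⟩
    exact Algebra.FormallySmooth.liftOfSurjective_apply eb (Ideal.Quotient.mkₐ R 𝔞)
      (Ideal.Quotient.mkₐ_surjective R 𝔞) hnil c
  have hg₀e : ∀ c, g₀ c - eL c ∈ Sm (K * K) R := fun c => by
    rw [hmem]; exact Ideal.Quotient.eq.mp ((hg₀ c).trans (heb c))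
  obtain ⟨g, hg⟩ : ∃ g : WithConv (C →ₐ[R] R), g = toConv g₀ := ⟨_, rfl⟩
  have hg1 : V K (lin g - 1) := by
    intro c
    have e : (lin g - 1).ofConv c = (g₀ c - eL c) + (eL c - Coalgebra.counit (R := R) c) := by
      rw [hg]
      change g₀ c - algebraMap R R (Coalgebra.counit (R := R) c) = _
      rw [Algebra.algebraMap_self_apply]; abel
    rw [e]
    exact add_mem (Sm_mono Ideal.mul_le_right R (hg₀e c)) (heL1 c)
  refine ⟨g, hg1, ?_⟩
  -- the constant functions `e` and `g` on `H`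
  obtain ⟨eA, heA⟩ : ∃ eA : WithConv (C →ₗ[R] A), eA = toConv (Algebra.linearMap R A ∘ₗ eL) :=
    ⟨_, rfl⟩
  have hgA : V (K * K) (lin (cst A g) - eA) := by
    intro c
    have e : (lin (cst A g) - eA).ofConv c = Algebra.linearMap R A (g₀ c - eL c) := by
      rw [heA, hg, map_sub]
      rfl
    rw [e]
    exact map_mem_Sm _ _ (hg₀e c)
  have hgA1 : V K (lin (cst A g) - 1) := by
    have := V_push (Algebra.ofId R A) (x := g) (y := 1) (by rwa [lin_one])
    rwa [map_one, lin_one] at this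
  -- points of `A ⊗ A`
  obtain ⟨p₁, hp₁⟩ : ∃ p₁ : WithConv (C →ₐ[R] A ⊗[R] A),
      p₁ = push Algebra.TensorProduct.includeLeft P₁ := ⟨_, rfl⟩
  obtain ⟨ar, har⟩ : ∃ ar : WithConv (C →ₐ[R] A ⊗[R] A),
      ar = push Algebra.TensorProduct.includeRight a := ⟨_, rfl⟩
  obtain ⟨Xl, hXl⟩ : ∃ Xl : WithConv (C →ₐ[R] A ⊗[R] A),
      Xl = push Algebra.TensorProduct.includeLeft a := ⟨_, rfl⟩
  -- the cocycle identity
  have hpushΔ : ∀ ψ : C →ₐ[R] A, HomMod ⊥ ψ.toLinearMap →
      push (Bialgebra.comulAlgHom R A) (toConv ψ) =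
        push Algebra.TensorProduct.includeLeft (toConv ψ) *
          push Algebra.TensorProduct.includeRight (toConv ψ) := by
    intro ψ hψ
    have := ev_mul_of_homMod_bot hψ
      (toConv (Algebra.TensorProduct.includeLeft : A →ₐ[R] A ⊗[R] A))
      (toConv (Algebra.TensorProduct.includeRight : A →ₐ[R] A ⊗[R] A))
    rw [inl_mul_inr] at this
    exact this
  have hcocycle : push (Bialgebra.comulAlgHom R A) a = Xl * (p₁ * ar * cinv p₁) := by
    rw [hXl, hp₁, har, ha, map_mul, map_mul, map_mul, push_cinv, push_cinv, push_cinv, hP₁, hP₂,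
      hpushΔ ψ₁ hψ₁, hpushΔ ψ₂ hψ₂, cinv_mul_rev]
    simp only [mul_assoc, cinv_mul_cancel_left]
  -- averaging the left hand side
  have hL : avc ι (lin (push (Bialgebra.comulAlgHom R A) a)) = eA := by
    have e1 : push (Bialgebra.comulAlgHom R A) a = push (tau (AlgHom.id R A)) ar := by
      rw [har, push_push, tau_comp_inr]
      congr 1
      unfold theta
      rw [Algebra.TensorProduct.map_id, AlgHom.id_comp]
    rw [e1, avc_lin_push_tau ι hinv, heA, har]
    apply WithConv.ext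
    ext c
    change av ι A ((1 : A) ⊗ₜ[R] a.ofConv c) = algebraMap R A (eL c)
    rw [av_tmul, heL_apply, Algebra.algebraMap_eq_smul_one]
  -- averaging the right hand side
  have hX1 : V K (lin Xl - 1) := by
    have := V_push (Algebra.TensorProduct.includeLeft : A →ₐ[R] A ⊗[R] A) (x := a) (y := 1)
      (by rwa [lin_one])
    rwa [map_one, lin_one, ← hXl] at this
  have har1 : V K (lin ar - lin 1) := by
    have := V_push (Algebra.TensorProduct.includeRight : A →ₐ[R] A ⊗[R] A) (x := a) (y := 1)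
      (by rwa [lin_one])
    rwa [map_one, ← har] at this
  have hU1 : V K (lin (p₁ * ar * cinv p₁) - 1) := by
    have := V_conj p₁ (cinv p₁) har1
    rwa [mul_one, mul_cinv, lin_one] at this
  have hb := (V.bilin hX1 hU1).avc ι
  rw [one_mul, mul_one, mul_one, map_sub, map_sub, map_add, ← lin_mul, ← hcocycle, hL] at hb
  have t1 : avc ι (lin Xl) = lin a := by rw [hXl]; exact avc_lin_push_inl ι h1 a
  have t0 : avc ι (1 : WithConv (C →ₗ[R] A ⊗[R] A)) = 1 := by
    have := avc_lin_push_inl ι h1 (1 : WithConv (C →ₐ[R] A))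
    rwa [map_one, lin_one, lin_one] at this
  have t2 : avc ι (lin (p₁ * ar * cinv p₁)) = lin P₁ * eA * lin (cinv P₁) := by
    have e1 : cinv p₁ = push Algebra.TensorProduct.includeLeft (cinv P₁) := by
      rw [hp₁, push_cinv]
    rw [e1, lin_mul, lin_mul, hp₁, lin_push, lin_push, mul_assoc]
    have h3 := av_conv_left ι (lin P₁) (lin ar * toConv
      ((Algebra.TensorProduct.includeLeft : A →ₐ[R] A ⊗[R] A).toLinearMap ∘ₗ
        (lin (cinv P₁)).ofConv))
    have h4 := av_conv_right ι (lin (cinv P₁)) (lin ar)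
    have h5 : avc ι (lin ar) = eA := by
      have e2 : push (Bialgebra.comulAlgHom R A) a = push (tau (AlgHom.id R A)) ar := by
        rw [har, push_push, tau_comp_inr]
        congr 1
        unfold theta
        rw [Algebra.TensorProduct.map_id, AlgHom.id_comp]
      rw [← hL, e2, avc_lin_push_tau ι hinv]
    change avc ι _ = _
    rw [avc_apply]
    rw [show (jl R A A) = (Algebra.TensorProduct.includeLeft : A →ₐ[R] A ⊗[R] A).toLinearMap
      from rfl] at h3 h4
    rw [h3, h4, ← avc_apply, h5, mul_assoc]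
  rw [t1, t0, t2] at hb
  -- replace `e` by `g`
  obtain ⟨W, hW⟩ : ∃ W : WithConv (C →ₐ[R] A), W = P₁ * cst A g * cinv P₁ := ⟨_, rfl⟩
  have hWe : V (K * K) (lin W - lin P₁ * eA * lin (cinv P₁)) := by
    have e : lin W - lin P₁ * eA * lin (cinv P₁) =
        lin P₁ * (lin (cst A g) - eA) * lin (cinv P₁) := by
      rw [hW, lin_mul, lin_mul, mul_sub, sub_mul]
    rw [e]
    exact (hgA.mul_left _).mul_right _
  have h6 : V (K * K) (lin (cst A g) - (lin W + lin a - 1)) := by
    have e : lin (cst A g) - (lin W + lin a - 1) =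
        (lin (cst A g) - eA) + (eA - (lin P₁ * eA * lin (cinv P₁) + lin a - 1)) -
          (lin W - lin P₁ * eA * lin (cinv P₁)) := by abel
    rw [e]
    exact (hgA.add hb).sub hWe
  have hW1 : V K (lin W - 1) := by
    have := V_conj P₁ (cinv P₁) (x := cst A g) (y := 1) (by rwa [lin_one])
    rwa [mul_one, mul_cinv, lin_one, ← hW] at this
  have h7 := V.bilin ha1 hW1
  rw [one_mul, mul_one, mul_one, ← lin_mul] at h7
  have h8 : V (K * K) (lin (cst A g) - lin (a * W)) := by
    have e : lin (cst A g) - lin (a * W) =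
        (lin (cst A g) - (lin W + lin a - 1)) - (lin (a * W) - (lin W + lin a - 1)) := by abel
    rw [e]
    exact h6.sub h7
  have haW : a * W = P₂ * cst A g * cinv P₁ := by
    rw [ha, hW]
    simp only [mul_assoc, cinv_mul_cancel_left]
  rw [haW] at h8
  have h9 := (h8.mul_right (lin (P₁ * cinv (cst A g)))).neg
  have e9 : -((lin (cst A g) - lin (P₂ * cst A g * cinv P₁)) * lin (P₁ * cinv (cst A g))) =
      lin P₂ - lin (conj g P₁) := by
    unfold conj
    rw [sub_mul, ← lin_mul, ← lin_mul]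
    have : P₂ * cst A g * cinv P₁ * (P₁ * cinv (cst A g)) = P₂ := by
      simp only [mul_assoc, cinv_mul_cancel_left, mul_cinv, mul_one]
    rw [this, ← mul_assoc]
    abel
  rwa [e9] at h9

end Step

end Groth.Agent.Lib.Helper19.AvgLift
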