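import Mathlib
import Groth.Prelude.Def_SGA3b
import Groth.Agent.Lib.Helper19.AvgLift4
import Groth.Agent.Lib.Helper19.AvgLift5

/-!
# Conjugacy of congruent homomorphisms and relative lifting (helper19)

* `exists_conj`: two bialgebra maps `C → A` congruent modulo a nilpotent ideal are conjugate
  (`C` formally smooth, `A` with a normalised invariant integral);
* `exists_bialgHom_lift_rel`: the relative lifting property of SGA 3 IX 3.6 bis (affine case).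
-/

set_option autoImplicit false
universe u
open TensorProduct WithConv

namespace Groth.Agent.Lib.Helper19.AvgLift

section Conj

variable {R : Type*} [CommRing R] {C : Type*} [CommRing C] [HopfAlgebra R C]
  {A : Type*} [CommRing A] [HopfAlgebra R A] (ι : A →ₗ[R] R)
  (h1 : ι 1 = 1)
  (hinv : ∀ a : A, av ι A (Coalgebra.comul (R := R) a) = algebraMap R A (ι a))

include h1 hinv in
theorem exists_conj [Algebra.FormallySmooth R C] :
    ∀ (n : ℕ) (K : Ideal R), K ^ n = 0 → ∀ ψ₁ ψ₂ : C →ₐ[R] A, HomMod ⊥ ψ₁.toLinearMap →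
      HomMod ⊥ ψ₂.toLinearMap → V K (lin (toConv ψ₂) - lin (toConv ψ₁)) →
      ∃ g : WithConv (C →ₐ[R] R), V K (lin g - 1) ∧ toConv ψ₂ = conj g (toConv ψ₁) := by
  intro n
  induction n using Nat.strong_induction_on with
  | _ n ih =>
    intro K hK ψ₁ ψ₂ h₁ h₂ hc
    by_cases hn : n ≤ 1
    · have hK0 : K = ⊥ := by
        interval_cases n
        · rw [pow_zero, Ideal.one_eq_top, Ideal.zero_eq_bot] at hK
          exact le_bot_iff.mp (hK ▸ le_top)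
        · rwa [pow_one, Ideal.zero_eq_bot] at hK
      rw [hK0] at hc
      have h := eq_zero_of_V_bot hc
      rw [sub_eq_zero] at h
      refine ⟨1, ?_, ?_⟩
      · rw [lin_one, sub_self]; exact V.zero K
      · rw [conj_one]; exact lin_injective h
    · push Not at hn
      obtain ⟨g₁, hg₁, hstep⟩ := exists_conj_step ι h1 hinv ⟨n, hK⟩ h₁ h₂ hc
      have hm : (n + 1) / 2 < n := by omega
      have hK2 : (K * K) ^ ((n + 1) / 2) = 0 := by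
        rw [← pow_two, ← pow_mul]
        exact pow_eq_zero_of_le (by omega) hK
      have h₁' := homMod_bot_conj h₁ g₁
      obtain ⟨g₂, hg₂, heq⟩ := ih _ hm (K * K) hK2 (conj g₁ (toConv ψ₁)).ofConv ψ₂ h₁' h₂
        (by rwa [toConv_ofConv])
      refine ⟨g₂ * g₁, V_mul_one (hg₂.mono Ideal.mul_le_right) hg₁, ?_⟩
      rw [heq, toConv_ofConv, conj_conj]

end Conj

section Rel

variable {R : Type u} [CommRing R] (I : Ideal R) {A₁ : Type u} [CommRing A₁] [HopfAlgebra R A₁]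
  {A₂ : Type u} [CommRing A₂] [HopfAlgebra R A₂] {C : Type u} [CommRing C] [HopfAlgebra R C]

/-- **SGA 3 IX 3.6 bis, affine case.** -/
theorem exists_bialgHom_lift_rel [Algebra.FormallySmooth R C] (hI : IsNilpotent I)
    (h₁ : SGA3b.IsMultType R A₁) (h₂ : SGA3b.IsMultType R A₂) (α : A₂ →ₐc[R] A₁)
    (β : C →ₐc[R] A₁) (γ₀ : ((R ⧸ I) ⊗[R] C) →ₐc[R ⧸ I] ((R ⧸ I) ⊗[R] A₂))
    (h0 : ∀ c : C, Algebra.TensorProduct.map (AlgHom.id (R ⧸ I) (R ⧸ I)) (α : A₂ →ₐ[R] A₁)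
      (γ₀ ((1 : R ⧸ I) ⊗ₜ[R] c)) = (1 : R ⧸ I) ⊗ₜ[R] (β c)) :
    ∃ γ : C →ₐc[R] A₂, (∀ c : C, γ₀ ((1 : R ⧸ I) ⊗ₜ[R] c) = (1 : R ⧸ I) ⊗ₜ[R] (γ c)) ∧
      ∀ c : C, α (γ c) = β c := by
  obtain ⟨γ', hγ'⟩ := exists_bialgHom_lift I hI h₂ γ₀
  obtain ⟨ι, h1, hinv⟩ := MultIntegral.exists_integral h₁
  obtain ⟨ψ₁, hψ₁⟩ : ∃ ψ₁ : C →ₐ[R] A₁, ψ₁ = ((α.comp γ' : C →ₐc[R] A₁) : C →ₐ[R] A₁) :=
    ⟨_, rfl⟩
  obtain ⟨ψ₂, hψ₂⟩ : ∃ ψ₂ : C →ₐ[R] A₁, ψ₂ = (β : C →ₐ[R] A₁) := ⟨_, rfl⟩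
  have hh₁ : HomMod ⊥ ψ₁.toLinearMap := by rw [hψ₁]; exact homMod_bot_of_bialgHom _
  have hh₂ : HomMod ⊥ ψ₂.toLinearMap := by rw [hψ₂]; exact homMod_bot_of_bialgHom _
  have hc : V I (lin (toConv ψ₂) - lin (toConv ψ₁)) := by
    intro c
    change ψ₂ c - ψ₁ c ∈ Sm I A₁
    rw [mem_Sm_iff_one_tmul, hψ₁, hψ₂]
    have h := h0 c
    rw [hγ' c, Algebra.TensorProduct.map_tmul] at h
    exact h.symm
  obtain ⟨n, hn⟩ := id hI
  obtain ⟨g, hg, heq⟩ := exists_conj ι h1 hinv n I hn ψ₁ ψ₂ hh₁ hh₂ hc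
  obtain ⟨P, hP⟩ : ∃ P : WithConv (C →ₐ[R] A₂), P = toConv (γ' : C →ₐ[R] A₂) := ⟨_, rfl⟩
  have hhγ : HomMod ⊥ (conj g P).ofConv.toLinearMap := by
    rw [hP]; exact homMod_bot_conj (homMod_bot_of_bialgHom γ') g
  obtain ⟨Γ, hΓ⟩ := exists_bialgHom_of_homMod_bot _ hhγ
  refine ⟨Γ, fun c => ?_, fun c => ?_⟩
  · rw [hγ' c, hΓ, eq_comm, ← mem_Sm_iff_one_tmul]
    have h := V_conj_sub hg P c
    rw [hP] at h ⊢
    exact h
  · rw [hΓ]
    have e : push (α : A₂ →ₐ[R] A₁) (conj g P) = toConv ψ₂ := by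
      rw [push_conj, heq, hP, hψ₁]
      rfl
    have h := congrArg (fun x : WithConv (C →ₐ[R] A₁) => x.ofConv c) e
    rw [hψ₂] at h
    exact h

end Rel

end Groth.Agent.Lib.Helper19.AvgLift
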