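import Mathlib

/-!
# A flat local "birational" ring map is bijective (helper19)

`bijective_of_flat_local`: a commutative square `R → C`, `R → A`, `C → B`, `A → B` with `A → B` a flat local
homomorphism of local rings, `B` Noetherian and a localisation of `C` at a prime, and an ideal `a ⊆ R`
(finitely generated) such that `R_r → C_r` is surjective for `r ∈ a` and no nonzero element of `C` is killed by
`a`; then `A → B` is bijective.
-/

set_option autoImplicit false

namespace Groth.Agent.Lib.Helper19.Bir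

open Submodule

section Alg

variable {R C A B : Type*} [CommRing R] [CommRing C] [CommRing A] [CommRing B]

/-- finite generation bookkeeping: a common multiplier outside a prime. -/
theorem exists_common_mul {𝔮 : Ideal C} [h𝔮 : 𝔮.IsPrime] (ρ : R →+* C) (a : Ideal R) (hafg : a.FG)
    (c : C) (h : ∀ r ∈ a, ∃ t : C, t ∉ 𝔮 ∧ t * (ρ r * c) = 0) :
    ∃ t : C, t ∉ 𝔮 ∧ ∀ r ∈ a, t * (ρ r * c) = 0 := by
  classical
  obtain ⟨s, hs⟩ := hafg
  subst hs
  have key : ∀ s' : Finset R, (∀ r ∈ s', ∃ t : C, t ∉ 𝔮 ∧ t * (ρ r * c) = 0) →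
      ∃ t : C, t ∉ 𝔮 ∧ ∀ r ∈ s', t * (ρ r * c) = 0 := by
    intro s'
    induction s' using Finset.induction_on with
    | empty =>
      intro _
      exact ⟨1, fun h1 => h𝔮.ne_top ((Ideal.eq_top_iff_one _).mpr h1), by simp⟩
    | insert x s' hx ih =>
      intro hh
      obtain ⟨t₁, ht₁, h₁⟩ := ih (fun r hr => hh r (Finset.mem_insert_of_mem hr))
      obtain ⟨t₂, ht₂, h₂⟩ := hh x (Finset.mem_insert_self _ _)
      refine ⟨t₁ * t₂, fun hmem => ?_, fun r hr => ?_⟩
      · rcases h𝔮.mem_or_mem hmem with h | h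
        · exact ht₁ h
        · exact ht₂ h
      · rcases Finset.mem_insert.mp hr with rfl | hr
        · rw [mul_assoc, h₂, mul_zero]
        · rw [mul_comm t₁ t₂, mul_assoc, h₁ r hr, mul_zero]
  obtain ⟨t, ht, hts⟩ := key s (fun r hr => h r (Ideal.subset_span hr))
  refine ⟨t, ht, fun r hr => ?_⟩
  refine Submodule.span_induction (p := fun r _ => t * (ρ r * c) = 0) ?_ ?_ ?_ ?_ hr
  · intro x hx; exact hts x hx
  · simp
  · intro x y _ _ hx hy; rw [map_add, add_mul, mul_add, hx, hy, add_zero]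
  · intro z x _ hx; rw [smul_eq_mul, map_mul, mul_assoc, mul_left_comm, hx, mul_zero]

theorem bijective_of_flat_local
    [IsLocalRing A] [IsLocalRing B] [IsNoetherianRing B]
    (ρ : R →+* C) (α : R →+* A) (γ : C →+* B) (φ : A →+* B)
    (hsq : ∀ r, φ (α r) = γ (ρ r))
    (hφ : φ.Flat) [hloc : IsLocalHom φ]
    (𝔮 : Ideal C) [𝔮.IsPrime]
    (L1 : ∀ β : B, ∃ c t : C, t ∉ 𝔮 ∧ β * γ t = γ c)
    (L2 : ∀ t : C, t ∉ 𝔮 → IsUnit (γ t))
    (L3 : ∀ c : C, γ c = 0 → ∃ t : C, t ∉ 𝔮 ∧ t * c = 0)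
    (a : Ideal R) (hafg : a.FG)
    (h1 : ∀ r ∈ a, ∀ c : C, ∃ (n : ℕ) (r' : R), ρ r ^ n * c = ρ r')
    (h2 : ∀ c : C, (∀ r ∈ a, ρ r * c = 0) → c = 0) :
    Function.Bijective φ := by
  letI : Algebra A B := φ.toAlgebra
  haveI : Module.Flat A B := hφ
  haveI : IsLocalHom (algebraMap A B) := hloc
  haveI : Module.FaithfullyFlat A B := Module.FaithfullyFlat.of_flat_of_isLocalHom
  have hcm : ∀ I : Ideal A, (I.map φ).comap φ = I := fun I =>
    Ideal.comap_map_eq_self_of_faithfullyFlat (B := B) I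
  have hinj : Function.Injective φ := by
    rw [RingHom.injective_iff_ker_eq_bot]
    have := hcm ⊥
    rwa [Ideal.map_bot] at this
  -- Step A: a regular element in `a`
  have hA : ∃ r₀ ∈ a, ∀ b : B, γ (ρ r₀) * b = 0 → b = 0 := by
    by_contra hcon
    push_neg at hcon
    let g : R →+* B := γ.comp ρ
    have hfin := associatedPrimes.finite B B
    have hsub : (a : Set R) ⊆
        ⋃ P ∈ (↑hfin.toFinset : Set (Ideal B)), ((P.comap g : Ideal R) : Set R) := by
      intro r hr
      obtain ⟨b, hb0, hbne⟩ := hcon r hr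
      have hz : g r ∈ ⋃ p ∈ associatedPrimes B B, (p : Set B) := by
        rw [biUnion_associatedPrimes_eq_zero_divisors]
        exact ⟨b, hbne, hb0⟩
      obtain ⟨P, hP, hrP⟩ := Set.mem_iUnion₂.mp hz
      exact Set.mem_iUnion₂.mpr ⟨P, Finset.mem_coe.mpr (hfin.mem_toFinset.mpr hP), hrP⟩
    obtain ⟨P, hP, haP⟩ := (Ideal.subset_union_prime (s := hfin.toFinset)
      (f := fun P : Ideal B => P.comap g) ⊥ ⊥ (fun P hP _ _ => by
        have : P.IsPrime := (hfin.mem_toFinset.mp hP).isPrime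
        exact Ideal.comap_isPrime g P)).mp hsub
    have hPass : IsAssociatedPrime P B := hfin.mem_toFinset.mp hP
    obtain ⟨hPprime, y, hy⟩ := isAssociatedPrime_iff.mp hPass
    have hyne : y ≠ 0 := by
      rintro rfl
      apply hPprime.ne_top
      rw [hy]
      ext z
      simp [Submodule.mem_colon_singleton]
    have hkill : ∀ r ∈ a, γ (ρ r) * y = 0 := by
      intro r hr
      have hgr : g r ∈ P := haP hr
      rw [hy, Submodule.mem_colon_singleton, Submodule.mem_bot, smul_eq_mul] at hgr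
      exact hgr
    obtain ⟨c, t, ht, hyt⟩ := L1 y
    have h3 : ∀ r ∈ a, ∃ t' : C, t' ∉ 𝔮 ∧ t' * (ρ r * c) = 0 := by
      intro r hr
      apply L3
      rw [map_mul, ← hyt, ← mul_assoc, hkill r hr, zero_mul]
    obtain ⟨t', ht', hall⟩ := exists_common_mul ρ a hafg c h3
    have hc0 : t' * c = 0 := h2 _ (fun r hr => by rw [mul_left_comm]; exact hall r hr)
    have hγc : γ c = 0 := by
      have h4 : γ t' * γ c = 0 := by rw [← map_mul, hc0, map_zero]
      exact (L2 t' ht').mul_right_eq_zero.mp h4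
    apply hyne
    have h5 : y * γ t = 0 := by rw [hyt, hγc]
    exact (L2 t ht).mul_left_eq_zero.mp h5
  obtain ⟨r₀, hr₀a, hreg⟩ := hA
  set u : B := γ (ρ r₀) with hu
  have hua : φ (α r₀) = u := hsq r₀
  have hregpow : ∀ (n : ℕ) (b : B), u ^ n * b = 0 → b = 0 := by
    intro n
    induction n with
    | zero => intro b hb; simpa using hb
    | succ n ih =>
      intro b hb
      apply ih
      apply hreg
      rw [← mul_assoc, ← pow_succ']
      exact hb
  refine ⟨hinj, fun β => ?_⟩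
  obtain ⟨c, t, ht, hβt⟩ := L1 β
  obtain ⟨n, r, hr⟩ := h1 r₀ hr₀a c
  obtain ⟨m, r', hr'⟩ := h1 r₀ hr₀a t
  have hc : u ^ n * γ c = φ (α r) := by rw [hsq, ← hr, map_mul, map_pow]
  have htt : u ^ m * γ t = φ (α r') := by rw [hsq, ← hr', map_mul, map_pow]
  obtain ⟨ti, hti⟩ := (L2 t ht).exists_left_inv
  have hmem : α r₀ ^ m ∈ Ideal.span {α r'} := by
    rw [← hcm (Ideal.span {α r'}), Ideal.mem_comap, Ideal.map_span, Set.image_singleton,
      Ideal.mem_span_singleton', map_pow, hua]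
    exact ⟨ti, by rw [← htt, mul_left_comm, hti, mul_one]⟩
  obtain ⟨a', ha'⟩ := Ideal.mem_span_singleton'.mp hmem
  have ha : u ^ m = φ (α r') * φ a' := by
    rw [← hua, ← map_pow, ← ha', map_mul, mul_comm]
  have hB1 : u ^ n * β = φ (α r * a') := by
    have h0 : u ^ m * (γ t * (u ^ n * β - φ (α r) * φ a')) = 0 := by
      linear_combination (u ^ m * u ^ n) * hβt + u ^ m * hc - (φ (α r) * φ a') * htt
        + φ (α r) * ha
    have h00 := hregpow m _ h0
    have h000 := (L2 t ht).mul_right_eq_zero.mp h00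
    rw [map_mul]
    exact sub_eq_zero.mp h000
  have hmem2 : α r * a' ∈ Ideal.span {α r₀ ^ n} := by
    rw [← hcm (Ideal.span {α r₀ ^ n}), Ideal.mem_comap, Ideal.map_span, Set.image_singleton,
      Ideal.mem_span_singleton', map_pow, hua]
    exact ⟨β, by rw [← hB1, mul_comm]⟩
  obtain ⟨x', hx'⟩ := Ideal.mem_span_singleton'.mp hmem2
  refine ⟨x', ?_⟩
  have hfin0 : u ^ n * (φ x' - β) = 0 := by
    rw [mul_sub, hB1, ← hx', map_mul, map_pow, hua]
    ring
  exact sub_eq_zero.mp (hregpow n _ hfin0)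

end Alg

end Groth.Agent.Lib.Helper19.Bir
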