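import Mathlib

/-!
# A topological lemma on Noetherian quasi-sober spaces (helper19)

If no point of a locally closed set `O ∩ K` generalises `s`, then `s` is not in the closure of `O ∩ K`.
-/

set_option autoImplicit false

namespace Groth.Agent.Lib.Helper19.Bir

open Set Topology TopologicalSpace

theorem notMem_closure_of_forall_not_specializes {α : Type*} [TopologicalSpace α]
    [NoetherianSpace α] [QuasiSober α] {O K : Set α} (hO : IsOpen O) (hK : IsClosed K) (s : α)
    (h : ∀ z ∈ O ∩ K, ¬ z ⤳ s) : s ∉ closure (O ∩ K) := by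
  intro hs
  obtain ⟨S, hSfin, hScl, hSirr, hST⟩ :=
    NoetherianSpace.exists_finite_set_isClosed_irreducible (isClosed_closure (s := O ∩ K))
  set S' : Set (Set α) := {t ∈ S | (t ∩ O).Nonempty} with hS'
  have hS'fin : S'.Finite := hSfin.subset (fun t ht => ht.1)
  have hcl : IsClosed (⋃₀ S') := by
    rw [Set.sUnion_eq_biUnion]
    exact hS'fin.isClosed_biUnion (fun t ht => hScl t ht.1)
  have hsub : O ∩ K ⊆ ⋃₀ S' := by
    intro z hz
    have hz' : z ∈ ⋃₀ S := hST ▸ subset_closure hz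
    obtain ⟨t, ht, hzt⟩ := hz'
    exact ⟨t, ⟨ht, ⟨z, hzt, hz.1⟩⟩, hzt⟩
  have hs' : s ∈ ⋃₀ S' := closure_minimal hsub hcl hs
  obtain ⟨t, ⟨htS, ⟨z, hzt, hzO⟩⟩, hst⟩ := hs'
  obtain ⟨η, hη⟩ := QuasiSober.sober (hSirr t htS) (hScl t htS)
  have hηs : η ⤳ s := hη.specializes hst
  have hηz : η ⤳ z := hη.specializes hzt
  have hηO : η ∈ O := hηz.mem_open hO hzO
  have hηt : η ∈ t := hη.mem
  have hηK : η ∈ K := by
    have hsubt : t ⊆ closure (O ∩ K) := by
      rw [hST]; exact subset_sUnion_of_mem htS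
    exact closure_minimal inter_subset_right hK (hsubt hηt)
  exact h η ⟨hηO, hηK⟩ hηs

end Groth.Agent.Lib.Helper19.Bir
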