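import Mathlib
import Groth.Prelude.Def_CInt
import Groth.Agent.Lib.Helper19.BirTop
import Groth.Agent.Lib.Helper19.BirAlg

/-!
# Morphisms that are isomorphisms over a dense open: scheme-level lemmas (helper19)
-/

set_option autoImplicit false
set_option linter.style.haveILetI false
universe u

open CategoryTheory AlgebraicGeometry TopologicalSpace Opposite

namespace Groth.Agent.Lib.Helper19.Bir

variable {X S : Scheme.{u}}

theorem germ_appLE (f : X ⟶ S) {V' : S.Opens} {W : X.Opens} (e : W ≤ f ⁻¹ᵁ V')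
    (z : X) (hz : z ∈ W) (y : Γ(S, V')) :
    (X.presheaf.germ W z hz).hom ((f.appLE V' W e).hom y) =
      (f.stalkMap z).hom ((S.presheaf.germ V' (f z) (e hz)).hom y) := by
  have h1 := Scheme.Hom.germ_stalkMap_apply f V' z (e hz) y
  have h2 := TopCat.Presheaf.germ_res_apply X.presheaf (homOfLE e) z hz (f.app V' y)
  exact h2.trans h1.symm

instance isOpenImmersion_ι_comp (f : X ⟶ S) (U : S.Opens) [hiso : IsIso (f ∣_ U)] :
    IsOpenImmersion ((f ⁻¹ᵁ U).ι ≫ f) := by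
  rw [← morphismRestrict_ι]; infer_instance

theorem eq_of_apply_eq (f : X ⟶ S) (U : S.Opens) (hiso : IsIso (f ∣_ U))
    {z z' : X} (hz : f z ∈ U) (h : f z = f z') : z = z' := by
  have hz' : f z' ∈ U := h ▸ hz
  have hinj := ((f ⁻¹ᵁ U).ι ≫ f).isOpenEmbedding.injective
  have h2 : (⟨z, hz⟩ : ↥(f ⁻¹ᵁ U)) = ⟨z', hz'⟩ := hinj h
  exact congrArg Subtype.val h2

theorem app_bijective_of_le (f : X ⟶ S) (U : S.Opens)
    (hiso : IsIso (f ∣_ U)) (D : S.Opens) (hD : D ≤ U) : Function.Bijective (f.app D).hom := by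
  have hrange : D ≤ ((f ⁻¹ᵁ U).ι ≫ f).opensRange := by
    intro y hy
    obtain ⟨w, hw⟩ := (f ∣_ U).surjective ⟨y, hD hy⟩
    refine ⟨w, ?_⟩
    have h1 : (f ∣_ U ≫ U.ι) w = y := by
      rw [Scheme.Hom.comp_apply, hw]; rfl
    rw [morphismRestrict_ι] at h1
    exact h1
  have h1 : IsIso (((f ⁻¹ᵁ U).ι ≫ f).app D) := Scheme.Hom.isIso_app _ D hrange
  have h2 : ((f ⁻¹ᵁ U).ι ≫ f).app D = f.app D ≫ (f ⁻¹ᵁ U).ι.app (f ⁻¹ᵁ D) :=
    Scheme.Hom.comp_app _ _ _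
  haveI h3 : IsIso ((f ⁻¹ᵁ U).ι.app (f ⁻¹ᵁ D)) := by
    apply Scheme.Hom.isIso_app
    rw [Scheme.Opens.opensRange_ι]
    exact fun z hz => hD hz
  haveI h1' : IsIso (f.app D ≫ (f ⁻¹ᵁ U).ι.app (f ⁻¹ᵁ D)) := h2 ▸ h1
  haveI : IsIso (f.app D) :=
    IsIso.of_isIso_comp_right (f.app D) ((f ⁻¹ᵁ U).ι.app (f ⁻¹ᵁ D))
  exact (ConcreteCategory.isIso_iff_bijective (f.app D)).mp inferInstance

theorem exists_generization_lift (f : X ⟶ S) (x : X)
    (hflat : (f.stalkMap x).hom.Flat) {s' : S} (hs' : s' ⤳ f x) :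
    ∃ x' : X, x' ⤳ x ∧ f x' = s' := by
  letI : Algebra (S.presheaf.stalk (f x)) (X.presheaf.stalk x) := (f.stalkMap x).hom.toAlgebra
  haveI : Module.Flat (S.presheaf.stalk (f x)) (X.presheaf.stalk x) := hflat
  haveI : IsLocalHom (algebraMap (S.presheaf.stalk (f x)) (X.presheaf.stalk x)) :=
    inferInstanceAs (IsLocalHom (f.stalkMap x).hom)
  haveI : Module.FaithfullyFlat (S.presheaf.stalk (f x)) (X.presheaf.stalk x) :=
    Module.FaithfullyFlat.of_flat_of_isLocalHom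
  have hsurj := PrimeSpectrum.comap_surjective_of_faithfullyFlat
    (A := S.presheaf.stalk (f x)) (B := X.presheaf.stalk x)
  have h1 : s' ∈ Set.range (S.fromSpecStalk (f x)) := by
    rw [Scheme.range_fromSpecStalk]; exact hs'
  obtain ⟨p', hp'⟩ := h1
  obtain ⟨q', hq'⟩ := hsurj p'
  refine ⟨X.fromSpecStalk x q', ?_, ?_⟩
  · have h2 : X.fromSpecStalk x q' ∈ Set.range (X.fromSpecStalk x) := ⟨q', rfl⟩
    rw [Scheme.range_fromSpecStalk] at h2
    exact h2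
  · rw [← Scheme.Hom.comp_apply, ← Scheme.SpecMap_stalkMap_fromSpecStalk, Scheme.Hom.comp_apply]
    have h3 : (Spec.map (f.stalkMap x)) q' = p' := hq'
    rw [h3, hp']

theorem exists_nhd_preimage_le [IsNoetherian S] (f : X ⟶ S) (U : S.Opens)
    (hiso : IsIso (f ∣_ U)) (x : X) (hflat : (f.stalkMap x).hom.Flat) (W₀ : X.Opens)
    (hx : x ∈ W₀) :
    ∃ N : S.Opens, f x ∈ N ∧ ∀ z : X, f z ∈ N → f z ∈ U → z ∈ W₀ := by
  let Ω : S.Opens := ((f ⁻¹ᵁ U).ι ≫ f) ''ᵁ ((f ⁻¹ᵁ U).ι ⁻¹ᵁ W₀)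
  have hΩ : ∀ y : S, y ∈ Ω ↔ ∃ z : X, z ∈ W₀ ∧ f z ∈ U ∧ f z = y := by
    intro y
    constructor
    · rintro ⟨w, hw, hgw⟩
      exact ⟨w.1, hw, w.2, hgw⟩
    · rintro ⟨z, hzW, hzU, hzy⟩
      exact ⟨⟨z, hzU⟩, hzW, hzy⟩
  have hno : ∀ y ∈ (U : Set S) ∩ (Ω : Set S)ᶜ, ¬ y ⤳ f x := by
    rintro y ⟨hyU, hyΩ⟩ hspec
    obtain ⟨x', hx'x, hfx'⟩ := exists_generization_lift f x hflat hspec
    exact hyΩ ((hΩ y).mpr ⟨x', hx'x.mem_open W₀.2 hx, hfx' ▸ hyU, hfx'⟩)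
  have hcl := notMem_closure_of_forall_not_specializes U.2 (Ω.2.isClosed_compl) (f x) hno
  refine ⟨⟨(closure ((U : Set S) ∩ (Ω : Set S)ᶜ))ᶜ, isClosed_closure.isOpen_compl⟩, hcl,
    fun z hzN hzU => ?_⟩
  have hzΩ : f z ∈ Ω := by
    by_contra hcon
    exact hzN (subset_closure ⟨hzU, hcon⟩)
  obtain ⟨z', hz'W, hz'U, hz'⟩ := (hΩ _).mp hzΩ
  have h3 := eq_of_apply_eq f U hiso hz'U hz'
  exact h3 ▸ hz'W

/-- the ideal of functions on `V'` whose non-vanishing locus lies in `U`. -/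
def aIdeal (V' U : S.Opens) : Ideal Γ(S, V') where
  carrier := {r | S.basicOpen r ≤ U}
  zero_mem' := by
    show S.basicOpen (0 : Γ(S, V')) ≤ U
    rw [Scheme.basicOpen_zero]; exact bot_le
  add_mem' := by
    intro r r' hr hr' z hz
    have hzV : z ∈ V' := S.basicOpen_le _ hz
    have hu := (S.mem_basicOpen (r + r') z hzV).mp hz
    rw [map_add] at hu
    rcases IsLocalRing.isUnit_or_isUnit_of_isUnit_add hu with h | h
    · exact hr ((S.mem_basicOpen r z hzV).mpr h)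
    · exact hr' ((S.mem_basicOpen r' z hzV).mpr h)
  smul_mem' := by
    intro c r hr
    show S.basicOpen (c * r) ≤ U
    rw [Scheme.basicOpen_mul]
    exact inf_le_right.trans hr

theorem mem_aIdeal {V' U : S.Opens} (r : Γ(S, V')) : r ∈ aIdeal V' U ↔ S.basicOpen r ≤ U :=
  Iff.rfl

theorem eq_zero_of_forall_pow_mul (f : X ⟶ S) (U : S.Opens)
    (hdense : CInt.IsSchematicallyDense (f ⁻¹ᵁ U)) {V' : S.Opens} (hV' : IsAffineOpen V')
    {W : X.Opens} (e : W ≤ f ⁻¹ᵁ V') (c : Γ(X, W))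
    (h : ∀ r : Γ(S, V'), S.basicOpen r ≤ U → ∃ n : ℕ, (f.appLE V' W e).hom r ^ n * c = 0) :
    c = 0 := by
  apply hdense W
  rw [map_zero]
  refine TopCat.Presheaf.section_ext X.sheaf _ _ _ (fun z hz => ?_)
  have hzW : z ∈ W := hz.1
  have hzU : f z ∈ U := hz.2
  obtain ⟨r, hrU, hzr⟩ := hV'.exists_basicOpen_le (V := U) ⟨f z, hzU⟩ (e hzW)
  obtain ⟨n, hn⟩ := h r hrU
  have hzb : z ∈ X.basicOpen ((f.appLE V' W e).hom r) := by
    have := Scheme.basicOpen_appLE f W V' e r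
    rw [this]
    exact ⟨hzW, hzr⟩
  have hunit := (X.mem_basicOpen _ z hzW).mp hzb
  have h4 := congrArg (X.presheaf.germ W z hzW).hom hn
  rw [map_mul, map_pow, map_zero] at h4
  have h5 : (X.presheaf.germ W z hzW).hom c = 0 := (hunit.pow n).mul_right_eq_zero.mp h4
  have h6 : (X.presheaf.germ (W ⊓ f ⁻¹ᵁ U) z hz).hom
      ((X.presheaf.map (homOfLE (inf_le_left : W ⊓ f ⁻¹ᵁ U ≤ W)).op).hom c) = 0 :=
    (TopCat.Presheaf.germ_res_apply X.presheaf (homOfLE inf_le_left) z hz c).trans h5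
  have h7 : (X.presheaf.germ (W ⊓ f ⁻¹ᵁ U) z hz).hom 0 = 0 := map_zero _
  exact h6.trans h7.symm

end Groth.Agent.Lib.Helper19.Bir
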