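import Mathlib
import Groth.Prelude.Def_CInt
import Groth.Agent.Lib.Helper19.BirSch

/-!
# Morphisms that are isomorphisms over a dense open: flat ⇒ local isomorphism (helper19)
-/

set_option autoImplicit false
set_option linter.style.haveILetI false
universe u

open CategoryTheory AlgebraicGeometry TopologicalSpace Opposite MorphismProperty

namespace Groth.Agent.Lib.Helper19.Bir

variable {X S : Scheme.{u}}

theorem exists_pow_mul_eq_appLE (f : X ⟶ S) (U : S.Opens)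
    (hiso : IsIso (f ∣_ U)) {V' : S.Opens} (hV' : IsAffineOpen V')
    {W : X.Opens} (hW : IsAffineOpen W) (e : W ≤ f ⁻¹ᵁ V')
    (hF1 : ∀ z : X, f z ∈ V' → f z ∈ U → z ∈ W)
    (r : Γ(S, V')) (hr : S.basicOpen r ≤ U) (c : Γ(X, W)) :
    ∃ (n : ℕ) (r' : Γ(S, V')),
      (f.appLE V' W e).hom r ^ n * c = (f.appLE V' W e).hom r' := by
  have hDV : S.basicOpen r ≤ V' := S.basicOpen_le r
  have hpre : f ⁻¹ᵁ S.basicOpen r ≤ W := fun z hz => hF1 z (hDV hz) (hr hz)
  have hbij := app_bijective_of_le f U hiso (S.basicOpen r) hr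
  obtain ⟨g, hg⟩ := hbij.2 ((X.presheaf.map (homOfLE hpre).op).hom c)
  obtain ⟨n, y, hy⟩ := exists_eq_pow_mul_of_isAffineOpen S V' hV' r g
  have hy' : (S.presheaf.map (homOfLE hDV).op).hom y =
      ((S.presheaf.map (homOfLE hDV).op).hom r) ^ n * g := hy
  have hgerm : ∀ (z : X) (hz : z ∈ X.basicOpen ((f.appLE V' W e).hom r)),
      (X.presheaf.germ W z (X.basicOpen_le _ hz)).hom
        ((f.appLE V' W e).hom y - (f.appLE V' W e).hom r ^ n * c) = 0 := by
    intro z hz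
    have hzW : z ∈ W := X.basicOpen_le _ hz
    have hzD : f z ∈ S.basicOpen r := by
      have h0 : X.basicOpen ((f.appLE V' W e).hom r) = W ⊓ f ⁻¹ᵁ S.basicOpen r :=
        Scheme.basicOpen_appLE f W V' e r
      have h00 : z ∈ W ⊓ f ⁻¹ᵁ S.basicOpen r := h0 ▸ hz
      exact h00.2
    have e1 : (S.presheaf.germ V' (f z) (e hzW)).hom y =
        (S.presheaf.germ (S.basicOpen r) (f z) hzD).hom
          ((S.presheaf.map (homOfLE hDV).op).hom y) :=
      (TopCat.Presheaf.germ_res_apply S.presheaf (homOfLE hDV) (f z) hzD y).symm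
    have e2 : (S.presheaf.germ V' (f z) (e hzW)).hom r =
        (S.presheaf.germ (S.basicOpen r) (f z) hzD).hom
          ((S.presheaf.map (homOfLE hDV).op).hom r) :=
      (TopCat.Presheaf.germ_res_apply S.presheaf (homOfLE hDV) (f z) hzD r).symm
    have e3 : (X.presheaf.germ W z hzW).hom c =
        (f.stalkMap z).hom ((S.presheaf.germ (S.basicOpen r) (f z) hzD).hom g) := by
      have h1 := Scheme.Hom.germ_stalkMap_apply f (S.basicOpen r) z hzD g
      have h2 := TopCat.Presheaf.germ_res_apply X.presheaf (homOfLE hpre) z hzD c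
      have h3 : (X.presheaf.germ (f ⁻¹ᵁ S.basicOpen r) z hzD).hom
          ((f.app (S.basicOpen r)).hom g) =
          (X.presheaf.germ (f ⁻¹ᵁ S.basicOpen r) z hzD).hom
            ((X.presheaf.map (homOfLE hpre).op).hom c) := congrArg _ hg
      exact h2.symm.trans (h3.symm.trans h1.symm)
    rw [map_sub, map_mul, map_pow, germ_appLE f e z hzW y, germ_appLE f e z hzW r, e1, e2, e3, hy']
    simp only [map_mul, map_pow, sub_self]
  have H : ((f.appLE V' W e).hom y - (f.appLE V' W e).hom r ^ n * c) |_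
      X.basicOpen ((f.appLE V' W e).hom r) = 0 := by
    refine TopCat.Presheaf.section_ext X.sheaf _ _ _ (fun z hz => ?_)
    have h6 := (TopCat.Presheaf.germ_res_apply X.presheaf
      (homOfLE (X.basicOpen_le ((f.appLE V' W e).hom r))) z hz
      ((f.appLE V' W e).hom y - (f.appLE V' W e).hom r ^ n * c)).trans (hgerm z hz)
    have h7 : (X.presheaf.germ (X.basicOpen ((f.appLE V' W e).hom r)) z hz).hom 0 = 0 :=
      map_zero _
    exact h6.trans h7.symm
  obtain ⟨m, hm⟩ := exists_pow_mul_eq_zero_of_res_basicOpen_eq_zero_of_isAffineOpen X hW _ _ H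
  refine ⟨m + n, r ^ m * y, ?_⟩
  rw [map_mul, map_pow, pow_add]
  linear_combination (-1 : Γ(X, W)) * hm

theorem stalkMap_bijective_core [IsLocallyNoetherian S] [IsLocallyNoetherian X] (f : X ⟶ S)
    (U : S.Opens) (hiso : IsIso (f ∣_ U)) (hdense : CInt.IsSchematicallyDense (f ⁻¹ᵁ U))
    {V' : S.Opens} (hV' : IsAffineOpen V') {W : X.Opens} (hW : IsAffineOpen W)
    (e : W ≤ f ⁻¹ᵁ V') (hF1 : ∀ z : X, f z ∈ V' → f z ∈ U → z ∈ W)
    (x : X) (hxW : x ∈ W) (hflat : (f.stalkMap x).hom.Flat) :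
    Function.Bijective (f.stalkMap x).hom := by
  letI : Algebra Γ(X, W) (X.presheaf.stalk x) :=
    TopCat.Presheaf.algebra_section_stalk X.presheaf ⟨x, hxW⟩
  haveI hloc : IsLocalization.AtPrime (X.presheaf.stalk x)
      (hW.primeIdealOf ⟨x, hxW⟩).asIdeal := hW.isLocalization_stalk ⟨x, hxW⟩
  haveI : IsNoetherianRing Γ(S, V') := IsLocallyNoetherian.component_noetherian ⟨V', hV'⟩
  refine bijective_of_flat_local (ρ := (f.appLE V' W e).hom)
    (α := (S.presheaf.germ V' (f x) (e hxW)).hom) (γ := (X.presheaf.germ W x hxW).hom)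
    (φ := (f.stalkMap x).hom) (fun r => (germ_appLE f e x hxW r).symm) hflat
    (hW.primeIdealOf ⟨x, hxW⟩).asIdeal ?_ ?_ ?_ (aIdeal V' U) (IsNoetherian.noetherian _) ?_ ?_
  · intro β
    obtain ⟨⟨c, t⟩, h⟩ :=
      IsLocalization.surj (hW.primeIdealOf ⟨x, hxW⟩).asIdeal.primeCompl β
    exact ⟨c, t.1, t.2, h⟩
  · intro t ht
    exact IsLocalization.map_units (X.presheaf.stalk x)
      (⟨t, ht⟩ : (hW.primeIdealOf ⟨x, hxW⟩).asIdeal.primeCompl)
  · intro c hc
    obtain ⟨m, hm⟩ := (IsLocalization.map_eq_zero_iff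
      (hW.primeIdealOf ⟨x, hxW⟩).asIdeal.primeCompl (X.presheaf.stalk x) c).mp hc
    exact ⟨m.1, m.2, hm⟩
  · intro r hr c
    exact exists_pow_mul_eq_appLE f U hiso hV' hW e hF1 r hr c
  · intro c hc
    exact eq_zero_of_forall_pow_mul f U hdense hV' e c
      (fun r hr => ⟨1, by rw [pow_one]; exact hc r hr⟩)

theorem stalkMap_bijective_of_flat [IsNoetherian S] (f : X ⟶ S) [LocallyOfFiniteType f]
    (U : S.Opens) (hiso : IsIso (f ∣_ U)) (hdense : CInt.IsSchematicallyDense (f ⁻¹ᵁ U))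
    (x : X) (hflat : (f.stalkMap x).hom.Flat) : Function.Bijective (f.stalkMap x).hom := by
  haveI : IsLocallyNoetherian X := LocallyOfFiniteType.isLocallyNoetherian f
  obtain ⟨_, ⟨V₀, hV₀, rfl⟩, hsV₀, -⟩ :=
    S.isBasis_affineOpens.exists_subset_of_mem_open (Set.mem_univ (f x)) isOpen_univ
  obtain ⟨_, ⟨W₀, hW₀, rfl⟩, hxW₀, hW₀V₀⟩ :=
    X.isBasis_affineOpens.exists_subset_of_mem_open hsV₀ (f ⁻¹ᵁ V₀).2
  obtain ⟨N, hsN, hN⟩ := exists_nhd_preimage_le f U hiso x hflat W₀ hxW₀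
  obtain ⟨h, hhN, hsh⟩ := hV₀.exists_basicOpen_le (V := N) ⟨f x, hsN⟩ hsV₀
  have hWeq : X.basicOpen ((f.appLE V₀ W₀ hW₀V₀).hom h) = W₀ ⊓ f ⁻¹ᵁ S.basicOpen h :=
    Scheme.basicOpen_appLE f W₀ V₀ hW₀V₀ h
  have e : X.basicOpen ((f.appLE V₀ W₀ hW₀V₀).hom h) ≤ f ⁻¹ᵁ S.basicOpen h := by
    rw [hWeq]; exact inf_le_right
  refine stalkMap_bijective_core f U hiso hdense (hV₀.basicOpen h) (hW₀.basicOpen _) e ?_ x ?_
    hflat
  · intro z hzV hzU
    rw [hWeq]
    exact ⟨hN z (hhN hzV) hzU, hzV⟩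
  · rw [hWeq]; exact ⟨hxW₀, hsh⟩

theorem exists_section_of_bijective [IsNoetherian S] (f : X ⟶ S) [LocallyOfFiniteType f]
    (x : X) (hbij : Function.Bijective (f.stalkMap x).hom) :
    ∃ (V : S.Opens) (hV : f x ∈ V) (σ : (V : Scheme.{u}) ⟶ X),
      σ ≫ f = V.ι ∧ σ ⟨f x, hV⟩ = x := by
  haveI : IsIso (f.stalkMap x) := (ConcreteCategory.isIso_iff_bijective _).mpr hbij
  let φ' : Spec (S.presheaf.stalk (f x)) ⟶ X :=
    Spec.map (inv (f.stalkMap x)) ≫ X.fromSpecStalk x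
  have h : φ' ≫ f = S.fromSpecStalk (f x) ≫ 𝟙 S := by
    simp only [φ', Category.assoc, Category.comp_id]
    rw [← Scheme.SpecMap_stalkMap_fromSpecStalk, ← Spec.map_comp_assoc, IsIso.hom_inv_id,
      Spec.map_id, Category.id_comp]
  obtain ⟨V, hV, σ, hσ1, hσ2⟩ := spread_out_of_isGermInjective' (𝟙 S) f φ' h
  refine ⟨V, hV, σ, by simpa using hσ2, ?_⟩
  have h1 : φ' (IsLocalRing.closedPoint _) = x := by
    simp only [φ', Scheme.Hom.comp_apply]
    rw [Spec_closedPoint, Scheme.fromSpecStalk_closedPoint]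
  have h2 : (V.fromSpecStalkOfMem (f x) hV) (IsLocalRing.closedPoint _) = ⟨f x, hV⟩ := by
    apply Subtype.ext
    have h3 := congrArg (fun g : Spec (S.presheaf.stalk (f x)) ⟶ S =>
      g (IsLocalRing.closedPoint _)) (V.fromSpecStalkOfMem_ι (f x) hV)
    simp only [Scheme.Hom.comp_apply, Scheme.fromSpecStalk_closedPoint] at h3
    exact h3
  rw [← h2, ← Scheme.Hom.comp_apply, ← hσ1, h1]

theorem flat_stalkMap_of_etale_nhd (f : X ⟶ S) (x : X) (W : X.Opens) (hxW : x ∈ W)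
    [Etale (W.ι ≫ f)] : (f.stalkMap x).hom.Flat := by
  haveI : Flat (W.ι ≫ f) := inferInstance
  let x' : ↥(W.toScheme) := ⟨x, hxW⟩
  have h0 := AlgebraicGeometry.Flat.stalkMap (W.ι ≫ f) x'
  have h2 := Scheme.Hom.stalkMap_comp W.ι f x'
  have h1 : ((W.ι.stalkMap x').hom.comp (f.stalkMap (W.ι x')).hom).Flat := by
    rw [h2] at h0
    exact h0
  exact (RingHom.Flat.comp_iff_of_bijective_left
    (ConcreteCategory.bijective_of_isIso (W.ι.stalkMap x'))).mp h1

end Groth.Agent.Lib.Helper19.Bir
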