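import Mathlib
import Groth.Prelude.Def_CInt
import Groth.Agent.Lib.Helper19.BirMain

/-!
# A section through `x` gives an open neighbourhood of `x` mapped isomorphically (helper19)
-/

set_option autoImplicit false
set_option linter.style.haveILetI false
universe u

open CategoryTheory AlgebraicGeometry TopologicalSpace Opposite MorphismProperty

namespace Groth.Agent.Lib.Helper19.Bir

variable {X S : Scheme.{u}}

theorem appLE_congr_hom {Y Z : Scheme.{u}} {g g' : Y ⟶ Z} (h : g = g') (A : Z.Opens)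
    (B : Y.Opens) (e : B ≤ g ⁻¹ᵁ A) : g.appLE A B e = g'.appLE A B (h ▸ e) := by
  subst h; rfl

theorem exists_etale_nhd_of_section [IsNoetherian S] (f : X ⟶ S) [LocallyOfFiniteType f]
    (U : S.Opens) (hiso : IsIso (f ∣_ U)) (hdense : CInt.IsSchematicallyDense (f ⁻¹ᵁ U)) (x : X)
    (V : S.Opens) (hV : f x ∈ V) (σ : (V : Scheme.{u}) ⟶ X) (hσ : σ ≫ f = V.ι)
    (hσx : σ ⟨f x, hV⟩ = x) : ∃ W : X.Opens, x ∈ W ∧ Etale (W.ι ≫ f) := by
  have hσpt : ∀ w : ↥(V.toScheme), f (σ w) = w.1 := by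
    intro w
    have h0 := congrArg (fun g : (V : Scheme.{u}) ⟶ S => g w) hσ
    simp only [Scheme.Hom.comp_apply] at h0
    exact h0
  obtain ⟨_, ⟨V₁, hV₁, rfl⟩, hsV₁, hV₁V⟩ :=
    S.isBasis_affineOpens.exists_subset_of_mem_open hV V.2
  obtain ⟨_, ⟨W₁, hW₁, rfl⟩, hxW₁, hW₁V₁⟩ :=
    X.isBasis_affineOpens.exists_subset_of_mem_open hsV₁ (f ⁻¹ᵁ V₁).2
  let Sg : S.Opens := V.ι ''ᵁ (σ ⁻¹ᵁ W₁)
  have hSg : ∀ y : S, y ∈ Sg ↔ ∃ w : ↥(V.toScheme), σ w ∈ W₁ ∧ w.1 = y := by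
    intro y
    constructor
    · rintro ⟨w, hw, hwy⟩; exact ⟨w, hw, hwy⟩
    · rintro ⟨w, hw, hwy⟩; exact ⟨w, hw, hwy⟩
  have hsSg : f x ∈ Sg := (hSg _).mpr ⟨⟨f x, hV⟩, by rw [hσx]; exact hxW₁, rfl⟩
  obtain ⟨r, hrSg, hsr⟩ := hV₁.exists_basicOpen_le (V := Sg) ⟨f x, hsSg⟩ hsV₁
  have hWeq : X.basicOpen ((f.appLE V₁ W₁ hW₁V₁).hom r) = W₁ ⊓ f ⁻¹ᵁ S.basicOpen r :=
    Scheme.basicOpen_appLE f W₁ V₁ hW₁V₁ r
  have hD : IsAffineOpen (S.basicOpen r) := hV₁.basicOpen r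
  have hW : IsAffineOpen (X.basicOpen ((f.appLE V₁ W₁ hW₁V₁).hom r)) := hW₁.basicOpen _
  have e : X.basicOpen ((f.appLE V₁ W₁ hW₁V₁).hom r) ≤ f ⁻¹ᵁ S.basicOpen r := by
    rw [hWeq]; exact inf_le_right
  have hxW : x ∈ X.basicOpen ((f.appLE V₁ W₁ hW₁V₁).hom r) := by
    rw [hWeq]; exact ⟨hxW₁, hsr⟩
  have hwit : ∀ y ∈ S.basicOpen r, ∃ w : ↥(V.toScheme), σ w ∈ W₁ ∧ w.1 = y :=
    fun y hy => (hSg y).mp (hrSg hy)
  have hF1 : ∀ z : X, f z ∈ S.basicOpen r → f z ∈ U →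
      z ∈ X.basicOpen ((f.appLE V₁ W₁ hW₁V₁).hom r) := by
    intro z hzD hzU
    obtain ⟨w, hwW, hwz⟩ := hwit _ hzD
    have h1 : f (σ w) = f z := (hσpt w).trans hwz
    have h2 : σ w = z := eq_of_apply_eq f U hiso (h1 ▸ hzU) h1
    rw [hWeq]
    exact ⟨h2 ▸ hwW, hzD⟩
  have e₂ : V.ι ⁻¹ᵁ S.basicOpen r ≤ σ ⁻¹ᵁ X.basicOpen ((f.appLE V₁ W₁ hW₁V₁).hom r) := by
    intro w hw
    obtain ⟨w', hw'W, hw'⟩ := hwit w.1 hw
    have hww : w' = w := Subtype.ext hw'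
    subst hww
    show σ w' ∈ X.basicOpen ((f.appLE V₁ W₁ hW₁V₁).hom r)
    rw [hWeq]
    refine ⟨hw'W, ?_⟩
    show f (σ w') ∈ S.basicOpen r
    rw [hσpt]
    exact hw
  have hcomp : f.appLE (S.basicOpen r) _ e ≫ σ.appLE _ (V.ι ⁻¹ᵁ S.basicOpen r) e₂ =
      V.ι.app (S.basicOpen r) := by
    rw [Scheme.Hom.appLE_comp_appLE, appLE_congr_hom hσ, Scheme.Hom.appLE_eq_app]
  have hκ : Function.Bijective (V.ι.app (S.basicOpen r)).hom := by
    haveI : IsIso (V.ι.app (S.basicOpen r)) := by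
      apply Scheme.Hom.isIso_app
      rw [Scheme.Opens.opensRange_ι]
      exact (S.basicOpen_le r).trans hV₁V
    exact (ConcreteCategory.isIso_iff_bijective _).mp inferInstance
  have hcomp' : ∀ r' : Γ(S, S.basicOpen r),
      (σ.appLE _ (V.ι ⁻¹ᵁ S.basicOpen r) e₂).hom ((f.appLE (S.basicOpen r) _ e).hom r') =
        (V.ι.app (S.basicOpen r)).hom r' := by
    intro r'
    have h0 := congrArg (fun φ => φ.hom r') hcomp
    simp only [CommRingCat.hom_comp, RingHom.comp_apply] at h0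
    exact h0
  have hbij : Function.Bijective (f.appLE (S.basicOpen r) _ e).hom := by
    constructor
    · intro r₁ r₂ h12
      apply hκ.1
      rw [← hcomp', ← hcomp', h12]
    · intro c
      obtain ⟨r₁, hr₁⟩ := hκ.2 ((σ.appLE _ (V.ι ⁻¹ᵁ S.basicOpen r) e₂).hom c)
      refine ⟨r₁, ?_⟩
      have hc₁ : c - (f.appLE (S.basicOpen r) _ e).hom r₁ = 0 := by
        apply eq_zero_of_forall_pow_mul f U hdense hD e
        intro r'' hr''
        obtain ⟨n, r', hn⟩ := exists_pow_mul_eq_appLE f U hiso hD hW e hF1 r'' hr''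
          (c - (f.appLE (S.basicOpen r) _ e).hom r₁)
        have h0 : (σ.appLE _ (V.ι ⁻¹ᵁ S.basicOpen r) e₂).hom
            (c - (f.appLE (S.basicOpen r) _ e).hom r₁) = 0 := by
          rw [map_sub, hcomp', hr₁, sub_self]
        have h1 := congrArg (σ.appLE _ (V.ι ⁻¹ᵁ S.basicOpen r) e₂).hom hn
        rw [map_mul, h0, mul_zero, hcomp'] at h1
        have h2 : r' = 0 := hκ.1 (by rw [← h1, map_zero])
        exact ⟨n, by rw [hn, h2, map_zero]⟩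
      exact (sub_eq_zero.mp hc₁).symm
  refine ⟨X.basicOpen ((f.appLE V₁ W₁ hW₁V₁).hom r), hxW, ?_⟩
  haveI : IsAffine (S.basicOpen r).toScheme := hD
  haveI : IsAffine (X.basicOpen ((f.appLE V₁ W₁ hW₁V₁).hom r)).toScheme := hW
  have hisoapp : IsIso (f.appLE (S.basicOpen r)
      (X.basicOpen ((f.appLE V₁ W₁ hW₁V₁).hom r)) e) :=
    (ConcreteCategory.isIso_iff_bijective _).mpr hbij
  haveI : IsIso (f.resLE (S.basicOpen r) _ e) := by
    rw [← isomorphisms.iff, HasAffineProperty.iff_of_isAffine (P := isomorphisms Scheme)]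
    refine ⟨hW, ?_⟩
    show IsIso ((f.resLE _ _ e).app ⊤)
    rw [Scheme.Hom.resLE_app_top]
    exact IsIso.comp_isIso' inferInstance (IsIso.comp_isIso' hisoapp inferInstance)
  rw [← Scheme.Hom.resLE_comp_ι f e]
  infer_instance

end Groth.Agent.Lib.Helper19.Bir
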