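import Groth.Agent.Lib.Helper19.Coalg1

/-!
# Simple subcomodules, simple subcoalgebras, cosemisimplicity (helper19)

Minimal subcomodules are handled as atoms `N` of the lattice of submodules over the operator algebra
`opAlg K C V`; `N.restrictScalars K` is the underlying subspace.

* `exists_isAtom_le`: every nonzero subcomodule contains a minimal one (local finiteness);
* `mem_cfS_iff`, `cfS_eq_of_linearEquiv`: isomorphic subcomodules have the same coefficient space;
* `map_eq_bot_or_isAtom`, `cfS_map_eq`;
* `isSimpleSubcoalg_cfS`: the coefficient space of a minimal subcomodule is a simple subcoalgebra;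
* `exists_isAtom_cfS_eq`: every simple subcoalgebra is such a coefficient space;
* `iSupIndep_simpleSubcoalg`, `iSup_simpleSubcoalg_eq_top`, `isSemisimpleComod_of_decomposition`;
* `finiteDimensional_cfS`.
-/

set_option autoImplicit false
set_option linter.unusedSectionVars false
universe u v w w'

open TensorProduct

namespace Groth.Agent.Lib.Helper19.Coalg

open Groth.Agent.Lib.Helper19.Reynolds
open Groth.Agent.Lib.Helper28.ComodHom

section ModuleLemma

theorem exists_equiv_of_le_iSup {R : Type*} {M : Type*} [Ring R] [AddCommGroup M] [Module R M]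
    {ι : Type*} (N : Submodule R M) (hN : IsAtom N) (T : ι → Submodule R M)
    (hT : ∀ i, T i = ⊥ ∨ IsAtom (T i)) (hle : N ≤ ⨆ i, T i) :
    ∃ i, IsAtom (T i) ∧ Nonempty (N ≃ₗ[R] T i) := by
  let s : Set (Submodule R M) := {m | ∃ i, IsAtom (T i) ∧ m = T i}
  haveI : IsSimpleModule R N := isSimpleModule_iff_isAtom.mpr hN
  haveI : ∀ m : s, IsSimpleModule R m := by
    rintro ⟨m, i, hi, rfl⟩
    exact isSimpleModule_iff_isAtom.mpr hi
  have hle' : N ≤ sSup s := by
    refine hle.trans (iSup_le fun i => ?_)
    rcases hT i with h | h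
    · rw [h]; exact bot_le
    · exact le_sSup ⟨i, h, rfl⟩
  obtain ⟨S, ⟨i, hi, rfl⟩, e⟩ := Submodule.linearEquiv_of_le_sSup N s hle'
  exact ⟨i, hi, e⟩

end ModuleLemma

section Atoms

variable {K : Type u} {C : Type v} [Field K] [AddCommGroup C] [Module K C] [Coalgebra K C]
variable {V : Type w} [AddCommGroup V] [Module K V] [HopfRep.Comod K C V]
variable {W : Type w'} [AddCommGroup W] [Module K W] [HopfRep.Comod K C W]

/-- `T_f` as an element of the operator algebra. -/
noncomputable def opEl' (f : C →ₗ[K] K) : opAlg K C V :=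
  ⟨opT K C V f, Algebra.subset_adjoin ⟨f, rfl⟩⟩

lemma opEl'_smul (f : C →ₗ[K] K) (v : V) : (opEl' f : opAlg K C V) • v = opT K C V f v := rfl

lemma toOp_ne_bot {B : Submodule K V} (hB : HopfRep.IsSubcomod (k := K) (A := C) B) (hB0 : B ≠ ⊥) :
    toOp B hB ≠ ⊥ := by
  intro h
  apply hB0
  have := congrArg (Submodule.restrictScalars K) h
  rwa [toOp_restrictScalars, Submodule.restrictScalars_bot] at this

lemma toOp_eq_bot {B : Submodule K V} (hB : HopfRep.IsSubcomod (k := K) (A := C) B) (hB0 : B = ⊥) :
    toOp B hB = ⊥ := by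
  apply Submodule.restrictScalars_injective K
  rw [toOp_restrictScalars, Submodule.restrictScalars_bot, hB0]

lemma le_iSup_toOp {ι : Sort*} (N : Submodule (opAlg K C V) V) (U : ι → Submodule K V)
    (hU : ∀ i, HopfRep.IsSubcomod (k := K) (A := C) (U i)) (h : N.restrictScalars K ≤ ⨆ i, U i) :
    N ≤ ⨆ i, toOp (U i) (hU i) := by
  intro x hx
  have h1 : x ∈ (⨆ i, toOp (U i) (hU i)).restrictScalars K := by
    rw [Submodule.restrictScalars_iSup]
    simp only [toOp_restrictScalars]
    exact h hx
  exact h1

/-- Every nonzero subcomodule contains a minimal nonzero subcomodule. -/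
theorem exists_isAtom_le (B : Submodule (opAlg K C V) V) (hB : B ≠ ⊥) :
    ∃ S : Submodule (opAlg K C V) V, IsAtom S ∧ S ≤ B := by
  obtain ⟨b, hbB, hb0⟩ := Submodule.exists_mem_ne_zero_of_ne_bot hB
  let G : Submodule (opAlg K C V) V := toOp (gen (K := K) (C := C) b) (isSubcomod_gen b)
  have hGB : G ≤ B := by
    intro x hx
    obtain ⟨f, rfl⟩ := (hx : x ∈ gen (K := K) (C := C) b)
    show (opEl' f : opAlg K C V) • b ∈ B
    exact B.smul_mem (opEl' f) hbB
  haveI hfd : FiniteDimensional K (gen (K := K) (C := C) b) := finiteDimensional_gen b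
  have hG0 : G ≠ ⊥ := by
    intro h
    have hb : b ∈ G := mem_gen b
    rw [h] at hb
    exact hb0 ((Submodule.mem_bot _).mp hb)
  have key : ∀ n : ℕ, ∀ N : Submodule (opAlg K C V) V, N ≤ G → N ≠ ⊥ →
      Module.finrank K (N.restrictScalars K) = n → ∃ S, IsAtom S ∧ S ≤ N := by
    intro n
    induction n using Nat.strong_induction_on with
    | _ n ih =>
      intro N hNG hN0 hn
      by_cases hat : IsAtom N
      · exact ⟨N, hat, le_rfl⟩
      · have hex : ∃ N', N' < N ∧ N' ≠ ⊥ := by
          by_contra hcon
          push Not at hcon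
          exact hat ⟨hN0, fun b hb => hcon b hb⟩
        obtain ⟨N', hlt, hN'0⟩ := hex
        have hle : N.restrictScalars K ≤ gen (K := K) (C := C) b := fun x hx => hNG hx
        haveI hfdN : FiniteDimensional K (N.restrictScalars K) :=
          Submodule.finiteDimensional_of_le hle
        have hlt' : N'.restrictScalars K < N.restrictScalars K := by
          rw [SetLike.lt_iff_le_and_exists] at hlt ⊢
          exact hlt
        have hfr := Submodule.finrank_lt_finrank_of_lt hlt'
        rw [hn] at hfr
        obtain ⟨S, hS, hSN'⟩ := ih _ hfr N' (hlt.le.trans hNG) hN'0 rfl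
        exact ⟨S, hS, hSN'.trans hlt.le⟩
  obtain ⟨S, hS, hSG⟩ := key _ G le_rfl hG0 rfl
  exact ⟨S, hS, hSG.trans hGB⟩

lemma isAtom_toOp_restrictScalars (N : Submodule (opAlg K C V) V) (hN : IsAtom N) :
    IsAtom (toOp (N.restrictScalars K) (isSubcomod_restrictScalars N)) := by
  rw [toOp_of_restrictScalars]; exact hN

/-- A simple comodule is an atom over its operator algebra. -/
lemma isAtom_top_of_isSimpleComod (hE : HopfRep.IsSimpleComod K C V) :
    IsAtom (⊤ : Submodule (opAlg K C V) V) := by
  haveI := hE.1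
  have h := (isAtom_toOp_iff (⊤ : Submodule K V) (isSubcomod_top (K := K) (C := C))).mpr
    ⟨top_ne_bot, fun W' hW' _ => hE.2 W' hW'⟩
  have e : toOp (⊤ : Submodule K V) (isSubcomod_top (K := K) (C := C)) = ⊤ := by
    ext x
    exact ⟨fun _ => Submodule.mem_top, fun _ => (Submodule.mem_top : x ∈ (⊤ : Submodule K V))⟩
  rwa [e] at h

/-- The image of a minimal subcomodule under a comodule map is zero or minimal. -/
lemma map_eq_bot_or_isAtom (N : Submodule (opAlg K C V) V) (hN : IsAtom N) (g : V →ₗ[K] W)
    (hg : Hoch.IsComodHom C g) :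
    (N.restrictScalars K).map g = ⊥ ∨
      IsAtom (toOp ((N.restrictScalars K).map g)
        (isSubcomod_map g hg _ (isSubcomod_restrictScalars N))) := by
  by_cases h0 : (N.restrictScalars K).map g = ⊥
  · exact Or.inl h0
  · right
    rw [isAtom_toOp_iff]
    refine ⟨h0, fun W' hW' hle => ?_⟩
    have hmin := ((isAtom_toOp_iff _ _).mp (isAtom_toOp_restrictScalars N hN)).2
      (N.restrictScalars K ⊓ W'.comap g)
      (isSubcomod_inf _ _ (isSubcomod_restrictScalars N) (isSubcomod_comap g hg W' hW'))
      inf_le_left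
    rcases hmin with h | h
    · left
      rw [eq_bot_iff]
      intro w hw
      obtain ⟨s, hs, rfl⟩ := hle hw
      have h2 : s ∈ N.restrictScalars K ⊓ W'.comap g := ⟨hs, hw⟩
      rw [h, Submodule.mem_bot] at h2
      rw [h2, map_zero]
      exact Submodule.zero_mem _
    · right
      refine le_antisymm hle ?_
      rintro _ ⟨s, hs, rfl⟩
      have h2 : s ∈ N.restrictScalars K ⊓ W'.comap g := by rw [h]; exact hs
      exact h2.2

lemma inf_ker_eq_bot_of_map_ne_bot (N : Submodule (opAlg K C V) V) (hN : IsAtom N)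
    (g : V →ₗ[K] W) (hg : Hoch.IsComodHom C g) (h0 : (N.restrictScalars K).map g ≠ ⊥) :
    N.restrictScalars K ⊓ LinearMap.ker g = ⊥ := by
  rcases ((isAtom_toOp_iff _ _).mp (isAtom_toOp_restrictScalars N hN)).2
    (N.restrictScalars K ⊓ LinearMap.ker g)
    (isSubcomod_inf _ _ (isSubcomod_restrictScalars N) (isSubcomod_ker g hg)) inf_le_left with h | h
  · exact h
  · exfalso
    apply h0
    rw [eq_bot_iff]
    rintro _ ⟨s, hs, rfl⟩
    have h2 : s ∈ N.restrictScalars K ⊓ LinearMap.ker g := by rw [h]; exact hs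
    rw [Submodule.mem_bot]
    exact LinearMap.mem_ker.mp h2.2

/-- The coefficient space is cut out by the functionals `f` with `T_f = 0` on `S`. -/
lemma mem_cfS_iff (S : Submodule K V) (c : C) :
    c ∈ cfS (C := C) S ↔ ∀ f : C →ₗ[K] K, (∀ s ∈ S, opT K C V f s = 0) → f c = 0 := by
  constructor
  · intro hc f hf
    unfold cfS at hc
    refine Submodule.iSup_induction (fun φ : V →ₗ[K] K => S.map (cfm (C := C) φ))
      (motive := fun c => f c = 0) hc ?_ ?_ ?_
    · rintro φ _ ⟨s, hs, rfl⟩
      rw [apply_cfm, hf s hs, map_zero]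
    · exact map_zero f
    · intro x y hx hy
      rw [map_add, hx, hy, add_zero]
  · intro h
    by_contra hc
    obtain ⟨f, hfc, hf⟩ := Submodule.exists_dual_map_eq_bot_of_notMem hc inferInstance
    apply hfc
    apply h
    intro s hs
    apply eq_of_forall_apply_eq (K := K)
    intro φ
    rw [map_zero, ← apply_cfm]
    have h2 : f (cfm (C := C) φ s) ∈ (cfS (C := C) S).map f :=
      Submodule.mem_map_of_mem (cfm_mem_cfS S φ hs)
    rw [hf] at h2
    exact (Submodule.mem_bot K).mp h2

lemma cfS_le_of_linearEquiv (N N' : Submodule (opAlg K C V) V) (e : N ≃ₗ[opAlg K C V] N') :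
    cfS (C := C) (N'.restrictScalars K) ≤ cfS (C := C) (N.restrictScalars K) := by
  intro c hc
  rw [mem_cfS_iff] at hc ⊢
  intro f hf
  apply hc f
  intro s' hs'
  set s : N := e.symm ⟨s', hs'⟩ with hsdef
  have h2 : (opEl' f : opAlg K C V) • s = 0 := by
    apply Subtype.ext
    rw [Submodule.coe_smul, opEl'_smul]
    exact hf s.1 s.2
  have h3 : e ((opEl' f : opAlg K C V) • s) = (opEl' f : opAlg K C V) • (⟨s', hs'⟩ : N') := by
    rw [e.map_smul, hsdef, LinearEquiv.apply_symm_apply]
  rw [h2, map_zero] at h3
  have h4 := congrArg Subtype.val h3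
  rw [Submodule.coe_smul, opEl'_smul] at h4
  exact h4.symm

/-- Isomorphic subcomodules have the same coefficient space. -/
theorem cfS_eq_of_linearEquiv (N N' : Submodule (opAlg K C V) V) (e : N ≃ₗ[opAlg K C V] N') :
    cfS (C := C) (N.restrictScalars K) = cfS (C := C) (N'.restrictScalars K) :=
  le_antisymm (cfS_le_of_linearEquiv N' N e.symm) (cfS_le_of_linearEquiv N N' e)

/-- The image of a minimal subcomodule under a comodule map not killing it has the same
coefficient space. -/
theorem cfS_map_eq (N : Submodule (opAlg K C V) V) (hN : IsAtom N) (g : V →ₗ[K] W)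
    (hg : Hoch.IsComodHom C g) (h0 : (N.restrictScalars K).map g ≠ ⊥) :
    cfS (C := C) ((N.restrictScalars K).map g) = cfS (C := C) (N.restrictScalars K) := by
  apply le_antisymm (cfS_map_le _ g hg)
  have hdisj := inf_ker_eq_bot_of_map_ne_bot N hN g hg h0
  have hker : LinearMap.ker (g ∘ₗ (N.restrictScalars K).subtype) = ⊥ := by
    rw [LinearMap.ker_eq_bot']
    intro s hs
    have h2 : (s : V) ∈ N.restrictScalars K ⊓ LinearMap.ker g := ⟨s.2, hs⟩
    rw [hdisj, Submodule.mem_bot] at h2
    exact Subtype.ext h2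
  obtain ⟨r, hr⟩ := LinearMap.exists_leftInverse_of_injective
    (g ∘ₗ (N.restrictScalars K).subtype) hker
  rw [cfS_le_iff]
  intro φ s hs
  let ψ : W →ₗ[K] K := φ ∘ₗ (N.restrictScalars K).subtype ∘ₗ r
  have hψ : ∀ s' ∈ N.restrictScalars K, φ s' = (ψ ∘ₗ g) s' := by
    intro s' hs'
    have h2 : r (g s') = ⟨s', hs'⟩ := LinearMap.congr_fun hr ⟨s', hs'⟩
    show φ s' = φ ((N.restrictScalars K).subtype (r (g s')))
    rw [h2]
    rfl
  rw [cfm_congr (N.restrictScalars K) (isSubcomod_restrictScalars N) φ (ψ ∘ₗ g) hψ hs,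
    ← cfm_comp_of_isComodHom g hg]
  exact cfm_mem_cfS _ ψ (Submodule.mem_map_of_mem hs)

end Atoms

section Main

variable {K : Type u} {C : Type v} [Field K] [AddCommGroup C] [Module K C] [Coalgebra K C]
variable {V : Type w} [AddCommGroup V] [Module K V] [HopfRep.Comod K C V]
variable {W : Type w'} [AddCommGroup W] [Module K W] [HopfRep.Comod K C W]

/-- The coefficient space of a minimal subcomodule is a simple subcoalgebra. -/
theorem isSimpleSubcoalg_cfS (N : Submodule (opAlg K C V) V) (hN : IsAtom N) :
    IsSimpleSubcoalg (cfS (C := C) (N.restrictScalars K)) := by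
  have hsub := isSubcomod_restrictScalars N
  refine ⟨?_, isSubcoalg_cfS _ hsub, fun B hBle hB => ?_⟩
  · obtain ⟨s, hs, hs0⟩ := Submodule.exists_mem_ne_zero_of_ne_bot hN.1
    obtain ⟨φ, hφ⟩ := exists_apply_ne_zero (K := K) hs0
    intro h
    have h1 : cfm (C := C) φ s ∈ cfS (C := C) (N.restrictScalars K) := cfm_mem_cfS _ φ hs
    rw [h, Submodule.mem_bot] at h1
    apply hφ
    rw [← counit_cfm (C := C) φ s, h1, map_zero]
  · by_cases hB0 : B = ⊥
    · exact Or.inl hB0
    · right
      refine le_antisymm hBle ?_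
      have hBsub := hB.isSubcomod
      obtain ⟨A', hA', hA'B⟩ := exists_isAtom_le (toOp B hBsub) (toOp_ne_bot hBsub hB0)
      have hAB : A'.restrictScalars K ≤ B := fun x hx => hA'B hx
      have hle : A' ≤ ⨆ φ : V →ₗ[K] K, toOp ((N.restrictScalars K).map (cfm (C := C) φ))
          (isSubcomod_map _ (isComodHom_cfm φ) _ hsub) := by
        apply le_iSup_toOp
        exact hAB.trans hBle
      have hT : ∀ φ : V →ₗ[K] K, toOp ((N.restrictScalars K).map (cfm (C := C) φ))
          (isSubcomod_map _ (isComodHom_cfm φ) _ hsub) = ⊥ ∨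
          IsAtom (toOp ((N.restrictScalars K).map (cfm (C := C) φ))
            (isSubcomod_map _ (isComodHom_cfm φ) _ hsub)) := by
        intro φ
        rcases map_eq_bot_or_isAtom N hN (cfm (C := C) φ) (isComodHom_cfm φ) with h | h
        · exact Or.inl (toOp_eq_bot _ h)
        · exact Or.inr h
      obtain ⟨φ, hφat, ⟨e⟩⟩ := exists_equiv_of_le_iSup A' hA' _ hT hle
      have h0 : (N.restrictScalars K).map (cfm (C := C) φ) ≠ ⊥ := fun h =>
        hφat.1 (toOp_eq_bot _ h)
      have h1 := cfS_eq_of_linearEquiv (C := C) A' _ e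
      rw [toOp_restrictScalars, cfS_map_eq N hN _ (isComodHom_cfm φ) h0] at h1
      rw [← h1]
      exact cfS_le_of_le hB hAB

/-- Every simple subcoalgebra is the coefficient space of a minimal subcomodule contained in it. -/
theorem exists_isAtom_cfS_eq (D : Submodule K C) (hD : IsSimpleSubcoalg D) :
    ∃ N : Submodule (opAlg K C C) C, IsAtom N ∧ N.restrictScalars K ≤ D ∧
      cfS (C := C) (V := C) (N.restrictScalars K) = D := by
  have hDsub := hD.2.1.isSubcomod
  obtain ⟨N, hN, hND⟩ := exists_isAtom_le (toOp D hDsub) (toOp_ne_bot hDsub hD.1)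
  have hle : N.restrictScalars K ≤ D := fun x hx => hND hx
  refine ⟨N, hN, hle, ?_⟩
  have h1 : cfS (C := C) (V := C) (N.restrictScalars K) ≤ D := cfS_le_of_le hD.2.1 hle
  rcases hD.2.2 _ h1 (isSubcoalg_cfS _ (isSubcomod_restrictScalars N)) with h | h
  · exact absurd h (isSimpleSubcoalg_cfS N hN).1
  · exact h

/-- Distinct simple subcoalgebras are independent. -/
theorem iSupIndep_simpleSubcoalg :
    iSupIndep (fun i : {D : Submodule K C // IsSimpleSubcoalg D} => (i.1 : Submodule K C)) := by
  classical
  rw [iSupIndep_def]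
  intro j
  rw [disjoint_iff]
  by_contra hne
  have hYsub : IsSubcoalg (j.1 ⊓ ⨆ (i : {D : Submodule K C // IsSimpleSubcoalg D}) (_ : i ≠ j),
      (i.1 : Submodule K C)) :=
    isSubcoalg_inf j.2.2.1 (isSubcoalg_iSup _ fun i => isSubcoalg_iSup _ fun _ => i.2.2.1)
  rcases j.2.2.2 _ inf_le_left hYsub with h | h
  · exact hne h
  · have hjle := inf_eq_left.mp h
    choose A hA hAle hAcf using fun i : {D : Submodule K C // IsSimpleSubcoalg D} =>
      exists_isAtom_cfS_eq i.1 i.2
    let T : ({i : {D : Submodule K C // IsSimpleSubcoalg D} // i ≠ j} × (C →ₗ[K] K)) →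
        Submodule (opAlg K C C) C :=
      fun p => toOp (((A p.1.1).restrictScalars K).map (cfm (C := C) (V := C) p.2))
        (isSubcomod_map _ (isComodHom_cfm p.2) _ (isSubcomod_restrictScalars (A p.1.1)))
    have hTr : ∀ p, (T p).restrictScalars K =
        ((A p.1.1).restrictScalars K).map (cfm (C := C) (V := C) p.2) :=
      fun p => toOp_restrictScalars _ _
    have hle : A j ≤ ⨆ p, T p := by
      apply le_iSup_toOp
      refine (hAle j).trans (hjle.trans ?_)
      refine iSup_le fun i => iSup_le fun hi => ?_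
      rw [← hAcf i]
      unfold cfS
      refine iSup_le fun φ => ?_
      exact le_iSup (fun p : ({i : {D : Submodule K C // IsSimpleSubcoalg D} // i ≠ j} ×
        (C →ₗ[K] K)) => ((A p.1.1).restrictScalars K).map (cfm (C := C) (V := C) p.2))
        (⟨⟨i, hi⟩, φ⟩)
    have hT : ∀ p, T p = ⊥ ∨ IsAtom (T p) := by
      intro p
      rcases map_eq_bot_or_isAtom (A p.1.1) (hA p.1.1) (cfm (C := C) (V := C) p.2)
        (isComodHom_cfm p.2) with h | h
      · exact Or.inl (toOp_eq_bot _ h)
      · exact Or.inr h
    obtain ⟨p, hpat, ⟨e⟩⟩ := exists_equiv_of_le_iSup (A j) (hA j) T hT hle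
    have h0 : ((A p.1.1).restrictScalars K).map (cfm (C := C) (V := C) p.2) ≠ ⊥ := fun h =>
      hpat.1 (toOp_eq_bot _ h)
    have h1 := cfS_eq_of_linearEquiv (C := C) (A j) (T p) e
    rw [hTr, cfS_map_eq (A p.1.1) (hA p.1.1) _ (isComodHom_cfm p.2) h0, hAcf, hAcf] at h1
    exact p.1.2 (Subtype.ext h1.symm)

/-- If the regular comodule is semisimple, the simple subcoalgebras span. -/
theorem iSup_simpleSubcoalg_eq_top (hss : HopfRep.IsSemisimpleComod K C C) :
    (⨆ i : {D : Submodule K C // IsSimpleSubcoalg D}, (i.1 : Submodule K C)) = ⊤ := by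
  have hssM : IsSemisimpleModule (opAlg K C C) C := isSemisimpleComod_iff.mp hss
  have hsub : HopfRep.IsSubcomod (k := K) (A := C)
      (⨆ i : {D : Submodule K C // IsSimpleSubcoalg D}, (i.1 : Submodule K C)) :=
    isSubcomod_iSup _ fun i => i.2.2.1.isSubcomod
  have hle : sSup {m : Submodule (opAlg K C C) C | IsSimpleModule (opAlg K C C) m} ≤
      toOp _ hsub := by
    apply sSup_le
    intro m hm
    have hat : IsAtom m := isSimpleModule_iff_isAtom.mp hm
    intro x hx
    have h1 : x ∈ cfS (C := C) (V := C) (m.restrictScalars K) := le_cfS_regular _ hx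
    exact (le_iSup (fun i : {D : Submodule K C // IsSimpleSubcoalg D} => (i.1 : Submodule K C))
      ⟨_, isSimpleSubcoalg_cfS m hat⟩) h1
  rw [IsSemisimpleModule.sSup_simples_eq_top (opAlg K C C) C] at hle
  rw [eq_top_iff]
  intro x _
  exact hle (Submodule.mem_top : x ∈ (⊤ : Submodule (opAlg K C C) C))

/-- The coefficient space of a minimal subcomodule is a sum of minimal subcomodules of the regular
comodule. -/
lemma cfS_le_sSup_atoms (N : Submodule (opAlg K C V) V) (hN : IsAtom N) :
    cfS (C := C) (N.restrictScalars K) ≤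
      (sSup {a : Submodule (opAlg K C C) C | IsAtom a}).restrictScalars K := by
  unfold cfS
  refine iSup_le fun φ => ?_
  rcases map_eq_bot_or_isAtom N hN (cfm (C := C) φ) (isComodHom_cfm φ) with h | h
  · rw [h]; exact bot_le
  · intro x hx
    exact (le_sSup (show toOp ((N.restrictScalars K).map (cfm (C := C) φ)) _ ∈
      {a : Submodule (opAlg K C C) C | IsAtom a} from h)) hx

/-- A comodule with an injective comodule map into a semisimple comodule is semisimple. -/
theorem isSemisimpleComod_of_injective (g : V →ₗ[K] W) (hg : Hoch.IsComodHom C g)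
    (hinj : Function.Injective g) (hW : HopfRep.IsSemisimpleComod K C W) :
    HopfRep.IsSemisimpleComod K C V := by
  intro U hU
  obtain ⟨U', hU', hc⟩ := hW (U.map g) (isSubcomod_map g hg U hU)
  refine ⟨U'.comap g, isSubcomod_comap g hg U' hU', ?_, ?_⟩
  · rw [disjoint_iff, eq_bot_iff]
    rintro x ⟨hx1, hx2⟩
    have h2 : g x ∈ U.map g ⊓ U' := ⟨Submodule.mem_map_of_mem hx1, hx2⟩
    rw [hc.inf_eq_bot, Submodule.mem_bot] at h2
    rw [Submodule.mem_bot]
    exact hinj (h2.trans (map_zero g).symm)
  · rw [codisjoint_iff, eq_top_iff]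
    intro x _
    have h2 : g x ∈ U.map g ⊔ U' := by rw [hc.sup_eq_top]; trivial
    obtain ⟨y, ⟨u, hu, rfl⟩, z, hz, hyz⟩ := Submodule.mem_sup.mp h2
    have hz' : x - u ∈ U'.comap g := by
      show g (x - u) ∈ U'
      rw [map_sub, ← hyz, add_sub_cancel_left]
      exact hz
    have h3 : x = u + (x - u) := by abel
    rw [h3]
    exact Submodule.add_mem_sup hu hz'

end Main

section Cofree

variable {K : Type u} {C : Type v} [Field K] [AddCommGroup C] [Module K C] [Coalgebra K C]
variable {V : Type w} [AddCommGroup V] [Module K V] [HopfRep.Comod K C V]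

theorem isComodHom_toInd : Hoch.IsComodHom C (Hoch.toInd K C V) := by
  unfold Hoch.IsComodHom
  have h := HopfRep.Comod.coassoc (k := K) (A := C) (V := V)
  refine LinearMap.ext fun v => ?_
  have hv := LinearMap.congr_fun h v
  simp only [LinearMap.comp_apply, LinearEquiv.coe_coe] at hv
  change (TensorProduct.assoc K V C C).symm ((Coalgebra.comul (R := K) (A := C)).lTensor V
      (HopfRep.Comod.coact (k := K) (A := C) v)) =
    (HopfRep.Comod.coact (k := K) (A := C)).rTensor C (HopfRep.Comod.coact (k := K) (A := C) v)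
  rw [← hv, LinearEquiv.symm_apply_apply]

theorem toInd_injective : Function.Injective (Hoch.toInd K C V) := by
  have h : Hoch.Ind.counit K C V ∘ₗ Hoch.toInd K C V = LinearMap.id := by
    refine LinearMap.ext fun v => ?_
    have hv := LinearMap.congr_fun (HopfRep.Comod.counit_comp (k := K) (A := C) (V := V)) v
    simp only [LinearMap.comp_apply, LinearMap.flip_apply, TensorProduct.mk_apply] at hv
    change (TensorProduct.rid K V) ((Coalgebra.counit (R := K) (A := C)).lTensor V
      (HopfRep.Comod.coact (k := K) (A := C) v)) = v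
    rw [hv, TensorProduct.rid_tmul, one_smul]
  intro a b hab
  have := congrArg (Hoch.Ind.counit K C V) hab
  rwa [← LinearMap.comp_apply, ← LinearMap.comp_apply, h] at this

/-- `c ↦ v ⊗ c` into the induced comodule. -/
noncomputable def jv (v : V) : C →ₗ[K] Hoch.Ind K C V :=
  (Hoch.Ind.equiv K C V).toLinearMap ∘ₗ (TensorProduct.mk K V C v)

lemma isComodHom_jv (v : V) : Hoch.IsComodHom C (jv (K := K) (C := C) v) := by
  unfold Hoch.IsComodHom
  apply LinearMap.ext
  intro c
  simp only [LinearMap.comp_apply]
  show @Eq ((V ⊗[K] C) ⊗[K] C)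
    ((TensorProduct.assoc K V C C).symm (v ⊗ₜ[K] Coalgebra.comul (R := K) c))
    ((jv (K := K) (C := C) v).rTensor C (Coalgebra.comul (R := K) c))
  generalize Coalgebra.comul (R := K) c = t
  induction t using TensorProduct.induction_on with
  | zero =>
    simp
    rfl
  | tmul a b => rfl
  | add x y hx hy =>
    simp only [TensorProduct.tmul_add, map_add, hx, hy]
    rfl

lemma iSup_range_jv : (⨆ v : V, LinearMap.range (jv (K := K) (C := C) v)) = ⊤ := by
  rw [eq_top_iff]
  intro x _
  have key : ∀ y : V ⊗[K] C, (Hoch.Ind.equiv K C V y) ∈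
      ⨆ v : V, LinearMap.range (jv (K := K) (C := C) v) := by
    intro y
    induction y using TensorProduct.induction_on with
    | zero => rw [map_zero]; exact Submodule.zero_mem _
    | tmul v c =>
      exact (le_iSup (fun v : V => LinearMap.range (jv (K := K) (C := C) v)) v) ⟨c, rfl⟩
    | add a b ha hb => rw [map_add]; exact Submodule.add_mem _ ha hb
  have := key ((Hoch.Ind.equiv K C V).symm x)
  rwa [LinearEquiv.apply_symm_apply] at this

/-- A coalgebra which is a sum of simple subcoalgebras has only semisimple comodules. -/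
theorem isSemisimpleComod_of_decomposition {ι : Type*} (D : ι → Submodule K C)
    (hD : ∀ i, IsSimpleSubcoalg (D i)) (htop : iSup D = ⊤) :
    HopfRep.IsSemisimpleComod K C V := by
  -- the regular comodule is a sum of minimal subcomodules
  have h1 : sSup {a : Submodule (opAlg K C C) C | IsAtom a} = ⊤ := by
    rw [eq_top_iff]
    intro x _
    have hx : x ∈ iSup D := by rw [htop]; trivial
    have hle : iSup D ≤ (sSup {a : Submodule (opAlg K C C) C | IsAtom a}).restrictScalars K := by
      refine iSup_le fun i => ?_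
      obtain ⟨N, hN, _, hcf⟩ := exists_isAtom_cfS_eq (D i) (hD i)
      rw [← hcf]
      exact cfS_le_sSup_atoms N hN
    exact hle hx
  -- the induced comodule is a sum of minimal subcomodules
  have h2 : sSup {a : Submodule (opAlg K C (Hoch.Ind K C V)) (Hoch.Ind K C V) | IsAtom a} = ⊤ := by
    rw [eq_top_iff]
    intro x _
    have hx : x ∈ ⨆ v : V, LinearMap.range (jv (K := K) (C := C) v) := by
      rw [iSup_range_jv]; trivial
    have hle : (⨆ v : V, LinearMap.range (jv (K := K) (C := C) v)) ≤
        (sSup {a : Submodule (opAlg K C (Hoch.Ind K C V)) (Hoch.Ind K C V) |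
          IsAtom a}).restrictScalars K := by
      refine iSup_le fun v => ?_
      rintro _ ⟨c, rfl⟩
      have hc : c ∈ sSup {a : Submodule (opAlg K C C) C | IsAtom a} := by rw [h1]; trivial
      rw [sSup_eq_iSup'] at hc
      refine Submodule.iSup_induction
        (fun a : {a : Submodule (opAlg K C C) C | IsAtom a} => (a.1 : Submodule (opAlg K C C) C))
        (motive := fun c => jv (K := K) (C := C) v c ∈
          (sSup {a : Submodule (opAlg K C (Hoch.Ind K C V)) (Hoch.Ind K C V) |
            IsAtom a}).restrictScalars K) hc ?_ ?_ ?_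
      · intro a c hc
        rcases map_eq_bot_or_isAtom a.1 a.2 (jv (K := K) (C := C) v) (isComodHom_jv v) with h | h
        · have h3 : jv (K := K) (C := C) v c ∈
              (a.1.restrictScalars K).map (jv (K := K) (C := C) v) :=
            Submodule.mem_map_of_mem hc
          rw [h, Submodule.mem_bot] at h3
          rw [h3]
          exact Submodule.zero_mem _
        · exact (le_sSup (show toOp ((a.1.restrictScalars K).map (jv (K := K) (C := C) v)) _ ∈
            {a : Submodule (opAlg K C (Hoch.Ind K C V)) (Hoch.Ind K C V) | IsAtom a} from h))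
            (Submodule.mem_map_of_mem hc)
      · rw [map_zero]; exact Submodule.zero_mem _
      · intro x y hx hy
        rw [map_add]; exact Submodule.add_mem _ hx hy
    exact hle hx
  have h3 : IsSemisimpleModule (opAlg K C (Hoch.Ind K C V)) (Hoch.Ind K C V) :=
    (isSemisimpleModule_iff _ _).mpr (complementedLattice_of_sSup_atoms_eq_top h2)
  exact isSemisimpleComod_of_injective (Hoch.toInd K C V) isComodHom_toInd toInd_injective
    (isSemisimpleComod_iff.mpr h3)

end Cofree

section Finite

variable {K : Type u} {C : Type v} [Field K] [AddCommGroup C] [Module K C] [Coalgebra K C]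
variable {V : Type w} [AddCommGroup V] [Module K V] [HopfRep.Comod K C V]

/-- The coefficient space of a finite-dimensional subspace is finite-dimensional. -/
theorem finiteDimensional_cfS (S : Submodule K V) [FiniteDimensional K S] :
    FiniteDimensional K (cfS (C := C) S) := by
  classical
  obtain ⟨t, ht⟩ := (Module.Finite.fg_top : (⊤ : Submodule K S).FG)
  choose F hF using fun s : S =>
    exists_finite_span_lsl (K := K) (HopfRep.Comod.coact (k := K) (A := C) (s : V))
  let T : Finset C := t.biUnion F
  have hle : cfS (C := C) S ≤ Submodule.span K (T : Set C) := by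
    rw [cfS_le_iff]
    intro φ s hs
    have hmem : (⟨s, hs⟩ : S) ∈ Submodule.span K (t : Set S) := by rw [ht]; trivial
    have key : ∀ x : S, x ∈ Submodule.span K (t : Set S) →
        cfm (C := C) φ (x : V) ∈ Submodule.span K (T : Set C) := by
      intro x hx
      induction hx using Submodule.span_induction with
      | mem y hy =>
        have h1 := hF y φ
        exact Submodule.span_mono (fun z hz => Finset.mem_coe.mpr
          (Finset.mem_biUnion.mpr ⟨y, Finset.mem_coe.mp hy, Finset.mem_coe.mp hz⟩)) h1
      | zero => simp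
      | add x y _ _ hx hy =>
        rw [Submodule.coe_add, map_add]; exact Submodule.add_mem _ hx hy
      | smul c x _ hx =>
        rw [Submodule.coe_smul, map_smul]; exact Submodule.smul_mem _ c hx
    exact key ⟨s, hs⟩ hmem
  haveI : FiniteDimensional K (Submodule.span K (T : Set C)) := FiniteDimensional.span_finset K T
  exact Submodule.finiteDimensional_of_le hle

end Finite

end Groth.Agent.Lib.Helper19.Coalg
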