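import Mathlib
import Groth.Prelude.Def_ConstGrp

/-!
# Reduced finite commutative Hopf algebras over an algebraically closed field (helper19)

For a finite-dimensional reduced commutative algebra `A` over an algebraically closed field `k`
the characters `A →ₐ[k] k` separate the elements of `A` and there are `dim A` of them.  If `A` is a
Hopf algebra, the characters form a group `X` under convolution and `A` is the algebra of functions
on `X` *as a bialgebra*: for every group isomorphism `σ : Γ ≃* X` we get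
`A ≃ₐc[k] ConstGrp.F k Γ`.  In particular a reduced Hopf algebra of prime dimension `ℓ` is the
algebra of functions on the cyclic group of order `ℓ`.
-/

set_option autoImplicit false
universe u v w

open TensorProduct

namespace Groth.Agent.Lib.Helper19.EtaleConst

section Points

variable (k : Type u) [Field k] [IsAlgClosed k] (A : Type v) [CommRing A] [Algebra k A]
  [Module.Finite k A]

variable {A} in
/-- characters separate the elements of a reduced finite algebra over an alg. closed field -/
theorem exists_algHom_ne_zero [IsReduced A] {a : A} (ha : a ≠ 0) :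
    ∃ χ : A →ₐ[k] k, χ a ≠ 0 := by
  have hnil : ¬ IsNilpotent a := fun h => ha h.eq_zero
  have hmem : a ∉ nilradical A := fun h => hnil (mem_nilradical.1 h)
  obtain ⟨P, hP, haP⟩ : ∃ P : Ideal A, P.IsPrime ∧ a ∉ P := by
    by_contra hcon
    apply hmem
    rw [nilradical_eq_sInf, Ideal.mem_sInf]
    intro I hI
    by_contra haI
    exact hcon ⟨I, hI, haI⟩
  haveI : P.IsPrime := hP
  haveI : IsDomain (A ⧸ P) := Ideal.Quotient.isDomain P
  haveI : Module.Finite k (A ⧸ P) :=
    Module.Finite.of_surjective (Ideal.Quotient.mkₐ k P).toLinearMap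
      (Ideal.Quotient.mkₐ_surjective k P)
  haveI : Algebra.IsIntegral k (A ⧸ P) := Algebra.IsIntegral.of_finite k (A ⧸ P)
  have hbij : Function.Bijective (algebraMap k (A ⧸ P)) :=
    IsAlgClosed.algebraMap_bijective_of_isIntegral
  let e : k ≃ₐ[k] (A ⧸ P) := AlgEquiv.ofBijective (Algebra.ofId k (A ⧸ P)) hbij
  refine ⟨(e.symm : (A ⧸ P) →ₐ[k] k).comp (Ideal.Quotient.mkₐ k P), fun h => haP ?_⟩
  have h1 : e.symm (Ideal.Quotient.mkₐ k P a) = 0 := h
  have h2 : Ideal.Quotient.mkₐ k P a = 0 := by
    have h3 := congrArg e h1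
    rwa [AlgEquiv.apply_symm_apply, map_zero] at h3
  exact Ideal.Quotient.eq_zero_iff_mem.1 h2

/-- evaluation at all characters -/
noncomputable def evAll : A →ₐ[k] ((A →ₐ[k] k) → k) :=
  AlgHom.pi (fun χ : A →ₐ[k] k => χ)

theorem evAll_injective [IsReduced A] : Function.Injective (evAll k A) := by
  rw [injective_iff_map_eq_zero]
  intro a ha
  by_contra hne
  obtain ⟨χ, hχ⟩ := exists_algHom_ne_zero k hne
  exact hχ (congrFun ha χ)

/-- a reduced finite algebra over an alg. closed field has exactly `dim A` characters -/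
theorem card_algHom_eq [IsReduced A] : Nat.card (A →ₐ[k] k) = Module.finrank k A := by
  apply le_antisymm (card_algHom_le_finrank k A k)
  haveI : Finite (A →ₐ[k] k) := Finite.algHom k A k
  haveI : Fintype (A →ₐ[k] k) := Fintype.ofFinite _
  have h := LinearMap.finrank_le_finrank_of_injective (f := (evAll k A).toLinearMap)
    (evAll_injective k A)
  rw [Module.finrank_fintype_fun_eq_card] at h
  rw [Nat.card_eq_fintype_card]
  exact h

end Points

section Hopf

variable (k : Type u) [Field k] {A : Type v} [CommRing A] [HopfAlgebra k A]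
variable {Γ : Type w} [Group Γ] [Fintype Γ] [DecidableEq Γ]

/-- the algebra map `A → F k Γ`, `a ↦ (γ ↦ σ γ a)` -/
noncomputable def PhiAlg (σ : Γ → WithConv (A →ₐ[k] k)) : A →ₐ[k] ConstGrp.F k Γ :=
  ((ConstGrp.equivFun k Γ).symm : (Γ → k) →ₐ[k] ConstGrp.F k Γ).comp
    (AlgHom.pi (fun γ : Γ => (σ γ).ofConv))

omit [Group Γ] [Fintype Γ] [DecidableEq Γ] in
lemma PhiAlg_apply (σ : Γ → WithConv (A →ₐ[k] k)) (a : A) (γ : Γ) :
    PhiAlg k σ a γ = (σ γ).ofConv a := rfl

omit [Group Γ] in
lemma map_PhiAlg (σ : Γ → WithConv (A →ₐ[k] k)) (t : A ⊗[k] A) :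
    Algebra.TensorProduct.map (PhiAlg k σ) (PhiAlg k σ) t =
      ∑ γ : Γ, ∑ γ' : Γ,
        (Algebra.TensorProduct.lift (σ γ).ofConv (σ γ').ofConv (fun _ _ => Commute.all _ _) t) •
          (ConstGrp.e k γ ⊗ₜ[k] ConstGrp.e k γ') := by
  induction t using TensorProduct.induction_on with
  | zero => simp only [map_zero, zero_smul, Finset.sum_const_zero]
  | tmul x y =>
    rw [Algebra.TensorProduct.map_tmul]
    calc PhiAlg k σ x ⊗ₜ[k] PhiAlg k σ y
        = (∑ γ : Γ, PhiAlg k σ x γ • ConstGrp.e k γ) ⊗ₜ[k]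
            (∑ γ' : Γ, PhiAlg k σ y γ' • ConstGrp.e k γ') :=
          congrArg₂ (fun u v => u ⊗ₜ[k] v) (ConstGrp.eq_sum_smul_e (PhiAlg k σ x))
            (ConstGrp.eq_sum_smul_e (PhiAlg k σ y))
      _ = ∑ γ : Γ, ∑ γ' : Γ, (PhiAlg k σ x γ * PhiAlg k σ y γ') •
            (ConstGrp.e k γ ⊗ₜ[k] ConstGrp.e k γ') := by
          rw [TensorProduct.sum_tmul]
          refine Finset.sum_congr rfl fun γ _ => ?_
          rw [TensorProduct.tmul_sum]
          refine Finset.sum_congr rfl fun γ' _ => ?_
          rw [TensorProduct.smul_tmul_smul]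
      _ = _ := by
          refine Finset.sum_congr rfl fun γ _ => Finset.sum_congr rfl fun γ' _ => ?_
          rw [Algebra.TensorProduct.lift_tmul]
          rfl
  | add t₁ t₂ h₁ h₂ =>
    rw [map_add, h₁, h₂, ← Finset.sum_add_distrib]
    refine Finset.sum_congr rfl fun γ _ => ?_
    rw [← Finset.sum_add_distrib]
    refine Finset.sum_congr rfl fun γ' _ => ?_
    rw [← add_smul, ← map_add]

/-- the bialgebra map `A → F k Γ` attached to a group homomorphism into the characters -/
noncomputable def PhiBialg (σ : Γ →* WithConv (A →ₐ[k] k)) : A →ₐc[k] ConstGrp.F k Γ :=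
  BialgHom.ofAlgHom (PhiAlg k σ)
    (by
      apply AlgHom.ext
      intro a
      show Coalgebra.counit (R := k) (PhiAlg k σ a) = Coalgebra.counit (R := k) a
      rw [ConstGrp.counit_apply, PhiAlg_apply, map_one]
      rfl)
    (by
      apply AlgHom.ext
      intro a
      show Algebra.TensorProduct.map (PhiAlg k σ) (PhiAlg k σ) (Coalgebra.comul (R := k) a) =
        Coalgebra.comul (R := k) (PhiAlg k σ a)
      rw [map_PhiAlg, ConstGrp.comul_eq_sum]
      refine Finset.sum_congr rfl fun γ _ => Finset.sum_congr rfl fun γ' _ => ?_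
      congr 1
      rw [PhiAlg_apply, map_mul]
      exact (AlgHom.convMul_apply (σ γ) (σ γ') a).symm)

lemma PhiBialg_apply (σ : Γ →* WithConv (A →ₐ[k] k)) (a : A) :
    PhiBialg k σ a = PhiAlg k σ a := rfl

omit [Group Γ] [Fintype Γ] [DecidableEq Γ] in
lemma PhiAlg_injective [IsAlgClosed k] [Module.Finite k A] [IsReduced A]
    (σ : Γ → WithConv (A →ₐ[k] k)) (hσ : Function.Surjective σ) :
    Function.Injective (PhiAlg k σ) := by
  rw [injective_iff_map_eq_zero]
  intro a ha
  by_contra hne
  obtain ⟨χ, hχ⟩ := exists_algHom_ne_zero k hne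
  obtain ⟨γ, hγ⟩ := hσ (WithConv.toConv χ)
  apply hχ
  have h1 : PhiAlg k σ a γ = 0 := by rw [ha]; rfl
  rw [PhiAlg_apply, hγ] at h1
  exact h1

omit [Group Γ] [DecidableEq Γ] in
lemma finrank_F : Module.finrank k (ConstGrp.F k Γ) = Fintype.card Γ :=
  Module.finrank_eq_card_basis (ConstGrp.basis k Γ)

variable (A) in
/-- **A reduced finite Hopf algebra over an alg. closed field is the algebra of functions on its
group of characters.** -/
theorem nonempty_bialgEquiv_of_mulEquiv [IsAlgClosed k] [Module.Finite k A] [IsReduced A]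
    (σ : Γ ≃* WithConv (A →ₐ[k] k)) : Nonempty (A ≃ₐc[k] ConstGrp.F k Γ) := by
  have hfr : Module.finrank k A = Module.finrank k (ConstGrp.F k Γ) := by
    rw [finrank_F, ← card_algHom_eq k A, ← Nat.card_eq_fintype_card]
    exact (Nat.card_congr (σ.toEquiv.trans (WithConv.equiv _))).symm
  have hinj : Function.Injective (PhiAlg k (σ : Γ → WithConv (A →ₐ[k] k))) :=
    PhiAlg_injective k _ σ.surjective
  have hsurj : Function.Surjective (PhiAlg k (σ : Γ → WithConv (A →ₐ[k] k))) :=
    (LinearMap.injective_iff_surjective_of_finrank_eq_finrank hfr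
      (f := (PhiAlg k (σ : Γ → WithConv (A →ₐ[k] k))).toLinearMap)).1 hinj
  have hbij : Function.Bijective (PhiBialg k σ.toMonoidHom) := ⟨hinj, hsurj⟩
  exact ⟨BialgEquiv.ofBijective (PhiBialg k σ.toMonoidHom) hbij⟩

variable (A) in
/-- **A reduced Hopf algebra of prime dimension `ℓ` over an alg. closed field is the algebra of
functions on `ℤ/ℓ`.** -/
theorem nonempty_bialgEquiv_zmod [IsAlgClosed k] [IsReduced A] (ℓ : ℕ) [Fact ℓ.Prime]
    (hA : Module.finrank k A = ℓ) :
    Nonempty (A ≃ₐc[k] ConstGrp.F k (Multiplicative (ZMod ℓ))) := by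
  haveI : Module.Finite k A :=
    Module.finite_of_finrank_pos (by rw [hA]; exact (Fact.out : ℓ.Prime).pos)
  have hcard : Nat.card (WithConv (A →ₐ[k] k)) = ℓ := by
    rw [Nat.card_congr (WithConv.equiv _), card_algHom_eq k A, hA]
  have hcyc : IsCyclic (WithConv (A →ₐ[k] k)) := isCyclic_of_prime_card hcard
  subst hcard
  exact nonempty_bialgEquiv_of_mulEquiv k A (zmodCyclicMulEquiv hcyc)

end Hopf

end Groth.Agent.Lib.Helper19.EtaleConst
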