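import Groth.Agent.Lib.Helper19.Trig
import Groth.Agent.Lib.Helper19.Unip2
import Mathlib.RingTheory.HopfAlgebra.TensorProduct
import Mathlib.RingTheory.HopfAlgebra.GroupLike

/-!
# Groups of multiplicative type (helper19)

* `mem_Eig_of_ext`: for a cocommutative Hopf algebra without primitive elements, an extension of
  an eigenvector by an eigenvector is spanned by eigenvectors.
* `Eig_eq_top_aux`, `isDiagonalizable_of_cocomm`: over an algebraically closed field, a cocommutative
  Hopf algebra without non-zero primitive elements is diagonalizable.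
* `isCocomm_of_isDiagonalizable`, `primitive_eq_zero_of_isDiagonalizable`.
* base change: `comul_baseChange_tmul`, `prim_baseChange`, `primitive_baseChange`, `isCocomm_descend`,
  `forward`, `backward`.
-/

set_option autoImplicit false
set_option linter.unusedSectionVars false
universe u v w

open TensorProduct

namespace Groth.Agent.Lib.Helper19.MultType

open Groth.Agent.Lib.Helper19.Reynolds
open Groth.Agent.Lib.Helper19.Coalg
open Groth.Agent.Lib.Helper19.Diag
open Groth.Agent.Lib.Helper19.Unip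
open Groth.Agent.Lib.Helper28.ComodHom

section PartA

variable {k : Type u} [Field k] {A : Type v} [CommRing A] [HopfAlgebra k A]
variable {V : Type w} [AddCommGroup V] [Module k V] [HopfRep.Comod k A V]

omit [HopfRep.Comod k A V] in
lemma exists_dual_pair (x y : V) (hy : y ∉ Submodule.span k {x}) :
    ∃ φ : V →ₗ[k] k, φ y = 1 ∧ φ x = 0 := by
  obtain ⟨f, hf, hle⟩ := Submodule.exists_le_ker_of_notMem hy
  have hx : f x = 0 := hle (Submodule.mem_span_singleton_self x)
  refine ⟨(f y)⁻¹ • f, ?_, ?_⟩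
  · rw [LinearMap.smul_apply, smul_eq_mul, inv_mul_cancel₀ hf]
  · rw [LinearMap.smul_apply, hx, smul_zero]

lemma comul_cfm (θ : V →ₗ[k] k) (u : V) :
    Coalgebra.comul (R := k) (cfm (C := A) θ u) =
      (cfm (C := A) θ).rTensor A (HopfRep.Comod.coact (k := k) (A := A) u) := by
  have h := LinearMap.congr_fun (isComodHom_cfm (C := A) θ) u
  exact h

lemma groupLike_of_eigen (v : V) (χ : A) (hv : v ≠ 0)
    (h : HopfRep.Comod.coact (k := k) (A := A) v = v ⊗ₜ[k] χ) : IsGroupLikeElem k χ := by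
  obtain ⟨f, hf⟩ := exists_apply_ne_zero (K := k) hv
  have hψ : ((f v)⁻¹ • f) v = 1 := by
    rw [LinearMap.smul_apply, smul_eq_mul, inv_mul_cancel₀ hf]
  generalize (f v)⁻¹ • f = ψ at hψ
  have hc : cfm (C := A) ψ v = χ := by
    rw [cfm_apply, h, lsl_tmul, hψ, one_smul]
  constructor
  · rw [← hc, counit_cfm, hψ]
  · have h2 := comul_cfm (A := A) ψ v
    rw [h, LinearMap.rTensor_tmul, hc] at h2
    exact h2

lemma comul_of_ext (v₁ w : V) (χ₁ χ a : A) (hw : w ∉ Submodule.span k {v₁}) (hv₁ : v₁ ≠ 0)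
    (h1 : HopfRep.Comod.coact (k := k) (A := A) v₁ = v₁ ⊗ₜ[k] χ₁)
    (h2 : HopfRep.Comod.coact (k := k) (A := A) w = w ⊗ₜ[k] χ + v₁ ⊗ₜ[k] a) :
    IsGroupLikeElem k χ ∧ Coalgebra.comul (R := k) a = a ⊗ₜ[k] χ + χ₁ ⊗ₜ[k] a := by
  obtain ⟨φ, hφw, hφv⟩ := exists_dual_pair v₁ w hw
  have hv₁' : v₁ ∉ Submodule.span k {w} := by
    intro hmem
    obtain ⟨c, hc⟩ := Submodule.mem_span_singleton.mp hmem
    have hc0 : c ≠ 0 := by
      rintro rfl
      rw [zero_smul] at hc
      exact hv₁ hc.symm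
    apply hw
    rw [Submodule.mem_span_singleton]
    refine ⟨c⁻¹, ?_⟩
    rw [← hc, smul_smul, inv_mul_cancel₀ hc0, one_smul]
  obtain ⟨ψ, hψv, hψw⟩ := exists_dual_pair w v₁ hv₁'
  have c1 : cfm (C := A) φ w = χ := by
    rw [cfm_apply, h2, map_add, lsl_tmul, lsl_tmul, hφw, hφv, one_smul, zero_smul, add_zero]
  have c2 : cfm (C := A) ψ w = a := by
    rw [cfm_apply, h2, map_add, lsl_tmul, lsl_tmul, hψw, hψv, one_smul, zero_smul, zero_add]
  have c3 : cfm (C := A) ψ v₁ = χ₁ := by
    rw [cfm_apply, h1, lsl_tmul, hψv, one_smul]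
  have c4 : cfm (C := A) φ v₁ = 0 := by
    rw [cfm_apply, h1, lsl_tmul, hφv, zero_smul]
  refine ⟨⟨?_, ?_⟩, ?_⟩
  · rw [← c1, counit_cfm, hφw]
  · have h := comul_cfm (A := A) φ w
    rw [h2, map_add, LinearMap.rTensor_tmul, LinearMap.rTensor_tmul, c1, c4,
      TensorProduct.zero_tmul, add_zero] at h
    exact h
  · have h := comul_cfm (A := A) ψ w
    rw [h2, map_add, LinearMap.rTensor_tmul, LinearMap.rTensor_tmul, c2, c3] at h
    exact h

omit [HopfRep.Comod k A V] in
lemma exists_smul_of_skew [Coalgebra.IsCocomm k A]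
    (hP : ∀ f : A, Coalgebra.comul (R := k) f = f ⊗ₜ[k] (1 : A) + (1 : A) ⊗ₜ[k] f → f = 0)
    (χ₁ χ a : A) (hχ : IsGroupLikeElem k χ)
    (ha : Coalgebra.comul (R := k) a = a ⊗ₜ[k] χ + χ₁ ⊗ₜ[k] a) :
    ∃ c : k, a = c • (χ - χ₁) := by
  by_cases hEq : χ = χ₁
  · subst hEq
    refine ⟨0, ?_⟩
    rw [zero_smul]
    have hb : HopfAlgebra.antipode k χ * a = 0 := by
      apply hP
      rw [Bialgebra.comul_mul, hχ.antipode.comul_eq_tmul_self, ha, mul_add,
        Algebra.TensorProduct.tmul_mul_tmul, Algebra.TensorProduct.tmul_mul_tmul,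
        hχ.antipode_mul_cancel]
    calc a = χ * (HopfAlgebra.antipode k χ * a) := by
          rw [← mul_assoc, hχ.mul_antipode_cancel, one_mul]
      _ = 0 := by rw [hb, mul_zero]
  · have hcomm := Coalgebra.comm_comul k a
    rw [ha, map_add, TensorProduct.comm_tmul, TensorProduct.comm_tmul] at hcomm
    have hd : χ - χ₁ ≠ 0 := sub_ne_zero.mpr hEq
    obtain ⟨θ, hθ⟩ := exists_apply_ne_zero (K := k) hd
    have h3 := congrArg (slice θ) hcomm
    rw [map_add, map_add, slice_tmul, slice_tmul, slice_tmul, slice_tmul] at h3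
    refine ⟨(θ (χ - χ₁))⁻¹ * θ a, ?_⟩
    have h4 : θ (χ - χ₁) • a = θ a • (χ - χ₁) := by
      rw [map_sub, sub_smul, smul_sub, sub_eq_sub_iff_add_eq_add]
      exact h3.symm
    rw [mul_smul, ← h4, smul_smul, inv_mul_cancel₀ hθ, one_smul]

theorem mem_Eig_of_ext [Coalgebra.IsCocomm k A]
    (hP : ∀ f : A, Coalgebra.comul (R := k) f = f ⊗ₜ[k] (1 : A) + (1 : A) ⊗ₜ[k] f → f = 0)
    (v₁ w : V) (χ₁ χ a : A)
    (h1 : HopfRep.Comod.coact (k := k) (A := A) v₁ = v₁ ⊗ₜ[k] χ₁)
    (h2 : HopfRep.Comod.coact (k := k) (A := A) w = w ⊗ₜ[k] χ + v₁ ⊗ₜ[k] a) :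
    w ∈ Eig k A V := by
  have hv₁E : v₁ ∈ Eig k A V := Submodule.subset_span ⟨χ₁, h1⟩
  by_cases hv₁ : v₁ = 0
  · subst hv₁
    rw [TensorProduct.zero_tmul, add_zero] at h2
    exact Submodule.subset_span ⟨χ, h2⟩
  by_cases hw : w ∈ Submodule.span k {v₁}
  · obtain ⟨c, rfl⟩ := Submodule.mem_span_singleton.mp hw
    exact Submodule.smul_mem _ _ hv₁E
  obtain ⟨hχ, ha⟩ := comul_of_ext v₁ w χ₁ χ a hw hv₁ h1 h2
  obtain ⟨c, rfl⟩ := exists_smul_of_skew hP χ₁ χ a hχ ha
  have h3 : HopfRep.Comod.coact (k := k) (A := A) (w + c • v₁) = (w + c • v₁) ⊗ₜ[k] χ := by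
    rw [map_add, map_smul, h2, h1, TensorProduct.tmul_smul, TensorProduct.tmul_sub, smul_sub,
      TensorProduct.add_tmul, ← TensorProduct.smul_tmul']
    abel
  have h4 : w + c • v₁ ∈ Eig k A V := Submodule.subset_span ⟨χ, h3⟩
  have h5 : w = (w + c • v₁) - c • v₁ := by abel
  rw [h5]
  exact Submodule.sub_mem _ h4 (Submodule.smul_mem _ _ hv₁E)

end PartA

section PartB

variable {k : Type u} [Field k] {A : Type v} [CommRing A] [HopfAlgebra k A]

theorem Eig_eq_top_aux [IsAlgClosed k] [Coalgebra.IsCocomm k A]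
    (hP : ∀ f : A, Coalgebra.comul (R := k) f = f ⊗ₜ[k] (1 : A) + (1 : A) ⊗ₜ[k] f → f = 0) :
    ∀ (n : ℕ) (V : Type w) [AddCommGroup V] [Module k V] [c : HopfRep.Comod k A V]
      [Module.Finite k V], Module.finrank k V = n → Eig k A V = ⊤ := by
  intro n
  induction n with
  | zero =>
    intro V _ _ c _ hn
    haveI : Subsingleton V := Module.finrank_zero_iff.mp hn
    exact eq_top_iff.2 fun x _ => by rw [Subsingleton.elim x 0]; exact zero_mem _
  | succ n ih =>
    intro V _ _ c _ hn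
    haveI hnt : Nontrivial V := Module.nontrivial_of_finrank_pos (R := k) (by omega)
    have htop : (⊤ : Submodule k V) ≠ ⊥ := top_ne_bot
    obtain ⟨S, hS, hSne, -, hSmin⟩ :=
      exists_minimal_subcomod (k := k) (A := A) (⊤ : Submodule k V) isSubcomod_top htop
    obtain ⟨v₁, hv₁S, hv₁0⟩ := Submodule.exists_mem_ne_zero_of_ne_bot hSne
    obtain ⟨χ₁, h1⟩ := exists_coact_eq_tmul_of_minimal S hS hSmin v₁ hv₁S
    set W : Submodule k V := Submodule.span k {v₁} with hWdef
    have hv₁W : v₁ ∈ W := Submodule.mem_span_singleton_self v₁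
    have hW : HopfRep.IsSubcomod (k := k) (A := A) W :=
      Trig.isSubcomod_span_singleton_of_eigen v₁ χ₁ h1
    letI cq : HopfRep.Comod k A (V ⧸ W) := ComodSub.Comod.quot c W hW
    have hrank : Module.finrank k (V ⧸ W) = n := by
      have e1 := Submodule.finrank_quotient_add_finrank W
      have e2 : Module.finrank k W = 1 := finrank_span_singleton hv₁0
      omega
    have hq : Eig k A (V ⧸ W) = ⊤ := ih (V ⧸ W) hrank
    have hv₁E : v₁ ∈ Eig k A V := Submodule.subset_span ⟨χ₁, h1⟩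
    have hWE : W ≤ Eig k A V := by
      rw [hWdef, Submodule.span_le, Set.singleton_subset_iff]
      exact hv₁E
    have hmap : (Eig k A V).map W.mkQ = ⊤ := by
      rw [eq_top_iff, ← hq]
      show Submodule.span k {v : V ⧸ W | ∃ a : A,
        HopfRep.Comod.coact (k := k) (A := A) v = v ⊗ₜ[k] a} ≤ _
      apply Submodule.span_le.mpr
      rintro q ⟨χ, hqχ⟩
      obtain ⟨w, rfl⟩ := W.mkQ_surjective q
      refine ⟨w, ?_, rfl⟩
      have h3 : (W.mkQ).rTensor A
          (HopfRep.Comod.coact (k := k) (A := A) w - w ⊗ₜ[k] χ) = 0 := by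
        rw [map_sub, LinearMap.rTensor_tmul, sub_eq_zero]
        have e := ComodSub.quot_coact_mk c W hW w
        exact e.symm.trans hqχ
      rw [← LinearMap.mem_ker, rTensor_mkQ] at h3
      obtain ⟨a, ha⟩ := exists_tmul_of_mem_range v₁ _ h3
      have h2 : HopfRep.Comod.coact (k := k) (A := A) w = w ⊗ₜ[k] χ + v₁ ⊗ₜ[k] a := by
        rw [← ha]
        abel
      exact mem_Eig_of_ext hP v₁ w χ₁ χ a h1 h2
    calc Eig k A V = W ⊔ Eig k A V := (sup_eq_right.mpr hWE).symm
      _ = Submodule.comap W.mkQ (Submodule.map W.mkQ (Eig k A V)) :=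
          (Submodule.comap_map_mkQ W _).symm
      _ = ⊤ := by rw [hmap, Submodule.comap_top]

/-- Over an algebraically closed field, a cocommutative Hopf algebra without non-zero primitive
elements is spanned by its group-like elements. -/
theorem isDiagonalizable_of_cocomm [IsAlgClosed k] [Coalgebra.IsCocomm k A]
    (hP : ∀ f : A, Coalgebra.comul (R := k) f = f ⊗ₜ[k] (1 : A) + (1 : A) ⊗ₜ[k] f → f = 0) :
    HopfRep.IsDiagonalizable k A := by
  apply isDiagonalizable_of_Eig
  intro V _ _ _ hfin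
  haveI : Module.Finite k V := hfin
  exact Eig_eq_top_aux hP (Module.finrank k V) V rfl

theorem isCocomm_of_isDiagonalizable (h : HopfRep.IsDiagonalizable k A) :
    Coalgebra.IsCocomm k A := by
  refine ⟨?_⟩
  have h' : Submodule.span k {a : A | IsGroupLikeElem k a} = ⊤ := h
  apply LinearMap.ext_on h'
  intro g hg
  have hg' : IsGroupLikeElem k g := hg
  show TensorProduct.comm k A A (Coalgebra.comul (R := k) g) = Coalgebra.comul (R := k) g
  rw [hg'.comul_eq_tmul_self, TensorProduct.comm_tmul]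

theorem primitive_eq_zero_of_isDiagonalizable (h : HopfRep.IsDiagonalizable k A) (y : A)
    (hy : Coalgebra.comul (R := k) y = y ⊗ₜ[k] (1 : A) + (1 : A) ⊗ₜ[k] y) : y = 0 := by
  classical
  have h' : Submodule.span k {a : A | IsGroupLikeElem k a} = ⊤ := h
  have hrange : Set.range (GroupLike.val (R := k) (A := A)) = {a : A | IsGroupLikeElem k a} := by
    ext a
    constructor
    · rintro ⟨g, rfl⟩
      exact g.isGroupLikeElem_val
    · intro ha
      exact ⟨⟨a, ha⟩, rfl⟩
  have hsp : ⊤ ≤ Submodule.span k (Set.range (GroupLike.val (R := k) (A := A))) :=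
    le_of_eq (by rw [hrange, h'])
  obtain ⟨b, hb⟩ : ∃ b : Module.Basis (GroupLike k A) k A, ∀ g, b g = g.val :=
    ⟨Module.Basis.mk (linearIndep_groupLikeVal (R := k) (A := A)) hsp,
      fun g => Module.Basis.mk_apply _ _ g⟩
  have hcoord : ∀ g h : GroupLike k A, b.coord g h.val = if g = h then 1 else 0 := by
    intro g h
    rw [← hb h, Module.Basis.coord_apply, Module.Basis.repr_self, Finsupp.single_apply]
    by_cases e : g = h
    · subst e; simp
    · rw [if_neg e, if_neg (Ne.symm e)]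
  have key : ∀ g : GroupLike k A,
      b.coord g y = b.coord g y * b.coord g 1 + b.coord g 1 * b.coord g y := by
    intro g
    have hF : LinearMap.mul' k k ∘ₗ TensorProduct.map (b.coord g) (b.coord g) ∘ₗ
        Coalgebra.comul (R := k) = b.coord g := by
      apply b.ext
      intro h
      rw [hb h]
      simp only [LinearMap.comp_apply]
      rw [h.isGroupLikeElem_val.comul_eq_tmul_self, TensorProduct.map_tmul, LinearMap.mul'_apply,
        hcoord]
      split_ifs <;> simp
    have e := LinearMap.congr_fun hF y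
    simp only [LinearMap.comp_apply] at e
    rw [hy, map_add, map_add, TensorProduct.map_tmul, TensorProduct.map_tmul,
      LinearMap.mul'_apply, LinearMap.mul'_apply] at e
    exact e.symm
  apply b.ext_elem
  intro g
  rw [map_zero, Finsupp.zero_apply, ← Module.Basis.coord_apply]
  have hg := key g
  have h1 : b.coord g (1 : A) = if g = 1 then 1 else 0 := hcoord g 1
  rw [h1] at hg
  by_cases e : g = 1
  · rw [if_pos e, mul_one, one_mul] at hg
    linear_combination -hg
  · rw [if_neg e, mul_zero, zero_mul, add_zero] at hg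
    exact hg

end PartB

section BaseChange

variable {k : Type u} [Field k] {A : Type v} [CommRing A] [HopfAlgebra k A]
variable (K : Type w) [Field K] [Algebra k K]

variable (k A) in
/-- `a ↦ Δ a - a ⊗ 1 - 1 ⊗ a`. -/
noncomputable def dmap : A →ₗ[k] A ⊗[k] A :=
  Coalgebra.comul (R := k) - (TensorProduct.mk k A A).flip 1 - TensorProduct.mk k A A 1

lemma dmap_apply (a : A) :
    dmap k A a = Coalgebra.comul (R := k) a - a ⊗ₜ[k] (1 : A) - (1 : A) ⊗ₜ[k] a := rfl

lemma dmap_injective
    (hP : ∀ f : A, Coalgebra.comul (R := k) f = f ⊗ₜ[k] (1 : A) + (1 : A) ⊗ₜ[k] f → f = 0) :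
    Function.Injective (dmap k A) := by
  rw [← LinearMap.ker_eq_bot, LinearMap.ker_eq_bot']
  intro a ha
  apply hP
  rw [dmap_apply, sub_sub, sub_eq_zero] at ha
  exact ha

lemma tttc_eq_distrib (x : K) (t : A ⊗[k] A) :
    AlgebraTensorModule.tensorTensorTensorComm k K k K K K A A (((1 : K) ⊗ₜ[K] x) ⊗ₜ[k] t) =
      AlgebraTensorModule.distribBaseChange k K A A (x ⊗ₜ[k] t) := by
  induction t using TensorProduct.induction_on with
  | zero => simp
  | tmul a b =>
    rw [AlgebraTensorModule.tensorTensorTensorComm_tmul,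
      AlgebraTensorModule.distribBaseChange_tmul]
    have h1 : x ⊗ₜ[k] b = x • ((1 : K) ⊗ₜ[k] b) := by
      rw [TensorProduct.smul_tmul', smul_eq_mul, mul_one]
    have h2 : x ⊗ₜ[k] a = x • ((1 : K) ⊗ₜ[k] a) := by
      rw [TensorProduct.smul_tmul', smul_eq_mul, mul_one]
    rw [h1, h2]
    exact (TensorProduct.smul_tmul x _ _).symm
  | add s t hs ht =>
    rw [TensorProduct.tmul_add, TensorProduct.tmul_add, map_add, map_add, hs, ht]

lemma comul_baseChange_tmul (x : K) (a : A) :
    Coalgebra.comul (R := K) (x ⊗ₜ[k] a : K ⊗[k] A) =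
      AlgebraTensorModule.distribBaseChange k K A A (x ⊗ₜ[k] Coalgebra.comul (R := k) a) := by
  rw [TensorProduct.comul_tmul, CommSemiring.comul_apply, tttc_eq_distrib]

lemma prim_baseChange (y : K ⊗[k] A) :
    Coalgebra.comul (R := K) y - y ⊗ₜ[K] (1 : K ⊗[k] A) - (1 : K ⊗[k] A) ⊗ₜ[K] y =
      AlgebraTensorModule.distribBaseChange k K A A ((dmap k A).lTensor K y) := by
  induction y using TensorProduct.induction_on with
  | zero => simp
  | tmul x a =>
    rw [LinearMap.lTensor_tmul, dmap_apply, TensorProduct.tmul_sub, TensorProduct.tmul_sub,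
      map_sub, map_sub, ← comul_baseChange_tmul, AlgebraTensorModule.distribBaseChange_tmul,
      AlgebraTensorModule.distribBaseChange_tmul, Algebra.TensorProduct.one_def]
    congr 1
    have h1 : x ⊗ₜ[k] a = x • ((1 : K) ⊗ₜ[k] a) := by
      rw [TensorProduct.smul_tmul', smul_eq_mul, mul_one]
    have h2 : x ⊗ₜ[k] (1 : A) = x • ((1 : K) ⊗ₜ[k] (1 : A)) := by
      rw [TensorProduct.smul_tmul', smul_eq_mul, mul_one]
    rw [h1, h2]
    exact (TensorProduct.smul_tmul x _ _).symm
  | add s t hs ht =>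
    simp only [map_add, TensorProduct.add_tmul, TensorProduct.tmul_add]
    rw [← hs, ← ht]
    abel

theorem primitive_baseChange
    (hP : ∀ f : A, Coalgebra.comul (R := k) f = f ⊗ₜ[k] (1 : A) + (1 : A) ⊗ₜ[k] f → f = 0)
    (y : K ⊗[k] A)
    (hy : Coalgebra.comul (R := K) y =
      y ⊗ₜ[K] (1 : K ⊗[k] A) + (1 : K ⊗[k] A) ⊗ₜ[K] y) : y = 0 := by
  have h1 := prim_baseChange K y
  rw [hy, add_sub_cancel_left, sub_self] at h1
  have h2 : (dmap k A).lTensor K y = 0 := by
    apply (AlgebraTensorModule.distribBaseChange k K A A).injective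
    rw [← h1, map_zero]
  have hinj : Function.Injective ((dmap k A).lTensor K) :=
    Module.Flat.lTensor_preserves_injective_linearMap _ (dmap_injective hP)
  exact hinj (by rw [h2, map_zero])

theorem isCocomm_descend (h : Coalgebra.IsCocomm K (K ⊗[k] A)) : Coalgebra.IsCocomm k A := by
  refine ⟨LinearMap.ext fun a => ?_⟩
  show TensorProduct.comm k A A (Coalgebra.comul (R := k) a) = Coalgebra.comul (R := k) a
  have hj : ∀ t : A ⊗[k] A,
      AlgebraTensorModule.distribBaseChange k K A A ((1 : K) ⊗ₜ[k] TensorProduct.comm k A A t) =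
        TensorProduct.comm K (K ⊗[k] A) (K ⊗[k] A)
          (AlgebraTensorModule.distribBaseChange k K A A ((1 : K) ⊗ₜ[k] t)) := by
    intro t
    induction t using TensorProduct.induction_on with
    | zero => simp
    | tmul a b =>
      rw [TensorProduct.comm_tmul, AlgebraTensorModule.distribBaseChange_tmul,
        AlgebraTensorModule.distribBaseChange_tmul, TensorProduct.comm_tmul]
    | add s t hs ht => simp only [map_add, TensorProduct.tmul_add, hs, ht]
  apply one_tmul_injective (k := k) K (A ⊗[k] A)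
  show (1 : K) ⊗ₜ[k] TensorProduct.comm k A A (Coalgebra.comul (R := k) a) =
    (1 : K) ⊗ₜ[k] Coalgebra.comul (R := k) a
  apply (AlgebraTensorModule.distribBaseChange k K A A).injective
  rw [hj, ← comul_baseChange_tmul, Coalgebra.comm_comul]

theorem forward (h : HopfRep.IsDiagonalizable K (K ⊗[k] A)) :
    Coalgebra.IsCocomm k A ∧
      ∀ f : A, Coalgebra.comul (R := k) f = f ⊗ₜ[k] (1 : A) + (1 : A) ⊗ₜ[k] f → f = 0 := by
  refine ⟨isCocomm_descend K (isCocomm_of_isDiagonalizable h), ?_⟩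
  intro f hf
  apply one_tmul_injective (k := k) K A
  show (1 : K) ⊗ₜ[k] f = (1 : K) ⊗ₜ[k] (0 : A)
  rw [TensorProduct.tmul_zero]
  apply primitive_eq_zero_of_isDiagonalizable h
  have h1 := prim_baseChange K ((1 : K) ⊗ₜ[k] f)
  rw [LinearMap.lTensor_tmul, dmap_apply, hf, add_sub_cancel_left, sub_self,
    TensorProduct.tmul_zero, map_zero, sub_sub, sub_eq_zero] at h1
  exact h1

theorem backward [IsAlgClosed K] [Coalgebra.IsCocomm k A]
    (hP : ∀ f : A, Coalgebra.comul (R := k) f = f ⊗ₜ[k] (1 : A) + (1 : A) ⊗ₜ[k] f → f = 0) :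
    HopfRep.IsDiagonalizable K (K ⊗[k] A) := by
  haveI : Coalgebra.IsCocomm K (K ⊗[k] A) := inferInstance
  exact isDiagonalizable_of_cocomm (fun y hy => primitive_baseChange K hP y hy)

end BaseChange

end Groth.Agent.Lib.Helper19.MultType
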