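import Groth.Agent.Lib.Helper19.ComodBase
import Groth.Prelude.Def_Hoch

/-!
# Local finiteness of comodules, semisimplicity over the operator algebra, Reynolds operator (helper19)

* `gen v`: the finite-dimensional subcomodule generated by `v` (`mem_gen`, `isSubcomod_gen`,
  `finiteDimensional_gen`): local finiteness of comodules over a field.
* `subComod W hW`: the comodule structure on a subcomodule.
* `isSemisimpleModule_opAlg`: for a linearly reductive bialgebra every comodule is a semisimple module over
  its operator algebra `opAlg`.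
* `key`: a module map from a submodule meeting the invariants trivially into the invariants is zero.
-/

set_option autoImplicit false
set_option linter.unusedSectionVars false
universe u v w

open TensorProduct

namespace Groth.Agent.Lib.Helper19.Reynolds

section PartA

variable {K : Type u} {C : Type v} [Field K] [AddCommGroup C] [Module K C] [Coalgebra K C]
variable {V : Type w} [AddCommGroup V] [Module K V] [HopfRep.Comod K C V]

/-- Convolution of two linear forms on a coalgebra. -/
noncomputable def conv (f g : C →ₗ[K] K) : C →ₗ[K] K :=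
  LinearMap.mul' K K ∘ₗ TensorProduct.map f g ∘ₗ Coalgebra.comul

lemma opT_apply (f : C →ₗ[K] K) (v : V) :
    opT K C V f v = slice f (HopfRep.Comod.coact (k := K) (A := C) v) := rfl

lemma opT_comp (f g : C →ₗ[K] K) (v : V) :
    opT K C V f (opT K C V g v) = opT K C V (conv f g) v := by
  simp only [opT_apply]
  have h1 : slice f (HopfRep.Comod.coact (k := K) (A := C)
      (slice g (HopfRep.Comod.coact (k := K) (A := C) v))) =
      slice g ((slice f ∘ₗ HopfRep.Comod.coact (k := K) (A := C)).rTensor C
        (HopfRep.Comod.coact (k := K) (A := C) v)) := by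
    rw [slice_rTensor]; rfl
  rw [h1]
  have h2 : (slice f ∘ₗ HopfRep.Comod.coact (k := K) (A := C)).rTensor C
      (HopfRep.Comod.coact (k := K) (A := C) v) =
      (slice f).rTensor C ((HopfRep.Comod.coact (k := K) (A := C)).rTensor C
        (HopfRep.Comod.coact (k := K) (A := C) v)) := by
    rw [LinearMap.rTensor_comp]; rfl
  have h3 := LinearMap.congr_fun (HopfRep.Comod.coassoc (k := K) (A := C) (V := V)) v
  simp only [LinearMap.comp_apply, LinearEquiv.coe_coe] at h3
  have h4 : (HopfRep.Comod.coact (k := K) (A := C)).rTensor C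
      (HopfRep.Comod.coact (k := K) (A := C) v) =
      (TensorProduct.assoc K V C C).symm ((Coalgebra.comul (R := K) (A := C)).lTensor V
        (HopfRep.Comod.coact (k := K) (A := C) v)) := by
    rw [← h3, LinearEquiv.symm_apply_apply]
  rw [h2, h4]
  generalize HopfRep.Comod.coact (k := K) (A := C) v = t
  induction t using TensorProduct.induction_on with
  | zero => simp
  | tmul v' c =>
    rw [LinearMap.lTensor_tmul, slice_tmul]
    have key : ∀ z : C ⊗[K] C,
        slice g ((slice f).rTensor C ((TensorProduct.assoc K V C C).symm (v' ⊗ₜ[K] z))) =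
          (LinearMap.mul' K K (TensorProduct.map f g z)) • v' := by
      intro z
      induction z using TensorProduct.induction_on with
      | zero => simp
      | tmul c₁ c₂ =>
        simp [smul_smul, mul_comm]
      | add a b ha hb =>
        simp only [TensorProduct.tmul_add, map_add, ha, hb, add_smul]
    rw [key]
    rfl
  | add a b ha hb => simp only [map_add, ha, hb]

lemma opT_counit (v : V) : opT K C V (Coalgebra.counit (R := K) (A := C)) v = v := by
  rw [opT_apply]
  have h := LinearMap.congr_fun (HopfRep.Comod.counit_comp (k := K) (A := C) (V := V)) v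
  simp only [LinearMap.comp_apply] at h
  unfold slice
  rw [LinearMap.comp_apply, h]
  simp

lemma slice_add (f g : C →ₗ[K] K) (t : V ⊗[K] C) : slice (f + g) t = slice f t + slice g t := by
  simp [slice, LinearMap.lTensor_add]

lemma slice_smul (c : K) (f : C →ₗ[K] K) (t : V ⊗[K] C) : slice (c • f) t = c • slice f t := by
  simp [slice, LinearMap.lTensor_smul]

/-- The orbit map `f ↦ T_f v`. -/
noncomputable def genMap (v : V) : (C →ₗ[K] K) →ₗ[K] V where
  toFun f := opT K C V f v
  map_add' f g := by simp only [opT_apply, slice_add]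
  map_smul' c f := by simp only [opT_apply, slice_smul, RingHom.id_apply]

/-- The subcomodule generated by `v`. -/
noncomputable def gen (v : V) : Submodule K V := LinearMap.range (genMap (K := K) (C := C) v)

lemma mem_gen (v : V) : v ∈ gen (K := K) (C := C) v :=
  ⟨Coalgebra.counit (R := K) (A := C), opT_counit v⟩

lemma isSubcomod_gen (v : V) : HopfRep.IsSubcomod (k := K) (A := C) (gen (K := K) (C := C) v) := by
  rw [isSubcomod_iff]
  rintro f w ⟨g, rfl⟩
  exact ⟨conv f g, (opT_comp f g v).symm⟩

lemma exists_finite_span_slice (t : V ⊗[K] C) :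
    ∃ S : Finset V, ∀ f : C →ₗ[K] K, slice f t ∈ Submodule.span K (S : Set V) := by
  classical
  induction t using TensorProduct.induction_on with
  | zero => exact ⟨∅, fun f => by simp⟩
  | tmul v c =>
    exact ⟨{v}, fun f => by
      rw [slice_tmul]
      exact Submodule.smul_mem _ _ (Submodule.subset_span (by simp))⟩
  | add a b ha hb =>
    obtain ⟨S, hS⟩ := ha
    obtain ⟨S', hS'⟩ := hb
    refine ⟨S ∪ S', fun f => ?_⟩
    rw [map_add]
    exact Submodule.add_mem _ (Submodule.span_mono (by simp) (hS f))
      (Submodule.span_mono (by simp) (hS' f))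

lemma finiteDimensional_gen (v : V) : FiniteDimensional K (gen (K := K) (C := C) v) := by
  obtain ⟨S, hS⟩ := exists_finite_span_slice (HopfRep.Comod.coact (k := K) (A := C) v)
  have hle : gen (K := K) (C := C) v ≤ Submodule.span K (S : Set V) := by
    rintro w ⟨f, rfl⟩
    exact hS f
  haveI : FiniteDimensional K (Submodule.span K (S : Set V)) := FiniteDimensional.span_finset K S
  exact Submodule.finiteDimensional_of_le hle

end PartA

section PartB

variable {K : Type u} {C : Type v} [Field K] [AddCommGroup C] [Module K C] [Coalgebra K C]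
variable {V : Type w} [AddCommGroup V] [Module K V] [HopfRep.Comod K C V]

lemma rTensor_subtype_injective (W : Submodule K V) (M : Type*) [AddCommGroup M] [Module K M] :
    Function.Injective (W.subtype.rTensor M) :=
  Module.Flat.rTensor_preserves_injective_linearMap _ W.injective_subtype

/-- The coaction restricted to a subcomodule. -/
noncomputable def coactSub (W : Submodule K V) (hW : HopfRep.IsSubcomod (k := K) (A := C) W) :
    W →ₗ[K] W ⊗[K] C :=
  (LinearEquiv.ofInjective (W.subtype.rTensor C) (rTensor_subtype_injective W C)).symm.toLinearMap ∘ₗ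
    LinearMap.codRestrict (LinearMap.range (W.subtype.rTensor C))
      (HopfRep.Comod.coact (k := K) (A := C) ∘ₗ W.subtype) (fun w => hW w w.2)

lemma rTensor_coactSub (W : Submodule K V) (hW : HopfRep.IsSubcomod (k := K) (A := C) W) (w : W) :
    W.subtype.rTensor C (coactSub W hW w) = HopfRep.Comod.coact (k := K) (A := C) (w : V) := by
  unfold coactSub
  rw [LinearMap.comp_apply]
  set y := LinearMap.codRestrict (LinearMap.range (W.subtype.rTensor C))
      (HopfRep.Comod.coact (k := K) (A := C) ∘ₗ W.subtype) (fun w => hW w w.2) w with hy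
  have h1 := (LinearEquiv.ofInjective (W.subtype.rTensor C)
    (rTensor_subtype_injective W C)).apply_symm_apply y
  have h2 := congrArg Subtype.val h1
  rw [LinearEquiv.ofInjective_apply] at h2
  exact h2

lemma rTensor_comp_coactSub (W : Submodule K V) (hW : HopfRep.IsSubcomod (k := K) (A := C) W) :
    W.subtype.rTensor C ∘ₗ coactSub W hW = HopfRep.Comod.coact (k := K) (A := C) ∘ₗ W.subtype :=
  LinearMap.ext fun w => rTensor_coactSub W hW w

/-- The comodule structure of a subcomodule. -/
@[reducible] noncomputable def subComod (W : Submodule K V)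
    (hW : HopfRep.IsSubcomod (k := K) (A := C) W) : HopfRep.Comod K C W where
  coact := coactSub W hW
  coassoc := by
    apply LinearMap.ext
    intro w
    apply rTensor_subtype_injective W (C ⊗[K] C)
    simp only [LinearMap.comp_apply, LinearEquiv.coe_coe]
    -- naturality of assoc
    have n1 : ∀ t : (W ⊗[K] C) ⊗[K] C,
        W.subtype.rTensor (C ⊗[K] C) (TensorProduct.assoc K W C C t) =
          TensorProduct.assoc K V C C (((W.subtype.rTensor C).rTensor C) t) := by
      intro t
      induction t using TensorProduct.induction_on with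
      | zero => simp
      | tmul x c =>
        induction x using TensorProduct.induction_on with
        | zero => simp
        | tmul w' c' => simp
        | add a b ha hb => simp only [TensorProduct.add_tmul, map_add, ha, hb]
      | add a b ha hb => simp only [map_add, ha, hb]
    have n2 : ∀ t : W ⊗[K] C,
        ((W.subtype.rTensor C).rTensor C) ((coactSub W hW).rTensor C t) =
          (HopfRep.Comod.coact (k := K) (A := C)).rTensor C (W.subtype.rTensor C t) := by
      intro t
      rw [← LinearMap.comp_apply, ← LinearMap.rTensor_comp, rTensor_comp_coactSub,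
        LinearMap.rTensor_comp, LinearMap.comp_apply]
    have n3 : ∀ t : W ⊗[K] C,
        W.subtype.rTensor (C ⊗[K] C) ((Coalgebra.comul (R := K) (A := C)).lTensor W t) =
          (Coalgebra.comul (R := K) (A := C)).lTensor V (W.subtype.rTensor C t) := by
      intro t
      induction t using TensorProduct.induction_on with
      | zero => simp
      | tmul w' c => simp
      | add a b ha hb => simp only [map_add, ha, hb]
    rw [n1, n2, n3, rTensor_coactSub]
    have h3 := LinearMap.congr_fun (HopfRep.Comod.coassoc (k := K) (A := C) (V := V)) (w : V)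
    simpa only [LinearMap.comp_apply, LinearEquiv.coe_coe] using h3
  counit_comp := by
    apply LinearMap.ext
    intro w
    apply rTensor_subtype_injective W K
    simp only [LinearMap.comp_apply]
    have n3 : ∀ t : W ⊗[K] C,
        W.subtype.rTensor K ((Coalgebra.counit (R := K) (A := C)).lTensor W t) =
          (Coalgebra.counit (R := K) (A := C)).lTensor V (W.subtype.rTensor C t) := by
      intro t
      induction t using TensorProduct.induction_on with
      | zero => simp
      | tmul w' c => simp
      | add a b ha hb => simp only [map_add, ha, hb]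
    rw [n3, rTensor_coactSub]
    have h3 := LinearMap.congr_fun (HopfRep.Comod.counit_comp (k := K) (A := C) (V := V)) (w : V)
    simp only [LinearMap.comp_apply] at h3
    rw [h3]
    simp

lemma coe_opT_sub (W : Submodule K V) (hW : HopfRep.IsSubcomod (k := K) (A := C) W)
    (f : C →ₗ[K] K) (w : W) :
    ((@opT K C _ _ _ _ W _ _ (subComod W hW) f w : W) : V) = opT K C V f (w : V) := by
  change W.subtype (slice f (coactSub W hW w)) = slice f (HopfRep.Comod.coact (k := K) (A := C) (w : V))
  rw [← slice_rTensor, rTensor_coactSub]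

end PartB

section PartB3

variable {K : Type u} {A : Type v} [Field K] [CommRing A] [Bialgebra K A]
variable {V : Type v} [AddCommGroup V] [Module K V] [HopfRep.Comod K A V]

theorem complementedLattice_Iic_toOp (hG : HopfRep.IsLinearlyReductive K A) (W : Submodule K V)
    (hW : HopfRep.IsSubcomod (k := K) (A := A) W) [FiniteDimensional K W] :
    ComplementedLattice (Set.Iic (toOp W hW)) := by
  rw [Set.Iic.complementedLattice_iff]
  intro N₁ hN₁
  letI := subComod W hW
  have hss : HopfRep.IsSemisimpleComod K A W := hG W inferInstance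
  have hW₁ : HopfRep.IsSubcomod (k := K) (A := A) (N₁.restrictScalars K) :=
    isSubcomod_restrictScalars N₁
  have hW₁le : N₁.restrictScalars K ≤ W := fun x hx => hN₁ hx
  have hW₁' : HopfRep.IsSubcomod (k := K) (A := A) ((N₁.restrictScalars K).comap W.subtype) := by
    rw [isSubcomod_iff] at hW₁ ⊢
    intro f w hw
    show ((opT K A W f w : W) : V) ∈ N₁.restrictScalars K
    rw [coe_opT_sub]
    exact hW₁ f _ hw
  obtain ⟨W₂', hW₂', hc⟩ := hss _ hW₁'
  have hW₂ : HopfRep.IsSubcomod (k := K) (A := A) (W₂'.map W.subtype) := by
    rw [isSubcomod_iff] at hW₂' ⊢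
    rintro f _ ⟨w, hw, rfl⟩
    exact ⟨opT K A W f w, hW₂' f w hw, coe_opT_sub W hW f w⟩
  have hW₂le : W₂'.map W.subtype ≤ W := by
    rintro _ ⟨w, _, rfl⟩
    exact w.2
  have h1 : N₁.restrictScalars K = ((N₁.restrictScalars K).comap W.subtype).map W.subtype := by
    rw [Submodule.map_comap_subtype]
    exact (inf_eq_right.mpr hW₁le).symm
  refine ⟨toOp (W₂'.map W.subtype) hW₂, fun x hx => hW₂le hx, ?_, ?_⟩
  · apply Submodule.restrictScalars_injective K
    rw [Submodule.restrictScalars_inf, toOp_restrictScalars, Submodule.restrictScalars_bot, h1,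
      ← Submodule.map_inf _ W.injective_subtype, hc.inf_eq_bot, Submodule.map_bot]
  · apply Submodule.restrictScalars_injective K
    rw [Submodule.restrictScalars_sup, toOp_restrictScalars, toOp_restrictScalars, h1,
      ← Submodule.map_sup, hc.sup_eq_top, Submodule.map_subtype_top]

theorem isSemisimpleModule_opAlg (hG : HopfRep.IsLinearlyReductive K A) :
    IsSemisimpleModule (opAlg K A V) V := by
  rw [isSemisimpleModule_iff]
  refine complementedLattice_of_complementedLattice_Iic (s := Set.univ)
    (f := fun v : V => toOp (gen (K := K) (C := A) v) (isSubcomod_gen v)) (fun v _ => ?_) ?_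
  · haveI := finiteDimensional_gen (K := K) (C := A) v
    exact complementedLattice_Iic_toOp hG _ _
  · rw [eq_top_iff]
    intro v _
    exact Submodule.mem_iSup_of_mem v (Submodule.mem_iSup_of_mem (Set.mem_univ v) (mem_gen v))

end PartB3

section PartC

variable {K : Type u} {A : Type v} [Field K] [CommRing A] [Bialgebra K A]
variable {V : Type w} [AddCommGroup V] [Module K V] [HopfRep.Comod K A V]

lemma mem_fixedPts_iff_opT (v : V) :
    v ∈ HopfRep.fixedPts K A V ↔ ∀ f : A →ₗ[K] K, opT K A V f v = f 1 • v := by
  constructor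
  · intro hv f
    have : HopfRep.Comod.coact (k := K) (A := A) v = v ⊗ₜ[K] (1 : A) := hv
    rw [opT_apply, this, slice_tmul]
  · intro h
    show HopfRep.Comod.coact (k := K) (A := A) v = v ⊗ₜ[K] (1 : A)
    rw [← sub_eq_zero]
    apply eq_zero_of_slice_eq_zero
    intro f
    rw [map_sub, slice_tmul, ← opT_apply, h f, sub_self]

lemma isSubcomod_fixedPts :
    HopfRep.IsSubcomod (k := K) (A := A) (HopfRep.fixedPts K A V) := by
  rw [isSubcomod_iff]
  intro f w hw
  rw [(mem_fixedPts_iff_opT w).mp hw f]
  exact Submodule.smul_mem _ _ hw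

variable (K A V) in
/-- The invariants as a submodule over the operator algebra. -/
noncomputable def fixedOp : Submodule (opAlg K A V) V :=
  toOp (HopfRep.fixedPts K A V) isSubcomod_fixedPts

lemma mem_fixedOp_iff (v : V) : v ∈ fixedOp K A V ↔ v ∈ HopfRep.fixedPts K A V := Iff.rfl

/-- The operator `T_f` as an element of the operator algebra. -/
noncomputable def opEl (f : A →ₗ[K] K) : opAlg K A V :=
  ⟨opT K A V f, Algebra.subset_adjoin ⟨f, rfl⟩⟩

lemma opEl_smul (f : A →ₗ[K] K) (v : V) : (opEl f : opAlg K A V) • v = opT K A V f v := rfl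

theorem key [hss0 : IsSemisimpleModule (opAlg K A V) V] (U : Submodule (opAlg K A V) V)
    (hU : U ⊓ fixedOp K A V = ⊥) (ψ : U →ₗ[opAlg K A V] V)
    (hψ : ∀ u, ψ u ∈ fixedOp K A V) : ψ = 0 := by
  have hss : IsSemisimpleModule (opAlg K A V) U := inferInstance
  obtain ⟨U', hc⟩ := hss.toComplementedLattice.exists_isCompl (LinearMap.ker ψ)
  have hU' : U' = ⊥ := by
    rw [eq_bot_iff]
    intro u hu
    have hfix : (u : V) ∈ HopfRep.fixedPts K A V := by
      rw [mem_fixedPts_iff_opT]
      intro f
      set r : opAlg K A V := opEl f - algebraMap K _ (f 1) with hr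
      have h1 : r • u ∈ U' := U'.smul_mem r hu
      have h2 : r • u ∈ LinearMap.ker ψ := by
        rw [LinearMap.mem_ker, map_smul]
        have := (mem_fixedPts_iff_opT (ψ u)).mp (hψ u) f
        rw [hr, sub_smul, opEl_smul, this, algebraMap_smul, sub_self]
      have h3 : r • u = 0 := by
        have : r • u ∈ LinearMap.ker ψ ⊓ U' := ⟨h2, h1⟩
        rw [hc.inf_eq_bot] at this
        exact (Submodule.mem_bot _).mp this
      have h4 := congrArg Subtype.val h3
      rw [Submodule.coe_smul, hr, sub_smul, opEl_smul, algebraMap_smul] at h4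
      exact sub_eq_zero.mp h4
    have : (u : V) ∈ U ⊓ fixedOp K A V := ⟨u.2, hfix⟩
    rw [hU] at this
    exact Subtype.ext ((Submodule.mem_bot _).mp this)
  have hker : LinearMap.ker ψ = ⊤ := by
    have := hc.sup_eq_top
    rw [hU', sup_bot_eq] at this
    exact this
  exact LinearMap.ker_eq_top.mp hker

lemma isComodHom_iff_commute (E : V →ₗ[K] V) :
    Hoch.IsComodHom A E ↔ ∀ (f : A →ₗ[K] K) (v : V), E (opT K A V f v) = opT K A V f (E v) := by
  unfold Hoch.IsComodHom
  constructor
  · intro h f v
    have h1 := LinearMap.congr_fun h v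
    simp only [LinearMap.comp_apply] at h1
    rw [opT_apply, opT_apply, h1, slice_rTensor]
  · intro h
    apply LinearMap.ext
    intro v
    simp only [LinearMap.comp_apply]
    rw [← sub_eq_zero]
    apply eq_zero_of_slice_eq_zero
    intro f
    rw [map_sub, slice_rTensor, ← opT_apply, ← opT_apply, h f v, sub_self]

/-- A `K`-linear endomorphism commuting with all `T_f` is linear over the operator algebra. -/
noncomputable def toOpLin (E : V →ₗ[K] V)
    (hE : ∀ (f : A →ₗ[K] K) (v : V), E (opT K A V f v) = opT K A V f (E v)) :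
    V →ₗ[opAlg K A V] V where
  toFun := E
  map_add' := E.map_add
  map_smul' := by
    rintro ⟨r, hr⟩ v
    show E (r v) = r (E v)
    revert v
    unfold opAlg at hr
    induction hr using Algebra.adjoin_induction with
    | mem x hx =>
      obtain ⟨f, rfl⟩ := hx
      exact hE f
    | algebraMap c =>
      intro v
      simp [Algebra.algebraMap_eq_smul_one]
    | add x y _ _ hx hy =>
      intro v
      simp only [LinearMap.add_apply, map_add, hx v, hy v]
    | mul x y _ _ hx hy =>
      intro v
      simp only [Module.End.mul_apply, hx, hy]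

/-- A Reynolds operator (comodule endomorphism, idempotent, fixing exactly the invariants) of a
comodule which is semisimple over its operator algebra maps every subcomodule into itself. -/
theorem reynolds_preserves (hss : IsSemisimpleModule (opAlg K A V) V) (E : V →ₗ[K] V)
    (h1 : Hoch.IsComodHom A E) (h2 : E ∘ₗ E = E)
    (h3 : ∀ x : V, E x = x ↔ x ∈ HopfRep.fixedPts K A V)
    (W : Submodule K V) (hW : HopfRep.IsSubcomod (k := K) (A := A) W) :
    ∀ a ∈ W, E a ∈ W := by
  intro a ha
  let Eop := toOpLin E ((isComodHom_iff_commute E).mp h1)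
  have hEE : ∀ z, E (E z) = E z := fun z => LinearMap.congr_fun h2 z
  have hEfix : ∀ z, E z ∈ fixedOp K A V := fun z => (h3 (E z)).mp (hEE z)
  set N := toOp W hW with hN
  set F := fixedOp K A V with hF
  have hcl : ComplementedLattice (Submodule (opAlg K A V) V) := hss.toComplementedLattice
  have hIic : ComplementedLattice (Set.Iic N) := IsModularLattice.complementedLattice_Iic
  obtain ⟨WN, hWN, hd, hs⟩ := Set.Iic.complementedLattice_iff.mp hIic (N ⊓ F) inf_le_left
  have hWF : WN ⊓ F = ⊥ := by
    rw [eq_bot_iff]
    rintro z ⟨hz1, hz2⟩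
    have : z ∈ (N ⊓ F) ⊓ WN := ⟨⟨hWN hz1, hz2⟩, hz1⟩
    rw [hd] at this
    exact this
  have hψ := key WN hWF (Eop ∘ₗ WN.subtype) (fun u => hEfix _)
  have haN : a ∈ (N ⊓ F) ⊔ WN := by
    rw [hs]
    exact ha
  obtain ⟨a₁, ha₁, a₂, ha₂, rfl⟩ := Submodule.mem_sup.mp haN
  have e2 : E a₂ = 0 := LinearMap.congr_fun hψ ⟨a₂, ha₂⟩
  have e1 : E a₁ = a₁ := (h3 a₁).mpr ha₁.2
  rw [map_add, e1, e2, add_zero]
  exact ha₁.1

end PartC

section PartD

variable {K : Type u} {A : Type v} [Field K] [CommRing A] [Bialgebra K A]
variable {V : Type w} [AddCommGroup V] [Module K V] [HopfRep.Comod K A V]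
variable {W' : Type*} [AddCommGroup W'] [Module K W'] [HopfRep.Comod K A W']

/-- A morphism of comodules commutes with the operators `T_f`. -/
lemma commute_of_isComodHom (φ : V →ₗ[K] W') (h : Hoch.IsComodHom A φ) (f : A →ₗ[K] K) (v : V) :
    φ (opT K A V f v) = opT K A W' f (φ v) := by
  unfold Hoch.IsComodHom at h
  have h1 := LinearMap.congr_fun h v
  simp only [LinearMap.comp_apply] at h1
  rw [opT_apply, opT_apply, h1, slice_rTensor]

/-- A comodule map sends invariants to invariants. -/
lemma map_mem_fixedPts (φ : V →ₗ[K] W') (h : Hoch.IsComodHom A φ) (v : V)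
    (hv : v ∈ HopfRep.fixedPts K A V) : φ v ∈ HopfRep.fixedPts K A W' := by
  rw [mem_fixedPts_iff_opT] at hv ⊢
  intro f
  rw [← commute_of_isComodHom φ h, hv f, map_smul]

/-- A comodule map from a submodule (over the operator algebra) meeting the invariants trivially, with
values in the invariants of another comodule, vanishes. -/
theorem key' (hss : IsSemisimpleModule (opAlg K A V) V) (U : Submodule (opAlg K A V) V)
    (hU : U ⊓ fixedOp K A V = ⊥) (ψ : V →ₗ[K] W')
    (hψc : ∀ (f : A →ₗ[K] K) (v : V), ψ (opT K A V f v) = opT K A W' f (ψ v))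
    (hψ : ∀ u ∈ U, ψ u ∈ HopfRep.fixedPts K A W') : ∀ u ∈ U, ψ u = 0 := by
  -- the kernel of `ψ` on `U`, as a subcomodule
  have hK₀ : HopfRep.IsSubcomod (k := K) (A := A) (U.restrictScalars K ⊓ LinearMap.ker ψ) := by
    rw [isSubcomod_iff]
    rintro f u ⟨hu1, hu2⟩
    refine ⟨U.smul_mem (opEl f) hu1, ?_⟩
    have hu2' : ψ u = 0 := hu2
    show ψ (opT K A V f u) = 0
    rw [hψc, hu2', map_zero]
  set K₀ := toOp (U.restrictScalars K ⊓ LinearMap.ker ψ) hK₀ with hK₀def
  have hK₀le : K₀ ≤ U := fun x hx => hx.1
  have hcl : ComplementedLattice (Submodule (opAlg K A V) V) := hss.toComplementedLattice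
  have hIic : ComplementedLattice (Set.Iic U) := IsModularLattice.complementedLattice_Iic
  obtain ⟨U', hU'le, hd, hs⟩ := Set.Iic.complementedLattice_iff.mp hIic K₀ hK₀le
  have hU'bot : U' = ⊥ := by
    rw [eq_bot_iff]
    intro u hu
    have huU : u ∈ U := hU'le hu
    have hfix : u ∈ HopfRep.fixedPts K A V := by
      rw [mem_fixedPts_iff_opT]
      intro f
      set r : opAlg K A V := opEl f - algebraMap K _ (f 1) with hr
      have h1 : r • u ∈ U' := U'.smul_mem r hu
      have hru : r • u = opT K A V f u - f 1 • u := by
        rw [hr, sub_smul, opEl_smul, algebraMap_smul]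
      have h2 : r • u ∈ K₀ := by
        refine ⟨U.smul_mem r huU, ?_⟩
        show ψ (r • u) = 0
        rw [hru, map_sub, hψc, map_smul]
        have := (mem_fixedPts_iff_opT (ψ u)).mp (hψ u huU) f
        rw [this, sub_self]
      have h3 : r • u ∈ K₀ ⊓ U' := ⟨h2, h1⟩
      rw [hd, Submodule.mem_bot, hru] at h3
      exact sub_eq_zero.mp h3
    have : u ∈ U ⊓ fixedOp K A V := ⟨huU, hfix⟩
    rw [hU] at this
    exact this
  rw [hU'bot, sup_bot_eq] at hs
  intro u hu
  rw [← hs] at hu
  exact hu.2

end PartD

end Groth.Agent.Lib.Helper19.Reynolds
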