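import Mathlib
import Groth.Agent.Lib.Helper19.Cartier1

/-!
# The Frobenius kernel of an infinitesimal group scheme (helper19)

For a finite-dimensional local commutative bialgebra `A` over a field of characteristic `p`, with
augmentation ideal `I`, the quotient of `A` by the ideal generated by the `p`-th powers of the
elements of `I` is a truncated polynomial algebra `k[X_1..X_d]/(X_i^p)`, `d = dim I/I^2`.

* `exists_coords_der`: coordinates `x_i` lifting a basis of `I/I^2` and derivations `D_i` with
  `ε (D_i x_j) = δ_ij`.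
* `frobI`, `derivation_frobI`: derivations preserve the ideal generated by `p`-th powers.
* `IsRed`, `exists_isRed_sub_mem`: reduced polynomials (all exponents `< p`).
* `coeff_eq_zero_of_aeval_mem`: reduced monomials are independent modulo `I^n + frobI`.
* `nonempty_algEquiv_frobKer`, `nonempty_algEquiv_of_ideal`.
-/

set_option autoImplicit false
set_option linter.unusedSectionVars false
universe u v

open TensorProduct

namespace Groth.Agent.Lib.Helper19.FrobKer

open Groth.Agent.Lib.Helper19.Reynolds
open Groth.Agent.Lib.Helper19.Coalg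
open Groth.Agent.Lib.Helper19.Unip
open Groth.Agent.Lib.Helper19.Cartier

section Coords

variable (k : Type u) [Field k] (A : Type v) [CommRing A] [Bialgebra k A]

/-- local coordinates at the unit section together with dual invariant derivations -/
theorem exists_coords_der [IsNoetherianRing A] :
    ∃ (x : Fin (Module.finrank k (augI k A).Cotangent) → A)
      (D : Fin (Module.finrank k (augI k A).Cotangent) → Derivation k A A),
      (∀ j, x j ∈ augI k A) ∧
      (∀ y ∈ augI k A, ∃ c : Fin (Module.finrank k (augI k A).Cotangent) → k,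
        y - ∑ j, c j • x j ∈ augI k A ^ 2) ∧
      (∀ i j, Coalgebra.counit (R := k) (D i (x j)) = if i = j then 1 else 0) := by
  classical
  haveI := finite_cotangent k A
  let b := Module.finBasis k (augI k A).Cotangent
  choose x0 hx0 using fun j => Ideal.toCotangent_surjective (augI k A) (b j)
  let x : Fin (Module.finrank k (augI k A).Cotangent) → A := fun j => (x0 j : A)
  have hxI : ∀ j, x j ∈ augI k A := fun j => (x0 j).2
  have S1 : ∀ y ∈ augI k A, ∃ c : Fin (Module.finrank k (augI k A).Cotangent) → k,
      y - ∑ j, c j • x j ∈ augI k A ^ 2 := by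
    intro y hy
    refine ⟨fun j => b.repr (tc k A ⟨y, hy⟩) j, ?_⟩
    have h1 : (augI k A).toCotangent
        (⟨y, hy⟩ - ∑ j, (b.repr (tc k A ⟨y, hy⟩) j) • x0 j) = 0 := by
      have h2 : tc k A (⟨y, hy⟩ - ∑ j, (b.repr (tc k A ⟨y, hy⟩) j) • x0 j) = 0 := by
        rw [map_sub, map_sum]
        simp only [map_smul, tc_apply, hx0]
        rw [← tc_apply, b.sum_repr, sub_self]
      exact h2
    have h3 := (Ideal.toCotangent_eq_zero _ _).1 h1
    have h4 : ((⟨y, hy⟩ - ∑ j, (b.repr (tc k A ⟨y, hy⟩) j) • x0 j : ↥(augI k A)) : A) =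
        y - ∑ j, (b.repr (tc k A ⟨y, hy⟩) j) • x j := by
      push_cast
      rfl
    rw [h4] at h3
    exact h3
  let ξ : Fin (Module.finrank k (augI k A).Cotangent) → (A →ₗ[k] k) :=
    fun i => (b.coord i) ∘ₗ (tc k A) ∘ₗ (proj k A)
  have hξ1 : ∀ i, ξ i 1 = 0 := by
    intro i
    have h : proj k A 1 = 0 := by
      apply Subtype.ext
      rw [proj_coe, Bialgebra.counit_one, map_one, sub_self]
      rfl
    show b.coord i (tc k A (proj k A 1)) = 0
    rw [h, map_zero, map_zero]
  have hξ2 : ∀ i, ∀ z ∈ augI k A * augI k A, ξ i z = 0 := by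
    intro i z hz
    have hz0 : Coalgebra.counit (R := k) z = 0 := (mem_augI z).1 (Ideal.mul_le_right hz)
    have h : tc k A (proj k A z) = 0 := by
      rw [tc_apply, Ideal.toCotangent_eq_zero, proj_coe, hz0, map_zero, sub_zero, pow_two]
      exact hz
    show b.coord i (tc k A (proj k A z)) = 0
    rw [h, map_zero]
  have hξx : ∀ i j, ξ i (x j) = if i = j then 1 else 0 := by
    intro i j
    have h : proj k A (x j) = x0 j := by
      apply Subtype.ext
      rw [proj_coe, (mem_augI _).1 (hxI j), map_zero, sub_zero]
    show b.coord i (tc k A (proj k A (x j))) = _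
    rw [h, tc_apply, hx0, Module.Basis.coord_apply, Module.Basis.repr_self, Finsupp.single_apply]
    by_cases hij : i = j
    · rw [if_pos hij, if_pos hij.symm]
    · rw [if_neg hij, if_neg (Ne.symm hij)]
  have hξD : ∀ i, IsEpsDer (ξ i) := fun i => isEpsDer_of_vanish (ξ i) (hξ1 i) (hξ2 i)
  refine ⟨x, fun i => derOf (ξ i) (hξD i), hxI, S1, ?_⟩
  intro i j
  show Coalgebra.counit (R := k) (opT k A A (ξ i) (x j)) = _
  rw [counit_opT, hξx]

end Coords

section CharP

variable {k : Type u} [Field k] (p : ℕ) [Fact p.Prime] [CharP k p]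
variable {A : Type v} [CommRing A] [Algebra k A]

/-- the ideal generated by the `p`-th powers of the elements of `I` -/
def frobI (I : Ideal A) : Ideal A := Ideal.span ((fun a : A => a ^ p) '' (I : Set A))

lemma frobI_le (I : Ideal A) : frobI p I ≤ I := by
  unfold frobI
  rw [Ideal.span_le]
  rintro _ ⟨a, ha, rfl⟩
  exact Ideal.pow_mem_of_mem I ha p (Fact.out : p.Prime).pos

lemma derivation_pow_p (D : Derivation k A A) (a : A) : D (a ^ p) = 0 := by
  rw [Derivation.leibniz_pow, ← Nat.cast_smul_eq_nsmul k, CharP.cast_eq_zero k p, zero_smul]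

lemma derivation_frobI (D : Derivation k A A) (I : Ideal A) {z : A} (hz : z ∈ frobI p I) :
    D z ∈ frobI p I := by
  unfold frobI at hz ⊢
  induction hz using Submodule.span_induction with
  | mem y hy =>
    obtain ⟨a, -, rfl⟩ := hy
    show D (a ^ p) ∈ _
    rw [derivation_pow_p]
    exact Ideal.zero_mem _
  | zero =>
    rw [map_zero]
    exact Ideal.zero_mem _
  | add y z _ _ hy hz =>
    rw [map_add]
    exact Ideal.add_mem _ hy hz
  | smul c y hy' hy =>
    rw [smul_eq_mul, Derivation.leibniz]
    refine Ideal.add_mem _ ?_ ?_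
    · rw [smul_eq_mul]
      exact Ideal.mul_mem_left _ _ hy
    · rw [smul_eq_mul]
      exact Ideal.mul_mem_right _ _ hy'

/-- reduced polynomials: all exponents are `< p` -/
def IsRed {r : ℕ} (P : MvPolynomial (Fin r) k) : Prop := ∀ α ∈ P.support, ∀ i, α i < p

lemma isRed_zero {r : ℕ} : IsRed p (0 : MvPolynomial (Fin r) k) := by
  intro α hα
  simp at hα

lemma isRed_monomial {r : ℕ} (α : Fin r →₀ ℕ) (c : k) (h : ∀ i, α i < p) :
    IsRed p (MvPolynomial.monomial α c) := by
  intro β hβ i
  have h1 := MvPolynomial.support_monomial_subset hβ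
  rw [Finset.mem_singleton] at h1
  rw [h1]
  exact h i

lemma IsRed.add {r : ℕ} {P Q : MvPolynomial (Fin r) k} (hP : IsRed p P) (hQ : IsRed p Q) :
    IsRed p (P + Q) := by
  classical
  intro α hα i
  rcases Finset.mem_union.1 (MvPolynomial.support_add hα) with h | h
  · exact hP α h i
  · exact hQ α h i

lemma IsRed.pderiv {r : ℕ} {P : MvPolynomial (Fin r) k} (hP : IsRed p P) (i : Fin r) :
    IsRed p (MvPolynomial.pderiv i P) := by
  intro α hα j
  rw [MvPolynomial.mem_support_iff, MvPolynomial.coeff_pderiv] at hα
  have h1 : MvPolynomial.coeff (α + Finsupp.single i 1) P ≠ 0 := left_ne_zero_of_mul hα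
  have h2 := hP _ (MvPolynomial.mem_support_iff.2 h1) j
  rw [Finsupp.add_apply] at h2
  omega

lemma exists_isRed_sub_mem {r : ℕ} (P : MvPolynomial (Fin r) k) :
    ∃ R : MvPolynomial (Fin r) k, IsRed p R ∧
      P - R ∈ Ideal.span (Set.range fun i : Fin r =>
        (MvPolynomial.X i : MvPolynomial (Fin r) k) ^ p) := by
  induction P using MvPolynomial.induction_on' with
  | monomial α c =>
    by_cases h : ∀ i, α i < p
    · exact ⟨MvPolynomial.monomial α c, isRed_monomial p α c h, by
        rw [sub_self]; exact Ideal.zero_mem _⟩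
    · push Not at h
      obtain ⟨i, hi⟩ := h
      refine ⟨0, isRed_zero p, ?_⟩
      rw [sub_zero]
      have hle : Finsupp.single i p ≤ α := by
        intro j
        rw [Finsupp.single_apply]
        split_ifs with hj
        · subst hj
          exact hi
        · exact Nat.zero_le _
      have e : MvPolynomial.monomial α c =
          MvPolynomial.monomial (α - Finsupp.single i p) c * MvPolynomial.X i ^ p := by
        rw [MvPolynomial.X_pow_eq_monomial, MvPolynomial.monomial_mul, mul_one,
          tsub_add_cancel_of_le hle]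
      rw [e]
      exact Ideal.mul_mem_left _ _ (Ideal.subset_span ⟨i, rfl⟩)
  | add P Q hP hQ =>
    obtain ⟨R₁, h₁, m₁⟩ := hP
    obtain ⟨R₂, h₂, m₂⟩ := hQ
    refine ⟨R₁ + R₂, IsRed.add p h₁ h₂, ?_⟩
    have e : P + Q - (R₁ + R₂) = (P - R₁) + (Q - R₂) := by ring
    rw [e]
    exact Ideal.add_mem _ m₁ m₂

/-- a polynomial without monomials of degree `< n` in elements of `I` lies in `I^n` -/
lemma aeval_mem_pow_of_le {r : ℕ} (I : Ideal A) (x : Fin r → A) (hx : ∀ j, x j ∈ I) (n : ℕ)
    (P : MvPolynomial (Fin r) k)
    (hP : ∀ α : Fin r →₀ ℕ, α.degree < n → MvPolynomial.coeff α P = 0) :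
    MvPolynomial.aeval x P ∈ I ^ n := by
  have h : MvPolynomial.aeval x P =
      ∑ v ∈ P.support, MvPolynomial.aeval x (MvPolynomial.monomial v (MvPolynomial.coeff v P)) := by
    conv_lhs => rw [← P.support_sum_monomial_coeff]
    rw [map_sum]
  rw [h]
  refine Ideal.sum_mem _ fun d hd => ?_
  rw [MvPolynomial.aeval_monomial]
  refine Ideal.mul_mem_left _ _ ?_
  have hdn : n ≤ d.degree := by
    by_contra hlt
    exact (MvPolynomial.mem_support_iff.1 hd) (hP d (not_le.1 hlt))
  refine Ideal.pow_le_pow_right hdn ?_
  rw [Finsupp.degree_apply]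
  unfold Finsupp.prod
  rw [← Finset.prod_pow_eq_pow_sum]
  exact Ideal.prod_mem_prod fun i _ => Ideal.pow_mem_pow (hx i) _

end CharP

section Bialg

variable {k : Type u} [Field k] (p : ℕ) [Fact p.Prime] [CharP k p]
variable {A : Type v} [CommRing A] [Bialgebra k A]

lemma counit_aeval {r : ℕ} (x : Fin r → A) (hxI : ∀ j, x j ∈ augI k A)
    (P : MvPolynomial (Fin r) k) :
    Coalgebra.counit (R := k) (MvPolynomial.aeval x P) = MvPolynomial.coeff 0 P := by
  have h : (Bialgebra.counitAlgHom k A).comp (MvPolynomial.aeval x) =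
      MvPolynomial.aeval (fun _ : Fin r => (0 : k)) := by
    apply MvPolynomial.algHom_ext
    intro j
    rw [AlgHom.comp_apply, MvPolynomial.aeval_X, MvPolynomial.aeval_X]
    exact (mem_augI _).1 (hxI j)
  have h2 := AlgHom.congr_fun h P
  rw [AlgHom.comp_apply, MvPolynomial.aeval_zero'] at h2
  exact h2

/-- **Independence** of the reduced monomials modulo the `p`-th powers. -/
theorem coeff_eq_zero_of_aeval_mem {r : ℕ} (x : Fin r → A) (hxI : ∀ j, x j ∈ augI k A)
    (D : Fin r → Derivation k A A)
    (hD : ∀ i j, Coalgebra.counit (R := k) (D i (x j)) = if i = j then 1 else 0) :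
    ∀ (n : ℕ) (P : MvPolynomial (Fin r) k), IsRed p P →
      MvPolynomial.aeval x P ∈ augI k A ^ n ⊔ frobI p (augI k A) →
      ∀ α : Fin r →₀ ℕ, α.degree < n → MvPolynomial.coeff α P = 0 := by
  intro n
  induction n with
  | zero =>
    intro P _ _ α hα
    exact absurd hα (Nat.not_lt_zero _)
  | succ n ih =>
    intro P hP hmem α hα
    have hle1 : augI k A ^ (n + 1) ⊔ frobI p (augI k A) ≤ augI k A ^ n ⊔ frobI p (augI k A) :=
      sup_le_sup_right (Ideal.pow_le_pow_right (Nat.le_succ n)) _
    have hmem' : MvPolynomial.aeval x P ∈ augI k A ^ n ⊔ frobI p (augI k A) := hle1 hmem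
    have hlow := ih P hP hmem'
    rcases Nat.lt_succ_iff_lt_or_eq.1 hα with h | h
    · exact hlow α h
    rcases Nat.eq_zero_or_pos n with hn0 | hnpos
    · subst hn0
      have hα0 : α = 0 := (Finsupp.degree_eq_zero_iff _).1 h
      subst hα0
      have e1 : augI k A ^ (0 + 1) = augI k A := by rw [zero_add, pow_one]
      have hI : MvPolynomial.aeval x P ∈ augI k A :=
        (sup_le e1.le (frobI_le p _)) hmem
      rw [mem_augI, counit_aeval x hxI] at hI
      exact hI
    · by_contra hne
      have hαs : α ∈ P.support := MvPolynomial.mem_support_iff.2 hne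
      obtain ⟨i, hi⟩ : ∃ i, α i ≠ 0 := by
        by_contra hcon
        push Not at hcon
        have h0 : α = 0 := Finsupp.ext hcon
        rw [h0, map_zero] at h
        omega
      have hle : Finsupp.single i 1 ≤ α := by
        intro j
        rw [Finsupp.single_apply]
        split_ifs with hj
        · subst hj
          exact Nat.one_le_iff_ne_zero.2 hi
        · exact Nat.zero_le _
      have hdeg : (α - Finsupp.single i 1).degree + 1 = α.degree := by
        have e := congrArg Finsupp.degree (tsub_add_cancel_of_le hle)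
        rw [map_add, Finsupp.degree_single] at e
        exact e
      have hclaim : MvPolynomial.aeval x (MvPolynomial.pderiv i P) ∈
          augI k A ^ n ⊔ frobI p (augI k A) := by
        obtain ⟨u, hu, v, hv, huv⟩ := Submodule.mem_sup.1 hmem
        have h1 : D i (MvPolynomial.aeval x P) ∈ augI k A ^ n ⊔ frobI p (augI k A) := by
          rw [← huv, map_add]
          exact Submodule.add_mem_sup (derivation_mem_pow (D i) _ n u hu)
            (derivation_frobI p (D i) _ hv)
        rw [derivation_aeval] at h1
        have hq : ∀ j, MvPolynomial.aeval x (MvPolynomial.pderiv j P) ∈ augI k A ^ (n - 1) := by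
          intro j
          apply aeval_mem_pow_of_le _ x hxI
          intro β hβ
          have hβ' : (β + Finsupp.single j 1).degree < n := by
            rw [map_add, Finsupp.degree_single]
            omega
          rw [MvPolynomial.coeff_pderiv, hlow _ hβ', zero_mul]
        have h2 : ∀ j, MvPolynomial.aeval x (MvPolynomial.pderiv j P) * D i (x j) -
            (if i = j then MvPolynomial.aeval x (MvPolynomial.pderiv j P) else 0) ∈
              augI k A ^ n := by
          intro j
          have hu' : D i (x j) - (if i = j then (1 : A) else 0) ∈ augI k A := by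
            rw [mem_augI, map_sub, hD]
            split_ifs <;> simp
          have h3 := Ideal.mul_mem_mul (hq j) hu'
          rw [← pow_succ, Nat.sub_add_cancel hnpos] at h3
          convert h3 using 1
          split_ifs <;> ring
        have h3 : ∑ j, (MvPolynomial.aeval x (MvPolynomial.pderiv j P) * D i (x j) -
            (if i = j then MvPolynomial.aeval x (MvPolynomial.pderiv j P) else 0)) ∈
              augI k A ^ n := Ideal.sum_mem _ fun j _ => h2 j
        rw [Finset.sum_sub_distrib, Finset.sum_ite_eq, if_pos (Finset.mem_univ i)] at h3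
        have h4 := Submodule.sub_mem _ h1
          (Submodule.mem_sup_left (T := frobI p (augI k A)) h3)
        rwa [sub_sub_cancel] at h4
      have hzero := ih (MvPolynomial.pderiv i P) (IsRed.pderiv p hP i) hclaim
        (α - Finsupp.single i 1) (by omega)
      rw [MvPolynomial.coeff_pderiv, tsub_add_cancel_of_le hle] at hzero
      rcases mul_eq_zero.1 hzero with h0 | h0
      · exact hne h0
      · have h5 : ((((α - Finsupp.single i 1 : Fin r →₀ ℕ) i + 1 : ℕ)) : k) = 0 := by
          push_cast
          exact h0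
        have h6 : (α - Finsupp.single i 1 : Fin r →₀ ℕ) i + 1 = α i := by
          rw [Finsupp.tsub_apply, Finsupp.single_eq_same]
          have := Nat.one_le_iff_ne_zero.2 hi
          omega
        rw [h6, CharP.cast_eq_zero_iff k p] at h5
        have h7 := Nat.le_of_dvd (Nat.pos_of_ne_zero hi) h5
        have h8 := hP α hαs i
        omega

/-- if the augmentation ideal is nilpotent, the coordinates generate `A` -/
lemma aeval_surjective_of_nilpotent {r : ℕ} (x : Fin r → A) (hxI : ∀ j, x j ∈ augI k A)
    (S1 : ∀ y ∈ augI k A, ∃ c : Fin r → k, y - ∑ j, c j • x j ∈ augI k A ^ 2)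
    (N : ℕ) (hN : augI k A ^ N = ⊥) :
    Function.Surjective (MvPolynomial.aeval x : MvPolynomial (Fin r) k → A) := by
  have hS := exists_homogeneous_sub_mem x hxI S1
  have key : ∀ (m n : ℕ) (a : A), a ∈ augI k A ^ n → N ≤ n + m →
      ∃ P : MvPolynomial (Fin r) k, MvPolynomial.aeval x P = a := by
    intro m
    induction m with
    | zero =>
      intro n a ha hn
      have h0 : a ∈ augI k A ^ N := Ideal.pow_le_pow_right (by omega) ha
      rw [hN, Ideal.mem_bot] at h0
      exact ⟨0, by rw [map_zero, h0]⟩
    | succ m ih =>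
      intro n a ha hn
      obtain ⟨q, -, hq⟩ := hS n a ha
      obtain ⟨Q, hQ⟩ := ih (n + 1) _ hq (by omega)
      exact ⟨q + Q, by rw [map_add, hQ]; ring⟩
  intro a
  exact key N 0 a (by rw [pow_zero, Ideal.one_eq_top]; exact Submodule.mem_top) (by omega)

end Bialg

section Main

variable (k : Type u) [Field k] (p : ℕ) [Fact p.Prime] [CharP k p]
variable (A : Type v) [CommRing A] [Bialgebra k A] [FiniteDimensional k A] [IsLocalRing A]

theorem nonempty_algEquiv_frobKer :
    Nonempty ((A ⧸ frobI p (augI k A)) ≃ₐ[k]
      (MvPolynomial (Fin (Module.finrank k (augI k A).Cotangent)) k ⧸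
        Ideal.span (Set.range fun i : Fin (Module.finrank k (augI k A).Cotangent) =>
          (MvPolynomial.X i : MvPolynomial (Fin (Module.finrank k (augI k A).Cotangent)) k) ^ p))) := by
  classical
  haveI : IsNoetherianRing A := Algebra.FiniteType.isNoetherianRing k A
  haveI : IsArtinianRing A := IsArtinianRing.of_finite k A
  obtain ⟨x, D, hxI, S1, hD⟩ := exists_coords_der k A
  have hmax : (augI k A).IsMaximal := by
    unfold augI
    exact RingHom.ker_isMaximal_of_surjective _
      (fun c => ⟨algebraMap k A c, AlgHom.commutes _ c⟩)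
  have hnil : IsNilpotent (augI k A) := by
    rw [IsLocalRing.eq_maximalIdeal hmax]
    exact (isArtinianRing_iff_isNilpotent_maximalIdeal A).1 inferInstance
  obtain ⟨N, hN⟩ := hnil
  rw [Ideal.zero_eq_bot] at hN
  have hsurj := aeval_surjective_of_nilpotent x hxI S1 N hN
  let f : MvPolynomial (Fin (Module.finrank k (augI k A).Cotangent)) k →ₐ[k]
      A ⧸ frobI p (augI k A) :=
    (Ideal.Quotient.mkₐ k (frobI p (augI k A))).comp (MvPolynomial.aeval x)
  have hf : Function.Surjective f :=
    (Ideal.Quotient.mkₐ_surjective k (frobI p (augI k A))).comp hsurj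
  have hfP : ∀ P, f P = 0 ↔ MvPolynomial.aeval x P ∈ frobI p (augI k A) := fun P => by
    show Ideal.Quotient.mk (frobI p (augI k A)) (MvPolynomial.aeval x P) = 0 ↔ _
    exact Ideal.Quotient.eq_zero_iff_mem
  have hle : Ideal.span (Set.range fun i : Fin (Module.finrank k (augI k A).Cotangent) =>
      (MvPolynomial.X i : MvPolynomial (Fin (Module.finrank k (augI k A).Cotangent)) k) ^ p) ≤
        RingHom.ker f := by
    rw [Ideal.span_le]
    rintro _ ⟨i, rfl⟩
    rw [SetLike.mem_coe, RingHom.mem_ker, hfP, map_pow, MvPolynomial.aeval_X]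
    exact Ideal.subset_span ⟨x i, hxI i, rfl⟩
  have hker : RingHom.ker f =
      Ideal.span (Set.range fun i : Fin (Module.finrank k (augI k A).Cotangent) =>
        (MvPolynomial.X i : MvPolynomial (Fin (Module.finrank k (augI k A).Cotangent)) k) ^ p) := by
    apply le_antisymm _ hle
    intro P hP
    rw [RingHom.mem_ker, hfP] at hP
    obtain ⟨R, hR, hPR⟩ := exists_isRed_sub_mem p P
    have hPRJ : MvPolynomial.aeval x (P - R) ∈ frobI p (augI k A) :=
      (hfP _).1 (RingHom.mem_ker.1 (hle hPR))
    have hRJ : MvPolynomial.aeval x R ∈ frobI p (augI k A) := by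
      have h1 := Ideal.sub_mem _ hP hPRJ
      rwa [← map_sub, sub_sub_cancel] at h1
    have hR0 : R = 0 := by
      ext α
      rw [MvPolynomial.coeff_zero]
      exact coeff_eq_zero_of_aeval_mem p x hxI D hD (α.degree + 1) R hR
        (Submodule.mem_sup_right hRJ) α (Nat.lt_succ_self _)
    rw [hR0, sub_zero] at hPR
    exact hPR
  exact ⟨((Ideal.quotientEquivAlgOfEq k hker.symm).trans
    (Ideal.quotientKerAlgEquivOfSurjective hf)).symm⟩

theorem nonempty_algEquiv_of_ideal (I : Ideal A) (hI : I = augI k A) (d : ℕ)
    (hd : Module.finrank k I.Cotangent = d) :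
    Nonempty ((A ⧸ Ideal.span ((fun a : A => a ^ p) '' (I : Set A))) ≃ₐ[k]
      (MvPolynomial (Fin d) k ⧸ Ideal.span (Set.range fun i : Fin d =>
        (MvPolynomial.X i : MvPolynomial (Fin d) k) ^ p))) := by
  subst hI
  subst hd
  exact nonempty_algEquiv_frobKer k p A

end Main

end Groth.Agent.Lib.Helper19.FrobKer
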