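import Mathlib
import Groth.Agent.Lib.Helper19.FrobKer

/-!
# Group schemes of height one over a local ring (helper19)

A finite type flat commutative bialgebra `A` over a local ring `R` of characteristic `p` all of whose
augmentation-ideal elements have vanishing `p`-th power is a truncated polynomial algebra
`R[X_1..X_n]/(X_i^p)`.

* `toFs`, `exists_coeffs_sub_mem`: reduction modulo the `p`-th powers of the variables.
* `mon_bijective_field`: over a field, the reduced monomials in suitable coordinates form a basis.
* `pow_p_eq_zero_baseChange`: height one is stable under base change to a field.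
* `nonempty_algEquiv_of_bijective`, `exists_algEquiv_of_height_one`.
-/

set_option autoImplicit false
set_option linter.unusedSectionVars false
universe u v

open TensorProduct

namespace Groth.Agent.Lib.Helper19.HeightOne

open Groth.Agent.Lib.Helper19.Reynolds
open Groth.Agent.Lib.Helper19.Coalg
open Groth.Agent.Lib.Helper19.Unip
open Groth.Agent.Lib.Helper19.Cartier
open Groth.Agent.Lib.Helper19.FrobKer

section Mono

variable {R : Type u} [CommRing R] (p : ℕ) {n : ℕ}

/-- exponent vector of a function `Fin n → Fin p` -/
noncomputable def toFs (α : Fin n → Fin p) : Fin n →₀ ℕ :=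
  Finsupp.equivFunOnFinite.symm (fun i => (α i : ℕ))

lemma toFs_apply (α : Fin n → Fin p) (i : Fin n) : toFs p α i = (α i : ℕ) := rfl

lemma toFs_injective : Function.Injective (toFs p (n := n)) := by
  intro α α' h
  funext i
  apply Fin.ext
  have h1 := DFunLike.congr_fun h i
  rw [toFs_apply, toFs_apply] at h1
  exact h1

lemma aeval_monomial_eq_smul {A : Type v} [CommRing A] [Algebra R A] (x : Fin n → A)
    (β : Fin n →₀ ℕ) (r : R) :
    MvPolynomial.aeval x (MvPolynomial.monomial β r) =
      r • MvPolynomial.aeval x (MvPolynomial.monomial β (1 : R)) := by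
  rw [← map_smul, MvPolynomial.smul_monomial, smul_eq_mul, mul_one]

/-- every polynomial is a combination of reduced monomials modulo the `p`-th powers of the
variables -/
lemma exists_coeffs_sub_mem (P : MvPolynomial (Fin n) R) :
    ∃ c : (Fin n → Fin p) → R,
      P - ∑ α, MvPolynomial.monomial (toFs p α) (c α) ∈
        Ideal.span (Set.range fun i : Fin n => (MvPolynomial.X i : MvPolynomial (Fin n) R) ^ p) := by
  classical
  induction P using MvPolynomial.induction_on' with
  | monomial β r =>
    by_cases h : ∀ i, β i < p
    · let α₀ : Fin n → Fin p := fun i => ⟨β i, h i⟩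
      have hα₀ : toFs p α₀ = β := Finsupp.ext fun i => rfl
      refine ⟨Pi.single α₀ r, ?_⟩
      have e : ∑ α, MvPolynomial.monomial (toFs p α) ((Pi.single α₀ r : (Fin n → Fin p) → R) α) =
          MvPolynomial.monomial β r := by
        rw [Finset.sum_eq_single α₀]
        · rw [Pi.single_eq_same, hα₀]
        · intro α _ hne
          rw [Pi.single_eq_of_ne hne, map_zero]
        · intro h'
          exact absurd (Finset.mem_univ _) h'
      rw [e, sub_self]
      exact Ideal.zero_mem _
    · push Not at h
      obtain ⟨i, hi⟩ := h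
      refine ⟨0, ?_⟩
      have e0 : ∑ α : Fin n → Fin p, MvPolynomial.monomial (toFs p α)
          ((0 : (Fin n → Fin p) → R) α) = 0 := by
        apply Finset.sum_eq_zero
        intro α _
        rw [Pi.zero_apply, map_zero]
      rw [e0, sub_zero]
      have hle : Finsupp.single i p ≤ β := by
        intro j
        rw [Finsupp.single_apply]
        split_ifs with hj
        · subst hj
          exact hi
        · exact Nat.zero_le _
      have e : MvPolynomial.monomial β r =
          MvPolynomial.monomial (β - Finsupp.single i p) r * MvPolynomial.X i ^ p := by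
        rw [MvPolynomial.X_pow_eq_monomial, MvPolynomial.monomial_mul, mul_one,
          tsub_add_cancel_of_le hle]
      rw [e]
      exact Ideal.mul_mem_left _ _ (Ideal.subset_span ⟨i, rfl⟩)
  | add P Q hP hQ =>
    obtain ⟨c₁, m₁⟩ := hP
    obtain ⟨c₂, m₂⟩ := hQ
    refine ⟨c₁ + c₂, ?_⟩
    have e : P + Q - ∑ α, MvPolynomial.monomial (toFs p α) ((c₁ + c₂) α) =
        (P - ∑ α, MvPolynomial.monomial (toFs p α) (c₁ α)) +
          (Q - ∑ α, MvPolynomial.monomial (toFs p α) (c₂ α)) := by
      simp only [Pi.add_apply, map_add, Finset.sum_add_distrib]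
      ring
    rw [e]
    exact Ideal.add_mem _ m₁ m₂

/-- from a basis of reduced monomials to the truncated polynomial algebra -/
theorem nonempty_algEquiv_of_bijective (hp : 0 < p) {A : Type v} [CommRing A] [Algebra R A]
    (x : Fin n → A) (hxp : ∀ i, x i ^ p = 0)
    (hbij : Function.Bijective (Finsupp.linearCombination R (fun α : Fin n → Fin p =>
      MvPolynomial.aeval x (MvPolynomial.monomial (toFs p α) (1 : R))))) :
    Nonempty (A ≃ₐ[R] (MvPolynomial (Fin n) R ⧸
      Ideal.span (Set.range fun i : Fin n => (MvPolynomial.X i : MvPolynomial (Fin n) R) ^ p))) := by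
  classical
  set v : (Fin n → Fin p) → A := fun α =>
    MvPolynomial.aeval x (MvPolynomial.monomial (toFs p α) (1 : R)) with hv
  have hli : LinearIndependent R v := hbij.1
  have hspan : Submodule.span R (Set.range v) = ⊤ := by
    rw [← Finsupp.range_linearCombination]
    exact LinearMap.range_eq_top.2 hbij.2
  let f : MvPolynomial (Fin n) R →ₐ[R] A := MvPolynomial.aeval x
  have hf : Function.Surjective f := by
    intro a
    have ha : a ∈ Submodule.span R (Set.range v) := hspan ▸ Submodule.mem_top
    have hle : Submodule.span R (Set.range v) ≤ LinearMap.range f.toLinearMap := by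
      rw [Submodule.span_le]
      rintro _ ⟨α, rfl⟩
      exact ⟨MvPolynomial.monomial (toFs p α) (1 : R), rfl⟩
    obtain ⟨P, hP⟩ := hle ha
    exact ⟨P, hP⟩
  have hle : Ideal.span (Set.range fun i : Fin n =>
      (MvPolynomial.X i : MvPolynomial (Fin n) R) ^ p) ≤ RingHom.ker f := by
    rw [Ideal.span_le]
    rintro _ ⟨i, rfl⟩
    rw [SetLike.mem_coe, RingHom.mem_ker]
    show MvPolynomial.aeval x ((MvPolynomial.X i : MvPolynomial (Fin n) R) ^ p) = 0
    rw [map_pow, MvPolynomial.aeval_X, hxp]
  have hker : RingHom.ker f = Ideal.span (Set.range fun i : Fin n =>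
      (MvPolynomial.X i : MvPolynomial (Fin n) R) ^ p) := by
    apply le_antisymm _ hle
    intro P hP
    rw [RingHom.mem_ker] at hP
    obtain ⟨c, hc⟩ := exists_coeffs_sub_mem p P
    have h1 : f (P - ∑ α, MvPolynomial.monomial (toFs p α) (c α)) = 0 :=
      RingHom.mem_ker.1 (hle hc)
    rw [map_sub, hP, zero_sub, neg_eq_zero, map_sum] at h1
    have h2 : ∑ α, c α • v α = 0 := by
      rw [← h1]
      refine Finset.sum_congr rfl fun α _ => ?_
      exact (aeval_monomial_eq_smul x (toFs p α) (c α)).symm
    have h3 := Fintype.linearIndependent_iff.1 hli c h2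
    have h4 : ∑ α, MvPolynomial.monomial (toFs p α) (c α) = (0 : MvPolynomial (Fin n) R) := by
      apply Finset.sum_eq_zero
      intro α _
      rw [h3 α, map_zero]
    rw [h4, sub_zero] at hc
    exact hc
  exact ⟨((Ideal.quotientEquivAlgOfEq R hker.symm).trans
    (Ideal.quotientKerAlgEquivOfSurjective hf)).symm⟩

end Mono

section Field

variable (k : Type u) [Field k] (p : ℕ) [Fact p.Prime] [CharP k p]
variable (A : Type v) [CommRing A] [Bialgebra k A]

/-- over a field, for a height one bialgebra the reduced monomials in suitable coordinates form a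
basis -/
theorem mon_bijective_field' [IsNoetherianRing A] (hnil : ∀ a ∈ augI k A, a ^ p = 0) :
    ∃ (x : Fin (Module.finrank k (augI k A).Cotangent) → A), (∀ j, x j ∈ augI k A) ∧
      Function.Bijective (Finsupp.linearCombination k
        (fun α : Fin (Module.finrank k (augI k A).Cotangent) → Fin p =>
          MvPolynomial.aeval x (MvPolynomial.monomial (toFs p α) (1 : k)))) := by
  classical
  obtain ⟨x, D, hxI, S1, hD⟩ := exists_coords_der k A
  refine ⟨x, hxI, ?_⟩
  have hp : 0 < p := (Fact.out : p.Prime).pos
  have hnilI : IsNilpotent (augI k A) := by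
    rw [Ideal.FG.isNilpotent_iff_le_nilradical (IsNoetherian.noetherian _)]
    intro a ha
    exact mem_nilradical.2 ⟨p, hnil a ha⟩
  obtain ⟨N, hN⟩ := hnilI
  rw [Ideal.zero_eq_bot] at hN
  have hsurj := aeval_surjective_of_nilpotent x hxI S1 N hN
  have hJ : frobI p (augI k A) = ⊥ := by
    unfold frobI
    rw [Ideal.span_eq_bot]
    rintro _ ⟨a, ha, rfl⟩
    exact hnil a ha
  have hXp : ∀ T ∈ Ideal.span (Set.range fun i : Fin (Module.finrank k (augI k A).Cotangent) =>
      (MvPolynomial.X i : MvPolynomial (Fin (Module.finrank k (augI k A).Cotangent)) k) ^ p),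
      MvPolynomial.aeval x T = 0 := by
    intro T hT
    have hle : Ideal.span (Set.range fun i : Fin (Module.finrank k (augI k A).Cotangent) =>
        (MvPolynomial.X i : MvPolynomial (Fin (Module.finrank k (augI k A).Cotangent)) k) ^ p) ≤
          RingHom.ker (MvPolynomial.aeval x : MvPolynomial _ k →ₐ[k] A) := by
      rw [Ideal.span_le]
      rintro _ ⟨i, rfl⟩
      rw [SetLike.mem_coe, RingHom.mem_ker, map_pow, MvPolynomial.aeval_X]
      exact hnil _ (hxI i)
    exact RingHom.mem_ker.1 (hle hT)
  constructor
  · have hli : LinearIndependent k (fun α : Fin (Module.finrank k (augI k A).Cotangent) → Fin p =>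
        MvPolynomial.aeval x (MvPolynomial.monomial (toFs p α) (1 : k))) := by
      rw [Fintype.linearIndependent_iff]
      intro g hg α₀
      set Q : MvPolynomial (Fin (Module.finrank k (augI k A).Cotangent)) k :=
        ∑ α, MvPolynomial.monomial (toFs p α) (g α) with hQdef
      have hQ : MvPolynomial.aeval x Q = 0 := by
        rw [hQdef, map_sum, ← hg]
        refine Finset.sum_congr rfl fun α _ => ?_
        exact aeval_monomial_eq_smul x (toFs p α) (g α)
      have hRed : IsRed p Q := by
        rw [hQdef]
        refine Finset.sum_induction _ (IsRed p) (fun P₁ P₂ h₁ h₂ => IsRed.add p h₁ h₂)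
          (isRed_zero p) ?_
        intro α _
        exact isRed_monomial p _ _ (fun i => (α i).isLt)
      have hQ0 : Q = 0 := by
        ext β
        rw [MvPolynomial.coeff_zero]
        refine coeff_eq_zero_of_aeval_mem p x hxI D hD (β.degree + 1) Q hRed ?_ β
          (Nat.lt_succ_self _)
        rw [hQ]
        exact Ideal.zero_mem _
      have hcoef : MvPolynomial.coeff (toFs p α₀) Q = g α₀ := by
        rw [hQdef, MvPolynomial.coeff_sum, Finset.sum_eq_single α₀]
        · rw [MvPolynomial.coeff_monomial, if_pos rfl]
        · intro α _ hne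
          rw [MvPolynomial.coeff_monomial, if_neg]
          intro heq
          exact hne (toFs_injective p heq)
        · intro h'
          exact absurd (Finset.mem_univ _) h'
      rw [← hcoef, hQ0, MvPolynomial.coeff_zero]
    exact hli
  · intro a
    obtain ⟨P, rfl⟩ := hsurj a
    obtain ⟨c, hc⟩ := exists_coeffs_sub_mem p P
    have h1 := hXp _ hc
    rw [map_sub, sub_eq_zero] at h1
    refine ⟨Finsupp.equivFunOnFinite.symm c, ?_⟩
    rw [Finsupp.linearCombination_apply, Finsupp.sum_fintype, h1, map_sum]
    · refine Finset.sum_congr rfl fun α _ => ?_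
      rw [Finsupp.coe_equivFunOnFinite_symm]
      exact (aeval_monomial_eq_smul x (toFs p α) (c α)).symm
    · intro i
      exact zero_smul _ _

theorem mon_bijective_field [IsNoetherianRing A] (hnil : ∀ a ∈ augI k A, a ^ p = 0) :
    ∃ (n : ℕ) (x : Fin n → A), (∀ j, x j ∈ augI k A) ∧
      Function.Bijective (Finsupp.linearCombination k (fun α : Fin n → Fin p =>
        MvPolynomial.aeval x (MvPolynomial.monomial (toFs p α) (1 : k)))) := by
  obtain ⟨x, hxI, hbij⟩ := mon_bijective_field' k p A hnil
  exact ⟨_, x, hxI, hbij⟩

/-- the order of an infinitesimal group of height one -/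
theorem finrank_eq_pow [IsNoetherianRing A] (hnil : ∀ a ∈ augI k A, a ^ p = 0) :
    Module.finrank k A = p ^ Module.finrank k (augI k A).Cotangent := by
  obtain ⟨x, -, hbij⟩ := mon_bijective_field' k p A hnil
  have e := LinearEquiv.ofBijective _ hbij
  rw [← e.finrank_eq, Module.finrank_finsupp_self, Fintype.card_fun, Fintype.card_fin,
    Fintype.card_fin]

end Field

section BaseChange

variable (R : Type u) [CommRing R] (K : Type u) [Field K] [Algebra R K]
variable (p : ℕ) [Fact p.Prime] [CharP K p]
variable (A : Type u) [CommRing A] [Bialgebra R A]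

lemma pow_p_eq_zero_baseChange
    (h1 : ∀ a : A, Coalgebra.counit (R := R) a = 0 → a ^ p = 0) :
    ∀ y : K ⊗[R] A,
      (y - algebraMap K (K ⊗[R] A) (Coalgebra.counit (R := K) y)) ^ p = 0 := by
  rcases subsingleton_or_nontrivial (K ⊗[R] A) with hs | hnt
  · intro y
    exact Subsingleton.elim _ _
  haveI : CharP (K ⊗[R] A) p :=
    charP_of_injective_algebraMap (algebraMap K (K ⊗[R] A)).injective p
  have hp : p ≠ 0 := (Fact.out : p.Prime).ne_zero
  intro y
  induction y using TensorProduct.induction_on with
  | zero => rw [map_zero, map_zero, sub_zero, zero_pow hp]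
  | tmul c a =>
    have e : c ⊗ₜ[R] a - algebraMap K (K ⊗[R] A) (Coalgebra.counit (R := K) (c ⊗ₜ[R] a)) =
        c ⊗ₜ[R] (a - algebraMap R A (Coalgebra.counit (R := R) a)) := by
      rw [TensorProduct.counit_tmul, CommSemiring.counit_apply,
        Algebra.TensorProduct.algebraMap_apply, Algebra.algebraMap_self_apply,
        TensorProduct.smul_tmul, ← Algebra.algebraMap_eq_smul_one, TensorProduct.tmul_sub]
    have h0 : Coalgebra.counit (R := R) (a - algebraMap R A (Coalgebra.counit (R := R) a)) = 0 := by
      rw [map_sub, Bialgebra.counit_algebraMap, sub_self]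
    rw [e, Algebra.TensorProduct.tmul_pow, h1 _ h0, TensorProduct.tmul_zero]
  | add y z hy hz =>
    have e : y + z - algebraMap K (K ⊗[R] A) (Coalgebra.counit (R := K) (y + z)) =
        (y - algebraMap K (K ⊗[R] A) (Coalgebra.counit (R := K) y)) +
          (z - algebraMap K (K ⊗[R] A) (Coalgebra.counit (R := K) z)) := by
      rw [map_add, map_add]
      ring
    rw [e, add_pow_char, hy, hz, add_zero]

end BaseChange

section Local

variable (p : ℕ) [Fact p.Prime] (R : Type u) [CommRing R] [IsLocalRing R] [CharP R p]
variable (A : Type u) [CommRing A] [Bialgebra R A] [Algebra.FiniteType R A] [Module.Flat R A]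

theorem exists_algEquiv_of_height_one
    (h1 : ∀ a : A, Coalgebra.counit (R := R) a = 0 → a ^ p = 0) :
    ∃ n : ℕ, Nonempty (A ≃ₐ[R] (MvPolynomial (Fin n) R ⧸
      Ideal.span (Set.range fun i : Fin n => (MvPolynomial.X i : MvPolynomial (Fin n) R) ^ p))) := by
  classical
  have hp : 0 < p := (Fact.out : p.Prime).pos
  -- `A` is a finite `R`-module
  haveI : Algebra.IsIntegral R A := by
    refine ⟨fun a => ?_⟩
    have e : a = (a - algebraMap R A (Coalgebra.counit (R := R) a)) +
        algebraMap R A (Coalgebra.counit (R := R) a) := by ring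
    rw [e]
    refine IsIntegral.add ?_ isIntegral_algebraMap
    have h0 : Coalgebra.counit (R := R) (a - algebraMap R A (Coalgebra.counit (R := R) a)) = 0 := by
      rw [map_sub, Bialgebra.counit_algebraMap, sub_self]
    refine IsIntegral.of_pow hp ?_
    rw [h1 _ h0]
    exact isIntegral_zero
  haveI : Module.Finite R A := Algebra.IsIntegral.finite
  -- the special fibre
  let κ := IsLocalRing.ResidueField R
  haveI : CharP κ p := by
    have h0 : ((p : ℕ) : κ) = 0 := by
      rw [← map_natCast (algebraMap R κ), CharP.cast_eq_zero R p, map_zero]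
    exact (CharP.charP_iff_prime_eq_zero (Fact.out : p.Prime)).2 h0
  haveI : IsNoetherianRing (κ ⊗[R] A) := Algebra.FiniteType.isNoetherianRing κ (κ ⊗[R] A)
  have hnil₀ : ∀ y ∈ augI κ (κ ⊗[R] A), y ^ p = 0 := by
    intro y hy
    have h := pow_p_eq_zero_baseChange R κ p A h1 y
    rw [(mem_augI y).1 hy, map_zero, sub_zero] at h
    exact h
  obtain ⟨n, xb, hxbI, hbij⟩ := mon_bijective_field κ p (κ ⊗[R] A) hnil₀
  -- lift the coordinates
  have hsurjmk : Function.Surjective (TensorProduct.mk R κ A 1) :=
    TensorProduct.mk_surjective R A κ Ideal.Quotient.mk_surjective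
  choose a ha using fun i => hsurjmk (xb i)
  let x : Fin n → A := fun i => a i - algebraMap R A (Coalgebra.counit (R := R) (a i))
  have hxc : ∀ i, Coalgebra.counit (R := R) (x i) = 0 := by
    intro i
    show Coalgebra.counit (R := R) (a i - algebraMap R A (Coalgebra.counit (R := R) (a i))) = 0
    rw [map_sub, Bialgebra.counit_algebraMap, sub_self]
  have hxp : ∀ i, x i ^ p = 0 := fun i => h1 (x i) (hxc i)
  have hxb : ∀ i, (1 : κ) ⊗ₜ[R] x i = xb i := by
    intro i
    have h0 : algebraMap R κ (Coalgebra.counit (R := R) (a i)) = 0 := by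
      have h := (mem_augI (xb i)).1 (hxbI i)
      rw [← ha i, TensorProduct.mk_apply, TensorProduct.counit_tmul, CommSemiring.counit_apply,
        ← Algebra.algebraMap_eq_smul_one] at h
      exact h
    show (1 : κ) ⊗ₜ[R] (a i - algebraMap R A (Coalgebra.counit (R := R) (a i))) = xb i
    rw [TensorProduct.tmul_sub, Algebra.algebraMap_eq_smul_one, ← TensorProduct.smul_tmul,
      ← Algebra.algebraMap_eq_smul_one, h0, TensorProduct.zero_tmul, sub_zero]
    exact ha i
  -- the reduced monomials
  set v : (Fin n → Fin p) → A := fun α =>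
    MvPolynomial.aeval x (MvPolynomial.monomial (toFs p α) (1 : R)) with hv
  have hv' : (TensorProduct.mk R κ A 1 ∘ v) = fun α : Fin n → Fin p =>
      MvPolynomial.aeval xb (MvPolynomial.monomial (toFs p α) (1 : κ)) := by
    funext α
    show (1 : κ) ⊗ₜ[R] MvPolynomial.aeval x (MvPolynomial.monomial (toFs p α) (1 : R)) = _
    rw [MvPolynomial.aeval_monomial, MvPolynomial.aeval_monomial, map_one, map_one, one_mul,
      one_mul, ← Algebra.TensorProduct.includeRight_apply (R := R) (A := κ), map_finsuppProd]
    refine Finsupp.prod_congr fun i _ => ?_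
    rw [map_pow, Algebra.TensorProduct.includeRight_apply, hxb]
  have hbijR : Function.Bijective (Finsupp.linearCombination R v) := by
    apply Module.IsLocalRing.linearCombination_bijective_of_flat
    rw [hv']
    exact hbij
  exact ⟨n, nonempty_algEquiv_of_bijective p hp x hxp hbijR⟩

end Local

end Groth.Agent.Lib.Helper19.HeightOne
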