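import Mathlib

/-!
# Hopf algebras generated by primitive elements (helper19)

Let `H` be an associative algebra over a commutative ring `k`, generated by a set `s`, with algebra
maps `Δ : H → H ⊗ H`, `ε : H → k`, `S : H → Hᵐᵒᵖ` such that the elements of `s` are primitive
(`Δ x = x ⊗ 1 + 1 ⊗ x`, `ε x = 0`, `S x = -x`).  Then `(H, Δ, ε, S)` is a cocommutative Hopf algebra
(`PrimHopf.hopf`, `PrimHopf.isCocomm`).  Also: `p`-th powers of sums of commuting elements in
algebras over a field of characteristic `p`.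
-/

set_option autoImplicit false
universe u v

open TensorProduct

namespace Groth.Agent.Lib.Helper19.PrimHopf

section CharP

variable (k : Type u) [Field k] (p : ℕ) [Fact p.Prime] [CharP k p]

lemma add_pow_p_of_commute {B : Type v} [Ring B] [Algebra k B] (x y : B) (h : Commute x y) :
    (x + y) ^ p = x ^ p + y ^ p := by
  rcases subsingleton_or_nontrivial B with hB | hB
  · exact Subsingleton.elim _ _
  · haveI : CharP B p := charP_of_injective_algebraMap (algebraMap k B).injective p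
    exact add_pow_char_of_commute p h

lemma neg_pow_p {B : Type v} [Ring B] [Algebra k B] (x : B) : (-x) ^ p = -(x ^ p) := by
  have h := add_pow_p_of_commute k p x (-x) (Commute.neg_right (Commute.refl x))
  rw [add_neg_cancel, zero_pow (Fact.out : p.Prime).ne_zero] at h
  exact eq_neg_of_add_eq_zero_right h.symm

lemma nsmul_p_eq_zero {M : Type v} [AddCommGroup M] [Module k M] (z : M) : p • z = 0 := by
  rw [← Nat.cast_smul_eq_nsmul k p z, CharP.cast_eq_zero, zero_smul]

lemma prim_pow_p {B : Type v} [Ring B] [Algebra k B] (a : B) :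
    (a ⊗ₜ[k] (1 : B) + (1 : B) ⊗ₜ[k] a) ^ p =
      (a ^ p) ⊗ₜ[k] (1 : B) + (1 : B) ⊗ₜ[k] (a ^ p) := by
  have hc : Commute (a ⊗ₜ[k] (1 : B)) ((1 : B) ⊗ₜ[k] a) := by
    show _ * _ = _ * _
    rw [Algebra.TensorProduct.tmul_mul_tmul, Algebra.TensorProduct.tmul_mul_tmul, mul_one,
      one_mul]
  rw [add_pow_p_of_commute k p _ _ hc, Algebra.TensorProduct.tmul_pow,
    Algebra.TensorProduct.tmul_pow, one_pow]

end CharP

section Gen

variable {k : Type u} [CommRing k] {H : Type v} [Ring H] [Algebra k H]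
variable (s : Set H) (hs : Algebra.adjoin k s = ⊤)

include hs in
theorem gen_induction {P : H → Prop} (mem : ∀ x ∈ s, P x) (alg : ∀ r : k, P (algebraMap k H r))
    (add : ∀ x y, P x → P y → P (x + y)) (mul : ∀ x y, P x → P y → P (x * y)) (h : H) : P h := by
  have hh : h ∈ Algebra.adjoin k s := by rw [hs]; trivial
  induction hh using Algebra.adjoin_induction with
  | mem x hx => exact mem x hx
  | algebraMap r => exact alg r
  | add x y _ _ hx hy => exact add x y hx hy
  | mul x y _ _ hx hy => exact mul x y hx hy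

variable (Δ : H →ₐ[k] H ⊗[k] H)
  (hΔ : ∀ x ∈ s, Δ x = x ⊗ₜ[k] (1 : H) + (1 : H) ⊗ₜ[k] x)
  (ε : H →ₐ[k] k) (hε : ∀ x ∈ s, ε x = 0)

include hs hΔ in
lemma coassoc_aux :
    (Algebra.TensorProduct.assoc k k k H H H).toAlgHom.comp
      ((Algebra.TensorProduct.map Δ (AlgHom.id k H)).comp Δ) =
    (Algebra.TensorProduct.map (AlgHom.id k H) Δ).comp Δ := by
  apply AlgHom.ext_of_adjoin_eq_top hs
  intro x hx
  have h1 : Δ x = x ⊗ₜ[k] (1 : H) + (1 : H) ⊗ₜ[k] x := hΔ x hx
  have h2 : Δ 1 = (1 : H) ⊗ₜ[k] (1 : H) := by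
    rw [map_one, Algebra.TensorProduct.one_def]
  simp only [AlgHom.comp_apply, h1, map_add,
    Algebra.TensorProduct.map_tmul, AlgHom.id_apply, h2, TensorProduct.add_tmul,
    TensorProduct.tmul_add, add_assoc]
  rfl

include hs hΔ hε in
lemma rTensor_aux :
    (Algebra.TensorProduct.map ε (AlgHom.id k H)).comp Δ =
      ((Algebra.TensorProduct.lid k H).symm : H →ₐ[k] k ⊗[k] H) := by
  apply AlgHom.ext_of_adjoin_eq_top hs
  intro x hx
  have h1 : Δ x = x ⊗ₜ[k] (1 : H) + (1 : H) ⊗ₜ[k] x := hΔ x hx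
  simp only [AlgHom.comp_apply, h1, map_add, Algebra.TensorProduct.map_tmul,
    AlgHom.id_apply, hε x hx, map_one, TensorProduct.zero_tmul, zero_add]
  rfl

include hs hΔ hε in
lemma lTensor_aux :
    (Algebra.TensorProduct.map (AlgHom.id k H) ε).comp Δ =
      ((Algebra.TensorProduct.rid k k H).symm : H →ₐ[k] H ⊗[k] k) := by
  apply AlgHom.ext_of_adjoin_eq_top hs
  intro x hx
  have h1 : Δ x = x ⊗ₜ[k] (1 : H) + (1 : H) ⊗ₜ[k] x := hΔ x hx
  simp only [AlgHom.comp_apply, h1, map_add, Algebra.TensorProduct.map_tmul,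
    AlgHom.id_apply, hε x hx, map_one, TensorProduct.tmul_zero, add_zero]
  rfl

/-- the bialgebra structure -/
@[reducible] noncomputable def bialg : Bialgebra k H :=
  Bialgebra.ofAlgHom Δ ε (coassoc_aux s hs Δ hΔ) (rTensor_aux s hs Δ hΔ ε hε)
    (lTensor_aux s hs Δ hΔ ε hε)

variable (S : H →ₐ[k] Hᵐᵒᵖ) (hS : ∀ x ∈ s, S x = MulOpposite.op (-x))

/-- the antipode as a linear endomorphism -/
noncomputable def Slin : H →ₗ[k] H :=
  (MulOpposite.opLinearEquiv k).symm.toLinearMap ∘ₗ S.toLinearMap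

lemma Slin_apply (h : H) : Slin S h = MulOpposite.unop (S h) := rfl

lemma Slin_mul (a b : H) : Slin S (a * b) = Slin S b * Slin S a := by
  rw [Slin_apply, Slin_apply, Slin_apply, map_mul, MulOpposite.unop_mul]

lemma Slin_one : Slin S 1 = 1 := by
  rw [Slin_apply, map_one, MulOpposite.unop_one]

include hS in
lemma Slin_mem (x : H) (hx : x ∈ s) : Slin S x = -x := by
  rw [Slin_apply, hS x hx, MulOpposite.unop_op]

/-- `a ⊗ b ↦ S a * b` -/
noncomputable def G : H ⊗[k] H →ₗ[k] H := LinearMap.mul' k H ∘ₗ (Slin S).rTensor H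

/-- `a ⊗ b ↦ a * S b` -/
noncomputable def G' : H ⊗[k] H →ₗ[k] H := LinearMap.mul' k H ∘ₗ (Slin S).lTensor H

lemma G_tmul (a b : H) : G S (a ⊗ₜ[k] b) = Slin S a * b := by
  simp only [G, LinearMap.comp_apply, LinearMap.rTensor_tmul, LinearMap.mul'_apply]

lemma G'_tmul (a b : H) : G' S (a ⊗ₜ[k] b) = a * Slin S b := by
  simp only [G', LinearMap.comp_apply, LinearMap.lTensor_tmul, LinearMap.mul'_apply]

lemma G_mul_tmul (t : H ⊗[k] H) (b1 b2 : H) :
    G S (t * (b1 ⊗ₜ[k] b2)) = Slin S b1 * G S t * b2 := by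
  induction t using TensorProduct.induction_on with
  | zero => rw [zero_mul, map_zero, mul_zero, zero_mul]
  | tmul a1 a2 =>
    rw [Algebra.TensorProduct.tmul_mul_tmul, G_tmul, G_tmul, Slin_mul, mul_assoc, mul_assoc,
      mul_assoc]
  | add x y hx hy => rw [add_mul, map_add, hx, hy, map_add, mul_add, add_mul]

lemma G'_tmul_mul (a1 a2 : H) (t : H ⊗[k] H) :
    G' S ((a1 ⊗ₜ[k] a2) * t) = a1 * G' S t * Slin S a2 := by
  induction t using TensorProduct.induction_on with
  | zero => rw [mul_zero, map_zero, mul_zero, zero_mul]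
  | tmul b1 b2 =>
    rw [Algebra.TensorProduct.tmul_mul_tmul, G'_tmul, G'_tmul, Slin_mul, mul_assoc, mul_assoc,
      mul_assoc]
  | add x y hx hy => rw [mul_add, map_add, hx, hy, map_add, mul_add, add_mul]

lemma G_mul_of (a : H) (ha : G S (Δ a) = ε a • (1 : H)) (t : H ⊗[k] H) :
    G S (Δ a * t) = ε a • G S t := by
  induction t using TensorProduct.induction_on with
  | zero => rw [mul_zero, map_zero, smul_zero]
  | tmul b1 b2 =>
    rw [G_mul_tmul, ha, G_tmul, mul_smul_comm, mul_one, smul_mul_assoc]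
  | add x y hx hy => rw [mul_add, map_add, hx, hy, map_add, smul_add]

lemma G'_mul_of (b : H) (hb : G' S (Δ b) = ε b • (1 : H)) (t : H ⊗[k] H) :
    G' S (t * Δ b) = ε b • G' S t := by
  induction t using TensorProduct.induction_on with
  | zero => rw [zero_mul, map_zero, smul_zero]
  | tmul a1 a2 =>
    rw [G'_tmul_mul, hb, G'_tmul, mul_smul_comm, mul_one, smul_mul_assoc]
  | add x y hx hy => rw [add_mul, map_add, hx, hy, map_add, smul_add]

include hs hΔ hε hS in
lemma G_main (h : H) : G S (Δ h) = ε h • (1 : H) := by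
  refine gen_induction s hs (P := fun h => G S (Δ h) = ε h • (1 : H)) ?_ ?_ ?_ ?_ h
  · intro x hx
    rw [hΔ x hx, map_add, G_tmul, G_tmul, Slin_mem s S hS x hx, Slin_one, hε x hx, zero_smul,
      mul_one, one_mul, neg_add_cancel]
  · intro r
    rw [AlgHom.commutes, AlgHom.commutes, Algebra.algebraMap_eq_smul_one, map_smul,
      Algebra.TensorProduct.one_def, G_tmul, Slin_one, mul_one, Algebra.algebraMap_self_apply]
  · intro x y hx hy
    rw [map_add, map_add, hx, hy, map_add, add_smul]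
  · intro x y hx hy
    rw [map_mul, G_mul_of Δ ε S x hx, hy, map_mul, mul_smul]

include hs hΔ hε hS in
lemma G'_main (h : H) : G' S (Δ h) = ε h • (1 : H) := by
  refine gen_induction s hs (P := fun h => G' S (Δ h) = ε h • (1 : H)) ?_ ?_ ?_ ?_ h
  · intro x hx
    rw [hΔ x hx, map_add, G'_tmul, G'_tmul, Slin_mem s S hS x hx, Slin_one, hε x hx, zero_smul,
      mul_one, one_mul, add_neg_cancel]
  · intro r
    rw [AlgHom.commutes, AlgHom.commutes, Algebra.algebraMap_eq_smul_one, map_smul,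
      Algebra.TensorProduct.one_def, G'_tmul, Slin_one, mul_one, Algebra.algebraMap_self_apply]
  · intro x y hx hy
    rw [map_add, map_add, hx, hy, map_add, add_smul]
  · intro x y hx hy
    rw [map_mul, G'_mul_of Δ ε S y hy, hx, map_mul, mul_smul, smul_comm]

/-- the Hopf algebra structure -/
@[reducible] noncomputable def hopf : HopfAlgebra k H :=
  letI := bialg s hs Δ hΔ ε hε
  { antipode := Slin S
    mul_antipode_rTensor_comul := by
      apply LinearMap.ext
      intro h
      have := G_main s hs Δ hΔ ε hε S hS h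
      rw [Algebra.smul_def, mul_one] at this
      exact this
    mul_antipode_lTensor_comul := by
      apply LinearMap.ext
      intro h
      have := G'_main s hs Δ hΔ ε hε S hS h
      rw [Algebra.smul_def, mul_one] at this
      exact this }

include hs hΔ in
lemma comm_aux :
    (Algebra.TensorProduct.comm k H H).toAlgHom.comp Δ = Δ := by
  apply AlgHom.ext_of_adjoin_eq_top hs
  intro x hx
  have h1 : Δ x = x ⊗ₜ[k] (1 : H) + (1 : H) ⊗ₜ[k] x := hΔ x hx
  simp only [AlgHom.comp_apply, AlgEquiv.toAlgHom_eq_coe, AlgHom.coe_coe, h1, map_add,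
    Algebra.TensorProduct.comm_tmul]
  exact add_comm _ _

lemma isCocomm : letI := hopf s hs Δ hΔ ε hε S hS; Coalgebra.IsCocomm k H := by
  letI := hopf s hs Δ hΔ ε hε S hS
  refine ⟨?_⟩
  apply LinearMap.ext
  intro h
  have h1 := congrArg (fun f : H →ₐ[k] H ⊗[k] H => f h) (comm_aux s hs Δ hΔ)
  exact h1

lemma comul_eq (h : H) :
    letI := hopf s hs Δ hΔ ε hε S hS
    Coalgebra.comul (R := k) h = Δ h := rfl

lemma counit_eq (h : H) :
    letI := hopf s hs Δ hΔ ε hε S hS
    Coalgebra.counit (R := k) h = ε h := rfl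

end Gen

end Groth.Agent.Lib.Helper19.PrimHopf
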