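import Mathlib
import Groth.Agent.Lib.Helper19.HeightOne
import Groth.Agent.Lib.Helper19.MultType
import Groth.Agent.Lib.Helper19.PrimHopf

/-!
# Simple infinitesimal commutative finite group schemes: `α_p` and `μ_p` (helper19)

* `isHopfIdeal_of_span`: criterion for an ideal given by generators to be a Hopf ideal.
* `frobI_isHopfIdeal`: the ideal generated by the `p`-th powers of the augmentation ideal is a Hopf
  ideal (the kernel of Frobenius is a subgroup scheme).
* `pow_p_eq_zero_of_simple`: a simple infinitesimal group has height one.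
* `finish`: a simple infinitesimal group whose augmentation ideal contains a non-zero element
  generating a Hopf ideal has order `p`, with basis the powers of that element.
* `exists_primitive_of_dual_local`, `primitive_eq_zero_of_dual_reduced`: primitive elements and the
  dual algebra.
* `alpha_p_main`, `mu_p_main`.
-/

set_option autoImplicit false
set_option linter.unusedSectionVars false
universe u v

open TensorProduct

namespace Groth.Agent.Lib.Helper19.SimpleGrp

open Groth.Agent.Lib.Helper19.Unip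
open Groth.Agent.Lib.Helper19.Coalg
open Groth.Agent.Lib.Helper19.FrobKer
open Groth.Agent.Lib.Helper19.PrimHopf

section HopfIdeal

variable {k : Type u} [Field k] {A : Type v} [CommRing A] [HopfAlgebra k A]

variable (k) in
/-- `(π ⊗ π) ∘ Δ`, whose kernel measures the coideal condition -/
noncomputable def quotComul (I : Ideal A) : A →ₐ[k] (A ⧸ I) ⊗[k] (A ⧸ I) :=
  (Algebra.TensorProduct.map (Ideal.Quotient.mkₐ k I) (Ideal.Quotient.mkₐ k I)).comp
    (Bialgebra.comulAlgHom k A)

lemma quotComul_apply (I : Ideal A) (a : A) :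
    quotComul k I a = Algebra.TensorProduct.map (Ideal.Quotient.mkₐ k I) (Ideal.Quotient.mkₐ k I)
      (Coalgebra.comul (R := k) a) := rfl

theorem isHopfIdeal_of_span (I : Ideal A) (s : Set A) (hI : I = Ideal.span s)
    (h1 : ∀ x ∈ s, Coalgebra.counit (R := k) x = 0)
    (h2 : ∀ x ∈ s, quotComul k I x = 0)
    (h3 : ∀ x ∈ s, HopfAlgebra.antipode k x ∈ I) : I.IsHopfIdeal k := by
  have hc : I ≤ RingHom.ker (Bialgebra.counitAlgHom k A) := by
    rw [hI, Ideal.span_le]
    intro x hx
    exact RingHom.mem_ker.2 (h1 x hx)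
  have hm : I ≤ RingHom.ker (quotComul k I) := by
    conv_lhs => rw [hI]
    rw [Ideal.span_le]
    intro x hx
    exact RingHom.mem_ker.2 (h2 x hx)
  have ha : I ≤ Ideal.comap (HopfAlgebra.antipodeAlgHom k A) I := by
    conv_lhs => rw [hI]
    rw [Ideal.span_le]
    intro x hx
    exact h3 x hx
  exact
    { counit_eq_zero := fun x hx =>
        (RingHom.mem_ker.1 (hc hx) : Bialgebra.counitAlgHom k A x = 0)
      map_mkQ_comul_eq_zero := fun x hx =>
        (RingHom.mem_ker.1 (hm hx) : quotComul k I x = 0)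
      antipode_mem := fun x hx => ha hx }

lemma antipode_primitive (x : A)
    (hx : Coalgebra.comul (R := k) x = x ⊗ₜ[k] (1 : A) + (1 : A) ⊗ₜ[k] x) :
    HopfAlgebra.antipode k x = -x := by
  have h := HopfAlgebra.mul_antipode_rTensor_comul_apply (R := k) x
  rw [hx, map_add, LinearMap.rTensor_tmul, LinearMap.rTensor_tmul, map_add, LinearMap.mul'_apply,
    LinearMap.mul'_apply, HopfAlgebra.antipode_one, mul_one, one_mul,
    counit_eq_zero_of_primitive x hx, map_zero] at h
  exact eq_neg_of_add_eq_zero_left h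

theorem isHopfIdeal_span_primitive (x : A)
    (hx : Coalgebra.comul (R := k) x = x ⊗ₜ[k] (1 : A) + (1 : A) ⊗ₜ[k] x) :
    (Ideal.span {x}).IsHopfIdeal k := by
  have hmem : x ∈ Ideal.span ({x} : Set A) := Ideal.subset_span (Set.mem_singleton x)
  apply isHopfIdeal_of_span (Ideal.span {x}) {x} rfl
  · intro y hy
    rw [Set.mem_singleton_iff] at hy
    subst hy
    exact counit_eq_zero_of_primitive y hx
  · intro y hy
    rw [Set.mem_singleton_iff] at hy
    subst hy
    have h0 : Ideal.Quotient.mkₐ k (Ideal.span ({y} : Set A)) y = 0 :=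
      Ideal.Quotient.eq_zero_iff_mem.2 hmem
    rw [quotComul_apply, hx, map_add, Algebra.TensorProduct.map_tmul,
      Algebra.TensorProduct.map_tmul, h0, TensorProduct.zero_tmul, TensorProduct.tmul_zero,
      add_zero]
  · intro y hy
    rw [Set.mem_singleton_iff] at hy
    subst hy
    rw [antipode_primitive y hx]
    exact (Ideal.span ({y} : Set A)).neg_mem hmem

theorem isHopfIdeal_span_groupLike (g : A) (hg : IsGroupLikeElem k g) :
    (Ideal.span {g - 1}).IsHopfIdeal k := by
  have hmem : g - 1 ∈ Ideal.span ({g - 1} : Set A) := Ideal.subset_span (Set.mem_singleton _)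
  apply isHopfIdeal_of_span (Ideal.span {g - 1}) {g - 1} rfl
  · intro y hy
    rw [Set.mem_singleton_iff] at hy
    subst hy
    rw [map_sub, hg.counit_eq_one, Bialgebra.counit_one, sub_self]
  · intro y hy
    rw [Set.mem_singleton_iff] at hy
    subst hy
    have h0 : Ideal.Quotient.mkₐ k (Ideal.span ({g - 1} : Set A)) g = 1 := by
      have h := Ideal.Quotient.eq_zero_iff_mem.2 hmem
      have h' : Ideal.Quotient.mkₐ k (Ideal.span ({g - 1} : Set A)) (g - 1) = 0 := h
      rw [map_sub, map_one, sub_eq_zero] at h'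
      exact h'
    rw [map_sub, map_one, quotComul_apply, hg.comul_eq_tmul_self, Algebra.TensorProduct.map_tmul,
      h0, Algebra.TensorProduct.one_def, sub_self]
  · intro y hy
    rw [Set.mem_singleton_iff] at hy
    subst hy
    rw [Ideal.mem_span_singleton']
    refine ⟨-HopfAlgebra.antipode k g, ?_⟩
    have h := hg.antipode_mul_cancel
    have e : HopfAlgebra.antipode k (g - 1) = HopfAlgebra.antipode k g - 1 := by
      rw [map_sub, HopfAlgebra.antipode_one]
    rw [e]
    linear_combination (-1 : A) * h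

end HopfIdeal

section Frob

variable {k : Type u} [Field k] (p : ℕ) [Fact p.Prime] [CharP k p]
variable {A : Type v} [CommRing A] [HopfAlgebra k A]

lemma mk_pow_p (a : A) :
    Ideal.Quotient.mkₐ k (frobI p (augI k A)) (a ^ p) =
      ((Coalgebra.counit (R := k) a) ^ p) • (1 : A ⧸ frobI p (augI k A)) := by
  have hb : a - algebraMap k A (Coalgebra.counit (R := k) a) ∈ augI k A := by
    rw [mem_augI, map_sub, Bialgebra.counit_algebraMap, sub_self]
  have e : a ^ p = (algebraMap k A (Coalgebra.counit (R := k) a)) ^ p +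
      (a - algebraMap k A (Coalgebra.counit (R := k) a)) ^ p := by
    rw [← add_pow_p_of_commute k p _ _ (Commute.all _ _)]
    congr 1
    ring
  have h0 : Ideal.Quotient.mkₐ k (frobI p (augI k A))
      ((a - algebraMap k A (Coalgebra.counit (R := k) a)) ^ p) = 0 :=
    Ideal.Quotient.eq_zero_iff_mem.2 (Ideal.subset_span ⟨_, hb, rfl⟩)
  rw [e, map_add, h0, add_zero, ← map_pow, AlgHom.commutes, Algebra.algebraMap_eq_smul_one]

variable (k A) in
/-- `ε ⊗ ε` followed by multiplication -/
noncomputable def epsTensor : A ⊗[k] A →ₗ[k] k :=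
  LinearMap.mul' k k ∘ₗ TensorProduct.map (Coalgebra.counit (R := k) (A := A))
    (Coalgebra.counit (R := k) (A := A))

lemma epsTensor_tmul (a b : A) :
    epsTensor k A (a ⊗ₜ[k] b) = Coalgebra.counit (R := k) a * Coalgebra.counit (R := k) b := rfl

lemma epsTensor_comul (a : A) :
    epsTensor k A (Coalgebra.comul (R := k) a) = Coalgebra.counit (R := k) a := by
  have h : ∀ t : A ⊗[k] A, epsTensor k A t =
      Coalgebra.counit (R := k) (TensorProduct.lid k A
        (LinearMap.rTensor A (Coalgebra.counit (R := k)) t)) := by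
    intro t
    induction t using TensorProduct.induction_on with
    | zero => simp
    | tmul x y =>
      rw [epsTensor_tmul, LinearMap.rTensor_tmul, TensorProduct.lid_tmul, map_smul, smul_eq_mul]
    | add x y hx hy => simp only [map_add, hx, hy]
  rw [h, Coalgebra.rTensor_counit_comul, TensorProduct.lid_tmul, one_smul]

lemma map_pow_p (t : A ⊗[k] A) :
    (Algebra.TensorProduct.map (Ideal.Quotient.mkₐ k (frobI p (augI k A)))
      (Ideal.Quotient.mkₐ k (frobI p (augI k A))) t) ^ p =
      ((epsTensor k A t) ^ p) •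
        (1 : (A ⧸ frobI p (augI k A)) ⊗[k] (A ⧸ frobI p (augI k A))) := by
  have hp0 : p ≠ 0 := (Fact.out : p.Prime).ne_zero
  induction t using TensorProduct.induction_on with
  | zero => rw [map_zero, map_zero, zero_pow hp0, zero_pow hp0, zero_smul]
  | tmul a b =>
    have ha := mk_pow_p (k := k) p a
    have hb := mk_pow_p (k := k) p b
    rw [map_pow] at ha hb
    rw [Algebra.TensorProduct.map_tmul, Algebra.TensorProduct.tmul_pow, ha, hb,
      TensorProduct.smul_tmul_smul, epsTensor_tmul, mul_pow, Algebra.TensorProduct.one_def]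
  | add s t hs ht =>
    have e1 : (Algebra.TensorProduct.map (Ideal.Quotient.mkₐ k (frobI p (augI k A)))
        (Ideal.Quotient.mkₐ k (frobI p (augI k A))) (s + t)) ^ p =
        (Algebra.TensorProduct.map (Ideal.Quotient.mkₐ k (frobI p (augI k A)))
          (Ideal.Quotient.mkₐ k (frobI p (augI k A))) s) ^ p +
        (Algebra.TensorProduct.map (Ideal.Quotient.mkₐ k (frobI p (augI k A)))
          (Ideal.Quotient.mkₐ k (frobI p (augI k A))) t) ^ p := by
      rw [map_add]
      exact add_pow_p_of_commute k p _ _ (Commute.all _ _)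
    have e2 : (epsTensor k A (s + t)) ^ p = (epsTensor k A s) ^ p + (epsTensor k A t) ^ p := by
      rw [map_add]
      exact add_pow_p_of_commute k p _ _ (Commute.all _ _)
    rw [e1, e2, hs, ht, add_smul]

theorem frobI_isHopfIdeal : (frobI p (augI k A)).IsHopfIdeal k := by
  have hp0 : p ≠ 0 := (Fact.out : p.Prime).ne_zero
  apply isHopfIdeal_of_span (frobI p (augI k A)) ((fun a : A => a ^ p) '' (augI k A : Set A)) rfl
  · rintro _ ⟨a, ha, rfl⟩
    have h : Bialgebra.counitAlgHom k A (a ^ p) = 0 := by
      rw [map_pow]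
      show (Coalgebra.counit (R := k) a) ^ p = 0
      rw [(mem_augI a).1 ha, zero_pow hp0]
    exact h
  · rintro _ ⟨a, ha, rfl⟩
    show quotComul k _ (a ^ p) = 0
    rw [map_pow, quotComul_apply, map_pow_p, epsTensor_comul, (mem_augI a).1 ha, zero_pow hp0,
      zero_smul]
  · rintro _ ⟨a, ha, rfl⟩
    show HopfAlgebra.antipode k (a ^ p) ∈ _
    have e : HopfAlgebra.antipode k (a ^ p) = (HopfAlgebra.antipode k a) ^ p :=
      map_pow (HopfAlgebra.antipodeAlgHom k A) a p
    rw [e]
    refine Ideal.subset_span ⟨_, ?_, rfl⟩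
    rw [SetLike.mem_coe, mem_augI, HopfAlgebra.counit_antipode]
    exact (mem_augI a).1 ha

lemma frobI_le_sq (I : Ideal A) : frobI p I ≤ I ^ 2 := by
  unfold frobI
  rw [Ideal.span_le]
  rintro _ ⟨a, ha, rfl⟩
  exact Ideal.pow_le_pow_right (Fact.out : p.Prime).two_le (Ideal.pow_mem_pow ha p)

end Frob

section Nilp

lemma ideal_eq_bot_of_le_sq {R : Type v} [CommRing R] (I : Ideal R) (hn : IsNilpotent I)
    (h : I ≤ I ^ 2) : I = ⊥ := by
  obtain ⟨N, hN⟩ := hn
  rw [Ideal.zero_eq_bot] at hN
  have key : ∀ n : ℕ, I ≤ I ^ (n + 1) := by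
    intro n
    induction n with
    | zero => rw [zero_add, pow_one]
    | succ n ih =>
      calc I ≤ I ^ 2 := h
        _ = I * I := pow_two _
        _ ≤ I ^ (n + 1) * I := Ideal.mul_mono_left ih
        _ = I ^ (n + 1 + 1) := (pow_succ _ _).symm
  have h2 := key N
  rw [pow_succ, hN, Ideal.bot_mul] at h2
  exact le_bot_iff.1 h2

end Nilp

section Simple

variable {k : Type u} [Field k] (p : ℕ) [Fact p.Prime] [CharP k p]
variable {A : Type v} [CommRing A] [HopfAlgebra k A] [FiniteDimensional k A] [IsLocalRing A]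

variable (k A) in
lemma augI_isNilpotent : IsNilpotent (augI k A) := by
  have : IsNoetherianRing A := Algebra.FiniteType.isNoetherianRing k A
  have : IsArtinianRing A := IsArtinianRing.of_finite k A
  have hmax : (augI k A).IsMaximal := by
    unfold augI
    exact RingHom.ker_isMaximal_of_surjective _
      (fun c => ⟨algebraMap k A c, AlgHom.commutes _ c⟩)
  rw [IsLocalRing.eq_maximalIdeal hmax]
  exact (isArtinianRing_iff_isNilpotent_maximalIdeal A).1 inferInstance

theorem pow_p_eq_zero_of_simple
    (hsimple : ∀ I : Ideal A, I.IsHopfIdeal k →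
      I = ⊥ ∨ I = RingHom.ker (Bialgebra.counitAlgHom k A)) :
    ∀ a ∈ augI k A, a ^ p = 0 := by
  have hbot : frobI p (augI k A) = ⊥ := by
    rcases hsimple _ (frobI_isHopfIdeal p) with h | h
    · exact h
    · have h' : frobI p (augI k A) = augI k A := h
      have hle : augI k A ≤ augI k A ^ 2 :=
        calc augI k A = frobI p (augI k A) := h'.symm
          _ ≤ augI k A ^ 2 := frobI_le_sq p _
      have h0 : augI k A = ⊥ := ideal_eq_bot_of_le_sq _ (augI_isNilpotent k A) hle
      exact le_bot_iff.1 ((frobI_le p _).trans (le_of_eq h0))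
  intro a ha
  have h : a ^ p ∈ frobI p (augI k A) := Ideal.subset_span ⟨a, ha, rfl⟩
  rw [hbot] at h
  exact (Submodule.mem_bot _).1 h

end Simple

section Gen

variable {k : Type u} [Field k] {A : Type v} [CommRing A] [Bialgebra k A]

lemma top_le_span_pow (y : A) (hy : augI k A = Ideal.span {y}) (n : ℕ) (hn : y ^ n = 0) :
    ⊤ ≤ Submodule.span k (Set.range (fun i : Fin n => y ^ (i : ℕ))) := by
  have key : ∀ m, m ≤ n → ∀ a : A, ∃ b : A,
      a - b * y ^ m ∈ Submodule.span k (Set.range (fun i : Fin n => y ^ (i : ℕ))) := by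
    intro m
    induction m with
    | zero =>
      intro _ a
      exact ⟨a, by rw [pow_zero, mul_one, sub_self]; exact Submodule.zero_mem _⟩
    | succ m ih =>
      intro hm a
      obtain ⟨b, hb⟩ := ih (Nat.le_of_succ_le hm) a
      have hb' : b - algebraMap k A (Coalgebra.counit (R := k) b) ∈ augI k A := by
        rw [mem_augI, map_sub, Bialgebra.counit_algebraMap, sub_self]
      rw [hy, Ideal.mem_span_singleton'] at hb'
      obtain ⟨b', hb'⟩ := hb'
      refine ⟨b', ?_⟩
      have e : a - b' * y ^ (m + 1) =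
          (a - b * y ^ m) + (Coalgebra.counit (R := k) b) • y ^ m := by
        rw [pow_succ', ← mul_assoc, hb', Algebra.smul_def]
        ring
      rw [e]
      exact Submodule.add_mem _ hb
        (Submodule.smul_mem _ _ (Submodule.subset_span ⟨⟨m, hm⟩, rfl⟩))
  intro a _
  obtain ⟨b, hb⟩ := key n le_rfl a
  rwa [hn, mul_zero, sub_zero] at hb

lemma finrank_le_of_span (y : A) (hy : augI k A = Ideal.span {y}) (n : ℕ) (hn : y ^ n = 0) :
    Module.finrank k A ≤ n := by
  have h2 : Submodule.span k (Set.range fun i : Fin n => y ^ (i : ℕ)) = ⊤ :=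
    top_le_iff.1 (top_le_span_pow y hy n hn)
  calc Module.finrank k A = Module.finrank k (⊤ : Submodule k A) := (finrank_top k A).symm
    _ = Module.finrank k (Submodule.span k (Set.range fun i : Fin n => y ^ (i : ℕ))) := by
        rw [h2]
    _ ≤ Fintype.card (Fin n) := finrank_range_le_card _
    _ = n := Fintype.card_fin n

end Gen

section Finish

variable {k : Type u} [Field k] (p : ℕ) [Fact p.Prime] [CharP k p]
variable {A : Type v} [CommRing A] [HopfAlgebra k A] [FiniteDimensional k A] [IsLocalRing A]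

theorem finish
    (hsimple : ∀ I : Ideal A, I.IsHopfIdeal k →
      I = ⊥ ∨ I = RingHom.ker (Bialgebra.counitAlgHom k A))
    (hA : 1 < Module.finrank k A) (y : A) (hy0 : y ≠ 0) (hyI : y ∈ augI k A)
    (hJ : (Ideal.span {y}).IsHopfIdeal k) :
    y ^ p = 0 ∧ Module.finrank k A = p ∧ LinearIndependent k (fun i : Fin p => y ^ (i : ℕ)) := by
  have : IsNoetherianRing A := Algebra.FiniteType.isNoetherianRing k A
  have hnil := pow_p_eq_zero_of_simple p hsimple
  have hyp : y ^ p = 0 := hnil y hyI
  have hJ' : augI k A = Ideal.span {y} := by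
    rcases hsimple _ hJ with h | h
    · exfalso
      apply hy0
      have hmem : y ∈ Ideal.span ({y} : Set A) := Ideal.subset_span (Set.mem_singleton y)
      rw [h] at hmem
      exact (Submodule.mem_bot _).1 hmem
    · exact h.symm
  have hle : Module.finrank k A ≤ p := finrank_le_of_span y hJ' p hyp
  have hpow := HeightOne.finrank_eq_pow k p A hnil
  have hfin : Module.finrank k A = p := by
    have hr : Module.finrank k (augI k A).Cotangent ≠ 0 := by
      intro h0
      rw [h0, pow_zero] at hpow
      omega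
    exact le_antisymm hle (by rw [hpow]; exact Nat.le_self_pow hr p)
  refine ⟨hyp, hfin, ?_⟩
  exact linearIndependent_of_top_le_span_of_card_eq_finrank (top_le_span_pow y hJ' p hyp)
    (by rw [Fintype.card_fin, hfin])

end Finish

section Dual

variable {k : Type u} [Field k] {A : Type v} [CommRing A] [HopfAlgebra k A]

lemma tensor_eq_zero {M : Type*} {N : Type*} [AddCommGroup M] [Module k M] [AddCommGroup N]
    [Module k N] (t : M ⊗[k] N)
    (h : ∀ (f : M →ₗ[k] k) (g : N →ₗ[k] k), LinearMap.mul' k k (TensorProduct.map f g t) = 0) :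
    t = 0 := by
  apply eq_zero_of_lsl_eq_zero
  intro φ
  apply (Module.forall_dual_apply_eq_zero_iff k _).mp
  intro g
  have e : ∀ s : M ⊗[k] N, g (lsl φ s) = LinearMap.mul' k k (TensorProduct.map φ g s) := by
    intro s
    induction s using TensorProduct.induction_on with
    | zero => simp
    | tmul m n => simp
    | add a b ha hb => simp only [map_add, ha, hb]
  rw [e]
  exact h φ g

lemma conv_apply_one (f h : WithConv (A →ₗ[k] k)) : (f * h) (1 : A) = f 1 * h 1 := by
  rw [LinearMap.convMul_apply, Bialgebra.comul_one, Algebra.TensorProduct.one_def,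
    TensorProduct.map_tmul, LinearMap.mul'_apply]

lemma conv_apply_primitive (x : A)
    (hx : Coalgebra.comul (R := k) x = x ⊗ₜ[k] (1 : A) + (1 : A) ⊗ₜ[k] x)
    (f h : WithConv (A →ₗ[k] k)) : (f * h) x = f x * h 1 + f 1 * h x := by
  rw [LinearMap.convMul_apply, hx, map_add, TensorProduct.map_tmul, TensorProduct.map_tmul,
    map_add, LinearMap.mul'_apply, LinearMap.mul'_apply]

variable (k A) in
/-- evaluation at `1` as a ring homomorphism on the convolution algebra -/
noncomputable def evOne : WithConv (A →ₗ[k] k) →+* k where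
  toFun f := f 1
  map_one' := by
    show Coalgebra.counit (R := k) (1 : A) = 1
    exact Bialgebra.counit_one
  map_mul' f h := conv_apply_one f h
  map_zero' := rfl
  map_add' f h := rfl

lemma evOne_apply (f : WithConv (A →ₗ[k] k)) : evOne k A f = f 1 := rfl

lemma evOne_smul_one (c : k) : evOne k A (c • (1 : WithConv (A →ₗ[k] k))) = c := by
  show c • Coalgebra.counit (R := k) (1 : A) = c
  rw [Bialgebra.counit_one, smul_eq_mul, mul_one]

theorem primitive_eq_zero_of_dual_reduced [FiniteDimensional k A] [Coalgebra.IsCocomm k A]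
    (hdual : IsReduced (WithConv (A →ₗ[k] k))) (x : A)
    (hx : Coalgebra.comul (R := k) x = x ⊗ₜ[k] (1 : A) + (1 : A) ⊗ₜ[k] x) : x = 0 := by
  have : Module.Finite k (WithConv (A →ₗ[k] k)) :=
    Module.Finite.equiv (WithConv.linearEquiv k (A →ₗ[k] k)).symm
  have : IsArtinianRing (WithConv (A →ₗ[k] k)) := IsArtinianRing.of_finite k _
  have hεx : Coalgebra.counit (R := k) x = 0 := counit_eq_zero_of_primitive x hx
  have key : ∀ f : WithConv (A →ₗ[k] k), f 1 = 0 → f x = 0 := by
    intro f hf1
    obtain ⟨n, g, hg⟩ := IsArtinian.exists_pow_succ_smul_dvd f (1 : WithConv (A →ₗ[k] k))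
    rw [smul_eq_mul, smul_eq_mul, mul_one] at hg
    have hg' : f ^ (n + 1) * g = f ^ n := hg
    have hz : IsNilpotent (f - f * (f * g)) := by
      refine ⟨n + 1, ?_⟩
      have e0 : f - f * (f * g) = f * (1 - f * g) := by ring
      have e1 : f ^ (n + 1) * (1 - f * g) ^ (n + 1) =
          (f ^ n - f ^ (n + 1) * g) * (f * (1 - f * g) ^ n) := by
        rw [pow_succ (1 - f * g) n, pow_succ f n]
        ring
      rw [e0, mul_pow, e1, hg', sub_self, zero_mul]
    have hzero := hdual.eq_zero _ hz
    have hf : f = f * (f * g) := sub_eq_zero.1 hzero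
    have h1 : (f * g) 1 = 0 := by rw [conv_apply_one, hf1, zero_mul]
    have h2 := conv_apply_primitive x hx f (f * g)
    rw [← hf, h1, hf1, mul_zero, zero_mul, add_zero] at h2
    exact h2
  apply (Module.forall_dual_apply_eq_zero_iff k x).1
  intro φ
  let F : WithConv (A →ₗ[k] k) :=
    WithConv.toConv (φ - φ 1 • Coalgebra.counit (R := k) (A := A))
  have hF1 : F 1 = 0 := by
    show φ 1 - φ 1 • Coalgebra.counit (R := k) (1 : A) = 0
    rw [Bialgebra.counit_one, smul_eq_mul, mul_one, sub_self]
  have hFx := key F hF1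
  have e : F x = φ x - φ 1 • Coalgebra.counit (R := k) x := rfl
  rw [e, hεx, smul_zero, sub_zero] at hFx
  exact hFx

theorem exists_primitive_of_dual_local [FiniteDimensional k A] [Coalgebra.IsCocomm k A]
    (hdual : IsLocalRing (WithConv (A →ₗ[k] k))) (hA : 1 < Module.finrank k A) :
    ∃ x : A, x ≠ 0 ∧ Coalgebra.comul (R := k) x = x ⊗ₜ[k] (1 : A) + (1 : A) ⊗ₜ[k] x := by
  classical
  have := hdual
  have : Module.Finite k (WithConv (A →ₗ[k] k)) :=
    Module.Finite.equiv (WithConv.linearEquiv k (A →ₗ[k] k)).symm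
  have : IsNoetherianRing (WithConv (A →ₗ[k] k)) := Algebra.FiniteType.isNoetherianRing k _
  have : IsArtinianRing (WithConv (A →ₗ[k] k)) := IsArtinianRing.of_finite k _
  set m : Ideal (WithConv (A →ₗ[k] k)) := RingHom.ker (evOne k A) with hm
  have hmem : ∀ f : WithConv (A →ₗ[k] k), f ∈ m ↔ evOne k A f = 0 := fun f => RingHom.mem_ker
  have hsurj : Function.Surjective (evOne k A) := fun c => ⟨c • 1, evOne_smul_one c⟩
  have hmax : m.IsMaximal := RingHom.ker_isMaximal_of_surjective _ hsurj
  have hnil : IsNilpotent m := by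
    rw [IsLocalRing.eq_maximalIdeal hmax]
    exact (isArtinianRing_iff_isNilpotent_maximalIdeal _).1 inferInstance
  -- the subspace `k·1 + m²`
  let W : Submodule k (WithConv (A →ₗ[k] k)) :=
    Submodule.span k {(1 : WithConv (A →ₗ[k] k))} ⊔ (m * m).restrictScalars k
  have hW : W ≠ ⊤ := by
    intro hWtop
    have hle : m ≤ m ^ 2 := by
      intro f hf
      have hfW : f ∈ W := by rw [hWtop]; trivial
      obtain ⟨u, hu, w, hw, huw⟩ := Submodule.mem_sup.1 hfW
      obtain ⟨c, rfl⟩ := Submodule.mem_span_singleton.1 hu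
      have hw' : w ∈ m * m := hw
      have hw1 : evOne k A w = 0 := (hmem w).1 (Ideal.mul_le_right hw')
      have hc : c = 0 := by
        have h1 := (hmem f).1 hf
        rw [← huw, map_add, evOne_smul_one, hw1, add_zero] at h1
        exact h1
      rw [hc, zero_smul, zero_add] at huw
      rw [← huw, pow_two]
      exact hw'
    have hmbot : m = ⊥ := ideal_eq_bot_of_le_sq m hnil hle
    have h1 : Module.finrank k (WithConv (A →ₗ[k] k)) ≤ 1 := by
      apply finrank_le_one (1 : WithConv (A →ₗ[k] k))
      intro f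
      refine ⟨evOne k A f, ?_⟩
      have hf : f - evOne k A f • 1 ∈ m := by
        rw [hmem, map_sub, evOne_smul_one, sub_self]
      rw [hmbot, Ideal.mem_bot, sub_eq_zero] at hf
      exact hf.symm
    have h2 : Module.finrank k (WithConv (A →ₗ[k] k)) = Module.finrank k A := by
      rw [(WithConv.linearEquiv k (A →ₗ[k] k)).finrank_eq]
      exact Subspace.dual_finrank_eq
    omega
  obtain ⟨Λ, hΛ0, hΛW⟩ := Submodule.exists_le_ker_of_lt_top W (lt_top_iff_ne_top.2 hW)
  let Λ' : Module.Dual k (Module.Dual k A) :=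
    Λ ∘ₗ (WithConv.linearEquiv k (A →ₗ[k] k)).symm.toLinearMap
  let x : A := (Module.evalEquiv k A).symm Λ'
  have hx : ∀ f : WithConv (A →ₗ[k] k), f x = Λ f := by
    intro f
    exact Module.apply_evalEquiv_symm_apply k A f.ofConv Λ'
  have hΛ1 : Λ 1 = 0 :=
    LinearMap.mem_ker.1 (hΛW (Submodule.mem_sup_left (Submodule.mem_span_singleton_self _)))
  have hΛm : ∀ F G : WithConv (A →ₗ[k] k), evOne k A F = 0 → evOne k A G = 0 →
      Λ (F * G) = 0 := fun F G hF hG =>
    LinearMap.mem_ker.1 (hΛW (Submodule.mem_sup_right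
      (Ideal.mul_mem_mul ((hmem F).2 hF) ((hmem G).2 hG))))
  have hprod : ∀ F G : WithConv (A →ₗ[k] k),
      Λ (F * G) = evOne k A G * Λ F + evOne k A F * Λ G := by
    intro F G
    have e : F * G = (F - evOne k A F • 1) * (G - evOne k A G • 1) + evOne k A G • F +
        evOne k A F • G - (evOne k A F * evOne k A G) • 1 := by
      simp only [Algebra.smul_def, map_mul, mul_one]
      ring
    have h0 := hΛm (F - evOne k A F • 1) (G - evOne k A G • 1)
      (by rw [map_sub, evOne_smul_one, sub_self]) (by rw [map_sub, evOne_smul_one, sub_self])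
    rw [e, map_sub, map_add, map_add, h0, map_smul, map_smul, map_smul, hΛ1, smul_eq_mul,
      smul_eq_mul, smul_zero, zero_add, sub_zero]
  have hprim : Coalgebra.comul (R := k) x = x ⊗ₜ[k] (1 : A) + (1 : A) ⊗ₜ[k] x := by
    rw [← sub_eq_zero]
    apply tensor_eq_zero
    intro f g
    rw [map_sub, map_sub, map_add, map_add, TensorProduct.map_tmul, TensorProduct.map_tmul,
      LinearMap.mul'_apply, LinearMap.mul'_apply, sub_eq_zero]
    have h1 : LinearMap.mul' k k (TensorProduct.map f g (Coalgebra.comul (R := k) x)) =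
        (WithConv.toConv f * WithConv.toConv g) x := (LinearMap.convMul_apply _ _ _).symm
    rw [h1, hx, hprod, ← hx (WithConv.toConv f), ← hx (WithConv.toConv g)]
    show g 1 * f x + f 1 * g x = f x * g 1 + f 1 * g x
    ring
  have hx0 : x ≠ 0 := by
    intro h0
    apply hΛ0
    apply LinearMap.ext
    intro F
    rw [LinearMap.zero_apply, ← hx F, h0]
    exact map_zero F.ofConv
  exact ⟨x, hx0, hprim⟩

theorem exists_groupLike_ne_one [IsAlgClosed k] [FiniteDimensional k A] [Coalgebra.IsCocomm k A]
    (hdual : IsReduced (WithConv (A →ₗ[k] k))) (hA : 1 < Module.finrank k A) :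
    ∃ g : A, IsGroupLikeElem k g ∧ g ≠ 1 := by
  have hdiag : HopfRep.IsDiagonalizable k A :=
    MultType.isDiagonalizable_of_cocomm
      (fun f hf => primitive_eq_zero_of_dual_reduced hdual f hf)
  by_contra hcon
  push Not at hcon
  have h' : Submodule.span k {a : A | IsGroupLikeElem k a} = ⊤ := hdiag
  have hle : Module.finrank k A ≤ 1 := by
    apply finrank_le_one (1 : A)
    intro w
    have hw : w ∈ Submodule.span k {a : A | IsGroupLikeElem k a} := by rw [h']; trivial
    have hsub : Submodule.span k {a : A | IsGroupLikeElem k a} ≤ Submodule.span k {(1 : A)} :=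
      Submodule.span_mono (fun a ha => by rw [Set.mem_singleton_iff]; exact hcon a ha)
    obtain ⟨c, hc⟩ := Submodule.mem_span_singleton.1 (hsub hw)
    exact ⟨c, hc⟩
  omega

end Dual

section Main

variable {k : Type u} [Field k] (p : ℕ) [Fact p.Prime] [CharP k p]
variable {A : Type v} [CommRing A] [HopfAlgebra k A] [Coalgebra.IsCocomm k A]
  [FiniteDimensional k A] [IsLocalRing A]

theorem alpha_p_main (hdual : IsLocalRing (WithConv (A →ₗ[k] k))) (hA : 1 < Module.finrank k A)
    (hsimple : ∀ I : Ideal A, I.IsHopfIdeal k →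
      I = ⊥ ∨ I = RingHom.ker (Bialgebra.counitAlgHom k A)) :
    ∃ x : A, Coalgebra.comul (R := k) x = x ⊗ₜ[k] (1 : A) + (1 : A) ⊗ₜ[k] x ∧ x ^ p = 0 ∧
      LinearIndependent k (fun i : Fin p => x ^ (i : ℕ)) ∧ Module.finrank k A = p := by
  obtain ⟨x, hx0, hx⟩ := exists_primitive_of_dual_local hdual hA
  have hxI : x ∈ augI k A := (mem_augI x).2 (counit_eq_zero_of_primitive x hx)
  obtain ⟨hxp, hfin, hli⟩ := finish p hsimple hA x hx0 hxI (isHopfIdeal_span_primitive x hx)
  exact ⟨x, hx, hxp, hli, hfin⟩

theorem mu_p_main [IsAlgClosed k] (hdual : IsReduced (WithConv (A →ₗ[k] k)))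
    (hA : 1 < Module.finrank k A)
    (hsimple : ∀ I : Ideal A, I.IsHopfIdeal k →
      I = ⊥ ∨ I = RingHom.ker (Bialgebra.counitAlgHom k A)) :
    ∃ g : A, IsGroupLikeElem k g ∧ g ^ p = 1 ∧
      LinearIndependent k (fun i : Fin p => g ^ (i : ℕ)) ∧ Module.finrank k A = p := by
  obtain ⟨g, hg, hg1⟩ := exists_groupLike_ne_one hdual hA
  have hy0 : g - 1 ≠ 0 := sub_ne_zero.2 hg1
  have hyI : g - 1 ∈ augI k A := by
    rw [mem_augI, map_sub, hg.counit_eq_one, Bialgebra.counit_one, sub_self]
  obtain ⟨hyp, hfin, -⟩ :=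
    finish p hsimple hA (g - 1) hy0 hyI (isHopfIdeal_span_groupLike g hg)
  have hgp : g ^ p = 1 := by
    have e : g ^ p = (g - 1) ^ p + 1 ^ p := by
      rw [← add_pow_p_of_commute k p _ _ (Commute.all _ _), sub_add_cancel]
    rw [e, hyp, one_pow, zero_add]
  refine ⟨g, hg, hgp, ?_, hfin⟩
  let γ : GroupLike k A := ⟨g, hg⟩
  have hγp : γ ^ p = 1 := GroupLike.val_injective hgp
  have hγ1 : γ ≠ 1 := fun h => hg1 (congrArg GroupLike.val h)
  have hord : orderOf γ = p := orderOf_eq_prime hγp hγ1
  have hinj : Function.Injective (fun i : Fin p => γ ^ (i : ℕ)) := by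
    intro i j hij
    have hi : (i : ℕ) ∈ Set.Iio (orderOf γ) := by rw [hord]; exact i.2
    have hj : (j : ℕ) ∈ Set.Iio (orderOf γ) := by rw [hord]; exact j.2
    exact Fin.ext (pow_injOn_Iio_orderOf hi hj hij)
  exact (linearIndep_groupLikeVal (R := k) (A := A)).comp _ hinj

end Main

end Groth.Agent.Lib.Helper19.SimpleGrp
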