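import Mathlib

/-!
# Integrals on finite projective commutative Hopf algebras via dual families (helper19)

For a commutative Hopf algebra `H` over a commutative ring `R` which is finitely generated
projective as an `R`-module we construct, without Hopf modules, finitely many left invariant
functionals `t i : H →ₗ[R] R` (`Σ x₁ t(x₂) = t(x) 1`) and elements `T i : H` with
`Σ i, t i (T i * x) = ε x` (`exists_integrals`).  This is the form of the Larson–Sweedler theorem
needed for the Kreimer–Takeuchi theorem (`KT2`).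

* `trace_comm_dual`: cyclicity of "traces" computed in dual families (finite coordinate systems);
* `shear`, `shearInv`, `shearE`: the shear automorphism `a ⊗ y ↦ Σ a y₁ ⊗ y₂` of `H ⊗ H`;
* `evL t`: `a ⊗ h ↦ t h • a`, `A`-linear;
* `tf e φ f`: the invariant functional `x ↦ Σ_j φ_j ((x e_j)₁ f((x e_j)₂))`.
-/

set_option autoImplicit false
set_option linter.unusedSectionVars false
universe u v w

open TensorProduct Coalgebra

namespace Groth.Agent.Lib.Helper19.KT

section DualTrace

theorem trace_comm_dual {S : Type*} [CommRing S] {M N : Type*} [AddCommGroup M] [Module S M]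
    [AddCommGroup N] [Module S N] {ι κ : Type*} [Fintype ι] [Fintype κ]
    (u : ι → M) (α : ι → M →ₗ[S] S) (hu : ∀ m, ∑ j, α j m • u j = m)
    (v : κ → N) (γ : κ → N →ₗ[S] S) (hv : ∀ n, ∑ i, γ i n • v i = n)
    (F : M →ₗ[S] N) (G : N →ₗ[S] M) :
    ∑ j, α j (G (F (u j))) = ∑ i, γ i (F (G (v i))) := by
  have h1 : ∀ j, α j (G (F (u j))) = ∑ i, γ i (F (u j)) * α j (G (v i)) := by
    intro j
    conv_lhs => rw [← hv (F (u j))]
    rw [map_sum, map_sum]
    refine Finset.sum_congr rfl fun i _ => ?_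
    rw [map_smul, map_smul, smul_eq_mul]
  have h2 : ∀ i, γ i (F (G (v i))) = ∑ j, γ i (F (u j)) * α j (G (v i)) := by
    intro i
    conv_lhs => rw [← hu (G (v i))]
    rw [map_sum, map_sum]
    refine Finset.sum_congr rfl fun j _ => ?_
    rw [map_smul, map_smul, smul_eq_mul, mul_comm]
  rw [Finset.sum_congr rfl (fun j _ => h1 j), Finset.sum_congr rfl (fun i _ => h2 i)]
  exact Finset.sum_comm

lemma dual_family_map {S : Type*} [CommRing S] {M : Type*} [AddCommGroup M] [Module S M]
    {ι : Type*} [Fintype ι] (u : ι → M) (α : ι → M →ₗ[S] S) (hu : ∀ m, ∑ j, α j m • u j = m)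
    (E : M ≃ₗ[S] M) (m : M) :
    ∑ j, (α j ∘ₗ E.symm.toLinearMap) m • E (u j) = m := by
  have h := congrArg E (hu (E.symm m))
  rw [map_sum, LinearEquiv.apply_symm_apply] at h
  refine Eq.trans (Finset.sum_congr rfl fun j _ => ?_) h
  rw [map_smul]
  rfl

end DualTrace

section Ev

variable {R : Type u} [CommRing R] {A : Type w} [CommRing A] [Algebra R A]
  {H : Type v} [AddCommGroup H] [Module R H]

/-- `a ⊗ h ↦ t(h) • a`, as an `A`-linear map. -/
noncomputable def evL (t : H →ₗ[R] R) : A ⊗[R] H →ₗ[A] A :=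
  (TensorProduct.AlgebraTensorModule.rid R A A).toLinearMap ∘ₗ
    TensorProduct.AlgebraTensorModule.lTensor A A t

@[simp] lemma evL_tmul (t : H →ₗ[R] R) (a : A) (h : H) :
    evL (A := A) t (a ⊗ₜ[R] h) = t h • a := rfl

end Ev

section EvRing

variable {R : Type u} [CommRing R] {A : Type w} [CommRing A] [Algebra R A]
  {H : Type v} [CommRing H] [Algebra R H]

lemma tmul_one_mul (a : A) (w : A ⊗[R] H) : (a ⊗ₜ[R] (1 : H)) * w = a • w := by
  induction w using TensorProduct.induction_on with
  | zero => simp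
  | tmul b h =>
    rw [Algebra.TensorProduct.tmul_mul_tmul, one_mul, TensorProduct.smul_tmul', smul_eq_mul]
  | add x y hx hy => rw [mul_add, smul_add, hx, hy]

lemma lTensor_evL_assoc (f : H →ₗ[R] R) (w : (A ⊗[R] H) ⊗[R] H) :
    ((evL (A := H) f).restrictScalars R).lTensor A (TensorProduct.assoc R A H H w) =
      evL (A := A ⊗[R] H) f w := by
  induction w using TensorProduct.induction_on with
  | zero => simp
  | tmul t c =>
    induction t using TensorProduct.induction_on with
    | zero => simp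
    | tmul a b =>
      rw [TensorProduct.assoc_tmul, LinearMap.lTensor_tmul, LinearMap.restrictScalars_apply,
        evL_tmul, evL_tmul, TensorProduct.tmul_smul]
    | add x y hx hy => simp only [TensorProduct.add_tmul, map_add, hx, hy]
  | add x y hx hy => simp only [map_add, hx, hy]

lemma lTensor_smul_one (t : H →ₗ[R] R) (w : A ⊗[R] H) :
    ((LinearMap.toSpanSingleton R H 1) ∘ₗ t).lTensor A w = evL (A := A) t w ⊗ₜ[R] (1 : H) := by
  induction w using TensorProduct.induction_on with
  | zero => simp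
  | tmul p q =>
    rw [LinearMap.lTensor_tmul, evL_tmul, LinearMap.comp_apply, LinearMap.toSpanSingleton_apply,
      TensorProduct.tmul_smul, TensorProduct.smul_tmul']
  | add x y hx hy => simp only [map_add, TensorProduct.add_tmul, hx, hy]

end EvRing

section Shear

variable {R : Type u} [CommRing R] {H : Type v} [CommRing H] [HopfAlgebra R H]

/-- The shear map `x ⊗ y ↦ ∑ x y₁ ⊗ y₂`. -/
noncomputable def shear : H ⊗[R] H →ₐ[H] H ⊗[R] H :=
  Algebra.TensorProduct.lift (Algebra.ofId H (H ⊗[R] H)) (Bialgebra.comulAlgHom R H)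
    (fun _ _ => Commute.all _ _)

/-- `y ↦ ∑ S(y₁) ⊗ y₂`. -/
noncomputable def uInv : H →ₐ[R] H ⊗[R] H :=
  (Algebra.TensorProduct.map (HopfAlgebra.antipodeAlgHom R H) (AlgHom.id R H)).comp
    (Bialgebra.comulAlgHom R H)

/-- The inverse shear map `x ⊗ y ↦ ∑ x S(y₁) ⊗ y₂`. -/
noncomputable def shearInv : H ⊗[R] H →ₐ[H] H ⊗[R] H :=
  Algebra.TensorProduct.lift (Algebra.ofId H (H ⊗[R] H)) (uInv (R := R) (H := H))
    (fun _ _ => Commute.all _ _)

lemma shear_tmul (x y : H) :
    shear (R := R) (x ⊗ₜ[R] y) = (x ⊗ₜ[R] (1 : H)) * comul (R := R) y := by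
  unfold shear
  rw [Algebra.TensorProduct.lift_tmul]
  rfl

lemma shearInv_tmul (x y : H) :
    shearInv (R := R) (x ⊗ₜ[R] y) = (x ⊗ₜ[R] (1 : H)) * uInv (R := R) y := by
  unfold shearInv
  rw [Algebra.TensorProduct.lift_tmul]
  rfl

lemma uInv_apply (y : H) :
    uInv (R := R) y = (HopfAlgebra.antipode R).rTensor H (comul (R := R) y) := by
  have h : ∀ z : H ⊗[R] H,
      Algebra.TensorProduct.map (HopfAlgebra.antipodeAlgHom R H) (AlgHom.id R H) z =
        (HopfAlgebra.antipode R).rTensor H z := by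
    intro z
    induction z using TensorProduct.induction_on with
    | zero => simp
    | tmul a b =>
      rw [Algebra.TensorProduct.map_tmul, LinearMap.rTensor_tmul]
      rfl
    | add a b ha hb => simp only [map_add, ha, hb]
  exact h _

/-- `(a ⊗ b) ⊗ c ↦ S(a) b ⊗ c` -/
noncomputable def Xi : (H ⊗[R] H) ⊗[R] H →ₗ[R] H ⊗[R] H :=
  LinearMap.rTensor H (LinearMap.mul' R H ∘ₗ (HopfAlgebra.antipode R).rTensor H)

/-- `(a ⊗ b) ⊗ c ↦ a S(b) ⊗ c` -/
noncomputable def Xi' : (H ⊗[R] H) ⊗[R] H →ₗ[R] H ⊗[R] H :=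
  LinearMap.rTensor H (LinearMap.mul' R H ∘ₗ (HopfAlgebra.antipode R).lTensor H)

lemma Xi_assoc_symm (p : H) (z : H ⊗[R] H) :
    Xi (R := R) ((TensorProduct.assoc R H H H).symm (p ⊗ₜ[R] z)) =
      (HopfAlgebra.antipode R p ⊗ₜ[R] (1 : H)) * z := by
  induction z using TensorProduct.induction_on with
  | zero => simp
  | tmul a b =>
    rw [TensorProduct.assoc_symm_tmul, Algebra.TensorProduct.tmul_mul_tmul, one_mul]
    unfold Xi
    rw [LinearMap.rTensor_tmul, LinearMap.comp_apply, LinearMap.rTensor_tmul,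
      LinearMap.mul'_apply]
  | add x y hx hy => rw [TensorProduct.tmul_add, map_add, map_add, hx, hy, mul_add]

lemma Xi'_assoc_symm (p : H) (z : H ⊗[R] H) :
    Xi' (R := R) ((TensorProduct.assoc R H H H).symm (p ⊗ₜ[R] z)) =
      (p ⊗ₜ[R] (1 : H)) * (HopfAlgebra.antipode R).rTensor H z := by
  induction z using TensorProduct.induction_on with
  | zero => simp
  | tmul a b =>
    rw [TensorProduct.assoc_symm_tmul, LinearMap.rTensor_tmul,
      Algebra.TensorProduct.tmul_mul_tmul, one_mul]
    unfold Xi'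
    rw [LinearMap.rTensor_tmul, LinearMap.comp_apply, LinearMap.lTensor_tmul,
      LinearMap.mul'_apply]
  | add x y hx hy => rw [TensorProduct.tmul_add, map_add, map_add, hx, hy, map_add, mul_add]

lemma shear_rTensor_antipode (t : H ⊗[R] H) :
    shear (R := R) ((HopfAlgebra.antipode R).rTensor H t) =
      Xi (R := R) ((TensorProduct.assoc R H H H).symm ((comul (R := R)).lTensor H t)) := by
  induction t using TensorProduct.induction_on with
  | zero => simp
  | tmul p q => rw [LinearMap.rTensor_tmul, shear_tmul, LinearMap.lTensor_tmul, Xi_assoc_symm]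
  | add x y hx hy => simp only [map_add, hx, hy]

lemma shearInv_eq (t : H ⊗[R] H) :
    shearInv (R := R) t =
      Xi' (R := R) ((TensorProduct.assoc R H H H).symm ((comul (R := R)).lTensor H t)) := by
  induction t using TensorProduct.induction_on with
  | zero => simp
  | tmul p q => rw [shearInv_tmul, uInv_apply, LinearMap.lTensor_tmul, Xi'_assoc_symm]
  | add x y hx hy => simp only [map_add, hx, hy]

lemma shear_uInv (y : H) : shear (R := R) (uInv (R := R) y) = (1 : H) ⊗ₜ[R] y := by
  rw [uInv_apply, shear_rTensor_antipode, Coalgebra.coassoc_symm_apply]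
  unfold Xi
  rw [← LinearMap.rTensor_comp_apply]
  have h1 : (LinearMap.mul' R H ∘ₗ (HopfAlgebra.antipode R).rTensor H) ∘ₗ comul (R := R) =
      Algebra.linearMap R H ∘ₗ counit (R := R) (A := H) := by
    rw [LinearMap.comp_assoc]
    exact HopfAlgebra.mul_antipode_rTensor_comul
  rw [h1, LinearMap.rTensor_comp_apply, Coalgebra.rTensor_counit_comul]
  simp

lemma shearInv_comul (y : H) : shearInv (R := R) (comul (R := R) y) = (1 : H) ⊗ₜ[R] y := by
  rw [shearInv_eq, Coalgebra.coassoc_symm_apply]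
  unfold Xi'
  rw [← LinearMap.rTensor_comp_apply]
  have h1 : (LinearMap.mul' R H ∘ₗ (HopfAlgebra.antipode R).lTensor H) ∘ₗ comul (R := R) =
      Algebra.linearMap R H ∘ₗ counit (R := R) (A := H) := by
    rw [LinearMap.comp_assoc]
    exact HopfAlgebra.mul_antipode_lTensor_comul
  rw [h1, LinearMap.rTensor_comp_apply, Coalgebra.rTensor_counit_comul]
  simp

lemma shear_shearInv (z : H ⊗[R] H) : shear (R := R) (shearInv (R := R) z) = z := by
  have h : (shear (R := R) (H := H)).comp (shearInv (R := R) (H := H)) =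
      AlgHom.id H (H ⊗[R] H) := by
    apply Algebra.TensorProduct.ext'
    intro x y
    rw [AlgHom.comp_apply, shearInv_tmul, map_mul, shear_uInv, shear_tmul, Bialgebra.comul_one,
      mul_one, Algebra.TensorProduct.tmul_mul_tmul, mul_one, one_mul]
    rfl
  exact AlgHom.congr_fun h z

lemma shearInv_shear (z : H ⊗[R] H) : shearInv (R := R) (shear (R := R) z) = z := by
  have h : (shearInv (R := R) (H := H)).comp (shear (R := R) (H := H)) =
      AlgHom.id H (H ⊗[R] H) := by
    apply Algebra.TensorProduct.ext'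
    intro x y
    rw [AlgHom.comp_apply, shear_tmul, map_mul, shearInv_comul, shearInv_tmul, map_one,
      mul_one, Algebra.TensorProduct.tmul_mul_tmul, mul_one, one_mul]
    rfl
  exact AlgHom.congr_fun h z

/-- The shear map as an `H`-linear automorphism of `H ⊗ H`. -/
noncomputable def shearE : H ⊗[R] H ≃ₗ[H] H ⊗[R] H :=
  LinearEquiv.ofLinear (shear (R := R) (H := H)).toLinearMap
    (shearInv (R := R) (H := H)).toLinearMap
    (LinearMap.ext fun z => shear_shearInv z) (LinearMap.ext fun z => shearInv_shear z)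

end Shear

section Integral

variable {R : Type u} [CommRing R] {H : Type v} [CommRing H] [HopfAlgebra R H]

/-- `z ↦ ∑ z₁ f(z₂)` -/
noncomputable def Rf (f : H →ₗ[R] R) : H →ₗ[R] H :=
  (evL (A := H) f).restrictScalars R ∘ₗ comul

lemma Rf_apply (f : H →ₗ[R] R) (z : H) : Rf f z = evL (A := H) f (comul (R := R) z) := rfl

lemma comul_evL (f : H →ₗ[R] R) (w : H ⊗[R] H) :
    comul (R := R) (evL (A := H) f w) =
      evL (A := H ⊗[R] H) f ((comul (R := R)).rTensor H w) := by
  induction w using TensorProduct.induction_on with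
  | zero => simp
  | tmul p q => rw [evL_tmul, map_smul, LinearMap.rTensor_tmul, evL_tmul]
  | add x y hx hy => simp only [map_add, hx, hy]

lemma lTensor_Rf_comul (f : H →ₗ[R] R) (z : H) :
    (Rf f).lTensor H (comul (R := R) z) = comul (R := R) (Rf f z) := by
  rw [Rf_apply, comul_evL, ← lTensor_evL_assoc, Coalgebra.coassoc_apply]
  unfold Rf
  rw [LinearMap.lTensor_comp_apply]

lemma lTensor_Rf_comul_mul_shear (f : H →ₗ[R] R) (x y : H) :
    (Rf f).lTensor H (comul (R := R) x * shear (R := R) ((1 : H) ⊗ₜ[R] y)) =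
      shear (R := R) ((1 : H) ⊗ₜ[R] Rf f (x * y)) := by
  rw [shear_tmul, shear_tmul, ← Algebra.TensorProduct.one_def, one_mul, one_mul,
    ← Bialgebra.comul_mul, lTensor_Rf_comul]

variable {ι : Type*} [Fintype ι] (e : ι → H) (φ : ι → H →ₗ[R] R)

/-- The invariant functional attached to `f` and a dual family `(e, φ)`. -/
noncomputable def tf (f : H →ₗ[R] R) : H →ₗ[R] R :=
  ∑ j, φ j ∘ₗ Rf f ∘ₗ LinearMap.mulRight R (e j)

lemma tf_apply (f : H →ₗ[R] R) (x : H) : tf e φ f x = ∑ j, φ j (Rf f (x * e j)) := by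
  unfold tf
  rw [LinearMap.sum_apply]
  rfl

lemma sum_evL_mul (f : H →ₗ[R] R) (z : H ⊗[R] H) :
    ∑ j, evL (A := H) (φ j) ((Rf f).lTensor H (z * ((1 : H) ⊗ₜ[R] e j))) =
      evL (A := H) (tf e φ f) z := by
  induction z using TensorProduct.induction_on with
  | zero => simp
  | tmul a b =>
    rw [evL_tmul, tf_apply, Finset.sum_smul]
    refine Finset.sum_congr rfl fun j _ => ?_
    rw [Algebra.TensorProduct.tmul_mul_tmul, mul_one, LinearMap.lTensor_tmul, evL_tmul]
  | add x y hx hy =>
    simp only [add_mul, map_add, Finset.sum_add_distrib, hx, hy]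

lemma dual_family_tensor (hd : ∀ h, ∑ j, φ j h • e j = h) (w : H ⊗[R] H) :
    ∑ j, evL (A := H) (φ j) w • ((1 : H) ⊗ₜ[R] e j) = w := by
  induction w using TensorProduct.induction_on with
  | zero => simp
  | tmul a y =>
    conv_rhs => rw [← hd y, TensorProduct.tmul_sum]
    refine Finset.sum_congr rfl fun j _ => ?_
    rw [evL_tmul, TensorProduct.smul_tmul', smul_eq_mul, mul_one, TensorProduct.tmul_smul,
      TensorProduct.smul_tmul']
  | add x y hx hy =>
    simp only [map_add, add_smul, Finset.sum_add_distrib, hx, hy]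

/-- **Invariance** of `tf`. -/
theorem tf_integral (hd : ∀ h, ∑ j, φ j h • e j = h) (f : H →ₗ[R] R) (x : H) :
    evL (A := H) (tf e φ f) (comul (R := R) x) = tf e φ f x • (1 : H) := by
  have key := trace_comm_dual (S := H) (M := H ⊗[R] H) (N := H ⊗[R] H)
    (fun j => (1 : H) ⊗ₜ[R] e j) (fun j => evL (A := H) (φ j)) (dual_family_tensor e φ hd)
    (fun j => (shearE (R := R) (H := H)) ((1 : H) ⊗ₜ[R] e j))
    (fun j => evL (A := H) (φ j) ∘ₗ (shearE (R := R) (H := H)).symm.toLinearMap)
    (dual_family_map _ _ (dual_family_tensor e φ hd) (shearE (R := R) (H := H)))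
    ((TensorProduct.AlgebraTensorModule.lTensor H H (Rf f)) ∘ₗ
      LinearMap.mulLeft H (comul (R := R) x))
    LinearMap.id
  have hL : ∀ j, evL (A := H) (φ j) ((Rf f).lTensor H (comul (R := R) x * ((1 : H) ⊗ₜ[R] e j))) =
      evL (A := H) (φ j) ((LinearMap.id : H ⊗[R] H →ₗ[H] H ⊗[R] H)
        (((TensorProduct.AlgebraTensorModule.lTensor H H (Rf f)) ∘ₗ
          LinearMap.mulLeft H (comul (R := R) x)) ((1 : H) ⊗ₜ[R] e j))) := fun j => rfl
  have hR : ∀ j, (evL (A := H) (φ j) ∘ₗ (shearE (R := R) (H := H)).symm.toLinearMap)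
      (((TensorProduct.AlgebraTensorModule.lTensor H H (Rf f)) ∘ₗ
        LinearMap.mulLeft H (comul (R := R) x))
        ((LinearMap.id : H ⊗[R] H →ₗ[H] H ⊗[R] H) ((shearE (R := R) (H := H)) ((1 : H) ⊗ₜ[R] e j)))) =
      φ j (Rf f (x * e j)) • (1 : H) := by
    intro j
    show evL (A := H) (φ j) (shearInv (R := R)
      ((Rf f).lTensor H (comul (R := R) x * shear (R := R) ((1 : H) ⊗ₜ[R] e j)))) = _
    rw [lTensor_Rf_comul_mul_shear, shearInv_shear, evL_tmul]
  have h1 : ∑ j, evL (A := H) (φ j)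
      ((Rf f).lTensor H (comul (R := R) x * ((1 : H) ⊗ₜ[R] e j))) =
      ∑ j, φ j (Rf f (x * e j)) • (1 : H) := by
    refine Eq.trans ?_ (Eq.trans key ?_)
    · exact Finset.sum_congr rfl fun j _ => hL j
    · exact Finset.sum_congr rfl fun j _ => hR j
  rw [← sum_evL_mul e φ f, h1, tf_apply, Finset.sum_smul]

/-- `y ⊗ z ↦ x y S(z)` -/
noncomputable def Gx (x : H) : H ⊗[R] H →ₗ[R] H :=
  LinearMap.mul' R H ∘ₗ TensorProduct.map (LinearMap.mulLeft R x) (HopfAlgebra.antipode R)

lemma Gx_tmul (x y z : H) :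
    Gx (R := R) x (y ⊗ₜ[R] z) = x * y * HopfAlgebra.antipode R z := rfl

lemma Gx_eq (x : H) (w : H ⊗[R] H) :
    Gx (R := R) x w = x * LinearMap.mul' R H ((HopfAlgebra.antipode R).lTensor H w) := by
  induction w using TensorProduct.induction_on with
  | zero => simp
  | tmul a b => rw [Gx_tmul, LinearMap.lTensor_tmul, LinearMap.mul'_apply, mul_assoc]
  | add p q hp hq => simp only [map_add, mul_add, hp, hq]

lemma Gx_comul (x y : H) :
    Gx (R := R) x (comul (R := R) y) = counit (R := R) y • x := by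
  rw [Gx_eq, HopfAlgebra.mul_antipode_lTensor_comul_apply, mul_comm, ← Algebra.smul_def]

lemma dual_family_prod (hd : ∀ h, ∑ j, φ j h • e j = h) (w : H ⊗[R] H) :
    ∑ p : ι × ι, (φ p.1 ∘ₗ (evL (A := H) (φ p.2)).restrictScalars R) w •
      (e p.1 ⊗ₜ[R] e p.2) = w := by
  induction w using TensorProduct.induction_on with
  | zero => simp
  | tmul a b =>
    rw [Fintype.sum_prod_type]
    have h1 : ∀ j i, (φ j ∘ₗ (evL (A := H) (φ i)).restrictScalars R) (a ⊗ₜ[R] b) •
        (e j ⊗ₜ[R] e i) = (φ j a • e j) ⊗ₜ[R] (φ i b • e i) := by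
      intro j i
      show φ j (φ i b • a) • (e j ⊗ₜ[R] e i) = _
      rw [map_smul, smul_eq_mul, TensorProduct.smul_tmul_smul, mul_comm]
    simp_rw [h1]
    conv_rhs => rw [← hd a, ← hd b]
    rw [TensorProduct.sum_tmul]
    refine Finset.sum_congr rfl fun j _ => ?_
    rw [TensorProduct.tmul_sum]
  | add x y hx hy => simp only [map_add, add_smul, Finset.sum_add_distrib, hx, hy]

/-- The counit is an `H`-combination of the invariant functionals. -/
theorem sum_tf_antipode (hd : ∀ h, ∑ j, φ j h • e j = h) (x : H) :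
    ∑ i, tf e φ (φ i) (HopfAlgebra.antipode R (e i) * x) = counit (R := R) x := by
  have key := trace_comm_dual (S := R) (M := H) (N := H ⊗[R] H) e φ hd
    (fun p : ι × ι => e p.1 ⊗ₜ[R] e p.2)
    (fun p : ι × ι => φ p.1 ∘ₗ (evL (A := H) (φ p.2)).restrictScalars R)
    (dual_family_prod e φ hd) (comul (R := R)) (Gx (R := R) x)
  have hL : ∑ j, φ j (Gx (R := R) x (comul (R := R) (e j))) = counit (R := R) x := by
    conv_rhs => rw [← hd x]
    rw [map_sum]
    refine Finset.sum_congr rfl fun j _ => ?_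
    rw [Gx_comul, map_smul, map_smul, smul_eq_mul, smul_eq_mul, mul_comm]
  rw [hL] at key
  rw [key, Fintype.sum_prod_type, Finset.sum_comm]
  refine Finset.sum_congr rfl fun i _ => ?_
  rw [tf_apply]
  refine Finset.sum_congr rfl fun j _ => ?_
  have hr : HopfAlgebra.antipode R (e i) * x * e j = x * e j * HopfAlgebra.antipode R (e i) := by
    ring
  rw [hr]
  rfl

end Integral

/-- **Existence of enough integrals** on a finite projective commutative Hopf algebra. -/
theorem exists_integrals (R : Type u) [CommRing R] (H : Type v) [CommRing H] [HopfAlgebra R H]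
    [Module.Finite R H] [Module.Projective R H] :
    ∃ (n : ℕ) (t : Fin n → H →ₗ[R] R) (T : Fin n → H),
      (∀ i x, evL (A := H) (t i) (comul (R := R) x) = t i x • (1 : H)) ∧
        ∀ x, ∑ i, t i (T i * x) = counit (R := R) x := by
  obtain ⟨n, f, hf⟩ := Module.Finite.exists_fin' R H
  obtain ⟨s, hs⟩ := Module.projective_lifting_property f LinearMap.id hf
  let e : Fin n → H := fun j => f (fun k => if j = k then 1 else 0)
  let φ : Fin n → H →ₗ[R] R := fun j => LinearMap.proj j ∘ₗ s
  have hd : ∀ h : H, ∑ j, φ j h • e j = h := by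
    intro m
    show ∑ j, (s m j) • f (fun k => if j = k then 1 else 0) = m
    rw [← LinearMap.pi_apply_eq_sum_univ f (s m)]
    exact LinearMap.congr_fun hs m
  exact ⟨n, fun i => tf e φ (φ i), fun i => HopfAlgebra.antipode R (e i),
    fun i x => tf_integral e φ hd (φ i) x, fun x => sum_tf_antipode e φ hd x⟩

end Groth.Agent.Lib.Helper19.KT
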