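import Mathlib
import Groth.Agent.Lib.Helper19.KT1

/-!
# The Kreimer–Takeuchi theorem for commutative comodule algebras (helper19)

`A` a commutative `R`-algebra with a coaction `ρ : A →ₐ[R] A ⊗ H` of a finite projective commutative
Hopf algebra `H`, `B = coinv ρ` the coinvariants.  If `1 ⊗ T` lies in the image of the Galois map
`x ⊗ y ↦ (x ⊗ 1) ρ(y)` for every `T`, then `A` is a finite projective `B`-module and the Galois map
`A ⊗_B A → A ⊗ H` is bijective (`main`).
-/

set_option autoImplicit false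
set_option linter.unusedSectionVars false
universe u v w

open TensorProduct Coalgebra

namespace Groth.Agent.Lib.Helper19.KT

section Comodule

variable {R : Type u} [CommRing R] {A : Type w} [CommRing A] [Algebra R A]
  {H : Type v} [CommRing H] [HopfAlgebra R H] (ρ : A →ₐ[R] A ⊗[R] H)

/-- The subalgebra of coinvariants. -/
abbrev coinv : Subalgebra R A := AlgHom.equalizer ρ Algebra.TensorProduct.includeLeft

lemma rho_coinv (b : coinv ρ) : ρ (b : A) = (b : A) ⊗ₜ[R] (1 : H) :=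
  (AlgHom.mem_equalizer ρ _ (b : A)).1 b.2

lemma coe_smul_tensor (b : coinv ρ) (w : A ⊗[R] H) : ((b : A)) • w = b • w := rfl

/-- `a ↦ ∑ a₀ t(a₁)` -/
noncomputable def tr (t : H →ₗ[R] R) : A →ₗ[R] A :=
  (evL (A := A) t).restrictScalars R ∘ₗ ρ.toLinearMap

lemma tr_apply (t : H →ₗ[R] R) (a : A) : tr ρ t a = evL (A := A) t (ρ a) := rfl

lemma rho_evL (t : H →ₗ[R] R) (w : A ⊗[R] H) :
    ρ (evL (A := A) t w) = evL (A := A ⊗[R] H) t (ρ.toLinearMap.rTensor H w) := by
  induction w using TensorProduct.induction_on with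
  | zero => simp
  | tmul p q =>
    rw [evL_tmul, map_smul, LinearMap.rTensor_tmul, AlgHom.toLinearMap_apply, evL_tmul]
  | add x y hx hy => simp only [map_add, hx, hy]

section Tr

variable (hco : ∀ a, TensorProduct.assoc R A H H (ρ.toLinearMap.rTensor H (ρ a)) =
    (comul (R := R) (A := H)).lTensor A (ρ a))

include hco in
lemma tr_mem (t : H →ₗ[R] R)
    (ht : ∀ h, evL (A := H) t (comul (R := R) h) = t h • (1 : H)) (a : A) :
    tr ρ t a ∈ coinv ρ := by
  rw [AlgHom.mem_equalizer, tr_apply, rho_evL, ← lTensor_evL_assoc, hco,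
    ← LinearMap.lTensor_comp_apply]
  have h1 : (evL (A := H) t).restrictScalars R ∘ₗ comul (R := R) =
      LinearMap.toSpanSingleton R H 1 ∘ₗ t := by
    apply LinearMap.ext
    intro h
    exact ht h
  rw [h1, lTensor_smul_one]
  rfl

lemma tr_smul (t : H →ₗ[R] R) (b : coinv ρ) (a : A) :
    tr ρ t ((b : A) * a) = (b : A) * tr ρ t a := by
  rw [tr_apply, map_mul, rho_coinv, tmul_one_mul, map_smul, smul_eq_mul, tr_apply]

/-- The trace-like map `A → B` attached to an invariant functional. -/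
noncomputable def trB (t : H →ₗ[R] R)
    (ht : ∀ h, evL (A := H) t (comul (R := R) h) = t h • (1 : H)) : A →ₗ[coinv ρ] coinv ρ where
  toFun a := ⟨tr ρ t a, tr_mem ρ hco t ht a⟩
  map_add' a a' := Subtype.ext (map_add (tr ρ t) a a')
  map_smul' b a := Subtype.ext (tr_smul ρ t b a)

lemma coe_trB (t : H →ₗ[R] R)
    (ht : ∀ h, evL (A := H) t (comul (R := R) h) = t h • (1 : H)) (a : A) :
    ((trB ρ hco t ht a : coinv ρ) : A) = tr ρ t a := rfl

end Tr

lemma sum_evL_T {n : ℕ} (t : Fin n → H →ₗ[R] R) (T : Fin n → H)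
    (hT : ∀ x, ∑ i, t i (T i * x) = counit (R := R) x) (w : A ⊗[R] H) :
    ∑ i, evL (A := A) (t i) (((1 : A) ⊗ₜ[R] T i) * w) =
      evL (A := A) (counit (R := R) (A := H)) w := by
  induction w using TensorProduct.induction_on with
  | zero => simp
  | tmul a h =>
    rw [evL_tmul, ← hT h, Finset.sum_smul]
    refine Finset.sum_congr rfl fun i _ => ?_
    rw [Algebra.TensorProduct.tmul_mul_tmul, one_mul, evL_tmul]
  | add x y hx hy => simp only [mul_add, map_add, Finset.sum_add_distrib, hx, hy]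

/-- From integrals and surjectivity data of the Galois map to a "dual basis family". -/
theorem exists_family [Module.Finite R H] [Module.Projective R H]
    (hcan : ∀ T : H, ∃ (κ : Type w) (_ : Fintype κ) (x y : κ → A),
      ∑ l, (x l ⊗ₜ[R] (1 : H)) * ρ (y l) = (1 : A) ⊗ₜ[R] T) :
    ∃ (K : Type w) (_ : Fintype K) (t : K → H →ₗ[R] R) (x y : K → A),
      (∀ k h, evL (A := H) (t k) (comul (R := R) h) = t k h • (1 : H)) ∧
      ∀ w : A ⊗[R] H, ∑ k, evL (A := A) (t k) ((x k ⊗ₜ[R] (1 : H)) * ρ (y k) * w) =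
        evL (A := A) (counit (R := R) (A := H)) w := by
  obtain ⟨n, t, T, ht, hT⟩ := exists_integrals R H
  choose κ hκ x y hxy using fun i => hcan (T i)
  let _ : ∀ i, Fintype (κ i) := hκ
  refine ⟨Σ i : Fin n, κ i, inferInstance, fun k => t k.1, fun k => x k.1 k.2,
    fun k => y k.1 k.2, fun k h => ht k.1 h, fun w => ?_⟩
  rw [Fintype.sum_sigma]
  have h1 : ∀ i, ∑ l : κ i, evL (A := A) (t i) ((x i l ⊗ₜ[R] (1 : H)) * ρ (y i l) * w) =
      evL (A := A) (t i) (((1 : A) ⊗ₜ[R] T i) * w) := by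
    intro i
    rw [← map_sum, ← Finset.sum_mul, hxy i]
  rw [Finset.sum_congr rfl (fun i _ => h1 i)]
  exact sum_evL_T t T hT w

section Main

variable (hco : ∀ a, TensorProduct.assoc R A H H (ρ.toLinearMap.rTensor H (ρ a)) =
    (comul (R := R) (A := H)).lTensor A (ρ a))
  (hcu : ∀ a, evL (A := A) (counit (R := R) (A := H)) (ρ a) = a)
  {K : Type*} [Fintype K] (t : K → H →ₗ[R] R) (x y : K → A)
  (ht : ∀ k h, evL (A := H) (t k) (comul (R := R) h) = t k h • (1 : H))
  (hkey : ∀ w : A ⊗[R] H, ∑ k, evL (A := A) (t k) ((x k ⊗ₜ[R] (1 : H)) * ρ (y k) * w) =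
    evL (A := A) (counit (R := R) (A := H)) w)

include hcu hkey in
lemma key_sum (a : A) : ∑ k, x k * tr ρ (t k) (y k * a) = a := by
  have h : ∀ k, x k * tr ρ (t k) (y k * a) =
      evL (A := A) (t k) ((x k ⊗ₜ[R] (1 : H)) * ρ (y k) * ρ a) := by
    intro k
    rw [tr_apply, map_mul, mul_assoc, tmul_one_mul, map_smul, smul_eq_mul]
  rw [Finset.sum_congr rfl (fun k _ => h k), hkey, hcu]

/-- the `k`-th coordinate map `A → B ⊗ A` -/
noncomputable def sk (k : K) : A →ₗ[coinv ρ] (coinv ρ) ⊗[R] A where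
  toFun a := trB ρ hco (t k) (ht k) (y k * a) ⊗ₜ[R] x k
  map_add' a a' := by rw [mul_add, map_add, TensorProduct.add_tmul]
  map_smul' b a := by
    rw [RingHom.id_apply, mul_smul_comm, map_smul, TensorProduct.smul_tmul']

/-- multiplication `B ⊗ A → A` -/
noncomputable def pB : (coinv ρ) ⊗[R] A →ₗ[coinv ρ] A :=
  (LinearMap.id : A →ₗ[R] A).liftBaseChange (coinv ρ)

lemma pB_tmul (b : coinv ρ) (a : A) : pB ρ (b ⊗ₜ[R] a) = (b : A) * a := rfl

include hcu hkey in
lemma pB_comp_sk : (pB ρ) ∘ₗ (∑ k, sk ρ hco t x y ht k) = LinearMap.id := by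
  apply LinearMap.ext
  intro a
  rw [LinearMap.comp_apply, LinearMap.sum_apply, map_sum]
  refine Eq.trans (Finset.sum_congr rfl fun k _ => ?_) (key_sum ρ hcu t x y hkey a)
  show (tr ρ (t k) (y k * a)) * x k = x k * tr ρ (t k) (y k * a)
  exact mul_comm _ _

include hco hcu ht hkey in
theorem finite_projective [Module.Finite R A] [Module.Projective R A] :
    Module.Finite (coinv ρ) A ∧ Module.Projective (coinv ρ) A := by
  have hps := pB_comp_sk ρ hco hcu t x y ht hkey
  constructor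
  · exact Module.Finite.of_surjective (pB ρ)
      (fun a => ⟨(∑ k, sk ρ hco t x y ht k) a, LinearMap.congr_fun hps a⟩)
  · exact Module.Projective.of_split (∑ k, sk ρ hco t x y ht k) (pB ρ) hps

/-- `ρ` as a `B`-linear map. -/
noncomputable def rhoB : A →ₗ[coinv ρ] A ⊗[R] H where
  toFun := ρ
  map_add' := map_add ρ
  map_smul' b a := by
    show ρ ((b : A) * a) = b • ρ a
    rw [map_mul, rho_coinv, tmul_one_mul, coe_smul_tensor]

/-- The Galois map `A ⊗_B A → A ⊗ H`. -/
noncomputable def can : A ⊗[coinv ρ] A →ₗ[A] A ⊗[R] H := (rhoB ρ).liftBaseChange A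

lemma can_tmul (u v : A) : can ρ (u ⊗ₜ[coinv ρ] v) = u • ρ v := rfl

lemma can_surjective (h1 : ∀ T : H, ∃ z, can ρ z = (1 : A) ⊗ₜ[R] T) :
    Function.Surjective (can ρ) := by
  intro w
  induction w using TensorProduct.induction_on with
  | zero => exact ⟨0, map_zero _⟩
  | tmul a T =>
    obtain ⟨z, hz⟩ := h1 T
    refine ⟨a • z, ?_⟩
    rw [map_smul, hz, TensorProduct.smul_tmul', smul_eq_mul, mul_one]
  | add w1 w2 h1' h2' =>
    obtain ⟨z1, hz1⟩ := h1'
    obtain ⟨z2, hz2⟩ := h2'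
    exact ⟨z1 + z2, by rw [map_add, hz1, hz2]⟩

include hco hcu ht hkey in
lemma can_injective : Function.Injective (can ρ) := by
  have hΘ : ∀ z, ∑ k, (evL (A := A) (t k) (ρ (y k) * can ρ z)) ⊗ₜ[coinv ρ] x k = z := by
    intro z
    induction z using TensorProduct.induction_on with
    | zero => simp
    | tmul u v =>
      have h : ∀ k, (evL (A := A) (t k) (ρ (y k) * can ρ (u ⊗ₜ[coinv ρ] v))) ⊗ₜ[coinv ρ] x k =
          u ⊗ₜ[coinv ρ] (x k * tr ρ (t k) (y k * v)) := by
        intro k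
        rw [can_tmul, mul_smul_comm, map_smul, ← map_mul, ← tr_apply, smul_eq_mul,
          ← coe_trB ρ hco (t k) (ht k), mul_comm u, mul_comm (x k)]
        exact TensorProduct.smul_tmul (trB ρ hco (t k) (ht k) (y k * v)) u (x k)
      rw [Finset.sum_congr rfl (fun k _ => h k), ← TensorProduct.tmul_sum,
        key_sum ρ hcu t x y hkey v]
    | add z1 z2 h1 h2 =>
      simp only [map_add, mul_add, TensorProduct.add_tmul, Finset.sum_add_distrib, h1, h2]
  intro z1 z2 h
  have e1 := hΘ z1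
  rw [h] at e1
  exact e1.symm.trans (hΘ z2)

end Main

/-- **Kreimer–Takeuchi** for commutative comodule algebras over a finite projective commutative
Hopf algebra. -/
theorem main [Module.Finite R H] [Module.Projective R H] [Module.Finite R A]
    [Module.Projective R A]
    (hco : ∀ a, TensorProduct.assoc R A H H (ρ.toLinearMap.rTensor H (ρ a)) =
      (comul (R := R) (A := H)).lTensor A (ρ a))
    (hcu : ∀ a, evL (A := A) (counit (R := R) (A := H)) (ρ a) = a)
    (hcan : ∀ T : H, ∃ (κ : Type w) (_ : Fintype κ) (x y : κ → A),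
      ∑ l, (x l ⊗ₜ[R] (1 : H)) * ρ (y l) = (1 : A) ⊗ₜ[R] T) :
    Module.Finite (coinv ρ) A ∧ Module.Projective (coinv ρ) A ∧
      Nonempty (A ⊗[coinv ρ] A ≃ₗ[A] A ⊗[R] H) := by
  obtain ⟨K, hK, t, x, y, ht, hkey⟩ := exists_family ρ hcan
  let _ : Fintype K := hK
  obtain ⟨h1, h2⟩ := finite_projective ρ hco hcu t x y ht hkey
  refine ⟨h1, h2, ⟨LinearEquiv.ofBijective (can ρ)
    ⟨can_injective ρ hco hcu t x y ht hkey, can_surjective ρ ?_⟩⟩⟩
  intro T
  obtain ⟨κ, hκ, x', y', hxy⟩ := hcan T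
  let _ : Fintype κ := hκ
  refine ⟨∑ l, x' l ⊗ₜ[coinv ρ] y' l, ?_⟩
  rw [map_sum, ← hxy]
  refine Finset.sum_congr rfl fun l _ => ?_
  rw [can_tmul, tmul_one_mul]

end Comodule

end Groth.Agent.Lib.Helper19.KT
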