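import Mathlib
import Groth.Agent.Lib.Helper19.KT2

/-!
# Quotients of finite group schemes by finite subgroup schemes, Hopf-algebraically (helper19)

`A` a commutative Hopf algebra over `R`, finite projective, `I` a Hopf ideal with `A ⧸ I` projective,
`ρ = (id ⊗ π) ∘ Δ : A → A ⊗ A/I` the right translation coaction, `B = coinv ρ`.

* `quot_main`: `A` is finite projective over `B` and `A ⊗_B A ≃ A ⊗ A/I` (`A`-linearly);
* `rankAtStalk_coinv_eq`: the rank of `A` over `B` at any prime is the rank of `A/I` below;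
* `free_of_rank_const`: finite flat of constant rank over a semilocal ring is free.
-/

set_option autoImplicit false
set_option linter.unusedSectionVars false
universe u v w

open TensorProduct Coalgebra

namespace Groth.Agent.Lib.Helper19.KT

section Rank

variable {R : Type u} [CommRing R] {A : Type w} [CommRing A] [Algebra R A]
  {H : Type v} [CommRing H] [HopfAlgebra R H] (ρ : A →ₐ[R] A ⊗[R] H)

theorem rankAtStalk_coinv [Module.Finite R H] [Module.Flat R H] [Module.Finite (coinv ρ) A]
    [Module.Flat (coinv ρ) A] (E : A ⊗[coinv ρ] A ≃ₗ[A] A ⊗[R] H) (Q : PrimeSpectrum A) :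
    Module.rankAtStalk (R := coinv ρ) A (Q.comap (algebraMap (coinv ρ) A)) =
      Module.rankAtStalk (R := R) H (Q.comap (algebraMap R A)) := by
  rw [← Module.rankAtStalk_baseChange (R := coinv ρ) (M := A) (S := A) Q,
    ← Module.rankAtStalk_baseChange (R := R) (M := H) (S := A) Q]
  exact congrFun (Module.rankAtStalk_eq_of_equiv E) Q

theorem rankAtStalk_coinv_eq [Module.Finite R H] [Module.Flat R H] [Module.Finite (coinv ρ) A]
    [Module.Flat (coinv ρ) A] (E : A ⊗[coinv ρ] A ≃ₗ[A] A ⊗[R] H) (P : PrimeSpectrum (coinv ρ)) :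
    ∃ q : PrimeSpectrum R, Module.rankAtStalk (R := coinv ρ) A P =
      Module.rankAtStalk (R := R) H q ∧ q = P.comap (algebraMap R (coinv ρ)) := by
  have : Algebra.IsIntegral (coinv ρ) A := Algebra.IsIntegral.of_finite _ _
  obtain ⟨Q, -, hQ, hQP⟩ := Ideal.exists_ideal_over_prime_of_isIntegral P.asIdeal (⊥ : Ideal A)
    (by
      rw [Ideal.comap_bot_of_injective (algebraMap (coinv ρ) A) Subtype.val_injective]
      exact bot_le)
  have hP : (⟨Q, hQ⟩ : PrimeSpectrum A).comap (algebraMap (coinv ρ) A) = P :=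
    PrimeSpectrum.ext hQP
  refine ⟨(⟨Q, hQ⟩ : PrimeSpectrum A).comap (algebraMap R A), ?_, ?_⟩
  · rw [← hP, rankAtStalk_coinv ρ E ⟨Q, hQ⟩]
  · rw [← hP]
    rfl

end Rank

section Free

theorem finrank_quotient_tensor_eq_rankAtStalk {B : Type u} [CommRing B] (m : Ideal B)
    [hm : m.IsMaximal] (M : Type v) [AddCommGroup M] [Module B M] [Module.Finite B M]
    [Module.Flat B M] :
    Module.finrank (B ⧸ m) ((B ⧸ m) ⊗[B] M) = Module.rankAtStalk M ⟨m, hm.isPrime⟩ := by
  let _ : Field (B ⧸ m) := Ideal.Quotient.field m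
  have h1 := Module.rankAtStalk_baseChange (R := B) (M := M) (S := B ⧸ m)
    (⊥ : PrimeSpectrum (B ⧸ m))
  have h2 : Module.rankAtStalk ((B ⧸ m) ⊗[B] M) (⊥ : PrimeSpectrum (B ⧸ m)) =
      Module.finrank (B ⧸ m) ((B ⧸ m) ⊗[B] M) :=
    congrFun (Module.rankAtStalk_eq_finrank_of_free (R := B ⧸ m) (M := (B ⧸ m) ⊗[B] M)) _
  have h3 : PrimeSpectrum.comap (algebraMap B (B ⧸ m)) (⊥ : PrimeSpectrum (B ⧸ m)) =
      ⟨m, hm.isPrime⟩ := by
    ext x
    change algebraMap B (B ⧸ m) x ∈ (⊥ : Ideal (B ⧸ m)) ↔ x ∈ m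
    rw [Ideal.mem_bot]
    exact Ideal.Quotient.eq_zero_iff_mem
  rw [← h2, h1, h3]

/-- A finite flat module of constant rank over a semilocal ring is free of that rank. -/
theorem free_of_rank_const (B : Type u) [CommRing B] [Finite (MaximalSpectrum B)] [Nontrivial B]
    (M : Type v) [AddCommGroup M] [Module B M] [Module.Finite B M] [Module.Flat B M] (d : ℕ)
    (h : ∀ P : PrimeSpectrum B, Module.rankAtStalk M P = d) :
    Module.Free B M ∧ Module.finrank B M = d := by
  obtain ⟨b⟩ := Module.nonempty_basis_of_flat_of_finrank_eq B M d (fun P => by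
    haveI := P.isMaximal
    rw [finrank_quotient_tensor_eq_rankAtStalk P.asIdeal M]
    exact h _)
  exact ⟨Module.Free.of_basis b, by rw [Module.finrank_eq_card_basis b, Fintype.card_fin]⟩

end Free

section HopfQuot

variable {R : Type u} [CommRing R] {A : Type v} [CommRing A] [HopfAlgebra R A]
  (I : Ideal A) [I.IsHopfIdeal R]

/-- The right translation coaction of the quotient Hopf algebra `A ⧸ I` on `A`. -/
noncomputable abbrev rhoQ : A →ₐ[R] A ⊗[R] (A ⧸ I) :=
  (Algebra.TensorProduct.map (AlgHom.id R A) (Ideal.Quotient.mkₐ R I)).comp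
    (Bialgebra.comulAlgHom R A)

lemma map_id_mk (z : A ⊗[R] A) :
    Algebra.TensorProduct.map (AlgHom.id R A) (Ideal.Quotient.mkₐ R I) z =
      (Ideal.Quotient.mkₐ R I).toLinearMap.lTensor A z := by
  induction z using TensorProduct.induction_on with
  | zero => simp
  | tmul a b =>
    rw [Algebra.TensorProduct.map_tmul, LinearMap.lTensor_tmul]
    rfl
  | add a b ha hb => simp only [map_add, ha, hb]

lemma rhoQ_apply (a : A) :
    rhoQ (R := R) I a = (Ideal.Quotient.mkₐ R I).toLinearMap.lTensor A (comul (R := R) a) :=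
  map_id_mk I _

lemma evL_counit_comul (a : A) :
    evL (A := A) (counit (R := R) (A := A)) (comul (R := R) a) = a := by
  show TensorProduct.AlgebraTensorModule.rid R A A
    ((counit (R := R) (A := A)).lTensor A (comul (R := R) a)) = a
  rw [Coalgebra.lTensor_counit_comul]
  simp

lemma evL_counit_lTensor_mk (z : A ⊗[R] A) :
    evL (A := A) (counit (R := R) (A := A ⧸ I))
      ((Ideal.Quotient.mkₐ R I).toLinearMap.lTensor A z) =
      evL (A := A) (counit (R := R) (A := A)) z := by
  induction z using TensorProduct.induction_on with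
  | zero => simp
  | tmul p q =>
    rw [LinearMap.lTensor_tmul, evL_tmul, evL_tmul]
    rfl
  | add x y hx hy => simp only [map_add, hx, hy]

lemma rhoQ_counit (a : A) :
    evL (A := A) (counit (R := R) (A := A ⧸ I)) (rhoQ (R := R) I a) = a := by
  rw [rhoQ_apply, evL_counit_lTensor_mk, evL_counit_comul]

lemma assoc_lTensor_mk_tmul (t : A ⊗[R] A) (q : A) :
    TensorProduct.assoc R A (A ⧸ I) (A ⧸ I)
      (((Ideal.Quotient.mkₐ R I).toLinearMap.lTensor A t) ⊗ₜ[R] (Ideal.Quotient.mkₐ R I q)) =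
      (TensorProduct.map (Ideal.Quotient.mkₐ R I).toLinearMap
        (Ideal.Quotient.mkₐ R I).toLinearMap).lTensor A
        (TensorProduct.assoc R A A A (t ⊗ₜ[R] q)) := by
  induction t using TensorProduct.induction_on with
  | zero => simp
  | tmul a b =>
    rw [LinearMap.lTensor_tmul, TensorProduct.assoc_tmul, TensorProduct.assoc_tmul,
      LinearMap.lTensor_tmul, TensorProduct.map_tmul]
    rfl
  | add x y hx hy => simp only [map_add, TensorProduct.add_tmul, hx, hy]

lemma assoc_rTensor_rhoQ (w : A ⊗[R] A) :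
    TensorProduct.assoc R A (A ⧸ I) (A ⧸ I)
      ((rhoQ (R := R) I).toLinearMap.rTensor (A ⧸ I)
        ((Ideal.Quotient.mkₐ R I).toLinearMap.lTensor A w)) =
      (TensorProduct.map (Ideal.Quotient.mkₐ R I).toLinearMap
        (Ideal.Quotient.mkₐ R I).toLinearMap).lTensor A
        (TensorProduct.assoc R A A A ((comul (R := R)).rTensor A w)) := by
  induction w using TensorProduct.induction_on with
  | zero => simp
  | tmul p q =>
    rw [LinearMap.lTensor_tmul, LinearMap.rTensor_tmul, AlgHom.toLinearMap_apply, rhoQ_apply,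
      LinearMap.rTensor_tmul]
    exact assoc_lTensor_mk_tmul I (comul (R := R) p) q
  | add x y hx hy => simp only [map_add, hx, hy]

lemma rhoQ_coassoc (a : A) :
    TensorProduct.assoc R A (A ⧸ I) (A ⧸ I)
      ((rhoQ (R := R) I).toLinearMap.rTensor (A ⧸ I) (rhoQ (R := R) I a)) =
      (comul (R := R) (A := A ⧸ I)).lTensor A (rhoQ (R := R) I a) := by
  rw [rhoQ_apply, assoc_rTensor_rhoQ, Coalgebra.coassoc_apply, ← LinearMap.lTensor_comp_apply,
    ← LinearMap.lTensor_comp_apply]
  rfl

lemma rhoQ_can (T : A ⧸ I) :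
    ∃ (κ : Type v) (_ : Fintype κ) (x y : κ → A),
      ∑ l, (x l ⊗ₜ[R] (1 : A ⧸ I)) * rhoQ (R := R) I (y l) = (1 : A) ⊗ₜ[R] T := by
  obtain ⟨T', rfl⟩ := Ideal.Quotient.mk_surjective T
  obtain ⟨S, hS⟩ := TensorProduct.exists_finset (uInv (R := R) (H := A) T')
  refine ⟨↥S, inferInstance, fun p => p.1.1, fun p => p.1.2, ?_⟩
  have hc : ∀ a b : A, (a ⊗ₜ[R] (1 : A ⧸ I)) * rhoQ (R := R) I b =
      Algebra.TensorProduct.map (AlgHom.id R A) (Ideal.Quotient.mkₐ R I)
        (shear (R := R) (H := A) (a ⊗ₜ[R] b)) := by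
    intro a b
    rw [shear_tmul, map_mul, Algebra.TensorProduct.map_tmul, map_one]
    rfl
  rw [Finset.sum_congr rfl (fun p _ => hc p.1.1 p.1.2), ← map_sum, ← map_sum,
    Finset.sum_coe_sort S (fun p => p.1 ⊗ₜ[R] p.2), ← hS, shear_uInv,
    Algebra.TensorProduct.map_tmul]
  rfl

/-- **Quotient of a finite locally free group scheme by a finite locally free subgroup scheme**:
`A` is finite projective over the right invariants and the Galois map is bijective. -/
theorem quot_main [Module.Finite R A] [Module.Projective R A] [Module.Projective R (A ⧸ I)] :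
    Module.Finite (coinv (rhoQ (R := R) I)) A ∧ Module.Projective (coinv (rhoQ (R := R) I)) A ∧
      Nonempty (A ⊗[coinv (rhoQ (R := R) I)] A ≃ₗ[A] A ⊗[R] (A ⧸ I)) :=
  main (rhoQ (R := R) I) (rhoQ_coassoc I) (rhoQ_counit I) (rhoQ_can I)

end HopfQuot

end Groth.Agent.Lib.Helper19.KT
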