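import Mathlib
import Groth.Agent.Lib.Helper19.KT3

/-!
# Coinvariants are a direct summand; tower formula for ranks (helper19)

* `exists_retraction`: in the Kreimer–Takeuchi situation there is a `B`-linear `λ : A → B` with
  `λ 1 = 1` (`B = coinv ρ`);
* `main_coinv`: hence `B` is a finite projective `R`-module (no noetherian hypothesis);
* `finrank_tower`: if `M` is finite flat over a finite `R`-algebra `B`, of constant rank `d` at the
  primes of `B` over a maximal ideal `m` of `R`, then `dim (M/mM) = d * dim (B/mB)`;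
* `quot_coinv`: the case of a quotient by a Hopf ideal.
-/

set_option autoImplicit false
set_option linter.unusedSectionVars false
universe u v w

open TensorProduct Coalgebra

namespace Groth.Agent.Lib.Helper19.KT

section Retraction

variable {R : Type u} [CommRing R] {A : Type w} [CommRing A] [Algebra R A]
  {H : Type v} [CommRing H] [HopfAlgebra R H] (ρ : A →ₐ[R] A ⊗[R] H)
  (hco : ∀ a, TensorProduct.assoc R A H H (ρ.toLinearMap.rTensor H (ρ a)) =
    (comul (R := R) (A := H)).lTensor A (ρ a))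
  (hcu : ∀ a, evL (A := A) (counit (R := R) (A := H)) (ρ a) = a)
  {K : Type*} [Fintype K] (t : K → H →ₗ[R] R) (x y : K → A)
  (ht : ∀ k h, evL (A := H) (t k) (comul (R := R) h) = t k h • (1 : H))
  (hkey : ∀ w : A ⊗[R] H, ∑ k, evL (A := A) (t k) ((x k ⊗ₜ[R] (1 : H)) * ρ (y k) * w) =
    evL (A := A) (counit (R := R) (A := H)) w)

include hco hcu ht hkey in
theorem exists_retraction [Module.Finite (coinv ρ) A] :
    ∃ lam : A →ₗ[coinv ρ] coinv ρ, lam 1 = 1 := by
  let ev1 : (A →ₗ[coinv ρ] coinv ρ) →ₗ[coinv ρ] coinv ρ := LinearMap.applyₗ (1 : A)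
  have hgen : ∀ k a, trB ρ hco (t k) (ht k) (y k * a) ∈ LinearMap.range ev1 := by
    intro k a
    refine ⟨trB ρ hco (t k) (ht k) ∘ₗ LinearMap.mulLeft (coinv ρ) (y k * a), ?_⟩
    show trB ρ hco (t k) (ht k) (y k * a * 1) = _
    rw [mul_one]
  have htop : (LinearMap.range ev1 : Ideal (coinv ρ)) = ⊤ := by
    by_contra hne
    obtain ⟨m, hm, hle⟩ := Ideal.exists_le_maximal _ hne
    haveI := hm
    have : Algebra.IsIntegral (coinv ρ) A := Algebra.IsIntegral.of_finite _ _
    obtain ⟨Q, hQ, hQm⟩ := Ideal.exists_ideal_over_maximal_of_isIntegral (S := A) m (by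
      rw [(RingHom.injective_iff_ker_eq_bot _).1
        (show Function.Injective (algebraMap (coinv ρ) A) from Subtype.val_injective)]
      exact bot_le)
    have h1 : (1 : A) ∈ Q := by
      rw [← key_sum ρ hcu t x y hkey (1 : A)]
      refine Q.sum_mem fun k _ => Q.mul_mem_left _ ?_
      have hmem : trB ρ hco (t k) (ht k) (y k * 1) ∈ m := hle (hgen k 1)
      rw [← hQm] at hmem
      exact hmem
    exact hQ.ne_top ((Ideal.eq_top_iff_one Q).2 h1)
  have h1 : (1 : coinv ρ) ∈ LinearMap.range ev1 := by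
    rw [htop]
    exact Submodule.mem_top
  obtain ⟨lam, hlam⟩ := h1
  exact ⟨lam, hlam⟩

end Retraction

section MainCoinv

variable {R : Type u} [CommRing R] {A : Type w} [CommRing A] [Algebra R A]
  {H : Type v} [CommRing H] [HopfAlgebra R H] (ρ : A →ₐ[R] A ⊗[R] H)

/-- The coinvariants form a finite projective `R`-module (a direct summand of `A`). -/
theorem main_coinv [Module.Finite R H] [Module.Projective R H] [Module.Finite R A]
    [Module.Projective R A]
    (hco : ∀ a, TensorProduct.assoc R A H H (ρ.toLinearMap.rTensor H (ρ a)) =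
      (comul (R := R) (A := H)).lTensor A (ρ a))
    (hcu : ∀ a, evL (A := A) (counit (R := R) (A := H)) (ρ a) = a)
    (hcan : ∀ T : H, ∃ (κ : Type w) (_ : Fintype κ) (x y : κ → A),
      ∑ l, (x l ⊗ₜ[R] (1 : H)) * ρ (y l) = (1 : A) ⊗ₜ[R] T) :
    Module.Finite R (coinv ρ) ∧ Module.Projective R (coinv ρ) := by
  obtain ⟨K, hK, t, x, y, ht, hkey⟩ := exists_family ρ hcan
  let _ : Fintype K := hK
  obtain ⟨h1, h2⟩ := finite_projective ρ hco hcu t x y ht hkey
  haveI := h1
  obtain ⟨lam, hlam⟩ := exists_retraction ρ hco hcu t x y ht hkey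
  have hsplit : (lam.restrictScalars R) ∘ₗ (coinv ρ).val.toLinearMap = LinearMap.id := by
    apply LinearMap.ext
    intro b
    show lam (b : A) = b
    have hb : (b : A) = b • (1 : A) := (mul_one (b : A)).symm
    rw [hb, map_smul, hlam, smul_eq_mul, mul_one]
  exact ⟨Module.Finite.of_surjective (lam.restrictScalars R)
    (fun b => ⟨(b : A), LinearMap.congr_fun hsplit b⟩), Module.Projective.of_split _ _ hsplit⟩

end MainCoinv

section Tower

attribute [local instance] Algebra.TensorProduct.rightAlgebra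

theorem finrank_tower {R : Type u} [CommRing R] (m : Ideal R) [hm : m.IsMaximal]
    (B : Type v) [CommRing B] [Algebra R B] [Module.Finite R B]
    (M : Type w) [AddCommGroup M] [Module B M] [Module R M] [IsScalarTower R B M]
    [Module.Finite B M] [Module.Flat B M] (d : ℕ)
    (hrank : ∀ P : PrimeSpectrum B, P.comap (algebraMap R B) = ⟨m, hm.isPrime⟩ →
      Module.rankAtStalk (R := B) M P = d) :
    Module.finrank (R ⧸ m) ((R ⧸ m) ⊗[R] M) =
      d * Module.finrank (R ⧸ m) ((R ⧸ m) ⊗[R] B) := by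
  letI : Field (R ⧸ m) := Ideal.Quotient.field m
  have hS : ∀ P' : PrimeSpectrum ((R ⧸ m) ⊗[R] B),
      Module.rankAtStalk (R := (R ⧸ m) ⊗[R] B) (((R ⧸ m) ⊗[R] B) ⊗[B] M) P' = d := by
    intro P'
    rw [Module.rankAtStalk_baseChange (R := B) (M := M) (S := (R ⧸ m) ⊗[R] B) P']
    apply hrank
    ext r
    show algebraMap B ((R ⧸ m) ⊗[R] B) (algebraMap R B r) ∈ P'.asIdeal ↔ r ∈ m
    rw [← IsScalarTower.algebraMap_apply R B ((R ⧸ m) ⊗[R] B),
      IsScalarTower.algebraMap_apply R (R ⧸ m) ((R ⧸ m) ⊗[R] B)]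
    constructor
    · intro h
      by_contra hr
      have hu : IsUnit (algebraMap R (R ⧸ m) r) := by
        rw [isUnit_iff_ne_zero]
        intro h0
        exact hr (Ideal.Quotient.eq_zero_iff_mem.1 h0)
      exact P'.isPrime.ne_top (Ideal.eq_top_of_isUnit_mem _ h
        (hu.map (algebraMap (R ⧸ m) ((R ⧸ m) ⊗[R] B))))
    · intro hr
      have h0 : algebraMap R (R ⧸ m) r = 0 := Ideal.Quotient.eq_zero_iff_mem.2 hr
      rw [h0, map_zero]
      exact zero_mem _
  haveI : IsArtinianRing ((R ⧸ m) ⊗[R] B) := IsArtinianRing.of_finite (R ⧸ m) _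
  have hc := (Algebra.IsPushout.cancelBaseChange R (R ⧸ m) B ((R ⧸ m) ⊗[R] B) M).finrank_eq
  rw [← hc]
  rcases subsingleton_or_nontrivial ((R ⧸ m) ⊗[R] B) with hsub | hnt
  · haveI : Subsingleton (((R ⧸ m) ⊗[R] B) ⊗[B] M) :=
      Module.subsingleton ((R ⧸ m) ⊗[R] B) _
    rw [Module.finrank_zero_of_subsingleton, Module.finrank_zero_of_subsingleton, mul_zero]
  · obtain ⟨hfree, hfr⟩ :=
      free_of_rank_const ((R ⧸ m) ⊗[R] B) (((R ⧸ m) ⊗[R] B) ⊗[B] M) d hS
    haveI := hfree
    rw [← Module.finrank_mul_finrank (R ⧸ m) ((R ⧸ m) ⊗[R] B) (((R ⧸ m) ⊗[R] B) ⊗[B] M), hfr,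
      mul_comm]

end Tower

section HopfQuot

variable {R : Type u} [CommRing R] {A : Type v} [CommRing A] [HopfAlgebra R A]
  (I : Ideal A) [I.IsHopfIdeal R]

theorem quot_coinv [Module.Finite R A] [Module.Projective R A] [Module.Projective R (A ⧸ I)] :
    Module.Finite R (coinv (rhoQ (R := R) I)) ∧ Module.Projective R (coinv (rhoQ (R := R) I)) :=
  main_coinv (rhoQ (R := R) I) (rhoQ_coassoc I) (rhoQ_counit I) (rhoQ_can I)

/-- **Order of a finite flat group = order of subgroup times index.** -/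
theorem quot_rank [Module.Finite R A] [Module.Projective R A] [Module.Projective R (A ⧸ I)]
    (q : PrimeSpectrum R) :
    Module.rankAtStalk A q =
      Module.rankAtStalk (A ⧸ I) q * Module.rankAtStalk ↥(coinv (rhoQ (R := R) I)) q := by
  obtain ⟨hfin, hproj, ⟨E⟩⟩ := quot_main (R := R) I
  obtain ⟨hBfin, hBproj⟩ := quot_coinv (R := R) I
  haveI := hfin
  haveI := hproj
  haveI := hBfin
  haveI := hBproj
  obtain ⟨m, hm, hqm⟩ := Ideal.exists_le_maximal q.asIdeal q.isPrime.ne_top
  haveI := hm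
  have hle : q ≤ (⟨m, hm.isPrime⟩ : PrimeSpectrum R) := hqm
  rw [Module.rankAtStalk_eq_of_le_of_finite_of_flat A hle,
    Module.rankAtStalk_eq_of_le_of_finite_of_flat (A ⧸ I) hle,
    Module.rankAtStalk_eq_of_le_of_finite_of_flat ↥(coinv (rhoQ (R := R) I)) hle,
    ← finrank_quotient_tensor_eq_rankAtStalk m A,
    ← finrank_quotient_tensor_eq_rankAtStalk m ↥(coinv (rhoQ (R := R) I))]
  refine finrank_tower m ↥(coinv (rhoQ (R := R) I)) A _ (fun P hP => ?_)
  obtain ⟨q', h1, h2⟩ := rankAtStalk_coinv_eq (rhoQ (R := R) I) E P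
  rw [h1, h2, hP]

end HopfQuot

end Groth.Agent.Lib.Helper19.KT
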