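import Mathlib
import Groth.Agent.Lib.Helper19.KT4
import Groth.Agent.Lib.Helper19.EtInv

/-!
# The connected–étale sequence of a finite flat group scheme, part 1 (helper19)

Rigidity of idempotents in `L ⊗ C` for an augmented local algebra `L`, the unit component ideal
`(1 - e)` is a Hopf ideal, the unit component is a direct summand, and `e` is right-invariant.
-/

set_option autoImplicit false
universe u v w

open TensorProduct

namespace Groth.Agent.Lib.Helper19.ConnEt

open Groth.Agent.Lib.Helper19.KT Groth.Agent.Lib.Helper19.EtInv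

section Jac

theorem idem_eq_of_sub_mem_jacobson {T : Type*} [CommRing T] {f f' : T}
    (hf : IsIdempotentElem f) (hf' : IsIdempotentElem f')
    (h : f - f' ∈ Ideal.jacobson (⊥ : Ideal T)) : f = f' := by
  have hf2 : f * f = f := hf
  have hf2' : f' * f' = f' := hf'
  have h3 : (f - f') * ((f - f') * -(f - f') + 1) = 0 := by
    linear_combination (-(f + 1 - 3 * f')) * hf2 + (-(3 * f - f' - 1)) * hf2'
  have hu := Ideal.mem_jacobson_bot.1 h (-(f - f'))
  exact sub_eq_zero.1 ((hu.mul_left_eq_zero).1 h3)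

theorem map_maximalIdeal_le_jacobson (L T : Type*) [CommRing L] [IsLocalRing L] [CommRing T]
    [Algebra L T] [Algebra.IsIntegral L T] :
    Ideal.map (algebraMap L T) (IsLocalRing.maximalIdeal L) ≤ Ideal.jacobson (⊥ : Ideal T) := by
  rw [Ideal.map_le_iff_le_comap]
  intro x hx
  rw [Ideal.mem_comap, Ideal.jacobson, Ideal.mem_sInf]
  rintro 𝔫 ⟨-, h𝔫⟩
  haveI := h𝔫
  haveI : (𝔫.comap (algebraMap L T)).IsMaximal :=
    Ideal.isMaximal_comap_of_isIntegral_of_isMaximal 𝔫
  have hm : 𝔫.comap (algebraMap L T) = IsLocalRing.maximalIdeal L :=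
    IsLocalRing.eq_maximalIdeal inferInstance
  have h2 : x ∈ 𝔫.comap (algebraMap L T) := by rw [hm]; exact hx
  exact h2

variable {R : Type u} [CommRing R] (L : Type v) (C : Type w) [CommRing L] [CommRing C]
  [Algebra R L] [Algebra R C] (ε : L →ₐ[R] R)

/-- `ε ⊗ id : L ⊗ C → C` -/
noncomputable def psiL : L ⊗[R] C →ₐ[R] C :=
  Algebra.TensorProduct.lift ((Algebra.ofId R C).comp ε) (AlgHom.id R C)
    (fun _ _ => Commute.all _ _)

lemma psiL_tmul (b : L) (c : C) : psiL L C ε (b ⊗ₜ[R] c) = ε b • c := by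
  simp [psiL, Algebra.ofId_apply, Algebra.smul_def]

/-- `id ⊗ ε : C ⊗ L → C` -/
noncomputable def psiR : C ⊗[R] L →ₐ[R] C :=
  Algebra.TensorProduct.lift (AlgHom.id R C) ((Algebra.ofId R C).comp ε)
    (fun _ _ => Commute.all _ _)

lemma psiR_tmul (c : C) (b : L) : psiR L C ε (c ⊗ₜ[R] b) = ε b • c := by
  simp [psiR, Algebra.ofId_apply, Algebra.smul_def, mul_comm]

lemma sub_mem_map (z : L ⊗[R] C) :
    z - (1 : L) ⊗ₜ[R] psiL L C ε z ∈
      Ideal.map (algebraMap L (L ⊗[R] C)) (RingHom.ker ε) := by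
  induction z using TensorProduct.induction_on with
  | zero => simp
  | tmul b c =>
    rw [psiL_tmul]
    have hmem : b - algebraMap R L (ε b) ∈ RingHom.ker ε := by
      rw [RingHom.mem_ker, map_sub, AlgHom.commutes, Algebra.algebraMap_self, RingHom.id_apply,
        sub_self]
    have h1 : b ⊗ₜ[R] c - (1 : L) ⊗ₜ[R] (ε b • c) =
        algebraMap L (L ⊗[R] C) (b - algebraMap R L (ε b)) * ((1 : L) ⊗ₜ[R] c) := by
      rw [Algebra.TensorProduct.algebraMap_apply, Algebra.algebraMap_self, RingHom.id_apply,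
        Algebra.TensorProduct.tmul_mul_tmul, mul_one, one_mul, TensorProduct.sub_tmul,
        TensorProduct.tmul_smul, TensorProduct.smul_tmul', Algebra.algebraMap_eq_smul_one]
    rw [h1]
    exact Ideal.mul_mem_right _ _ (Ideal.mem_map_of_mem _ hmem)
  | add x y hx hy =>
    have h1 : x + y - (1 : L) ⊗ₜ[R] psiL L C ε (x + y) =
        (x - (1 : L) ⊗ₜ[R] psiL L C ε x) + (y - (1 : L) ⊗ₜ[R] psiL L C ε y) := by
      rw [map_add, TensorProduct.tmul_add]; abel
    rw [h1]
    exact Ideal.add_mem _ hx hy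

variable [Nontrivial R] [IsLocalRing L] [Module.Finite R C]

/-- **Rigidity of idempotents**: idempotents of `L ⊗ C` with the same image under `ε ⊗ id` are
equal. -/
theorem idem_eq_left {f f' : L ⊗[R] C} (hf : IsIdempotentElem f) (hf' : IsIdempotentElem f')
    (h : psiL L C ε f = psiL L C ε f') : f = f' := by
  apply idem_eq_of_sub_mem_jacobson hf hf'
  have h1 : f - f' ∈ Ideal.map (algebraMap L (L ⊗[R] C)) (RingHom.ker ε) := by
    have h2 := Ideal.sub_mem _ (sub_mem_map L C ε f) (sub_mem_map L C ε f')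
    rw [h] at h2
    have h3 : f - (1 : L) ⊗ₜ[R] psiL L C ε f' - (f' - (1 : L) ⊗ₜ[R] psiL L C ε f') =
        f - f' := by abel
    rwa [h3] at h2
  have hne : RingHom.ker ε ≠ ⊤ := (Ideal.ne_top_iff_one _).mpr (by
    rw [RingHom.mem_ker, map_one]; exact one_ne_zero)
  have h2 : RingHom.ker ε ≤ IsLocalRing.maximalIdeal L := IsLocalRing.le_maximalIdeal hne
  haveI : Algebra.IsIntegral L (L ⊗[R] C) := Algebra.IsIntegral.of_finite _ _
  exact map_maximalIdeal_le_jacobson L (L ⊗[R] C) (Ideal.map_mono h2 h1)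

theorem idem_eq_right {f f' : C ⊗[R] L} (hf : IsIdempotentElem f) (hf' : IsIdempotentElem f')
    (h : psiR L C ε f = psiR L C ε f') : f = f' := by
  have key : ∀ z : C ⊗[R] L, psiL L C ε (Algebra.TensorProduct.comm R C L z) = psiR L C ε z := by
    intro z
    induction z using TensorProduct.induction_on with
    | zero => simp
    | tmul c b => rw [Algebra.TensorProduct.comm_tmul, psiL_tmul, psiR_tmul]
    | add x y hx hy => simp only [map_add, hx, hy]
  have h1 := idem_eq_left L C ε (hf.map (Algebra.TensorProduct.comm R C L))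
    (hf'.map (Algebra.TensorProduct.comm R C L)) (by rw [key, key, h])
  exact (Algebra.TensorProduct.comm R C L).injective h1

end Jac

section UnitComp

variable {R : Type u} [CommRing R] {A : Type v} [CommRing A] [HopfAlgebra R A]
  (e : A) (he : IsIdempotentElem e) (hε : Bialgebra.counitAlgHom R A e = 1)

lemma mk_e : Ideal.Quotient.mk (Ideal.span ({1 - e} : Set A)) e = 1 := by
  rw [eq_comm, ← sub_eq_zero, ← map_one (Ideal.Quotient.mk (Ideal.span ({1 - e} : Set A))), ← map_sub,
    Ideal.Quotient.eq_zero_iff_mem]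
  exact Ideal.subset_span rfl

/-- multiplication by `e`, as a section `A ⧸ (1 - e) → A` of the projection -/
noncomputable def iotaE : (A ⧸ (Ideal.span ({1 - e} : Set A))) →ₗ[R] A :=
  ((Ideal.span ({1 - e} : Set A)).restrictScalars R).liftQ (LinearMap.mulLeft R e) (by
    intro x hx
    have hx' : x ∈ (Ideal.span ({1 - e} : Set A)) := hx
    obtain ⟨b, rfl⟩ := Ideal.mem_span_singleton'.mp hx'
    rw [LinearMap.mem_ker, LinearMap.mulLeft_apply]
    have : e * (b * (1 - e)) = b * (e - e * e) := by ring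
    rw [this, he.eq, sub_self, mul_zero])

lemma iotaE_mk (a : A) : iotaE (R := R) e he (Ideal.Quotient.mk (Ideal.span ({1 - e} : Set A)) a) = e * a := rfl

lemma mk_comp_iotaE :
    (Ideal.Quotient.mkₐ R (Ideal.span ({1 - e} : Set A))).toLinearMap ∘ₗ iotaE (R := R) e he = LinearMap.id := by
  apply LinearMap.ext
  intro x
  obtain ⟨a, rfl⟩ := Ideal.Quotient.mk_surjective x
  show Ideal.Quotient.mk (Ideal.span ({1 - e} : Set A)) (e * a) = Ideal.Quotient.mk (Ideal.span ({1 - e} : Set A)) a
  rw [map_mul, mk_e, one_mul]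

include he in
theorem projective_quot [Module.Projective R A] : Module.Projective R (A ⧸ (Ideal.span ({1 - e} : Set A))) :=
  Module.Projective.of_split (iotaE (R := R) e he) (Ideal.Quotient.mkₐ R (Ideal.span ({1 - e} : Set A))).toLinearMap
    (mk_comp_iotaE e he)

theorem finite_quot [Module.Finite R A] : Module.Finite R (A ⧸ (Ideal.span ({1 - e} : Set A))) :=
  Module.Finite.of_surjective (Ideal.Quotient.mkₐ R (Ideal.span ({1 - e} : Set A))).toLinearMap
    (Ideal.Quotient.mkₐ_surjective R _)

variable [Nontrivial R] [Module.Finite R A] [IsLocalRing (A ⧸ (Ideal.span ({1 - e} : Set A)))]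

include hε in
theorem mk_eq_one_of_counit_eq_one {x : A} (hx : IsIdempotentElem x)
    (hxε : Bialgebra.counitAlgHom R A x = 1) : Ideal.Quotient.mk (Ideal.span ({1 - e} : Set A)) x = 1 := by
  rcases idem_eq_zero_or_one (hx.map (Ideal.Quotient.mk (Ideal.span ({1 - e} : Set A)))) with h | h
  · exfalso
    have h1 := counitBar_mk A e hε x
    rw [h, map_zero, hxε] at h1
    exact zero_ne_one h1
  · exact h

include he hε in
theorem map_comul_e :
    Algebra.TensorProduct.map (Ideal.Quotient.mkₐ R (Ideal.span ({1 - e} : Set A))) (Ideal.Quotient.mkₐ R (Ideal.span ({1 - e} : Set A)))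
      (Bialgebra.comulAlgHom R A e) = 1 := by
  haveI : Module.Finite R (A ⧸ (Ideal.span ({1 - e} : Set A))) := finite_quot e
  apply idem_eq_left (A ⧸ (Ideal.span ({1 - e} : Set A))) (A ⧸ (Ideal.span ({1 - e} : Set A))) (counitBar A e hε)
    ((he.map (Bialgebra.comulAlgHom R A)).map _) IsIdempotentElem.one
  rw [map_one]
  have key : ∀ z : A ⊗[R] A, psiL (A ⧸ (Ideal.span ({1 - e} : Set A))) (A ⧸ (Ideal.span ({1 - e} : Set A))) (counitBar A e hε)
      (Algebra.TensorProduct.map (Ideal.Quotient.mkₐ R (Ideal.span ({1 - e} : Set A))) (Ideal.Quotient.mkₐ R (Ideal.span ({1 - e} : Set A))) z) =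
      Ideal.Quotient.mkₐ R (Ideal.span ({1 - e} : Set A))
        (TensorProduct.lid R A ((Coalgebra.counit (R := R) (A := A)).rTensor A z)) := by
    intro z
    induction z using TensorProduct.induction_on with
    | zero => simp
    | tmul a b =>
      rw [Algebra.TensorProduct.map_tmul, psiL_tmul, LinearMap.rTensor_tmul,
        TensorProduct.lid_tmul, map_smul]
      rfl
    | add x y hx hy => simp only [map_add, hx, hy]
  rw [key]
  show Ideal.Quotient.mk (Ideal.span ({1 - e} : Set A)) (TensorProduct.lid R A ((Coalgebra.counit (R := R) (A := A)).rTensor A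
    (Coalgebra.comul (R := R) e))) = 1
  rw [Coalgebra.rTensor_counit_comul, TensorProduct.lid_tmul, one_smul, mk_e]

include he hε in
/-- The ideal of the unit component is a Hopf ideal. -/
theorem isHopfIdeal : (Ideal.span ({1 - e} : Set A)).IsHopfIdeal R := by
  have hcomul : ∀ x ∈ (Ideal.span ({1 - e} : Set A)),
      Algebra.TensorProduct.map (Ideal.Quotient.mkₐ R (Ideal.span ({1 - e} : Set A))) (Ideal.Quotient.mkₐ R (Ideal.span ({1 - e} : Set A)))
        (Bialgebra.comulAlgHom R A x) = 0 := by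
    intro x hx
    obtain ⟨b, rfl⟩ := Ideal.mem_span_singleton'.mp hx
    rw [map_mul, map_mul, map_sub, map_sub, map_one, map_one, map_comul_e e he hε,
      sub_self, mul_zero]
  have hS : Bialgebra.counitAlgHom R A (HopfAlgebra.antipodeAlgHom R A e) = 1 := by
    have : Bialgebra.counitAlgHom R A (HopfAlgebra.antipodeAlgHom R A e) =
        Coalgebra.counit (R := R) (HopfAlgebraStruct.antipode R e) := rfl
    rw [this, HopfAlgebra.counit_antipode]
    exact hε
  refine { counit_eq_zero := ?_, map_mkQ_comul_eq_zero := ?_, antipode_mem := ?_ }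
  · intro x hx
    have hx' : x ∈ (Ideal.span ({1 - e} : Set A)) := hx
    obtain ⟨b, rfl⟩ := Ideal.mem_span_singleton'.mp hx'
    show Bialgebra.counitAlgHom R A (b * (1 - e)) = 0
    rw [map_mul, map_sub, map_one, hε, sub_self, mul_zero]
  · intro x hx
    exact hcomul x hx
  · intro x hx
    obtain ⟨b, rfl⟩ := Ideal.mem_span_singleton'.mp hx
    have h1 := mk_eq_one_of_counit_eq_one e hε (he.map (HopfAlgebra.antipodeAlgHom R A)) hS
    have h2 : HopfAlgebra.antipodeAlgHom R A (1 - e) ∈ (Ideal.span ({1 - e} : Set A)) := by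
      rw [← Ideal.Quotient.eq_zero_iff_mem, map_sub, map_one, map_sub, map_one, h1, sub_self]
    show HopfAlgebra.antipodeAlgHom R A (b * (1 - e)) ∈ _
    rw [map_mul]
    exact Ideal.mul_mem_left _ _ h2

variable [(Ideal.span ({1 - e} : Set A)).IsHopfIdeal R]

lemma psiR_eq_evL (z : A ⊗[R] (A ⧸ (Ideal.span ({1 - e} : Set A)))) :
    psiR (A ⧸ (Ideal.span ({1 - e} : Set A))) A (counitBar A e hε) z =
      evL (A := A) (Coalgebra.counit (R := R) (A := A ⧸ (Ideal.span ({1 - e} : Set A)))) z := by
  induction z using TensorProduct.induction_on with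
  | zero => simp
  | tmul c b =>
    rw [psiR_tmul, evL_tmul]
    obtain ⟨a, rfl⟩ := Ideal.Quotient.mk_surjective b
    rfl
  | add x y hx hy => simp only [map_add, hx, hy]

include he hε in
/-- the idempotent `e` is right-invariant under the unit component -/
theorem e_mem : e ∈ coinv (rhoQ (R := R) (Ideal.span ({1 - e} : Set A))) := by
  show rhoQ (R := R) (Ideal.span ({1 - e} : Set A)) e = (Algebra.TensorProduct.includeLeft : A →ₐ[R] A ⊗[R] (A ⧸ (Ideal.span ({1 - e} : Set A)))) e
  apply idem_eq_right (A ⧸ (Ideal.span ({1 - e} : Set A))) A (counitBar A e hε) (he.map _) (he.map _)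
  rw [psiR_eq_evL, rhoQ_counit, Algebra.TensorProduct.includeLeft_apply, psiR_tmul, map_one,
    one_smul]

end UnitComp

end Groth.Agent.Lib.Helper19.ConnEt
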