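import Mathlib
import Groth.Agent.Lib.Helper19.ConnEt1

/-!
# The connected–étale sequence of a finite flat group scheme, part 2 (helper19)

Convolution calculus: the unit component is normal, hence right-invariant functions are
left-invariant, and the antipode preserves the invariants.
-/

set_option autoImplicit false
universe u v w w'

open TensorProduct WithConv

namespace Groth.Agent.Lib.Helper19.ConnEt

open Groth.Agent.Lib.Helper19.KT Groth.Agent.Lib.Helper19.EtInv

section PostComp

variable {R : Type u} [CommRing R] {A : Type v} [CommRing A] [HopfAlgebra R A]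
  {C₁ : Type w} {C₂ : Type w'} [CommRing C₁] [CommRing C₂] [Bialgebra R C₁] [Bialgebra R C₂]

/-- post-composition with an algebra map, as a homomorphism of convolution groups -/
noncomputable def postComp (h : C₁ →ₐ[R] C₂) :
    WithConv (A →ₐ[R] C₁) →* WithConv (A →ₐ[R] C₂) where
  toFun f := toConv (h.comp f.ofConv)
  map_one' := by
    show toConv (h.comp ((Algebra.ofId R C₁).comp (Bialgebra.counitAlgHom R A))) =
      toConv ((Algebra.ofId R C₂).comp (Bialgebra.counitAlgHom R A))
    congr 1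
    ext a
    simp [Algebra.ofId_apply]
  map_mul' f g := by
    apply WithConv.ofConv_injective
    exact AlgHom.comp_convMul_distrib h f g

lemma postComp_apply (h : C₁ →ₐ[R] C₂) (f : WithConv (A →ₐ[R] C₁)) :
    postComp h f = toConv (h.comp f.ofConv) := rfl

end PostComp

section Normal

variable {R : Type u} [CommRing R] {A : Type v} [CommRing A] [HopfAlgebra R A]
  (e : A) (he : IsIdempotentElem e) (hε : Bialgebra.counitAlgHom R A e = 1)
  [(Ideal.span ({1 - e} : Set A)).IsHopfIdeal R]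

/-- the quotient map to the unit component -/
noncomputable abbrev piE : A →ₐ[R] (A ⧸ Ideal.span ({1 - e} : Set A)) := Ideal.Quotient.mkₐ R (Ideal.span ({1 - e} : Set A))

noncomputable abbrev g0 : A →ₐ[R] A ⊗[R] (A ⧸ Ideal.span ({1 - e} : Set A)) := Algebra.TensorProduct.includeLeft

noncomputable abbrev h0 : A →ₐ[R] A ⊗[R] (A ⧸ Ideal.span ({1 - e} : Set A)) :=
  (Algebra.TensorProduct.includeRight : (A ⧸ Ideal.span ({1 - e} : Set A)) →ₐ[R] A ⊗[R] (A ⧸ Ideal.span ({1 - e} : Set A))).comp (piE (R := R) e)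

noncomputable abbrev g1 : A →ₐ[R] (A ⧸ Ideal.span ({1 - e} : Set A)) ⊗[R] A := Algebra.TensorProduct.includeRight

noncomputable abbrev h1 : A →ₐ[R] (A ⧸ Ideal.span ({1 - e} : Set A)) ⊗[R] A :=
  (Algebra.TensorProduct.includeLeft : (A ⧸ Ideal.span ({1 - e} : Set A)) →ₐ[R] (A ⧸ Ideal.span ({1 - e} : Set A)) ⊗[R] A).comp (piE (R := R) e)

/-- the left translation coaction of the unit component -/
noncomputable abbrev lamQ : A →ₐ[R] (A ⧸ Ideal.span ({1 - e} : Set A)) ⊗[R] A :=
  (Algebra.TensorProduct.map (piE (R := R) e) (AlgHom.id R A)).comp (Bialgebra.comulAlgHom R A)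

lemma rho_eq : (toConv (g0 (R := R) e) * toConv (h0 (R := R) e)).ofConv =
    rhoQ (R := R) (Ideal.span ({1 - e} : Set A)) := by
  rw [AlgHom.convMul_def]
  simp only [ofConv_toConv]
  rw [← AlgHom.comp_assoc]
  congr 1
  apply Algebra.TensorProduct.ext'
  intro a b
  simp

lemma lam_eq : (toConv (h1 (R := R) e) * toConv (g1 (R := R) e)).ofConv =
    lamQ (R := R) e := by
  rw [AlgHom.convMul_def]
  simp only [ofConv_toConv]
  rw [← AlgHom.comp_assoc]
  congr 1
  apply Algebra.TensorProduct.ext'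
  intro a b
  simp

/-- the universal conjugate `g⁻¹ h g` of a point `h` of the unit component -/
noncomputable def kconj : WithConv (A →ₐ[R] (A ⧸ Ideal.span ({1 - e} : Set A)) ⊗[R] A) :=
  (toConv (g1 (R := R) e))⁻¹ * (toConv (h1 (R := R) e) * toConv (g1 (R := R) e))

variable [Nontrivial R] [Module.Finite R A] [IsLocalRing (A ⧸ Ideal.span ({1 - e} : Set A))]

include he hε in
theorem kconj_e : (kconj (R := R) e).ofConv e = 1 := by
  apply idem_eq_left (A ⧸ Ideal.span ({1 - e} : Set A)) A (counitBar A e hε) (he.map _) IsIdempotentElem.one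
  rw [map_one]
  have h1' : (psiL (A ⧸ Ideal.span ({1 - e} : Set A)) A (counitBar A e hε)).comp (g1 (R := R) e) = AlgHom.id R A := by
    ext a
    show psiL (A ⧸ Ideal.span ({1 - e} : Set A)) A (counitBar A e hε) ((1 : (A ⧸ Ideal.span ({1 - e} : Set A))) ⊗ₜ[R] a) = a
    rw [psiL_tmul, map_one, one_smul]
  have h2' : (psiL (A ⧸ Ideal.span ({1 - e} : Set A)) A (counitBar A e hε)).comp (h1 (R := R) e) =
      (1 : WithConv (A →ₐ[R] A)).ofConv := by
    ext a
    show psiL (A ⧸ Ideal.span ({1 - e} : Set A)) A (counitBar A e hε) ((Ideal.Quotient.mk (Ideal.span ({1 - e} : Set A)) a) ⊗ₜ[R] (1 : A)) =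
      algebraMap R A (Coalgebra.counit (R := R) a)
    rw [psiL_tmul, counitBar_mk, Algebra.algebraMap_eq_smul_one]
    rfl
  have h3 : postComp (psiL (A ⧸ Ideal.span ({1 - e} : Set A)) A (counitBar A e hε)) (kconj (R := R) e) = 1 := by
    unfold kconj
    rw [map_mul, map_mul, map_inv]
    have e1 : postComp (psiL (A ⧸ Ideal.span ({1 - e} : Set A)) A (counitBar A e hε)) (toConv (g1 (R := R) e)) =
        toConv (AlgHom.id R A) := by
      rw [postComp_apply, ofConv_toConv, h1']
    have e2 : postComp (psiL (A ⧸ Ideal.span ({1 - e} : Set A)) A (counitBar A e hε)) (toConv (h1 (R := R) e)) = 1 := by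
      rw [postComp_apply, ofConv_toConv, h2', toConv_ofConv]
    rw [e1, e2, one_mul, inv_mul_cancel]
  have h4 : psiL (A ⧸ Ideal.span ({1 - e} : Set A)) A (counitBar A e hε) ((kconj (R := R) e).ofConv e) =
      (1 : WithConv (A →ₐ[R] A)).ofConv e :=
    congrArg (fun k : WithConv (A →ₐ[R] A) => k.ofConv e) h3
  rw [h4, AlgHom.convOne_def, ofConv_toConv, AlgHom.comp_apply, hε, map_one]

include he hε in
theorem kconj_kills (x : A) (hx : x ∈ (Ideal.span ({1 - e} : Set A))) : (kconj (R := R) e).ofConv x = 0 := by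
  obtain ⟨b, rfl⟩ := Ideal.mem_span_singleton'.mp hx
  rw [map_mul, map_sub, map_one, kconj_e e he hε, sub_self, mul_zero]

/-- conjugation as a map on the unit component -/
noncomputable def cbar : (A ⧸ Ideal.span ({1 - e} : Set A)) →ₐ[R] (A ⧸ Ideal.span ({1 - e} : Set A)) ⊗[R] A :=
  Ideal.Quotient.liftₐ (Ideal.span ({1 - e} : Set A)) (kconj (R := R) e).ofConv (kconj_kills e he hε)

/-- `(g, h) ↦ (g⁻¹ h g, g)` on coordinate rings -/
noncomputable def theta : A ⊗[R] (A ⧸ Ideal.span ({1 - e} : Set A)) →ₐ[R] (A ⧸ Ideal.span ({1 - e} : Set A)) ⊗[R] A :=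
  Algebra.TensorProduct.lift (g1 (R := R) e) (cbar e he hε) (fun _ _ => Commute.all _ _)

lemma theta_g0 : (theta e he hε).comp (g0 (R := R) e) = g1 (R := R) e :=
  Algebra.TensorProduct.lift_comp_includeLeft _ _ _

lemma theta_h0 : (theta e he hε).comp (h0 (R := R) e) = (kconj (R := R) e).ofConv := by
  ext a
  show theta e he hε ((1 : A) ⊗ₜ[R] (Ideal.Quotient.mkₐ R (Ideal.span ({1 - e} : Set A)) a)) = (kconj (R := R) e).ofConv a
  rw [theta, Algebra.TensorProduct.lift_tmul, map_one, one_mul]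
  rfl

theorem theta_rho : (theta e he hε).comp (rhoQ (R := R) (Ideal.span ({1 - e} : Set A))) = lamQ (R := R) e := by
  have h : postComp (theta e he hε) (toConv (g0 (R := R) e) * toConv (h0 (R := R) e)) =
      toConv (h1 (R := R) e) * toConv (g1 (R := R) e) := by
    rw [map_mul]
    have e1 : postComp (theta e he hε) (toConv (g0 (R := R) e)) = toConv (g1 (R := R) e) := by
      rw [postComp_apply]
      exact congrArg toConv (theta_g0 e he hε)
    have e2 : postComp (theta e he hε) (toConv (h0 (R := R) e)) = kconj (R := R) e := by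
      rw [postComp_apply]
      exact congrArg toConv (theta_h0 e he hε)
    rw [e1, e2]
    unfold kconj
    rw [mul_inv_cancel_left]
  have h' := congrArg WithConv.ofConv h
  rw [← rho_eq, ← lam_eq]
  exact h'

include he hε in
/-- **right-invariant functions are left-invariant** (normality of the unit component) -/
theorem left_coinv {b : A} (hb : b ∈ coinv (rhoQ (R := R) (Ideal.span ({1 - e} : Set A)))) :
    lamQ (R := R) e b = (1 : (A ⧸ Ideal.span ({1 - e} : Set A))) ⊗ₜ[R] b := by
  have hb' : rhoQ (R := R) (Ideal.span ({1 - e} : Set A)) b = g0 (R := R) e b := hb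
  rw [← theta_rho e he hε, AlgHom.comp_apply, hb']
  exact AlgHom.congr_fun (theta_g0 e he hε) b

/-- `(h, g) ↦ (g⁻¹, h⁻¹)` on coordinate rings -/
noncomputable def tau : (A ⧸ Ideal.span ({1 - e} : Set A)) ⊗[R] A →ₐ[R] A ⊗[R] (A ⧸ Ideal.span ({1 - e} : Set A)) :=
  Algebra.TensorProduct.lift
    ((Algebra.TensorProduct.includeRight : (A ⧸ Ideal.span ({1 - e} : Set A)) →ₐ[R] A ⊗[R] (A ⧸ Ideal.span ({1 - e} : Set A))).comp
      (HopfAlgebra.antipodeAlgHom R (A ⧸ Ideal.span ({1 - e} : Set A))))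
    ((Algebra.TensorProduct.includeLeft : A →ₐ[R] A ⊗[R] (A ⧸ Ideal.span ({1 - e} : Set A))).comp
      (HopfAlgebra.antipodeAlgHom R A))
    (fun _ _ => Commute.all _ _)

omit [Nontrivial R] [Module.Finite R A] [IsLocalRing (A ⧸ Ideal.span ({1 - e} : Set A))] in
lemma tau_h1 : (tau (R := R) e).comp (h1 (R := R) e) = ((toConv (h0 (R := R) e))⁻¹).ofConv := by
  ext a
  show tau (R := R) e ((Ideal.Quotient.mkₐ R (Ideal.span ({1 - e} : Set A)) a) ⊗ₜ[R] (1 : A)) =
    (1 : A) ⊗ₜ[R] (Ideal.Quotient.mkₐ R (Ideal.span ({1 - e} : Set A)) (HopfAlgebra.antipodeAlgHom R A a))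
  rw [tau, Algebra.TensorProduct.lift_tmul, map_one, mul_one]
  rfl

omit [Nontrivial R] [Module.Finite R A] [IsLocalRing (A ⧸ Ideal.span ({1 - e} : Set A))] in
lemma tau_g1 : (tau (R := R) e).comp (g1 (R := R) e) = ((toConv (g0 (R := R) e))⁻¹).ofConv := by
  ext a
  show tau (R := R) e ((1 : (A ⧸ Ideal.span ({1 - e} : Set A))) ⊗ₜ[R] a) =
    (HopfAlgebra.antipodeAlgHom R A a) ⊗ₜ[R] (1 : (A ⧸ Ideal.span ({1 - e} : Set A)))
  rw [tau, Algebra.TensorProduct.lift_tmul, map_one, one_mul]
  rfl

omit [Nontrivial R] [Module.Finite R A] [IsLocalRing (A ⧸ Ideal.span ({1 - e} : Set A))] in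
theorem tau_lam : (tau (R := R) e).comp (lamQ (R := R) e) =
    (rhoQ (R := R) (Ideal.span ({1 - e} : Set A))).comp (HopfAlgebra.antipodeAlgHom R A) := by
  have h : postComp (tau (R := R) e) (toConv (h1 (R := R) e) * toConv (g1 (R := R) e)) =
      (toConv (g0 (R := R) e) * toConv (h0 (R := R) e))⁻¹ := by
    apply eq_inv_of_mul_eq_one_left
    rw [map_mul]
    have e1 : postComp (tau (R := R) e) (toConv (h1 (R := R) e)) =
        (toConv (h0 (R := R) e))⁻¹ := by
      rw [postComp_apply]
      exact congrArg toConv (tau_h1 (R := R) e)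
    have e2 : postComp (tau (R := R) e) (toConv (g1 (R := R) e)) =
        (toConv (g0 (R := R) e))⁻¹ := by
      rw [postComp_apply]
      exact congrArg toConv (tau_g1 (R := R) e)
    rw [e1, e2, mul_assoc, inv_mul_cancel_left, inv_mul_cancel]
  have h' := congrArg WithConv.ofConv h
  rw [← lam_eq, ← rho_eq]
  exact h'

include he hε in
/-- **the antipode preserves the invariants** -/
theorem antipode_mem {b : A} (hb : b ∈ coinv (rhoQ (R := R) (Ideal.span ({1 - e} : Set A)))) :
    HopfAlgebra.antipodeAlgHom R A b ∈ coinv (rhoQ (R := R) (Ideal.span ({1 - e} : Set A))) := by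
  show rhoQ (R := R) (Ideal.span ({1 - e} : Set A)) (HopfAlgebra.antipodeAlgHom R A b) =
    g0 (R := R) e (HopfAlgebra.antipodeAlgHom R A b)
  have h : tau (R := R) e (lamQ (R := R) e b) =
      rhoQ (R := R) (Ideal.span ({1 - e} : Set A)) (HopfAlgebra.antipodeAlgHom R A b) :=
    AlgHom.congr_fun (tau_lam (R := R) e) b
  rw [left_coinv e he hε hb] at h
  rw [← h]
  exact AlgHom.congr_fun (tau_g1 (R := R) e) b

end Normal

end Groth.Agent.Lib.Helper19.ConnEt
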