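import Mathlib
import Groth.Agent.Lib.Helper19.ConnEt2

/-!
# The connected–étale sequence of a finite flat group scheme, part 3 (helper19)

For a Hopf ideal `I` whose right invariants `B` are also left-invariant: `Δ B ⊆ B ⊗ B`; splitting
`A → B`; faithful flatness; a separability idempotent for `B` when `I = (1 - e)`.
-/

set_option autoImplicit false
universe u v w

open TensorProduct WithConv

namespace Groth.Agent.Lib.Helper19.ConnEt

open Groth.Agent.Lib.Helper19.KT Groth.Agent.Lib.Helper19.EtInv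

section Split

variable {R : Type u} [CommRing R] {A : Type w} [CommRing A] [Algebra R A]
  {H : Type v} [CommRing H] [HopfAlgebra R H] (ρ : A →ₐ[R] A ⊗[R] H)

/-- The coinvariants are a direct summand of `A` as an `R`-module. -/
theorem exists_split [Module.Finite R H] [Module.Projective R H] [Module.Finite R A]
    [Module.Projective R A]
    (hco : ∀ a, TensorProduct.assoc R A H H (ρ.toLinearMap.rTensor H (ρ a)) =
      (Coalgebra.comul (R := R) (A := H)).lTensor A (ρ a))
    (hcu : ∀ a, evL (A := A) (Coalgebra.counit (R := R) (A := H)) (ρ a) = a)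
    (hcan : ∀ T : H, ∃ (κ : Type w) (_ : Fintype κ) (x y : κ → A),
      ∑ l, (x l ⊗ₜ[R] (1 : H)) * ρ (y l) = (1 : A) ⊗ₜ[R] T) :
    ∃ lam : A →ₗ[R] coinv ρ, lam ∘ₗ (coinv ρ).val.toLinearMap = LinearMap.id := by
  obtain ⟨K, hK, t, x, y, ht, hkey⟩ := exists_family ρ hcan
  let _ : Fintype K := hK
  obtain ⟨h1, h2⟩ := finite_projective ρ hco hcu t x y ht hkey
  haveI := h1
  obtain ⟨lam, hlam⟩ := exists_retraction ρ hco hcu t x y ht hkey
  refine ⟨lam.restrictScalars R, ?_⟩
  apply LinearMap.ext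
  intro b
  show lam (b : A) = b
  have hb : (b : A) = b • (1 : A) := (mul_one (b : A)).symm
  rw [hb, map_smul, hlam, smul_eq_mul, mul_one]

/-- A finite flat extension with injective structure map is faithfully flat. -/
theorem faithfullyFlat_of_finite {B A : Type*} [CommRing B] [CommRing A] [Algebra B A]
    [Module.Finite B A] [Module.Flat B A] (hinj : Function.Injective (algebraMap B A)) :
    Module.FaithfullyFlat B A := by
  refine ⟨fun m hm h => ?_⟩
  haveI := hm
  haveI : Algebra.IsIntegral B A := Algebra.IsIntegral.of_finite _ _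
  obtain ⟨Q, hQ, hQm⟩ := Ideal.exists_ideal_over_maximal_of_isIntegral (S := A) m (by
    rw [(RingHom.injective_iff_ker_eq_bot _).1 hinj]
    exact bot_le)
  have hle : m • (⊤ : Submodule B A) ≤ Q.restrictScalars B := by
    rw [Submodule.smul_le]
    intro r hr a _
    show r • a ∈ Q
    rw [Algebra.smul_def]
    refine Q.mul_mem_right _ ?_
    rw [← hQm] at hr
    exact hr
  have h1 : (1 : A) ∈ Q := by
    have : (1 : A) ∈ m • (⊤ : Submodule B A) := by rw [h]; exact Submodule.mem_top
    exact hle this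
  exact hQ.ne_top ((Ideal.eq_top_iff_one Q).2 h1)

end Split

section Closure

variable {R : Type u} [CommRing R] {A : Type v} [CommRing A] [HopfAlgebra R A]
  (I : Ideal A) [I.IsHopfIdeal R]

theorem quot_split [Module.Finite R A] [Module.Projective R A] [Module.Projective R (A ⧸ I)] :
    ∃ lam : A →ₗ[R] coinv (rhoQ (R := R) I),
      lam ∘ₗ (coinv (rhoQ (R := R) I)).val.toLinearMap = LinearMap.id :=
  exists_split (rhoQ (R := R) I) (rhoQ_coassoc I) (rhoQ_counit I) (rhoQ_can I)

lemma assoc_tmul_mk (z : A ⊗[R] A) (q : A) :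
    TensorProduct.assoc R A A (A ⧸ I) (z ⊗ₜ[R] (Ideal.Quotient.mkₐ R I q)) =
      ((Ideal.Quotient.mkₐ R I).toLinearMap.lTensor A).lTensor A
        (TensorProduct.assoc R A A A (z ⊗ₜ[R] q)) := by
  induction z using TensorProduct.induction_on with
  | zero => simp
  | tmul a b =>
    rw [TensorProduct.assoc_tmul, TensorProduct.assoc_tmul, LinearMap.lTensor_tmul,
      LinearMap.lTensor_tmul]
    rfl
  | add x y hx hy => simp only [TensorProduct.add_tmul, map_add, hx, hy]

lemma assoc_rTensor_comul_lTensor (w : A ⊗[R] A) :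
    TensorProduct.assoc R A A (A ⧸ I)
      ((Coalgebra.comul (R := R) (A := A)).rTensor (A ⧸ I)
        ((Ideal.Quotient.mkₐ R I).toLinearMap.lTensor A w)) =
      ((Ideal.Quotient.mkₐ R I).toLinearMap.lTensor A).lTensor A
        (TensorProduct.assoc R A A A ((Coalgebra.comul (R := R) (A := A)).rTensor A w)) := by
  induction w using TensorProduct.induction_on with
  | zero => simp
  | tmul p q =>
    rw [LinearMap.lTensor_tmul, LinearMap.rTensor_tmul, LinearMap.rTensor_tmul]
    exact assoc_tmul_mk I (Coalgebra.comul (R := R) p) q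
  | add x y hx hy => simp only [map_add, hx, hy]

lemma rho_toLinearMap : (rhoQ (R := R) I).toLinearMap =
    ((Ideal.Quotient.mkₐ R I).toLinearMap.lTensor A) ∘ₗ (Coalgebra.comul (R := R) (A := A)) :=
  LinearMap.ext (rhoQ_apply I)

/-- `(id ⊗ ρ) Δ = (Δ ⊗ id) ρ` -/
lemma lTensor_rho_comul (a : A) :
    (rhoQ (R := R) I).toLinearMap.lTensor A (Coalgebra.comul (R := R) a) =
      TensorProduct.assoc R A A (A ⧸ I)
        ((Coalgebra.comul (R := R) (A := A)).rTensor (A ⧸ I) (rhoQ (R := R) I a)) := by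
  rw [rhoQ_apply, assoc_rTensor_comul_lTensor, Coalgebra.coassoc_apply, rho_toLinearMap,
    LinearMap.lTensor_comp, LinearMap.comp_apply]

lemma assoc_tmul_one (z : A ⊗[R] A) :
    TensorProduct.assoc R A A (A ⧸ I) (z ⊗ₜ[R] (1 : A ⧸ I)) =
      (Algebra.TensorProduct.includeLeft : A →ₐ[R] A ⊗[R] (A ⧸ I)).toLinearMap.lTensor A z := by
  induction z using TensorProduct.induction_on with
  | zero => simp
  | tmul a b =>
    rw [TensorProduct.assoc_tmul, LinearMap.lTensor_tmul]
    rfl
  | add x y hx hy => simp only [TensorProduct.add_tmul, map_add, hx, hy]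

/-- `ρ - (· ⊗ 1)`, whose kernel is the algebra of invariants -/
noncomputable def gR : A →ₗ[R] A ⊗[R] (A ⧸ I) :=
  (rhoQ (R := R) I).toLinearMap -
    (Algebra.TensorProduct.includeLeft : A →ₐ[R] A ⊗[R] (A ⧸ I)).toLinearMap

lemma exact_gR :
    Function.Exact (coinv (rhoQ (R := R) I)).val.toLinearMap (gR (R := R) I) := by
  intro y
  constructor
  · intro h
    have h' : rhoQ (R := R) I y =
        (Algebra.TensorProduct.includeLeft : A →ₐ[R] A ⊗[R] (A ⧸ I)) y := sub_eq_zero.1 h
    exact ⟨⟨y, h'⟩, rfl⟩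
  · rintro ⟨b, rfl⟩
    exact sub_eq_zero.2 b.2

/-- first half: `Δ b ∈ A ⊗ B` -/
lemma lTensor_gR_comul {b : A} (hb : b ∈ coinv (rhoQ (R := R) I)) :
    (gR (R := R) I).lTensor A (Coalgebra.comul (R := R) b) = 0 := by
  have hb' : rhoQ (R := R) I b = b ⊗ₜ[R] (1 : A ⧸ I) := hb
  rw [gR, LinearMap.lTensor_sub, LinearMap.sub_apply, sub_eq_zero, lTensor_rho_comul, hb',
    LinearMap.rTensor_tmul, assoc_tmul_one]

lemma assoc_rTensor_lTensor_mk_tmul (z : A ⊗[R] A) (q : A) :
    TensorProduct.assoc R A (A ⧸ I) A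
      ((((Ideal.Quotient.mkₐ R I).toLinearMap.lTensor A).rTensor A) (z ⊗ₜ[R] q)) =
      ((Ideal.Quotient.mkₐ R I).toLinearMap.rTensor A).lTensor A
        (TensorProduct.assoc R A A A (z ⊗ₜ[R] q)) := by
  induction z using TensorProduct.induction_on with
  | zero => simp
  | tmul a b =>
    rw [LinearMap.rTensor_tmul, LinearMap.lTensor_tmul, TensorProduct.assoc_tmul,
      TensorProduct.assoc_tmul, LinearMap.lTensor_tmul, LinearMap.rTensor_tmul]
  | add x y hx hy => simp only [TensorProduct.add_tmul, map_add, hx, hy]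

lemma assoc_rTensor_lTensor_mk (t : (A ⊗[R] A) ⊗[R] A) :
    TensorProduct.assoc R A (A ⧸ I) A
      ((((Ideal.Quotient.mkₐ R I).toLinearMap.lTensor A).rTensor A) t) =
      ((Ideal.Quotient.mkₐ R I).toLinearMap.rTensor A).lTensor A
        (TensorProduct.assoc R A A A t) := by
  induction t using TensorProduct.induction_on with
  | zero => simp
  | tmul z q => exact assoc_rTensor_lTensor_mk_tmul I z q
  | add x y hx hy => simp only [map_add, hx, hy]

/-- the left coaction, as a linear map -/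
noncomputable def lamL : A →ₗ[R] (A ⧸ I) ⊗[R] A :=
  ((Ideal.Quotient.mkₐ R I).toLinearMap.rTensor A) ∘ₗ (Coalgebra.comul (R := R) (A := A))

/-- `(ρ ⊗ id) Δ = (id ⊗ λ) Δ` -/
lemma assoc_rTensor_rho_comul (a : A) :
    TensorProduct.assoc R A (A ⧸ I) A
      ((rhoQ (R := R) I).toLinearMap.rTensor A (Coalgebra.comul (R := R) a)) =
      (lamL (R := R) I).lTensor A (Coalgebra.comul (R := R) a) := by
  rw [rho_toLinearMap, LinearMap.rTensor_comp, LinearMap.comp_apply, assoc_rTensor_lTensor_mk,
    Coalgebra.coassoc_apply, lamL, LinearMap.lTensor_comp, LinearMap.comp_apply]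

lemma assoc_rTensor_includeLeft (z : A ⊗[R] A) :
    TensorProduct.assoc R A (A ⧸ I) A
      ((Algebra.TensorProduct.includeLeft : A →ₐ[R] A ⊗[R] (A ⧸ I)).toLinearMap.rTensor A z) =
      (Algebra.TensorProduct.includeRight : A →ₐ[R] (A ⧸ I) ⊗[R] A).toLinearMap.lTensor A z := by
  induction z using TensorProduct.induction_on with
  | zero => simp
  | tmul a b =>
    rw [LinearMap.rTensor_tmul, LinearMap.lTensor_tmul]
    rfl
  | add x y hx hy => simp only [map_add, hx, hy]

variable [Module.Flat R A]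
  (hleft : ∀ b ∈ coinv (rhoQ (R := R) I), lamL (R := R) I b = (1 : A ⧸ I) ⊗ₜ[R] b)

include hleft in
/-- second half: `Δ b ∈ B ⊗ A` -/
lemma rTensor_gR_comul {b : A} (hb : b ∈ coinv (rhoQ (R := R) I)) :
    (gR (R := R) I).rTensor A (Coalgebra.comul (R := R) b) = 0 := by
  rw [gR, LinearMap.rTensor_sub]
  change (rhoQ (R := R) I).toLinearMap.rTensor A (Coalgebra.comul (R := R) b) -
    (Algebra.TensorProduct.includeLeft : A →ₐ[R] A ⊗[R] (A ⧸ I)).toLinearMap.rTensor A
      (Coalgebra.comul (R := R) b) = 0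
  rw [sub_eq_zero]
  apply (TensorProduct.assoc R A (A ⧸ I) A).injective
  rw [assoc_rTensor_rho_comul, assoc_rTensor_includeLeft]
  obtain ⟨w, hw⟩ := (Module.Flat.lTensor_exact A (exact_gR (R := R) I)
    (Coalgebra.comul (R := R) b)).1 (lTensor_gR_comul I hb)
  rw [← hw, ← LinearMap.comp_apply, ← LinearMap.comp_apply, ← LinearMap.lTensor_comp,
    ← LinearMap.lTensor_comp]
  congr 2
  apply LinearMap.ext
  intro c
  exact hleft c c.2

include hleft in
/-- **the invariants are stable under the comultiplication** -/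
theorem comul_mem_range (lam : A →ₗ[R] coinv (rhoQ (R := R) I))
    (hlam : lam ∘ₗ (coinv (rhoQ (R := R) I)).val.toLinearMap = LinearMap.id)
    {b : A} (hb : b ∈ coinv (rhoQ (R := R) I)) :
    Coalgebra.comul (R := R) b ∈ LinearMap.range
      (TensorProduct.map (coinv (rhoQ (R := R) I)).val.toLinearMap
        (coinv (rhoQ (R := R) I)).val.toLinearMap) := by
  obtain ⟨w₁, hw₁⟩ := (Module.Flat.lTensor_exact A (exact_gR (R := R) I)
    (Coalgebra.comul (R := R) b)).1 (lTensor_gR_comul I hb)
  obtain ⟨w₂, hw₂⟩ := (Module.Flat.rTensor_exact A (exact_gR (R := R) I)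
    (Coalgebra.comul (R := R) b)).1 (rTensor_gR_comul I hleft hb)
  have hpf : ((coinv (rhoQ (R := R) I)).val.toLinearMap ∘ₗ lam) ∘ₗ
      (coinv (rhoQ (R := R) I)).val.toLinearMap = (coinv (rhoQ (R := R) I)).val.toLinearMap := by
    rw [LinearMap.comp_assoc, hlam, LinearMap.comp_id]
  have h1 : ((coinv (rhoQ (R := R) I)).val.toLinearMap ∘ₗ lam).lTensor A
      (Coalgebra.comul (R := R) b) = Coalgebra.comul (R := R) b := by
    rw [← hw₁, ← LinearMap.comp_apply, ← LinearMap.lTensor_comp, hpf]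
  have h2 : ((coinv (rhoQ (R := R) I)).val.toLinearMap ∘ₗ lam).rTensor A
      (Coalgebra.comul (R := R) b) = Coalgebra.comul (R := R) b := by
    rw [← hw₂, ← LinearMap.comp_apply, ← LinearMap.rTensor_comp, hpf]
  refine ⟨TensorProduct.map lam lam (Coalgebra.comul (R := R) b), ?_⟩
  rw [← LinearMap.comp_apply, ← TensorProduct.map_comp, ← LinearMap.rTensor_comp_lTensor,
    LinearMap.comp_apply, h1, h2]

end Closure

end Groth.Agent.Lib.Helper19.ConnEt
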