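import Mathlib
import Groth.Agent.Lib.Helper19.KT4
import Groth.Agent.Lib.Helper19.ConnEt3

/-!
# Kreimer–Takeuchi for a surjective map of commutative Hopf algebras (helper19)

`π : A → H` a surjective bialgebra map of commutative Hopf algebras, finite projective over `R`;
`ρ = (id ⊗ π) Δ`.  Then `A` is finite projective over `B = coinv ρ`, and `ker π = A · B⁺`.
-/

set_option autoImplicit false
universe u v w

open TensorProduct Coalgebra

namespace Groth.Agent.Lib.Helper19.KT

section HopfMap

variable {R : Type u} [CommRing R] {A : Type v} [CommRing A] [HopfAlgebra R A]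
  {H : Type w} [CommRing H] [HopfAlgebra R H] (π : A →ₐc[R] H)

/-- The right translation coaction of `H` on `A` along `π`. -/
noncomputable abbrev rhoP : A →ₐ[R] A ⊗[R] H :=
  (Algebra.TensorProduct.map (AlgHom.id R A) (π : A →ₐ[R] H)).comp
    (Bialgebra.comulAlgHom R A)

/-- `π` as a linear map -/
noncomputable abbrev piL : A →ₗ[R] H := (π : A →ₐ[R] H).toLinearMap

lemma piL_apply (a : A) : piL π a = π a := rfl

lemma map_id_pi (z : A ⊗[R] A) :
    Algebra.TensorProduct.map (AlgHom.id R A) (π : A →ₐ[R] H) z = (piL π).lTensor A z := by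
  induction z using TensorProduct.induction_on with
  | zero => simp
  | tmul a b =>
    rw [Algebra.TensorProduct.map_tmul, LinearMap.lTensor_tmul]
    rfl
  | add a b ha hb => simp only [map_add, ha, hb]

lemma rhoP_apply (a : A) :
    rhoP π a = (piL π).lTensor A (comul (R := R) a) :=
  map_id_pi π _

lemma evL_counit_lTensor_pi (z : A ⊗[R] A) :
    evL (A := A) (counit (R := R) (A := H)) ((piL π).lTensor A z) =
      evL (A := A) (counit (R := R) (A := A)) z := by
  induction z using TensorProduct.induction_on with
  | zero => simp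
  | tmul p q =>
    rw [LinearMap.lTensor_tmul, evL_tmul, evL_tmul, piL_apply,
      CoalgHomClass.counit_comp_apply π q]
  | add x y hx hy => simp only [map_add, hx, hy]

lemma rhoP_counit (a : A) :
    evL (A := A) (counit (R := R) (A := H)) (rhoP π a) = a := by
  rw [rhoP_apply, evL_counit_lTensor_pi, evL_counit_comul]

lemma assoc_lTensor_pi_tmul (t : A ⊗[R] A) (q : A) :
    TensorProduct.assoc R A H H (((piL π).lTensor A t) ⊗ₜ[R] (π q)) =
      (TensorProduct.map (piL π) (piL π)).lTensor A
        (TensorProduct.assoc R A A A (t ⊗ₜ[R] q)) := by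
  induction t using TensorProduct.induction_on with
  | zero => simp
  | tmul a b =>
    rw [LinearMap.lTensor_tmul, TensorProduct.assoc_tmul, TensorProduct.assoc_tmul,
      LinearMap.lTensor_tmul, TensorProduct.map_tmul]
    rfl
  | add x y hx hy => simp only [map_add, TensorProduct.add_tmul, hx, hy]

lemma assoc_rTensor_rhoP (w : A ⊗[R] A) :
    TensorProduct.assoc R A H H
      ((rhoP π).toLinearMap.rTensor H ((piL π).lTensor A w)) =
      (TensorProduct.map (piL π) (piL π)).lTensor A
        (TensorProduct.assoc R A A A ((comul (R := R)).rTensor A w)) := by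
  induction w using TensorProduct.induction_on with
  | zero => simp
  | tmul p q =>
    rw [LinearMap.lTensor_tmul, LinearMap.rTensor_tmul, AlgHom.toLinearMap_apply, rhoP_apply,
      LinearMap.rTensor_tmul]
    exact assoc_lTensor_pi_tmul π (comul (R := R) p) q
  | add x y hx hy => simp only [map_add, hx, hy]

lemma map_piL_comul (a : A) :
    TensorProduct.map (piL π) (piL π) (comul (R := R) a) = comul (R := R) (π a) := by
  rw [← CoalgHomClass.map_comp_comul_apply π a]
  generalize comul (R := R) a = z
  induction z using TensorProduct.induction_on with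
  | zero => simp
  | tmul p q => rfl
  | add x y hx hy => simp only [map_add, hx, hy]

lemma rhoP_coassoc (a : A) :
    TensorProduct.assoc R A H H
      ((rhoP π).toLinearMap.rTensor H (rhoP π a)) =
      (comul (R := R) (A := H)).lTensor A (rhoP π a) := by
  rw [rhoP_apply, assoc_rTensor_rhoP, Coalgebra.coassoc_apply, ← LinearMap.lTensor_comp_apply,
    ← LinearMap.lTensor_comp_apply]
  congr 2
  apply LinearMap.ext
  intro b
  exact map_piL_comul π b

lemma rhoP_can (hπ : Function.Surjective π) (T : H) :
    ∃ (κ : Type v) (_ : Fintype κ) (x y : κ → A),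
      ∑ l, (x l ⊗ₜ[R] (1 : H)) * rhoP π (y l) = (1 : A) ⊗ₜ[R] T := by
  obtain ⟨T', rfl⟩ := hπ T
  obtain ⟨S, hS⟩ := TensorProduct.exists_finset (uInv (R := R) (H := A) T')
  refine ⟨↥S, inferInstance, fun p => p.1.1, fun p => p.1.2, ?_⟩
  have hc : ∀ a b : A, (a ⊗ₜ[R] (1 : H)) * rhoP π b =
      Algebra.TensorProduct.map (AlgHom.id R A) (π : A →ₐ[R] H)
        (shear (R := R) (H := A) (a ⊗ₜ[R] b)) := by
    intro a b
    rw [shear_tmul, map_mul, Algebra.TensorProduct.map_tmul, map_one]
    rfl
  rw [Finset.sum_congr rfl (fun p _ => hc p.1.1 p.1.2), ← map_sum, ← map_sum,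
    Finset.sum_coe_sort S (fun p => p.1 ⊗ₜ[R] p.2), ← hS, shear_uInv,
    Algebra.TensorProduct.map_tmul]
  rfl

variable [Module.Finite R A] [Module.Projective R A] [Module.Finite R H] [Module.Projective R H]

theorem hopfMap_main (hπ : Function.Surjective π) :
    Module.Finite (coinv (rhoP π)) A ∧ Module.Projective (coinv (rhoP π)) A :=
  ⟨(main (rhoP π) (rhoP_coassoc π) (rhoP_counit π) (rhoP_can π hπ)).1,
    (main (rhoP π) (rhoP_coassoc π) (rhoP_counit π) (rhoP_can π hπ)).2.1⟩

lemma counit_evL (t : H →ₗ[R] R) (w : A ⊗[R] H) :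
    counit (R := R) (evL (A := A) t w) =
      t (TensorProduct.lid R H ((counit (R := R) (A := A)).rTensor H w)) := by
  induction w using TensorProduct.induction_on with
  | zero => simp
  | tmul a h =>
    rw [evL_tmul, map_smul, LinearMap.rTensor_tmul, TensorProduct.lid_tmul, map_smul,
      smul_eq_mul, smul_eq_mul, mul_comm]
  | add x y hx hy => simp only [map_add, hx, hy]

lemma lid_rTensor_counit_rhoP (a : A) :
    TensorProduct.lid R H ((counit (R := R) (A := A)).rTensor H (rhoP π a)) = π a := by
  have key : ∀ z : A ⊗[R] A,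
      TensorProduct.lid R H ((counit (R := R) (A := A)).rTensor H ((piL π).lTensor A z)) =
        π (TensorProduct.lid R A ((counit (R := R) (A := A)).rTensor A z)) := by
    intro z
    induction z using TensorProduct.induction_on with
    | zero => simp
    | tmul p q =>
      rw [LinearMap.lTensor_tmul, LinearMap.rTensor_tmul, TensorProduct.lid_tmul,
        LinearMap.rTensor_tmul, TensorProduct.lid_tmul, map_smul]
      rfl
    | add x y hx hy => simp only [map_add, hx, hy]
  rw [rhoP_apply, key, Coalgebra.rTensor_counit_comul, TensorProduct.lid_tmul, one_smul]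

/-- **the kernel of `π` is generated by the augmentation ideal of the invariants** -/
theorem ker_le_span (hπ : Function.Surjective π) {v : A} (hv : π v = 0) :
    v ∈ Ideal.span {b : A | b ∈ coinv (rhoP π) ∧ counit (R := R) b = 0} := by
  obtain ⟨K, hK, t, x, y, ht, hkey⟩ := exists_family (rhoP π) (rhoP_can π hπ)
  let _ : Fintype K := hK
  rw [← key_sum (rhoP π) (rhoP_counit π) t x y hkey v]
  refine Ideal.sum_mem _ fun k _ => Ideal.mul_mem_left _ _ (Ideal.subset_span ⟨?_, ?_⟩)
  · exact tr_mem (rhoP π) (rhoP_coassoc π) (t k) (ht k) (y k * v)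
  · rw [tr_apply, counit_evL, lid_rTensor_counit_rhoP, map_mul, hv, mul_zero, map_zero]

end HopfMap

end Groth.Agent.Lib.Helper19.KT
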