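import Mathlib
import Groth.Agent.Lib.Helper19.KT5
import Groth.Prelude.Def_CartDual2

/-!
# Cartier duality is exact on short exact sequences of finite locally free commutative groups
(helper19)
-/

set_option autoImplicit false
universe u v w

open TensorProduct

namespace Groth.Agent.Lib.Helper19.CartExact

open Groth.Agent.Lib.Helper19.KT Groth.Agent.Lib.Helper19.ConnEt

section Retraction

/-- A faithfully flat finite projective ring extension has a linear retraction. -/
theorem exists_retraction_of_faithfullyFlat {S P : Type*} [CommRing S] [CommRing P] [Algebra S P]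
    [Module.Finite S P] [Module.Projective S P] [Module.FaithfullyFlat S P] :
    ∃ φ : P →ₗ[S] S, φ 1 = 1 := by
  let ev1 : (P →ₗ[S] S) →ₗ[S] S := LinearMap.applyₗ (1 : P)
  have htop : (LinearMap.range ev1 : Ideal S) = ⊤ := by
    by_contra hne
    obtain ⟨m, hm, hle⟩ := Ideal.exists_le_maximal _ hne
    obtain ⟨n, f, g, -, -, hfg⟩ := Module.Finite.exists_comp_eq_id_of_projective S P
    have h1 : (1 : P) ∈ m • (⊤ : Submodule S P) := by
      have h0 : f (g 1) = 1 := LinearMap.congr_fun hfg 1
      rw [← h0, LinearMap.pi_apply_eq_sum_univ f (g 1)]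
      refine Submodule.sum_mem _ fun j _ => Submodule.smul_mem_smul ?_ Submodule.mem_top
      exact hle ⟨(LinearMap.proj j) ∘ₗ g, rfl⟩
    have h2 : m • (⊤ : Submodule S P) = ⊤ := by
      rw [eq_top_iff]
      intro p _
      have key : ∀ q ∈ m • (⊤ : Submodule S P), p * q ∈ m • (⊤ : Submodule S P) := by
        intro q hq
        refine Submodule.smul_induction_on hq ?_ ?_
        · intro s hs q' _
          rw [mul_smul_comm]
          exact Submodule.smul_mem_smul hs Submodule.mem_top
        · intro q₁ q₂ h₁ h₂
          rw [mul_add]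
          exact Submodule.add_mem _ h₁ h₂
      have h3 := key 1 h1
      rwa [mul_one] at h3
    exact Module.FaithfullyFlat.submodule_ne_top (R := S) (M := P) hm h2
  have h1 : (1 : S) ∈ LinearMap.range ev1 := by
    rw [htop]
    exact Submodule.mem_top
  obtain ⟨φ, hφ⟩ := h1
  exact ⟨φ, hφ⟩

/-- transfer of faithful flatness from a subalgebra to an algebra mapping isomorphically onto
it -/
theorem faithfullyFlat_of_range_eq {R D' D : Type*} [CommRing R] [CommRing D'] [CommRing D]
    [Algebra R D'] [Algebra R D] (φ : D' →ₐ[R] D) (hinj : Function.Injective φ)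
    (B : Subalgebra R D) (hB₁ : ∀ x, φ x ∈ B) (hB₂ : ∀ b ∈ B, ∃ x, φ x = b)
    [Module.Finite B D] [Module.Flat B D] : φ.toRingHom.FaithfullyFlat := by
  letI algD : Algebra D' D := φ.toRingHom.toAlgebra
  let j : D' →ₐ[R] B := φ.codRestrict B hB₁
  letI algB : Algebra D' B := j.toRingHom.toAlgebra
  haveI : IsScalarTower D' B D := IsScalarTower.of_algebraMap_eq (fun x => rfl)
  have hjbij : Function.Bijective (Algebra.linearMap D' B) := by
    constructor
    · intro x y h
      apply hinj
      exact congrArg Subtype.val h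
    · intro b
      obtain ⟨x, hx⟩ := hB₂ b b.2
      exact ⟨x, Subtype.ext hx⟩
  haveI : Module.Finite D' B := Module.Finite.of_surjective (Algebra.linearMap D' B) hjbij.2
  haveI : Module.Finite D' D := Module.Finite.trans B D
  haveI : Module.Flat D' B :=
    Module.Flat.of_linearEquiv (LinearEquiv.ofBijective (Algebra.linearMap D' B) hjbij).symm
  haveI : Module.Flat D' D := Module.Flat.trans D' B D
  exact faithfullyFlat_of_finite (B := D') (A := D) hinj

end Retraction

section Dual

variable (R : Type u) [CommRing R]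
  {A' A A'' : Type u} [CommRing A'] [HopfAlgebra R A'] [Coalgebra.IsCocomm R A']
  [Module.Finite R A'] [Module.Projective R A']
  [CommRing A] [HopfAlgebra R A] [Coalgebra.IsCocomm R A] [Module.Finite R A]
  [Module.Projective R A]
  [CommRing A''] [HopfAlgebra R A''] [Coalgebra.IsCocomm R A''] [Module.Finite R A'']
  [Module.Projective R A'']
  (f : A'' →ₐc[R] A) (g : A →ₐc[R] A')

theorem transpose_surjective [IsNoetherianRing R]
    (hf : (f : A'' →ₐ[R] A).toRingHom.FaithfullyFlat) :
    Function.Surjective (CartDual.transpose R f) := by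
  letI : Algebra A'' A := (f : A'' →ₐ[R] A).toRingHom.toAlgebra
  haveI : IsScalarTower R A'' A :=
    IsScalarTower.of_algebraMap_eq (fun r => ((f : A'' →ₐ[R] A).commutes r).symm)
  haveI : Module.FaithfullyFlat A'' A := hf
  haveI : Module.Finite A'' A := Module.Finite.of_restrictScalars_finite R A'' A
  haveI : IsNoetherianRing A'' := Algebra.FiniteType.isNoetherianRing R A''
  haveI : Module.FinitePresentation A'' A := Module.finitePresentation_of_finite A'' A
  haveI : Module.Projective A'' A := Module.Flat.projective_of_finitePresentation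
  obtain ⟨φ, hφ⟩ := exists_retraction_of_faithfullyFlat (S := A'') (P := A)
  intro x''
  refine ⟨WithConv.toConv (x''.ofConv ∘ₗ (φ.restrictScalars R)), ?_⟩
  apply WithConv.ofConv_injective
  apply LinearMap.ext
  intro c
  show x''.ofConv (φ (f c)) = x''.ofConv c
  have h1 : f c = c • (1 : A) := by
    rw [Algebra.smul_def, mul_one]
    rfl
  rw [h1, map_smul, hφ, smul_eq_mul, mul_one]

/-- evaluation of `x ⊗ z` at `a ⊗ c` -/
noncomputable def evPair {A₁ A₂ : Type u} [AddCommGroup A₁] [Module R A₁] [AddCommGroup A₂]
    [Module R A₂] (a : A₁) (c : A₂) :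
    CartDual.D R A₁ ⊗[R] CartDual.D R A₂ →ₗ[R] R :=
  LinearMap.mul' R R ∘ₗ TensorProduct.map
    (LinearMap.applyₗ a ∘ₗ (CartDual.toDual R A₁).toLinearMap)
    (LinearMap.applyₗ c ∘ₗ (CartDual.toDual R A₂).toLinearMap)

lemma evPair_tmul {A₁ A₂ : Type u} [AddCommGroup A₁] [Module R A₁] [AddCommGroup A₂]
    [Module R A₂] (a : A₁) (c : A₂) (x : CartDual.D R A₁) (z : CartDual.D R A₂) :
    evPair R a c (x ⊗ₜ[R] z) = x a * z c := rfl

lemma evPair_lTensor_transpose (a : A) (c : A'')
    (y : CartDual.D R A ⊗[R] CartDual.D R A) :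
    evPair R a c ((piL (CartDual.transpose R f)).lTensor (CartDual.D R A) y) =
      evPair R a (f c) y := by
  induction y using TensorProduct.induction_on with
  | zero => simp
  | tmul x z =>
    rw [LinearMap.lTensor_tmul, evPair_tmul, evPair_tmul]
    rfl
  | add x y hx hy => simp only [map_add, hx, hy]

lemma evPair_eq_ev₂ (a b : A) (y : CartDual.D R A ⊗[R] CartDual.D R A) :
    evPair R a b y = CartDual.ev₂ R A y (a ⊗ₜ[R] b) := by
  induction y using TensorProduct.induction_on with
  | zero => simp
  | tmul x z => rw [evPair_tmul, CartDual.ev₂_tmul]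
  | add x y hx hy => simp only [map_add, LinearMap.add_apply, hx, hy]

/-- a coinvariant linear form `b` satisfies `b (a * f c) = b a * ε c` -/
lemma apply_mul_of_mem_coinv {b : CartDual.D R A}
    (hb : b ∈ coinv (rhoP (CartDual.transpose R f))) (a : A) (c : A'') :
    b (a * f c) = b a * Coalgebra.counit (R := R) c := by
  have hb' : rhoP (CartDual.transpose R f) b = b ⊗ₜ[R] (1 : CartDual.D R A'') := hb
  have h1 := congrArg (evPair R a c) hb'
  rw [rhoP_apply, evPair_lTensor_transpose, evPair_eq_ev₂, CartDual.ev₂_coalgebra_comul_tmul,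
    evPair_tmul] at h1
  rw [h1]
  congr 1

variable {f g}

/-- the image of the transpose of `g` consists of coinvariants -/
theorem transpose_mem_coinv (hgf : ∀ c, g (f c) = algebraMap R A' (Coalgebra.counit (R := R) c))
    (ψ : CartDual.D R A') :
    CartDual.transpose R g ψ ∈ coinv (rhoP (CartDual.transpose R f)) := by
  show rhoP (CartDual.transpose R f) (CartDual.transpose R g ψ) =
    (CartDual.transpose R g ψ) ⊗ₜ[R] (1 : CartDual.D R A'')
  have hcomp : piL (CartDual.transpose R f) ∘ₗ piL (CartDual.transpose R g) =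
      Algebra.linearMap R (CartDual.D R A'') ∘ₗ
        (Coalgebra.counit (R := R) (A := CartDual.D R A')) := by
    apply LinearMap.ext
    intro χ
    apply WithConv.ofConv_injective
    apply LinearMap.ext
    intro c
    show χ (g (f c)) = (algebraMap R (CartDual.D R A'') (χ 1)) c
    rw [hgf, Algebra.algebraMap_eq_smul_one, Algebra.algebraMap_eq_smul_one, map_smul]
    show _ = χ 1 • ((1 : CartDual.D R A'') c)
    rw [LinearMap.convOne_apply, smul_eq_mul, smul_eq_mul]
    simp [mul_comm]
  rw [rhoP_apply, ← map_piL_comul (CartDual.transpose R g) ψ, LinearMap.lTensor_map, hcomp,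
    ← LinearMap.map_lTensor, Coalgebra.lTensor_counit_comul, TensorProduct.map_tmul]
  congr 1
  exact map_one (algebraMap R (CartDual.D R A''))

/-- every coinvariant is in the image of the transpose of `g` -/
theorem exists_of_mem_coinv (hg : Function.Surjective g)
    (hker : RingHom.ker (g : A →ₐ[R] A') =
      Ideal.map (f : A'' →ₐ[R] A) (RingHom.ker (Bialgebra.counitAlgHom R A'')))
    {b : CartDual.D R A} (hb : b ∈ coinv (rhoP (CartDual.transpose R f))) :
    ∃ ψ : CartDual.D R A', CartDual.transpose R g ψ = b := by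
  have hbf := apply_mul_of_mem_coinv R f hb
  have hP : ∀ x ∈ Ideal.map (f : A'' →ₐ[R] A) (RingHom.ker (Bialgebra.counitAlgHom R A'')),
      ∀ a' : A, b (a' * x) = 0 := by
    intro x hx
    induction hx using Submodule.span_induction with
    | mem x h =>
      obtain ⟨c, hc, rfl⟩ := h
      intro a'
      have hc0 : Coalgebra.counit (R := R) c = 0 := hc
      have := hbf a' c
      rw [hc0, mul_zero] at this
      exact this
    | zero => intro a'; rw [mul_zero, map_zero]
    | add x y _ _ hx hy => intro a'; rw [mul_add, map_add, hx, hy, add_zero]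
    | smul a'' x _ hx =>
      intro a'
      rw [smul_eq_mul, ← mul_assoc]
      exact hx _
  obtain ⟨s, hs⟩ := Module.projective_lifting_property
    ((g : A →ₐ[R] A').toLinearMap) (LinearMap.id : A' →ₗ[R] A') hg
  refine ⟨WithConv.toConv (b.ofConv ∘ₗ s), ?_⟩
  apply WithConv.ofConv_injective
  apply LinearMap.ext
  intro a
  show b (s (g a)) = b a
  have h1 : s (g a) - a ∈ RingHom.ker (g : A →ₐ[R] A') := by
    rw [RingHom.mem_ker, map_sub, sub_eq_zero]
    exact LinearMap.congr_fun hs (g a)
  rw [hker] at h1
  have h2 := hP _ h1 1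
  rw [one_mul, map_sub, sub_eq_zero] at h2
  exact h2

end Dual

end Groth.Agent.Lib.Helper19.CartExact
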