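import Mathlib
import Groth.Prelude.Def_W4stktopologysheavesDim

/-!
# Catenary posets: transfer along convex order embeddings; subspaces

`cd a b` is the abstract codimension in a poset, `CatAt a b` the catenary condition at `a ≤ b`.
`catAt_iff` transfers along a map `φ` reflecting and preserving `≤` whose image contains the
interval `[φ a, φ b]`.  For a locally closed subspace `S ⊆ X` the map
`incl S : IrreducibleCloseds S → IrreducibleCloseds X` (closure of the image) is such a map.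
-/

set_option autoImplicit false

namespace Groth.Agent.Lib.Helper19.Caten

open Order

section Abstract

variable {P Q : Type*} [PartialOrder P] [PartialOrder Q]

/-- abstract codimension of `a` in `b`. -/
noncomputable def cd (a b : P) : ℕ∞ :=
  ⨆ (s : LTSeries P) (_ : s.head = a ∧ s.last ≤ b), (s.length : ℕ∞)

/-- the catenary condition at a pair. -/
def CatAt (a b : P) : Prop :=
  cd a b ≠ ⊤ ∧ ∀ s : LTSeries P, s.head = a → s.last = b →
    (∀ i : Fin s.length, s (Fin.castSucc i) ⋖ s (Fin.succ i)) → (s.length : ℕ∞) = cd a b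

variable (φ : P → Q) (hφ : ∀ x y, φ x ≤ φ y ↔ x ≤ y)

include hφ

theorem inj : Function.Injective φ := fun x y h =>
  le_antisymm ((hφ x y).1 h.le) ((hφ y x).1 h.ge)

theorem lt_iff (x y : P) : φ x < φ y ↔ x < y := by
  rw [lt_iff_le_not_ge, lt_iff_le_not_ge, hφ, hφ]

theorem smono : StrictMono φ := fun x y h => (lt_iff φ hφ x y).2 h

theorem covBy_of_map {x y : P} (h : φ x ⋖ φ y) : x ⋖ y :=
  ⟨(lt_iff φ hφ x y).1 h.lt, fun c hxc hcy =>
    h.2 ((lt_iff φ hφ x c).2 hxc) ((lt_iff φ hφ c y).2 hcy)⟩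

theorem map_covBy {a b x y : P} (hconv : ∀ q, φ a ≤ q → q ≤ φ b → ∃ c, φ c = q)
    (hax : a ≤ x) (hyb : y ≤ b) (h : x ⋖ y) : φ x ⋖ φ y := by
  refine ⟨(lt_iff φ hφ x y).2 h.lt, fun q hxq hqy => ?_⟩
  obtain ⟨c, rfl⟩ := hconv q (((hφ a x).2 hax).trans hxq.le) (hqy.le.trans ((hφ y b).2 hyb))
  exact h.2 ((lt_iff φ hφ x c).1 hxq) ((lt_iff φ hφ c y).1 hqy)

theorem exists_pull (t : LTSeries Q) (ht : ∀ i, ∃ c, φ c = t i) :
    ∃ s : LTSeries P, s.length = t.length ∧ φ s.head = t.head ∧ φ s.last = t.last ∧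
      ((∀ i : Fin t.length, t (Fin.castSucc i) ⋖ t (Fin.succ i)) →
        ∀ i : Fin s.length, s (Fin.castSucc i) ⋖ s (Fin.succ i)) := by
  have hsm : StrictMono (fun i => (ht i).choose) := by
    intro i j hij
    apply (lt_iff φ hφ _ _).1
    rw [(ht i).choose_spec, (ht j).choose_spec]
    exact t.strictMono hij
  refine ⟨LTSeries.mk t.length (fun i => (ht i).choose) hsm, rfl, (ht _).choose_spec,
    (ht _).choose_spec, ?_⟩
  intro hsat i
  apply covBy_of_map φ hφ
  show φ (ht (Fin.castSucc i)).choose ⋖ φ (ht (Fin.succ i)).choose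
  rw [(ht _).choose_spec, (ht _).choose_spec]
  exact hsat i

theorem cd_map {a b : P} (hconv : ∀ q, φ a ≤ q → q ≤ φ b → ∃ c, φ c = q) :
    cd (φ a) (φ b) = cd a b := by
  apply le_antisymm
  · refine iSup₂_le fun t ht => ?_
    have hr : ∀ i, ∃ c, φ c = t i := fun i =>
      hconv (t i) (ht.1.symm.le.trans (t.head_le i))
        ((t.monotone (Fin.le_last i)).trans ht.2)
    obtain ⟨s, hl, hh, hla, -⟩ := exists_pull φ hφ t hr
    have h1 : s.head = a := inj φ hφ (hh.trans ht.1)
    have h2 : s.last ≤ b := (hφ _ _).1 (hla.le.trans ht.2)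
    rw [← hl]
    exact le_iSup₂_of_le s ⟨h1, h2⟩ le_rfl
  · refine iSup₂_le fun s hs => ?_
    refine le_iSup₂_of_le (s.map φ (smono φ hφ)) ⟨?_, ?_⟩ le_rfl
    · rw [LTSeries.head_map, hs.1]
    · rw [LTSeries.last_map]; exact (hφ _ _).2 hs.2

theorem catAt_iff {a b : P} (hconv : ∀ q, φ a ≤ q → q ≤ φ b → ∃ c, φ c = q) :
    CatAt (φ a) (φ b) ↔ CatAt a b := by
  unfold CatAt
  rw [cd_map φ hφ hconv]
  refine and_congr_right fun _ => ⟨fun H s h1 h2 hsat => ?_, fun H t h1 h2 hsat => ?_⟩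
  · refine H (s.map φ (smono φ hφ)) (by rw [LTSeries.head_map, h1])
      (by rw [LTSeries.last_map, h2]) ?_
    intro i
    show φ (s (Fin.castSucc i)) ⋖ φ (s (Fin.succ i))
    exact map_covBy φ hφ hconv (h1.symm.le.trans (s.head_le _))
      ((s.monotone (Fin.le_last _)).trans h2.le) (hsat i)
  · have hr : ∀ i, ∃ c, φ c = t i := fun i =>
      hconv (t i) (h1.symm.le.trans (t.head_le i))
        ((t.monotone (Fin.le_last i)).trans h2.le)
    obtain ⟨s, hl, hh, hla, hs⟩ := exists_pull φ hφ t hr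
    rw [← hl]
    exact H s (inj φ hφ (hh.trans h1)) (inj φ hφ (hla.trans h2)) (hs hsat)

end Abstract

section Top

open TopologicalSpace

variable {X : Type*} [TopologicalSpace X]

/-- the map on irreducible closed subsets induced by a subspace inclusion. -/
noncomputable def incl (S : Set X) : IrreducibleCloseds S → IrreducibleCloseds X :=
  IrreducibleCloseds.map Subtype.val continuous_subtype_val

theorem coe_incl (S : Set X) (a : IrreducibleCloseds S) :
    (incl S a : Set X) = closure (Subtype.val '' (a : Set S)) := rfl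

theorem incl_le_iff (S : Set X) (a b : IrreducibleCloseds S) : incl S a ≤ incl S b ↔ a ≤ b := by
  constructor
  · intro h
    have h' : closure (Subtype.val '' (a : Set S)) ⊆ closure (Subtype.val '' (b : Set S)) := h
    have hind : Topology.IsInducing (Subtype.val : S → X) := Topology.IsInducing.subtypeVal
    have ha := hind.closure_eq_preimage_closure_image (a : Set S)
    have hb := hind.closure_eq_preimage_closure_image (b : Set S)
    rw [a.isClosed.closure_eq] at ha
    rw [b.isClosed.closure_eq] at hb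
    rw [← SetLike.coe_subset_coe]
    calc (a : Set S) = _ := ha
      _ ⊆ _ := Set.preimage_mono h'
      _ = (b : Set S) := hb.symm
  · exact fun h => IrreducibleCloseds.map_mono continuous_subtype_val h

theorem exists_incl_eq {U C : Set X} (hU : IsOpen U) (hC : IsClosed C)
    (Z : IrreducibleCloseds X) (hZC : (Z : Set X) ⊆ C) (hZU : ((Z : Set X) ∩ U).Nonempty) :
    ∃ c : IrreducibleCloseds (U ∩ C : Set X), incl (U ∩ C) c = Z := by
  have hZS : (Z : Set X) ∩ (U ∩ C) = (Z : Set X) ∩ U := by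
    ext z; constructor
    · rintro ⟨h1, h2, -⟩; exact ⟨h1, h2⟩
    · rintro ⟨h1, h2⟩; exact ⟨h1, h2, hZC h1⟩
  have hcl : closure ((Z : Set X) ∩ U) = Z := by
    apply subset_antisymm
    · exact closure_minimal Set.inter_subset_left Z.isClosed
    · intro z hz
      rw [mem_closure_iff]
      intro V hV hzV
      obtain ⟨w, hwZ, hwV, hwU⟩ := Z.isIrreducible.isPreirreducible V U hV hU ⟨z, hz, hzV⟩ hZU
      exact ⟨w, hwV, hwZ, hwU⟩
  have hirr : IsIrreducible (Subtype.val ⁻¹' (Z : Set X) : Set (U ∩ C : Set X)) := by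
    constructor
    · obtain ⟨z, hz1, hz2⟩ := hZU
      exact ⟨⟨z, hz2, hZC hz1⟩, hz1⟩
    · intro u v hu hv hx hy
      obtain ⟨x, hx1, hx2⟩ := hx
      obtain ⟨y, hy1, hy2⟩ := hy
      obtain ⟨u', hu', rfl⟩ := isOpen_induced_iff.1 hu
      obtain ⟨v', hv', rfl⟩ := isOpen_induced_iff.1 hv
      obtain ⟨w, hw1, ⟨hw2, hw3⟩, -, hw5⟩ :=
        Z.isIrreducible.isPreirreducible (U ∩ u') (U ∩ v') (hU.inter hu') (hU.inter hv')
          ⟨x, hx1, x.2.1, hx2⟩ ⟨y, hy1, y.2.1, hy2⟩
      exact ⟨⟨w, hw2, hZC hw1⟩, hw1, hw3, hw5⟩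
  refine ⟨⟨Subtype.val ⁻¹' (Z : Set X), hirr, Z.isClosed.preimage continuous_subtype_val⟩, ?_⟩
  apply IrreducibleCloseds.ext
  show closure (Subtype.val '' (Subtype.val ⁻¹' (Z : Set X) : Set (U ∩ C : Set X))) = Z
  rw [Subtype.image_preimage_val, Set.inter_comm, hZS, hcl]

theorem catAt_incl_iff {S : Set X} (hS : IsLocallyClosed S) (a b : IrreducibleCloseds S) :
    CatAt (incl S a) (incl S b) ↔ CatAt a b := by
  obtain ⟨U, C, hU, hC, rfl⟩ := hS
  refine catAt_iff (incl (U ∩ C)) (incl_le_iff (U ∩ C)) (fun Z h1 h2 => ?_)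
  refine exists_incl_eq hU hC Z ?_ ?_
  · intro z hz
    have hz' : z ∈ closure (Subtype.val '' (b : Set (U ∩ C : Set X))) := h2 hz
    refine closure_minimal ?_ hC hz'
    rintro _ ⟨y, -, rfl⟩
    exact y.2.2
  · obtain ⟨x, hx⟩ := a.isIrreducible.nonempty
    exact ⟨x, h1 (subset_closure ⟨x, hx, rfl⟩), x.2.1⟩

theorem codim_eq_cd (T T' : IrreducibleCloseds X) : PtTop.codim T (T' : Set X) = cd T T' := by
  unfold PtTop.codim cd
  simp only [SetLike.coe_subset_coe]

theorem isCatenarySpace_iff (X : Type*) [TopologicalSpace X] :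
    PtTop.IsCatenarySpace X ↔ ∀ T T' : IrreducibleCloseds X, T ≤ T' → CatAt T T' := by
  unfold PtTop.IsCatenarySpace CatAt
  simp only [codim_eq_cd]

/-- a catenary space has catenary locally closed subspaces. -/
theorem isCatenarySpace_of_isLocallyClosed (hX : PtTop.IsCatenarySpace X) {S : Set X}
    (hS : IsLocallyClosed S) : PtTop.IsCatenarySpace S := by
  rw [isCatenarySpace_iff] at hX ⊢
  intro a b hab
  rw [← catAt_incl_iff hS]
  exact hX _ _ ((incl_le_iff S a b).2 hab)

/-- a space covered by catenary opens is catenary. -/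
theorem isCatenarySpace_of_open_cover
    (H : ∀ x : X, ∃ U : Set X, IsOpen U ∧ x ∈ U ∧ PtTop.IsCatenarySpace U) :
    PtTop.IsCatenarySpace X := by
  rw [isCatenarySpace_iff]
  intro T T' hTT'
  obtain ⟨x, hx⟩ := T.isIrreducible.nonempty
  obtain ⟨U, hUo, hxU, hU⟩ := H x
  rw [isCatenarySpace_iff] at hU
  have hUU : U = U ∩ Set.univ := (Set.inter_univ U).symm
  have hlc : IsLocallyClosed U := hUo.isLocallyClosed
  revert hU hlc
  rw [hUU]
  intro hU hlc
  obtain ⟨a, ha⟩ := exists_incl_eq hUo isClosed_univ T (Set.subset_univ _) ⟨x, hx, hxU⟩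
  obtain ⟨b, hb⟩ := exists_incl_eq hUo isClosed_univ T' (Set.subset_univ _) ⟨x, hTT' hx, hxU⟩
  have hab : a ≤ b := (incl_le_iff _ a b).1 (by rw [ha, hb]; exact hTT')
  have := (catAt_incl_iff hlc a b).2 (hU a b hab)
  rwa [ha, hb] at this

end Top

end Groth.Agent.Lib.Helper19.Caten
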