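import Mathlib
import Groth.Prelude.Def_Found
import Groth.Agent.Lib.Helper19.Caten

/-!
# Catenary rings versus catenary spaces

`IsCat' P`: ring-style catenary condition on a poset (bounded chains between comparable elements,
saturated chains with the same end points have the same length).  It is equivalent to
`∀ a ≤ b, CatAt a b`, and invariant under order duality.  `isCatenary_iff_of_isInducing` compares
`CAlg.IsCatenary R` with the catenary condition on irreducible closed subsets of a quasi-sober space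
`X` meeting the image of an inducing map `Spec R → X` whose range is stable under generization.
-/

set_option autoImplicit false

namespace Groth.Agent.Lib.Helper19.Caten

open Order

section Abstract

variable {P Q : Type*} [PartialOrder P] [PartialOrder Q]

/-- ring-style catenary poset. -/
def IsCat' (P : Type*) [PartialOrder P] : Prop :=
  (∀ p q : P, p ≤ q → ∃ n : ℕ, ∀ s : LTSeries P, s.head = p → s.last = q → s.length ≤ n) ∧
  ∀ s t : LTSeries P, s.head = t.head → s.last = t.last →
    (∀ i : Fin s.length, s (Fin.castSucc i) ⋖ s (Fin.succ i)) →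
    (∀ i : Fin t.length, t (Fin.castSucc i) ⋖ t (Fin.succ i)) →
    s.length = t.length

/-- reverse a series along a strictly antitone map. -/
def revMap (s : LTSeries P) (e : P → Q) (he : StrictAnti e) : LTSeries Q :=
  LTSeries.mk s.length (fun i => e (s i.rev))
    (fun _ _ h => he (s.strictMono (Fin.rev_lt_rev.2 h)))

theorem revMap_head (s : LTSeries P) (e : P → Q) (he : StrictAnti e) :
    (revMap s e he).head = e s.last := by
  show e (s (Fin.rev 0)) = e (s (Fin.last _))
  rw [Fin.rev_zero]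

theorem revMap_last (s : LTSeries P) (e : P → Q) (he : StrictAnti e) :
    (revMap s e he).last = e s.head := by
  show e (s (Fin.rev (Fin.last _))) = e (s 0)
  rw [Fin.rev_last]

theorem revMap_sat (s : LTSeries P) (e : P → Q) (he : StrictAnti e)
    (hcov : ∀ x y, x ⋖ y → e y ⋖ e x)
    (hs : ∀ i : Fin s.length, s (Fin.castSucc i) ⋖ s (Fin.succ i)) :
    ∀ i : Fin (revMap s e he).length,
      (revMap s e he) (Fin.castSucc i) ⋖ (revMap s e he) (Fin.succ i) := by
  intro i
  show e (s (Fin.rev (Fin.castSucc i))) ⋖ e (s (Fin.rev (Fin.succ i)))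
  rw [Fin.rev_castSucc, Fin.rev_succ]
  exact hcov _ _ (hs (Fin.rev i))

theorem isCat'_of_anti (e : Q → P) (he : StrictAnti e) (hcov : ∀ x y, x ⋖ y → e y ⋖ e x)
    (H : IsCat' P) : IsCat' Q := by
  refine ⟨fun p q hpq => ?_, fun s t h1 h2 hs ht => ?_⟩
  · obtain ⟨n, hn⟩ := H.1 (e q) (e p) (he.antitone hpq)
    refine ⟨n, fun s h1 h2 => ?_⟩
    exact hn (revMap s e he) (by rw [revMap_head, h2]) (by rw [revMap_last, h1])
  · exact H.2 (revMap s e he) (revMap t e he) (by rw [revMap_head, revMap_head, h2])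
      (by rw [revMap_last, revMap_last, h1]) (revMap_sat s e he hcov hs)
      (revMap_sat t e he hcov ht)

theorem isCat'_dual_iff : IsCat' Pᵒᵈ ↔ IsCat' P :=
  ⟨isCat'_of_anti (OrderDual.toDual : P → Pᵒᵈ) (fun _ _ h => OrderDual.toDual_lt_toDual.2 h)
      (fun _ _ h => h.toDual),
    isCat'_of_anti (OrderDual.ofDual : Pᵒᵈ → P) (fun _ _ h => OrderDual.ofDual_lt_ofDual.2 h)
      (fun _ _ h => h.ofDual)⟩

theorem insert_of_not_sat (t : LTSeries P)
    (h : ¬ ∀ i : Fin t.length, t (Fin.castSucc i) ⋖ t (Fin.succ i)) :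
    ∃ t' : LTSeries P, t'.head = t.head ∧ t'.last = t.last ∧ t'.length = t.length + 1 := by
  push Not at h
  obtain ⟨i, hi⟩ := h
  have hlt : t (Fin.castSucc i) < t (Fin.succ i) := t.strictMono Fin.castSucc_lt_succ
  obtain ⟨c, hc1, hc2⟩ := (not_covBy_iff hlt).1 hi
  refine ⟨t.insertNth i c hc1 hc2, ?_, ?_, rfl⟩
  · have h0 : (Fin.castSucc i.succ).succAbove (0 : Fin (t.length + 1)) = 0 :=
      Fin.succAbove_ne_zero_zero (by simp [Fin.ext_iff])
    have := Fin.insertNth_apply_succAbove (α := fun _ => P) (Fin.castSucc i.succ) c t.toFun 0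
    rw [h0] at this
    exact this
  · have hl : (Fin.castSucc i.succ).succAbove (Fin.last t.length) = Fin.last (t.length + 1) :=
      Fin.succAbove_ne_last_last (Fin.castSucc_lt_last _).ne
    have := Fin.insertNth_apply_succAbove (α := fun _ => P) (Fin.castSucc i.succ) c t.toFun
      (Fin.last _)
    rw [hl] at this
    exact this

theorem exists_sat (n : ℕ) (a b : P)
    (hn : ∀ s : LTSeries P, s.head = a → s.last = b → s.length ≤ n) :
    ∀ (d : ℕ) (t : LTSeries P), t.head = a → t.last = b → n - t.length ≤ d →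
      ∃ m : LTSeries P, m.head = a ∧ m.last = b ∧
        (∀ i : Fin m.length, m (Fin.castSucc i) ⋖ m (Fin.succ i)) ∧ t.length ≤ m.length := by
  intro d
  induction d with
  | zero =>
    intro t h1 h2 hd
    by_cases hsat : ∀ i : Fin t.length, t (Fin.castSucc i) ⋖ t (Fin.succ i)
    · exact ⟨t, h1, h2, hsat, le_rfl⟩
    · exfalso
      obtain ⟨t', e1, e2, e3⟩ := insert_of_not_sat t hsat
      have := hn t' (e1.trans h1) (e2.trans h2)
      omega
  | succ d ih =>
    intro t h1 h2 hd
    by_cases hsat : ∀ i : Fin t.length, t (Fin.castSucc i) ⋖ t (Fin.succ i)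
    · exact ⟨t, h1, h2, hsat, le_rfl⟩
    · obtain ⟨t', e1, e2, e3⟩ := insert_of_not_sat t hsat
      have h3 := hn t' (e1.trans h1) (e2.trans h2)
      obtain ⟨m, m1, m2, m3, m4⟩ := ih t' (e1.trans h1) (e2.trans h2) (by omega)
      exact ⟨m, m1, m2, m3, by omega⟩

theorem catAt_of_isCat' (H : IsCat' P) {a b : P} (hab : a ≤ b) : CatAt a b := by
  obtain ⟨n, hn⟩ := H.1 a b hab
  have hext : ∀ t : LTSeries P, t.head = a → t.last ≤ b →
      ∃ t' : LTSeries P, t'.head = a ∧ t'.last = b ∧ t.length ≤ t'.length := by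
    intro t h1 h2
    rcases h2.eq_or_lt with h | h
    · exact ⟨t, h1, h, le_rfl⟩
    · refine ⟨t.snoc b h, ?_, ?_, ?_⟩
      · rw [RelSeries.head_snoc, h1]
      · rw [RelSeries.last_snoc]
      · have hl : (t.snoc b h).length = t.length + 1 := rfl
        omega
  refine ⟨?_, fun s h1 h2 hsat => ?_⟩
  · refine ne_top_of_le_ne_top (ENat.coe_ne_top n) (iSup₂_le fun t ht => ?_)
    obtain ⟨t', e1, e2, e3⟩ := hext t ht.1 ht.2
    exact Nat.cast_le.2 (e3.trans (hn t' e1 e2))
  · apply le_antisymm
    · exact le_iSup₂_of_le s ⟨h1, h2.le⟩ le_rfl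
    · refine iSup₂_le fun t ht => ?_
      obtain ⟨t', e1, e2, e3⟩ := hext t ht.1 ht.2
      obtain ⟨m, m1, m2, m3, m4⟩ := exists_sat n a b hn (n - t'.length) t' e1 e2 le_rfl
      have := H.2 m s (m1.trans h1.symm) (m2.trans h2.symm) m3 hsat
      exact Nat.cast_le.2 (by omega)

theorem isCat'_of_catAt (H : ∀ a b : P, a ≤ b → CatAt a b) : IsCat' P := by
  refine ⟨fun p q hpq => ?_, fun s t h1 h2 hs ht => ?_⟩
  · obtain ⟨h1, -⟩ := H p q hpq
    obtain ⟨n, hn⟩ := ENat.ne_top_iff_exists.1 h1
    refine ⟨n, fun s e1 e2 => ?_⟩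
    have : (s.length : ℕ∞) ≤ cd p q := le_iSup₂_of_le s ⟨e1, e2.le⟩ le_rfl
    rw [← hn] at this
    exact Nat.cast_le.1 this
  · have hab : s.head ≤ s.last := s.head_le_last
    have e1 := (H _ _ hab).2 s rfl rfl hs
    have e2 := (H _ _ hab).2 t h1.symm h2.symm ht
    have e3 : (s.length : ℕ∞) = t.length := e1.trans e2.symm
    exact_mod_cast e3

theorem isCat'_iff : IsCat' P ↔ ∀ a b : P, a ≤ b → CatAt a b :=
  ⟨fun H _ _ hab => catAt_of_isCat' H hab, isCat'_of_catAt⟩

end Abstract

section Spec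

open TopologicalSpace

theorem isCatenary_iff_isCat' (R : Type*) [CommRing R] :
    CAlg.IsCatenary R ↔ IsCat' (PrimeSpectrum R) := Iff.rfl

/-- Comparison of the catenary property of a ring with the catenary condition on those irreducible
closed subsets of a quasi-sober space meeting the image of an inducing map from the spectrum whose
range is stable under generization. -/
theorem isCatenary_iff_of_isInducing {R : Type*} [CommRing R] {X : Type*} [TopologicalSpace X]
    [QuasiSober X] (ψ : PrimeSpectrum R → X) (hψ : Topology.IsInducing ψ)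
    (hgen : StableUnderGeneralization (Set.range ψ)) :
    CAlg.IsCatenary R ↔ ∀ T T' : IrreducibleCloseds X, T ≤ T' →
      ((T : Set X) ∩ Set.range ψ).Nonempty → CatAt T T' := by
  let φ : (PrimeSpectrum R)ᵒᵈ → IrreducibleCloseds X := fun a =>
    ⟨closure {ψ (OrderDual.ofDual a)}, isIrreducible_singleton.closure, isClosed_closure⟩
  have hφc : ∀ a, (φ a : Set X) = closure {ψ (OrderDual.ofDual a)} := fun _ => rfl
  have hφ : ∀ a b : (PrimeSpectrum R)ᵒᵈ, φ a ≤ φ b ↔ a ≤ b := by
    intro a b
    rw [← OrderDual.ofDual_le_ofDual, PrimeSpectrum.le_iff_specializes, ← hψ.specializes_iff,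
      specializes_iff_mem_closure, ← SetLike.coe_subset_coe, hφc, hφc,
      isClosed_closure.closure_subset_iff, Set.singleton_subset_iff]
  have hrange : ∀ (p : PrimeSpectrum R) (Z : IrreducibleCloseds X), ψ p ∈ (Z : Set X) →
      ∃ c, φ c = Z := by
    intro p Z hpZ
    obtain ⟨y, hy⟩ := QuasiSober.sober Z.isIrreducible Z.isClosed
    have hy' : closure {y} = (Z : Set X) := hy
    have hsp : y ⤳ ψ p := by
      rw [specializes_iff_mem_closure, hy']; exact hpZ
    obtain ⟨c, rfl⟩ := hgen hsp ⟨p, rfl⟩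
    exact ⟨OrderDual.toDual c, IrreducibleCloseds.ext hy'⟩
  have hmem : ∀ a, ψ (OrderDual.ofDual a) ∈ (φ a : Set X) := fun a =>
    subset_closure (Set.mem_singleton _)
  rw [isCatenary_iff_isCat', ← isCat'_dual_iff, isCat'_iff]
  constructor
  · intro H T T' hTT' hne
    obtain ⟨_, hxT, p, rfl⟩ := hne
    obtain ⟨a, rfl⟩ := hrange p T hxT
    obtain ⟨b, rfl⟩ := hrange p T' (hTT' hxT)
    have hab : a ≤ b := (hφ a b).1 hTT'
    exact (catAt_iff φ hφ (fun q h1 _ => hrange _ q (h1 (hmem a)))).2 (H a b hab)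
  · intro H a b hab
    refine (catAt_iff φ hφ (fun q h1 _ => hrange _ q (h1 (hmem a)))).1 ?_
    exact H (φ a) (φ b) ((hφ a b).2 hab) ⟨_, hmem a, _, rfl⟩

end Spec

end Groth.Agent.Lib.Helper19.Caten
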