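import Mathlib
import Groth.Prelude.Def_Found
import Groth.Prelude.Def_W4stktopologysheavesDim
import Groth.Agent.Lib.Helper19.Caten2

/-!
# Catenary posets: rank functions, additivity of codimension, dimension functions

* `catAt_of_rank`: a poset with a strictly monotone integer function jumping by one along covers is
  catenary; `isCatenarySpace_of_dimFun`: a quasi-sober T0 space with a dimension function is catenary.
* `cd_add`: additivity of codimension in catenary posets.
* `exists_dimFun_of_isCatenary`: a catenary Noetherian ring has, near every prime, a dimension function.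
-/

set_option autoImplicit false

namespace Groth.Agent.Lib.Helper19.Caten

open Order

section Series

variable {P : Type*} [PartialOrder P]

theorem series_ind {M : Type*} [AddMonoidWithOne M] (s : LTSeries P) (g : P → M)
    (hstep : ∀ i : Fin s.length, g (s (Fin.succ i)) = g (s (Fin.castSucc i)) + 1) :
    ∀ i : Fin (s.length + 1), g (s i) = g (s 0) + ((i : ℕ) : M) := by
  intro i
  induction i using Fin.induction with
  | zero => simp
  | succ i ih =>
    rw [hstep i, ih]
    simp [add_assoc]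

theorem series_ind_le (s : LTSeries P) (g : P → ℤ)
    (hstep : ∀ i : Fin s.length, g (s (Fin.castSucc i)) + 1 ≤ g (s (Fin.succ i))) :
    ∀ i : Fin (s.length + 1), g (s 0) + ((i : ℕ) : ℤ) ≤ g (s i) := by
  intro i
  induction i using Fin.induction with
  | zero => simp
  | succ i ih =>
    have h1 := hstep i
    have h2 : ((Fin.succ i : Fin (s.length + 1)) : ℕ) = ((Fin.castSucc i : Fin (s.length + 1)) : ℕ) + 1 := by
      simp
    rw [h2]
    push_cast
    linarith

theorem snoc_sat (s : LTSeries P) (c : P) (h : s.last < c)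
    (hs : ∀ i : Fin s.length, s (Fin.castSucc i) ⋖ s (Fin.succ i)) (hc : s.last ⋖ c) :
    ∀ i : Fin (s.snoc c h).length, (s.snoc c h) (Fin.castSucc i) ⋖ (s.snoc c h) (Fin.succ i) := by
  have key : ∀ i : Fin (s.length + 1),
      (s.snoc c h) (Fin.castSucc i) ⋖ (s.snoc c h) (Fin.succ i) := by
    intro i
    induction i using Fin.lastCases with
    | last =>
      show s.snoc c h (Fin.castSucc (Fin.last s.length)) ⋖ s.snoc c h (Fin.last (s.length + 1))
      rw [RelSeries.snoc_castSucc, RelSeries.last_snoc']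
      exact hc
    | cast j =>
      show s.snoc c h (Fin.castSucc (Fin.castSucc j)) ⋖ s.snoc c h (Fin.castSucc (Fin.succ j))
      rw [RelSeries.snoc_castSucc, RelSeries.snoc_castSucc]
      exact hs j
  exact key

/-- the two-term series. -/
def pair (a b : P) (h : a < b) : LTSeries P := (RelSeries.singleton _ a).snoc b h

theorem pair_head (a b : P) (h : a < b) : (pair a b h).head = a := by
  unfold pair
  rw [RelSeries.head_snoc]
  rfl

theorem pair_last (a b : P) (h : a < b) : (pair a b h).last = b := by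
  unfold pair
  rw [RelSeries.last_snoc]

theorem pair_length (a b : P) (h : a < b) : (pair a b h).length = 1 := rfl

theorem pair_sat (a b : P) (h : a ⋖ b) :
    ∀ i : Fin (pair a b h.lt).length,
      (pair a b h.lt) (Fin.castSucc i) ⋖ (pair a b h.lt) (Fin.succ i) :=
  snoc_sat (RelSeries.singleton _ a) b h.lt (fun i => i.elim0) h

theorem catAt_of_rank (ρ : P → ℤ) (hmono : StrictMono ρ)
    (hcov : ∀ a b, a ⋖ b → ρ b = ρ a + 1) {a b : P} (_hab : a ≤ b) : CatAt a b := by
  have hbound : ∀ s : LTSeries P, s.head = a → s.last ≤ b → (s.length : ℤ) ≤ ρ b - ρ a := by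
    intro s h1 h2
    have h0 := series_ind_le s ρ
      (fun i => Int.add_one_le_iff.2 (hmono (s.strictMono Fin.castSucc_lt_succ))) (Fin.last _)
    have h3 : ρ (s (Fin.last _)) ≤ ρ b := hmono.monotone h2
    have h4 : ρ (s 0) = ρ a := congrArg ρ h1
    simp only [Fin.val_last] at h0
    linarith
  have hle : cd a b ≤ (((ρ b - ρ a).toNat : ℕ) : ℕ∞) := by
    refine iSup₂_le fun s hs => ?_
    have := hbound s hs.1 hs.2
    exact Nat.cast_le.2 (by omega)
  refine ⟨ne_top_of_le_ne_top (ENat.natCast_ne_top _) hle, fun s h1 h2 hsat => ?_⟩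
  apply le_antisymm
  · exact le_iSup₂_of_le s ⟨h1, h2.le⟩ le_rfl
  · refine hle.trans ?_
    have h0 := series_ind s ρ (fun i => hcov _ _ (hsat i)) (Fin.last _)
    have h4 : ρ (s 0) = ρ a := congrArg ρ h1
    have h5 : ρ (s (Fin.last _)) = ρ b := congrArg ρ h2
    simp only [Fin.val_last] at h0
    exact Nat.cast_le.2 (by omega)

end Series

section Top

open TopologicalSpace

theorem isCatenarySpace_of_dimFun {Y : Type*} [TopologicalSpace Y] [QuasiSober Y] [T0Space Y]
    (δ : Y → ℤ) (hδ : PtTop.IsDimensionFunction δ) : PtTop.IsCatenarySpace Y := by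
  rw [isCatenarySpace_iff]
  choose γ hγ using fun T : IrreducibleCloseds Y => QuasiSober.sober T.isIrreducible T.isClosed
  have hγ' : ∀ T, closure {γ T} = (T : Set Y) := fun T => hγ T
  have hle : ∀ T T' : IrreducibleCloseds Y, T ≤ T' ↔ γ T' ⤳ γ T := by
    intro T T'
    rw [specializes_iff_mem_closure, hγ', ← SetLike.coe_subset_coe]
    constructor
    · intro h
      exact h (by rw [← hγ' T]; exact subset_closure rfl)
    · intro h
      rw [← hγ' T]
      exact closure_minimal (Set.singleton_subset_iff.2 h) T'.isClosed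
  have hinj : Function.Injective γ := by
    intro T T' h
    apply IrreducibleCloseds.ext
    rw [← hγ' T, ← hγ' T', h]
  intro T T' hTT'
  refine catAt_of_rank (fun T => δ (γ T)) ?_ ?_ hTT'
  · intro T₁ T₂ h
    exact hδ.1 (γ T₂) (γ T₁) ((hle T₁ T₂).1 h.le) (fun e => h.ne (hinj e).symm)
  · intro T₁ T₂ h
    apply hδ.2 (γ T₂) (γ T₁)
    refine ⟨(hle T₁ T₂).1 h.le, fun e => h.lt.ne (hinj e).symm, fun z hz1 hz2 => ?_⟩
    let Z : IrreducibleCloseds Y :=
      ⟨closure {z}, isIrreducible_singleton.closure, isClosed_closure⟩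
    have hZ1 : T₁ ≤ Z := by
      rw [← SetLike.coe_subset_coe, ← hγ' T₁]
      exact closure_minimal
        (Set.singleton_subset_iff.2 (specializes_iff_mem_closure.1 hz2)) isClosed_closure
    have hZ2 : Z ≤ T₂ := by
      rw [← SetLike.coe_subset_coe, ← hγ' T₂]
      exact closure_minimal
        (Set.singleton_subset_iff.2 (specializes_iff_mem_closure.1 hz1)) isClosed_closure
    rcases h.eq_or_eq hZ1 hZ2 with e | e
    · right
      have h3 : closure {z} = closure {γ T₁} := by rw [hγ' T₁, ← e]; rfl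
      exact (inseparable_iff_closure_eq.2 h3).eq
    · left
      have h3 : closure {z} = closure {γ T₂} := by rw [hγ' T₂, ← e]; rfl
      exact (inseparable_iff_closure_eq.2 h3).eq

end Top

section CatPoset

variable {P : Type*} [PartialOrder P] (hP : ∀ a b : P, a ≤ b → CatAt a b)

include hP

theorem exists_sat_chain {a b : P} (hab : a ≤ b) :
    ∃ m : LTSeries P, m.head = a ∧ m.last = b ∧
      (∀ i : Fin m.length, m (Fin.castSucc i) ⋖ m (Fin.succ i)) ∧ (m.length : ℕ∞) = cd a b := by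
  have hcat := isCat'_of_catAt hP
  obtain ⟨n, hn⟩ := hcat.1 a b hab
  obtain ⟨t, h1, h2⟩ : ∃ t : LTSeries P, t.head = a ∧ t.last = b := by
    rcases hab.eq_or_lt with h | h
    · exact ⟨RelSeries.singleton _ a, rfl, h⟩
    · exact ⟨pair a b h, pair_head a b h, pair_last a b h⟩
  obtain ⟨m, m1, m2, m3, -⟩ := exists_sat n a b hn (n - t.length) t h1 h2 le_rfl
  exact ⟨m, m1, m2, m3, (hP a b hab).2 m m1 m2 m3⟩

theorem cd_covBy {a x y : P} (hax : a ≤ x) (hxy : x ⋖ y) : cd a y = cd a x + 1 := by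
  obtain ⟨m, m1, m2, m3, m4⟩ := exists_sat_chain hP hax
  have hlt : m.last < y := by rw [m2]; exact hxy.lt
  have hc : m.last ⋖ y := by rw [m2]; exact hxy
  have h0 := (hP a y (hax.trans hxy.le)).2 (m.snoc y hlt) (by rw [RelSeries.head_snoc, m1])
    (by rw [RelSeries.last_snoc]) (snoc_sat m y hlt m3 hc)
  rw [← h0, ← m4]
  have hl : (m.snoc y hlt).length = m.length + 1 := rfl
  rw [hl]
  push_cast
  rfl

theorem cd_add {a b c : P} (hab : a ≤ b) (hbc : b ≤ c) : cd a c = cd a b + cd b c := by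
  obtain ⟨t, t1, t2, t3, t4⟩ := exists_sat_chain hP hbc
  have h0 := series_ind t (fun x => cd a x)
    (fun i => cd_covBy hP (hab.trans (t1.symm.le.trans (t.head_le _))) (t3 i)) (Fin.last _)
  simp only [Fin.val_last] at h0
  rw [← t4]
  have e0 : t 0 = b := t1
  have el : t (Fin.last _) = c := t2
  rw [el, e0] at h0
  exact h0

/-- natural-number valued codimension. -/
noncomputable def cdn (a b : P) : ℕ := (cd a b).toNat

omit hP in
theorem cdn_def (a b : P) : cdn a b = (cd a b).toNat := rfl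

theorem cd_eq_cdn {a b : P} (hab : a ≤ b) : cd a b = ((cdn a b : ℕ) : ℕ∞) :=
  (ENat.natCast_toNat (hP a b hab).1).symm

theorem cdn_add {a b c : P} (hab : a ≤ b) (hbc : b ≤ c) : cdn a c = cdn a b + cdn b c := by
  have h0 := cd_add hP hab hbc
  rw [cd_eq_cdn hP hab, cd_eq_cdn hP hbc, cd_eq_cdn hP (hab.trans hbc)] at h0
  exact_mod_cast h0

theorem one_le_cdn {a b : P} (h : a < b) : 1 ≤ cdn a b := by
  have h0 : ((pair a b h).length : ℕ∞) ≤ cd a b :=
    le_iSup₂_of_le (pair a b h) ⟨pair_head a b h, (pair_last a b h).le⟩ le_rfl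
  rw [cd_eq_cdn hP h.le, pair_length] at h0
  exact_mod_cast h0

theorem cdn_covBy {a b : P} (h : a ⋖ b) : cdn a b = 1 := by
  have h0 := (hP a b h.le).2 (pair a b h.lt) (pair_head a b h.lt) (pair_last a b h.lt)
    (pair_sat a b h)
  rw [cd_eq_cdn hP h.le, pair_length] at h0
  exact_mod_cast h0.symm

end CatPoset

section Ring

theorem exists_dimFun_of_isCatenary (A : Type*) [CommRing A] [IsNoetherianRing A]
    (hcat : CAlg.IsCatenary A) (p : PrimeSpectrum A) :
    ∃ f : A, f ∉ p.asIdeal ∧ ∃ δ₀ : PrimeSpectrum A → ℤ,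
      (∀ q q' : PrimeSpectrum A, f ∉ q'.asIdeal → q < q' → δ₀ q' < δ₀ q) ∧
      (∀ q q' : PrimeSpectrum A, f ∉ q'.asIdeal → q ⋖ q' → δ₀ q = δ₀ q' + 1) := by
  classical
  have hP : ∀ a b : PrimeSpectrum A, a ≤ b → CatAt a b := isCat'_iff.1 hcat
  let Sg : Set (Ideal A) := {T | (T ∈ minimalPrimes A ∨ ∃ m ∈ minimalPrimes A,
    ∃ m' ∈ minimalPrimes A, T ∈ (m ⊔ m').minimalPrimes) ∧ ¬ T ≤ p.asIdeal}
  have hfin : Sg.Finite := by
    have h1 : (minimalPrimes A).Finite := minimalPrimes.finite_of_isNoetherianRing A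
    have h2 : (⋃ m ∈ minimalPrimes A, ⋃ m' ∈ minimalPrimes A, (m ⊔ m').minimalPrimes).Finite :=
      h1.biUnion fun m _ => h1.biUnion fun m' _ =>
        Ideal.finite_minimalPrimes_of_isNoetherianRing A _
    refine (h1.union h2).subset ?_
    rintro T ⟨hT | ⟨m, hm, m', hm', hT⟩, -⟩
    · exact Or.inl hT
    · exact Or.inr (Set.mem_biUnion hm (Set.mem_biUnion hm' hT))
  have hex : ∀ T : Ideal A, T ∈ Sg → ∃ x, x ∈ T ∧ x ∉ p.asIdeal := by
    intro T hT
    exact SetLike.not_le_iff_exists.1 hT.2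
  choose! g hg using hex
  have hfp : (∏ T ∈ hfin.toFinset, g T) ∉ p.asIdeal := by
    haveI := p.isPrime
    rw [Ideal.IsPrime.prod_mem_iff]
    rintro ⟨T, hT, hgT⟩
    exact (hg T (hfin.mem_toFinset.1 hT)).2 hgT
  have hfT : ∀ T ∈ Sg, (∏ T ∈ hfin.toFinset, g T) ∈ T := fun T hT =>
    Ideal.mem_of_dvd _ (Finset.dvd_prod_of_mem g (hfin.mem_toFinset.2 hT)) (hg T hT).1
  refine ⟨∏ T ∈ hfin.toFinset, g T, hfp, ?_⟩
  generalize (∏ T ∈ hfin.toFinset, g T) = f at hfp hfT
  have F2 : ∀ (q m m' : PrimeSpectrum A), f ∉ q.asIdeal → m.asIdeal ∈ minimalPrimes A →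
      m'.asIdeal ∈ minimalPrimes A → m ≤ q → m' ≤ q →
      ∃ T : PrimeSpectrum A, m ≤ T ∧ m' ≤ T ∧ T ≤ q ∧ T ≤ p := by
    intro q m m' hfq hm hm' hmq hm'q
    haveI := q.isPrime
    obtain ⟨T, hT, hTq⟩ := Ideal.exists_minimalPrimes_le (I := m.asIdeal ⊔ m'.asIdeal)
      (J := q.asIdeal) (sup_le hmq hm'q)
    have hTp : T ≤ p.asIdeal := by
      by_contra hTp
      exact hfq (hTq (hfT T ⟨Or.inr ⟨_, hm, _, hm', hT⟩, hTp⟩))
    exact ⟨⟨T, hT.1.1⟩, le_sup_left.trans hT.1.2, le_sup_right.trans hT.1.2, hTq, hTp⟩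
  have hmin : ∀ q : PrimeSpectrum A, ∃ m : PrimeSpectrum A,
      m.asIdeal ∈ minimalPrimes A ∧ m ≤ q := by
    intro q
    haveI := q.isPrime
    obtain ⟨T, hT, hTq⟩ := Ideal.exists_minimalPrimes_le (I := (⊥ : Ideal A))
      (J := q.asIdeal) bot_le
    exact ⟨⟨T, hT.1.1⟩, hT, hTq⟩
  choose mq hmq1 hmq2 using hmin
  have IL : ∀ (q m m' : PrimeSpectrum A), f ∉ q.asIdeal → m.asIdeal ∈ minimalPrimes A →
      m'.asIdeal ∈ minimalPrimes A → m ≤ q → m' ≤ q →
      (cdn m p : ℤ) - cdn m q = (cdn m' p : ℤ) - cdn m' q := by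
    intro q m m' hfq hm hm' hmq hm'q
    obtain ⟨T, h1, h2, h3, h4⟩ := F2 q m m' hfq hm hm' hmq hm'q
    have e1 := cdn_add hP h1 h4
    have e2 := cdn_add hP h1 h3
    have e3 := cdn_add hP h2 h4
    have e4 := cdn_add hP h2 h3
    omega
  refine ⟨fun q => (cdn (mq q) p : ℤ) - cdn (mq q) q, ?_, ?_⟩
  · intro q q' hfq' hlt
    have e0 := IL q' (mq q') (mq q) hfq' (hmq1 q') (hmq1 q) (hmq2 q') ((hmq2 q).trans hlt.le)
    have e1 := cdn_add hP (hmq2 q) hlt.le
    have e2 := one_le_cdn hP hlt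
    show (cdn (mq q') p : ℤ) - cdn (mq q') q' < (cdn (mq q) p : ℤ) - cdn (mq q) q
    omega
  · intro q q' hfq' hcov
    have e0 := IL q' (mq q') (mq q) hfq' (hmq1 q') (hmq1 q) (hmq2 q') ((hmq2 q).trans hcov.le)
    have e1 := cdn_add hP (hmq2 q) hcov.le
    have e2 := cdn_covBy hP hcov
    show (cdn (mq q) p : ℤ) - cdn (mq q) q = (cdn (mq q') p : ℤ) - cdn (mq q') q' + 1
    omega

end Ring

end Groth.Agent.Lib.Helper19.Caten
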