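import Mathlib
import Groth.Agent.Lib.Helper6.RefinedNN5
import Groth.Agent.Lib.Helper12.IntegralDim

/-!
# Noether normalization adapted to a family of ideals, and filling chains of primes (helper19)

* `exists_finite_comap_family`: for finitely many proper ideals of `k[X₀..Xₙ₋₁]` there is ONE finite
  endomorphism contracting each of them to an ideal generated by an initial segment of variables
  (adapting helper6's single-ideal version).
* `injective_of_finite_endo`: a finite endomorphism of a polynomial ring over a field is injective.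
* `Pj`, `ker_retr`, `quotEquiv`, `ringKrullDim_quot`: the ideals `(X₀, …, X_{m-1})`.
* `exists_between`: going-down in a quotient.
* `fill`: completing a partial chain of primes lying over `Pj`.
-/

set_option autoImplicit false
open MvPolynomial
universe u

namespace Groth.Agent.Lib.Helper19.ChainNN

open Groth.Agent.Lib.Helper6.RefinedNN

section Retr

variable (k : Type u) [Field k]

/-- the ideal generated by the first `m` variables -/
noncomputable def Pj (n m : ℕ) : Ideal (MvPolynomial (Fin n) k) :=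
  Ideal.span (X '' {l : Fin n | (l : ℕ) < m})

variable {k} {n : ℕ} (m : ℕ)

lemma Pj_zero : Pj k n 0 = ⊥ := by
  have hempty : {l : Fin n | (l : ℕ) < 0} = ∅ := by ext i; simp
  rw [Pj, hempty, Set.image_empty, Ideal.span_empty]

lemma Pj_mono {m m' : ℕ} (h : m ≤ m') : Pj k n m ≤ Pj k n m' := by
  apply Ideal.span_mono
  apply Set.image_mono
  intro l hl
  exact lt_of_lt_of_le hl h

lemma sub_rename_retr_mem (p : MvPolynomial (Fin n) k) :
    p - rename Subtype.val (retr (k := k) m p) ∈ Pj k n m := by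
  induction p using MvPolynomial.induction_on with
  | C a =>
    have h1 : retr (k := k) (n := n) m (C a) = C a := by simp [retr]
    rw [h1, rename_C, sub_self]
    exact Ideal.zero_mem _
  | add p q hp hq =>
    have h1 : (p + q) - rename Subtype.val (retr m (p + q)) =
        (p - rename Subtype.val (retr m p)) + (q - rename Subtype.val (retr m q)) := by
      rw [map_add, map_add]; ring
    rw [h1]
    exact Ideal.add_mem _ hp hq
  | mul_X p i hp =>
    by_cases hi : i.val < m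
    · rw [map_mul, retr_X_of_lt m i hi, mul_zero, map_zero, sub_zero]
      exact Ideal.mul_mem_left _ _ (Ideal.subset_span ⟨i, hi, rfl⟩)
    · have h1 : p * X i - rename Subtype.val (retr m (p * X i)) =
          (p - rename Subtype.val (retr m p)) * X i := by
        rw [map_mul, retr_X_of_not_lt m i hi, map_mul, rename_X]; ring
      rw [h1]
      exact Ideal.mul_mem_right _ _ hp

lemma ker_retr : RingHom.ker (retr (k := k) (n := n) m).toRingHom = Pj k n m := by
  apply le_antisymm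
  · intro p hp
    have h1 := sub_rename_retr_mem m p
    have h2 : retr m p = 0 := RingHom.mem_ker.1 hp
    rwa [h2, map_zero, sub_zero] at h1
  · intro p hp
    exact RingHom.mem_ker.2 (retr_eq_zero_of_mem m p hp)

lemma retr_surjective : Function.Surjective (retr (k := k) (n := n) m) :=
  fun p => ⟨rename Subtype.val p, retr_rename m p⟩

instance Pj_isPrime : (Pj k n m).IsPrime := by
  rw [← ker_retr]
  exact RingHom.ker_isPrime _

/-- `k[X]/(X₀..X_{m-1})` is a polynomial ring in the remaining variables -/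
noncomputable def quotEquiv :
    (MvPolynomial (Fin n) k ⧸ Pj k n m) ≃+* MvPolynomial {i : Fin n // ¬ i.val < m} k :=
  (Ideal.quotEquivOfEq (ker_retr m).symm).trans
    (RingHom.quotientKerEquivOfSurjective (f := (retr (k := k) (n := n) m).toRingHom)
      (retr_surjective m))

lemma ringKrullDim_quot :
    ringKrullDim (MvPolynomial (Fin n) k ⧸ Pj k n m) = ((n - m : ℕ) : WithBot ℕ∞) := by
  rw [ringKrullDim_eq_of_ringEquiv (quotEquiv m),
    ringKrullDim_eq_of_ringEquiv (renameEquiv k (notLtEquiv n m)).toRingEquiv,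
    Groth.Agent.Lib.Helper12.ringKrullDim_mvPolynomial_field]

instance isIntegrallyClosed_quot : IsIntegrallyClosed (MvPolynomial (Fin n) k ⧸ Pj k n m) :=
  IsIntegrallyClosed.of_equiv (quotEquiv m).symm

lemma Pj_ne {j : ℕ} (hj : j < n) : Pj k n j ≠ Pj k n (j + 1) := by
  intro heq
  have h1 : (X ⟨j, hj⟩ : MvPolynomial (Fin n) k) ∈ Pj k n (j + 1) :=
    Ideal.subset_span ⟨⟨j, hj⟩, Nat.lt_succ_self j, rfl⟩
  rw [← heq] at h1
  have h2 := retr_eq_zero_of_mem j _ h1
  rw [retr_X_of_not_lt j ⟨j, hj⟩ (lt_irrefl j)] at h2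
  exact MvPolynomial.X_ne_zero _ h2

end Retr

section Endo

variable {k : Type u} [Field k]

lemma injective_of_finite_endo {n : ℕ}
    (θ : MvPolynomial (Fin n) k →ₐ[k] MvPolynomial (Fin n) k)
    (hθ : θ.toRingHom.Finite) : Function.Injective θ := by
  rw [injective_iff_map_eq_zero]
  intro g hg
  by_contra hg0
  have hgK : g ∈ RingHom.ker θ.toRingHom := RingHom.mem_ker.2 hg
  have hιint : (RingHom.kerLift θ.toRingHom).IsIntegral := by
    have h1 : ((RingHom.kerLift θ.toRingHom).comp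
        (Ideal.Quotient.mk (RingHom.ker θ.toRingHom))).IsIntegral := by
      have h2 : (RingHom.kerLift θ.toRingHom).comp
          (Ideal.Quotient.mk (RingHom.ker θ.toRingHom)) = θ.toRingHom :=
        RingHom.ext fun x => RingHom.kerLift_mk _ x
      rw [h2]
      exact hθ.to_isIntegral
    exact RingHom.IsIntegral.tower_top _ _ h1
  letI : Algebra (MvPolynomial (Fin n) k ⧸ RingHom.ker θ.toRingHom) (MvPolynomial (Fin n) k) :=
    (RingHom.kerLift θ.toRingHom).toAlgebra
  haveI : Algebra.IsIntegral (MvPolynomial (Fin n) k ⧸ RingHom.ker θ.toRingHom)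
      (MvPolynomial (Fin n) k) := ⟨hιint⟩
  have h1 : ringKrullDim (MvPolynomial (Fin n) k) ≤
      ringKrullDim (MvPolynomial (Fin n) k ⧸ RingHom.ker θ.toRingHom) :=
    Groth.Agent.Lib.Helper12.ringKrullDim_le_of_isIntegral
      (R := MvPolynomial (Fin n) k ⧸ RingHom.ker θ.toRingHom) (S := MvPolynomial (Fin n) k)
  have hle : Ideal.span {g} ≤ RingHom.ker θ.toRingHom :=
    (Ideal.span_singleton_le_iff_mem _).2 hgK
  have h2 : ringKrullDim (MvPolynomial (Fin n) k ⧸ RingHom.ker θ.toRingHom) ≤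
      ringKrullDim (MvPolynomial (Fin n) k ⧸ Ideal.span {g}) :=
    ringKrullDim_le_of_surjective (Ideal.Quotient.factor hle)
      (Ideal.Quotient.factor_surjective hle)
  have h3 : ringKrullDim (MvPolynomial (Fin n) k ⧸ Ideal.span {g}) + 1 ≤
      ringKrullDim (MvPolynomial (Fin n) k) :=
    ringKrullDim_quotient_succ_le_of_nonZeroDivisor (mem_nonZeroDivisors_of_ne_zero hg0)
  rw [Groth.Agent.Lib.Helper12.ringKrullDim_mvPolynomial_field] at h1 h3
  have h4 : ((n : ℕ) : WithBot ℕ∞) + 1 ≤ n := le_trans (add_le_add (h1.trans h2) le_rfl) h3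
  have h5 : ((n + 1 : ℕ) : WithBot ℕ∞) ≤ (n : ℕ) := by exact_mod_cast h4
  have h6 : n + 1 ≤ n := by exact_mod_cast h5
  omega

end Endo

section Family

variable {k : Type u} [Field k] {n : ℕ}

/-- the inductive step of helper6's refined Noether normalization, isolated -/
lemma comap_step (I : Ideal (MvPolynomial (Fin (n + 1)) k))
    (ψ : MvPolynomial (Fin (n + 1)) k →ₐ[k] MvPolynomial (Fin (n + 1)) k)
    (hX0 : (X 0 : MvPolynomial (Fin (n + 1)) k) ∈ I.comap ψ)
    (φ' : MvPolynomial (Fin n) k →ₐ[k] MvPolynomial (Fin n) k) (m' : ℕ)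
    (hcomap' : ((I.comap ψ).comap (rename Fin.succ : MvPolynomial (Fin n) k →ₐ[k] _)).comap φ' =
      Ideal.span (X '' {i : Fin n | i.val < m'})) :
    I.comap (ψ.comp (conj (Polynomial.mapAlgHom φ'))) =
      Ideal.span (X '' {i : Fin (n + 1) | i.val < m' + 1}) := by
  have hcc : I.comap (ψ.comp (conj (Polynomial.mapAlgHom φ'))) =
      (I.comap ψ).comap (conj (Polynomial.mapAlgHom φ')) := rfl
  rw [hcc]
  apply le_antisymm
  · intro p hp
    rw [Ideal.mem_comap] at hp
    have hd := decomp p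
    set p₀ := (finSuccEquiv k n p).coeff 0 with hp₀
    set p₁ := (finSuccEquiv k n).symm ((finSuccEquiv k n p).divX) with hp₁
    have h1 : conj (Polynomial.mapAlgHom φ') p =
        rename Fin.succ (φ' p₀) + X 0 * conj (Polynomial.mapAlgHom φ') p₁ := by
      conv_lhs => rw [hd]
      rw [map_add, map_mul, conj_map_rename, conj_map_X_zero]
    rw [h1] at hp
    have h2 : rename Fin.succ (φ' p₀) ∈ I.comap ψ := by
      have h3 := (I.comap ψ).mul_mem_right (conj (Polynomial.mapAlgHom φ') p₁) hX0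
      exact (Ideal.add_mem_iff_left _ h3).mp hp
    have h4 : p₀ ∈ Ideal.span (X '' {i : Fin n | i.val < m'}) := by
      rw [← hcomap']
      exact h2
    rw [hd]
    refine Ideal.add_mem _ ?_ ?_
    · have h5 := Ideal.mem_map_of_mem (rename Fin.succ : MvPolynomial (Fin n) k →ₐ[k] _) h4
      rw [Ideal.map_span] at h5
      refine Ideal.span_mono ?_ h5
      rintro _ ⟨_, ⟨j, hj, rfl⟩, rfl⟩
      refine ⟨j.succ, ?_, (rename_X _ _).symm⟩
      change j.succ.val < m' + 1
      rw [Fin.val_succ]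
      exact Nat.succ_lt_succ hj
    · exact Ideal.mul_mem_right _ _ (Ideal.subset_span ⟨0, Nat.succ_pos m', rfl⟩)
  · rw [Ideal.span_le]
    rintro _ ⟨i, hi, rfl⟩
    change X i ∈ ((I.comap ψ).comap (conj (Polynomial.mapAlgHom φ')) : Ideal _)
    rw [Ideal.mem_comap]
    refine Fin.cases ?_ (fun j hj => ?_) i hi
    · intro _
      rw [conj_map_X_zero]
      exact hX0
    · have hj' : j.val < m' := by
        have : j.succ.val < m' + 1 := hj
        rw [Fin.val_succ] at this
        exact Nat.lt_of_succ_lt_succ this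
      have h1 : (X j : MvPolynomial (Fin n) k) ∈
          ((I.comap ψ).comap (rename Fin.succ : MvPolynomial (Fin n) k →ₐ[k] _)).comap φ' := by
        rw [hcomap']
        exact Ideal.subset_span ⟨j, hj', rfl⟩
      have h2 : X j.succ = rename Fin.succ (X j : MvPolynomial (Fin n) k) := (rename_X _ _).symm
      rw [h2, conj_map_rename]
      exact h1

theorem exists_finite_comap_family : ∀ (n r : ℕ) (I : Fin r → Ideal (MvPolynomial (Fin n) k)),
    (∀ i, I i ≠ ⊤) →
    ∃ (m : Fin r → ℕ) (φ : MvPolynomial (Fin n) k →ₐ[k] MvPolynomial (Fin n) k),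
      φ.toRingHom.Finite ∧ ∀ i, (I i).comap φ = Pj k n (m i) := by
  intro n
  induction n with
  | zero =>
    intro r I hI
    refine ⟨fun _ => 0, AlgHom.id k _, RingHom.Finite.id _, fun i => ?_⟩
    rw [Pj_zero]
    change (I i).comap (RingHom.id _) = ⊥
    rw [Ideal.comap_id, eq_bot_iff]
    intro p hp
    rw [Ideal.mem_bot]
    by_contra hne
    have heq := eq_C_of_isEmpty p
    have hc : coeff 0 p ≠ 0 := fun h => hne (by rw [heq, h, map_zero])
    have hu : IsUnit p := by
      rw [heq]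
      exact hc.isUnit.map C
    exact hI i (Ideal.eq_top_of_isUnit_mem _ hp hu)
  | succ n ih =>
    intro r I hI
    classical
    by_cases hall : ∀ i, I i = ⊥
    · refine ⟨fun _ => 0, AlgHom.id k _, RingHom.Finite.id _, fun i => ?_⟩
      rw [Pj_zero]
      change (I i).comap (RingHom.id _) = ⊥
      rw [Ideal.comap_id, hall i]
    · push Not at hall
      obtain ⟨i₁, hi₁⟩ := hall
      have hex : ∀ i, ∃ g : MvPolynomial (Fin (n + 1)) k, g ≠ 0 ∧ (I i ≠ ⊥ → g ∈ I i) := by
        intro i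
        by_cases hb : I i = ⊥
        · exact ⟨1, one_ne_zero, fun h => absurd hb h⟩
        · obtain ⟨g, hg, hg0⟩ := Submodule.exists_mem_ne_zero_of_ne_bot hb
          exact ⟨g, hg0, fun _ => hg⟩
      choose g hg0 hgI using hex
      obtain ⟨f, hf⟩ : ∃ f, f = ∏ i, g i := ⟨_, rfl⟩
      have hf0 : f ≠ 0 := by
        rw [hf]
        exact Finset.prod_ne_zero_iff.2 fun i _ => hg0 i
      have hfI : ∀ i, I i ≠ ⊥ → f ∈ I i := by
        intro i hb
        obtain ⟨c, hc⟩ := Finset.dvd_prod_of_mem g (Finset.mem_univ i)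
        rw [hf, hc]
        exact Ideal.mul_mem_right _ _ (hgI i hb)
      have hfu : ¬ IsUnit f := fun hu => hI i₁ (Ideal.eq_top_of_isUnit_mem _ (hfI i₁ hi₁) hu)
      obtain ⟨ψ, hψ, hψ0⟩ := exists_finite_algHom_X_zero f hf0 hfu
      have hI' : ∀ i, ((I i).comap ψ).comap
          (rename Fin.succ : MvPolynomial (Fin n) k →ₐ[k] _) ≠ ⊤ :=
        fun i => Ideal.comap_ne_top _ (Ideal.comap_ne_top _ (hI i))
      obtain ⟨m', φ', hφ', hcomap'⟩ := ih r (fun i => ((I i).comap ψ).comap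
          (rename Fin.succ : MvPolynomial (Fin n) k →ₐ[k] _)) hI'
      have hΘ : (Polynomial.mapAlgHom φ').toRingHom.Finite := finite_mapRingHom φ'.toRingHom hφ'
      have hΦ := conj_finite (Polynomial.mapAlgHom φ') hΘ
      have hfin : (ψ.comp (conj (Polynomial.mapAlgHom φ'))).toRingHom.Finite := hψ.comp hΦ
      refine ⟨fun i => if I i = ⊥ then 0 else m' i + 1,
        ψ.comp (conj (Polynomial.mapAlgHom φ')), hfin, fun i => ?_⟩
      dsimp only
      by_cases hb : I i = ⊥
      · rw [if_pos hb, hb, Pj_zero]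
        have hinj := injective_of_finite_endo _ hfin
        exact (RingHom.injective_iff_ker_eq_bot _).1 hinj
      · rw [if_neg hb]
        have hX0 : (X 0 : MvPolynomial (Fin (n + 1)) k) ∈ (I i).comap ψ := by
          rw [Ideal.mem_comap, hψ0]
          exact hfI i hb
        exact comap_step (I i) ψ hX0 φ' (m' i) (hcomap' i)

end Family

section Between

theorem exists_between {R A : Type*} [CommRing R] [CommRing A] [Algebra R A]
    [Algebra.IsIntegral R A]
    (𝔞 𝔟 : Ideal A) [𝔞.IsPrime] [𝔟.IsPrime] (hab : 𝔞 ≤ 𝔟) (p : Ideal R) [p.IsPrime]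
    (h1 : 𝔞.comap (algebraMap R A) ≤ p) (h2 : p ≤ 𝔟.comap (algebraMap R A))
    [IsIntegrallyClosed (R ⧸ 𝔞.comap (algebraMap R A))] :
    ∃ 𝔠 : Ideal A, 𝔠.IsPrime ∧ 𝔞 ≤ 𝔠 ∧ 𝔠 ≤ 𝔟 ∧ 𝔠.comap (algebraMap R A) = p := by
  haveI : FaithfulSMul (R ⧸ 𝔞.comap (algebraMap R A)) (A ⧸ 𝔞) :=
    (faithfulSMul_iff_algebraMap_injective _ _).2 Ideal.algebraMap_quotient_injective
  have hcomm : ∀ x : R, algebraMap (R ⧸ 𝔞.comap (algebraMap R A)) (A ⧸ 𝔞)
      (Ideal.Quotient.mk (𝔞.comap (algebraMap R A)) x) =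
      Ideal.Quotient.mk 𝔞 (algebraMap R A x) := fun x => rfl
  haveI h𝔟' : (𝔟.map (Ideal.Quotient.mk 𝔞)).IsPrime :=
    Ideal.map_isPrime_of_surjective Ideal.Quotient.mk_surjective (by
      rw [Ideal.mk_ker]
      exact hab)
  haveI hp' : (p.map (Ideal.Quotient.mk (𝔞.comap (algebraMap R A)))).IsPrime :=
    Ideal.map_isPrime_of_surjective Ideal.Quotient.mk_surjective (by
      rw [Ideal.mk_ker]
      exact h1)
  have hle : p.map (Ideal.Quotient.mk (𝔞.comap (algebraMap R A))) ≤
      (𝔟.map (Ideal.Quotient.mk 𝔞)).under (R ⧸ 𝔞.comap (algebraMap R A)) := by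
    rw [Ideal.map_le_iff_le_comap]
    intro x hx
    show algebraMap (R ⧸ 𝔞.comap (algebraMap R A)) (A ⧸ 𝔞)
      (Ideal.Quotient.mk (𝔞.comap (algebraMap R A)) x) ∈ 𝔟.map (Ideal.Quotient.mk 𝔞)
    rw [hcomm]
    exact Ideal.mem_map_of_mem _ (h2 hx)
  obtain ⟨P', hP'le, hP'prime, hP'over⟩ := Ideal.exists_ideal_le_liesOver_of_le
    (p := p.map (Ideal.Quotient.mk (𝔞.comap (algebraMap R A))))
    (q := (𝔟.map (Ideal.Quotient.mk 𝔞)).under (R ⧸ 𝔞.comap (algebraMap R A)))
    (𝔟.map (Ideal.Quotient.mk 𝔞)) hle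
  have hover : P'.under (R ⧸ 𝔞.comap (algebraMap R A)) =
      p.map (Ideal.Quotient.mk (𝔞.comap (algebraMap R A))) := hP'over.over.symm
  refine ⟨P'.comap (Ideal.Quotient.mk 𝔞), Ideal.comap_isPrime _ _, ?_, ?_, ?_⟩
  · intro x hx
    show Ideal.Quotient.mk 𝔞 x ∈ P'
    rw [Ideal.Quotient.eq_zero_iff_mem.2 hx]
    exact Ideal.zero_mem _
  · intro x hx
    have h3 : Ideal.Quotient.mk 𝔞 x ∈ 𝔟.map (Ideal.Quotient.mk 𝔞) := hP'le hx
    have h4 : x ∈ (𝔟.map (Ideal.Quotient.mk 𝔞)).comap (Ideal.Quotient.mk 𝔞) := h3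
    rw [Ideal.comap_map_of_surjective _ Ideal.Quotient.mk_surjective, ← RingHom.ker_eq_comap_bot,
      Ideal.mk_ker, sup_eq_left.2 hab] at h4
    exact h4
  · ext x
    constructor
    · intro hx
      have h3 : Ideal.Quotient.mk (𝔞.comap (algebraMap R A)) x ∈
          P'.under (R ⧸ 𝔞.comap (algebraMap R A)) := by
        show algebraMap (R ⧸ 𝔞.comap (algebraMap R A)) (A ⧸ 𝔞)
          (Ideal.Quotient.mk (𝔞.comap (algebraMap R A)) x) ∈ P'
        rw [hcomm]
        exact hx
      rw [hover] at h3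
      have h4 : x ∈ (p.map (Ideal.Quotient.mk (𝔞.comap (algebraMap R A)))).comap
          (Ideal.Quotient.mk (𝔞.comap (algebraMap R A))) := h3
      rw [Ideal.comap_map_of_surjective _ Ideal.Quotient.mk_surjective,
        ← RingHom.ker_eq_comap_bot, Ideal.mk_ker, sup_eq_left.2 h1] at h4
      exact h4
    · intro hx
      have h3 : Ideal.Quotient.mk (𝔞.comap (algebraMap R A)) x ∈
          p.map (Ideal.Quotient.mk (𝔞.comap (algebraMap R A))) := Ideal.mem_map_of_mem _ hx
      rw [← hover] at h3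
      show Ideal.Quotient.mk 𝔞 (algebraMap R A x) ∈ P'
      rw [← hcomm]
      exact h3

end Between

section Fill

variable {R A : Type*} [CommRing R] [CommRing A] [IsDomain A] [Algebra R A]
  [Algebra.IsIntegral R A]

/-- one new prime between the marked ones -/
lemma exists_new (hinj : Function.Injective (algebraMap R A)) (P : ℕ → Ideal R)
    (hPprime : ∀ j, (P j).IsPrime) (hP0 : P 0 = ⊥) (hPmono : Monotone P)
    (hPic : ∀ j, IsIntegrallyClosed (R ⧸ P j))
    (M : Finset ℕ) (Q₀ : ℕ → PrimeSpectrum A)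
    (hcomap : ∀ j ∈ M, (Q₀ j).asIdeal.comap (algebraMap R A) = P j)
    (hmono : ∀ j ∈ M, ∀ j' ∈ M, j ≤ j' → Q₀ j ≤ Q₀ j') (j : ℕ) :
    ∃ 𝔠 : PrimeSpectrum A, 𝔠.asIdeal.comap (algebraMap R A) = P j ∧
      (∀ j' ∈ M, j' < j → Q₀ j' ≤ 𝔠) ∧ (∀ j'' ∈ M, j < j'' → 𝔠 ≤ Q₀ j'') := by
  classical
  -- the lower bound
  obtain ⟨𝔞, a, haj, h𝔞, hlow, hupp⟩ : ∃ (𝔞 : PrimeSpectrum A) (a : ℕ), a ≤ j ∧
      𝔞.asIdeal.comap (algebraMap R A) = P a ∧ (∀ j' ∈ M, j' < j → Q₀ j' ≤ 𝔞) ∧
      (∀ j'' ∈ M, j < j'' → 𝔞 ≤ Q₀ j'') := by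
    by_cases hne : (M.filter (· < j)).Nonempty
    · have hmem := Finset.max'_mem _ hne
      rw [Finset.mem_filter] at hmem
      refine ⟨Q₀ ((M.filter (· < j)).max' hne), (M.filter (· < j)).max' hne, hmem.2.le,
        hcomap _ hmem.1, fun j' hj' hj'j => ?_, fun j'' hj'' hjj'' => ?_⟩
      · exact hmono j' hj' _ hmem.1
          (Finset.le_max' _ j' (Finset.mem_filter.2 ⟨hj', hj'j⟩))
      · exact hmono _ hmem.1 j'' hj'' (hmem.2.le.trans hjj''.le)
    · refine ⟨⟨⊥, Ideal.isPrime_bot⟩, 0, Nat.zero_le _, ?_, fun j' hj' hj'j => ?_,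
        fun j'' _ _ => ?_⟩
      · rw [hP0]
        exact (RingHom.injective_iff_ker_eq_bot _).1 hinj
      · exact absurd ⟨j', Finset.mem_filter.2 ⟨hj', hj'j⟩⟩ hne
      · show (⊥ : Ideal A) ≤ _
        exact bot_le
  haveI := hPprime j
  haveI : 𝔞.asIdeal.IsPrime := 𝔞.isPrime
  have h1 : 𝔞.asIdeal.comap (algebraMap R A) ≤ P j := by
    rw [h𝔞]
    exact hPmono haj
  by_cases hne : (M.filter (j < ·)).Nonempty
  · have hmem := Finset.min'_mem _ hne
    rw [Finset.mem_filter] at hmem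
    obtain ⟨b, hb⟩ : ∃ b, b = (M.filter (j < ·)).min' hne := ⟨_, rfl⟩
    rw [← hb] at hmem
    haveI : (Q₀ b).asIdeal.IsPrime := (Q₀ b).isPrime
    haveI : IsIntegrallyClosed (R ⧸ 𝔞.asIdeal.comap (algebraMap R A)) := by
      rw [h𝔞]
      exact hPic a
    have h2 : P j ≤ (Q₀ b).asIdeal.comap (algebraMap R A) := by
      rw [hcomap b hmem.1]
      exact hPmono hmem.2.le
    obtain ⟨𝔠, h𝔠p, h𝔠1, h𝔠2, h𝔠3⟩ := exists_between 𝔞.asIdeal (Q₀ b).asIdeal
      (hupp b hmem.1 hmem.2) (P j) h1 h2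
    refine ⟨⟨𝔠, h𝔠p⟩, h𝔠3, fun j' hj' hj'j => ?_, fun j'' hj'' hjj'' => ?_⟩
    · exact le_trans (hlow j' hj' hj'j) h𝔠1
    · have h3 : b ≤ j'' := by
        rw [hb]
        exact Finset.min'_le _ j'' (Finset.mem_filter.2 ⟨hj'', hjj''⟩)
      exact le_trans (show (⟨𝔠, h𝔠p⟩ : PrimeSpectrum A) ≤ Q₀ b from h𝔠2)
        (hmono b hmem.1 j'' hj'' h3)
  · obtain ⟨𝔠, h𝔠1, h𝔠p, h𝔠3⟩ :=
      Ideal.exists_ideal_over_prime_of_isIntegral_of_isPrime (P j) 𝔞.asIdeal h1
    refine ⟨⟨𝔠, h𝔠p⟩, h𝔠3, fun j' hj' hj'j => ?_, fun j'' hj'' hjj'' => ?_⟩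
    · exact le_trans (hlow j' hj' hj'j) (show 𝔞 ≤ (⟨𝔠, h𝔠p⟩ : PrimeSpectrum A) from h𝔠1)
    · exact absurd ⟨j'', Finset.mem_filter.2 ⟨hj'', hjj''⟩⟩ hne

theorem fill (hinj : Function.Injective (algebraMap R A)) (d : ℕ) (P : ℕ → Ideal R)
    (hPprime : ∀ j, (P j).IsPrime) (hP0 : P 0 = ⊥) (hPmono : Monotone P)
    (hPne : ∀ j, j < d → P j ≠ P (j + 1))
    (hPic : ∀ j, IsIntegrallyClosed (R ⧸ P j)) :
    ∀ (n : ℕ) (M : Finset ℕ) (Q₀ : ℕ → PrimeSpectrum A),
      ((Finset.range (d + 1)) \ M).card ≤ n →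
      (∀ j ∈ M, (Q₀ j).asIdeal.comap (algebraMap R A) = P j) →
      (∀ j ∈ M, ∀ j' ∈ M, j ≤ j' → Q₀ j ≤ Q₀ j') →
      ∃ Q : ℕ → PrimeSpectrum A,
        (∀ j, j ≤ d → (Q j).asIdeal.comap (algebraMap R A) = P j) ∧
        (∀ j, j < d → Q j < Q (j + 1)) ∧ ∀ j ∈ M, Q j = Q₀ j := by
  classical
  have full : ∀ (M : Finset ℕ) (Q₀ : ℕ → PrimeSpectrum A), Finset.range (d + 1) ⊆ M →
      (∀ j ∈ M, (Q₀ j).asIdeal.comap (algebraMap R A) = P j) →
      (∀ j ∈ M, ∀ j' ∈ M, j ≤ j' → Q₀ j ≤ Q₀ j') →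
      ∃ Q : ℕ → PrimeSpectrum A,
        (∀ j, j ≤ d → (Q j).asIdeal.comap (algebraMap R A) = P j) ∧
        (∀ j, j < d → Q j < Q (j + 1)) ∧ ∀ j ∈ M, Q j = Q₀ j := by
    intro M Q₀ hsub hcomap hmono
    have hmem : ∀ j, j ≤ d → j ∈ M := fun j hj =>
      hsub (Finset.mem_range.2 (Nat.lt_succ_of_le hj))
    refine ⟨Q₀, fun j hj => hcomap j (hmem j hj), fun j hj => ?_, fun _ _ => rfl⟩
    refine lt_of_le_of_ne (hmono j (hmem j hj.le) (j + 1) (hmem (j + 1) hj) (Nat.le_succ j)) ?_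
    intro heq
    apply hPne j hj
    rw [← hcomap j (hmem j hj.le), ← hcomap (j + 1) (hmem (j + 1) hj), heq]
  intro n
  induction n with
  | zero =>
    intro M Q₀ hcard hcomap hmono
    refine full M Q₀ ?_ hcomap hmono
    have h0 : Finset.range (d + 1) \ M = ∅ := Finset.card_eq_zero.1 (Nat.le_zero.1 hcard)
    exact Finset.sdiff_eq_empty_iff_subset.1 h0
  | succ n ih =>
    intro M Q₀ hcard hcomap hmono
    by_cases hfull : Finset.range (d + 1) ⊆ M
    · exact full M Q₀ hfull hcomap hmono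
    · obtain ⟨j, hjr, hjM⟩ := Finset.not_subset.1 hfull
      obtain ⟨𝔠, h𝔠, hlow, hupp⟩ :=
        exists_new hinj P hPprime hP0 hPmono hPic M Q₀ hcomap hmono j
      have hss : (Finset.range (d + 1) \ insert j M) ⊂ (Finset.range (d + 1) \ M) := by
        refine Finset.ssubset_iff_subset_ne.2
          ⟨Finset.sdiff_subset_sdiff (Finset.Subset.refl _) (Finset.subset_insert _ _), ?_⟩
        intro heq
        have h1 : j ∈ Finset.range (d + 1) \ insert j M := by
          rw [heq]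
          exact Finset.mem_sdiff.2 ⟨hjr, hjM⟩
        exact (Finset.mem_sdiff.1 h1).2 (Finset.mem_insert_self _ _)
      have hcard' : (Finset.range (d + 1) \ insert j M).card ≤ n := by
        have := Finset.card_lt_card hss
        omega
      have hcomap' : ∀ j' ∈ insert j M,
          ((Function.update Q₀ j 𝔠) j').asIdeal.comap (algebraMap R A) = P j' := by
        intro j' hj'
        by_cases hjj : j' = j
        · subst hjj
          rw [Function.update_self]
          exact h𝔠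
        · rw [Function.update_of_ne hjj]
          exact hcomap j' ((Finset.mem_insert.1 hj').resolve_left hjj)
      have hmono' : ∀ j₁ ∈ insert j M, ∀ j₂ ∈ insert j M, j₁ ≤ j₂ →
          (Function.update Q₀ j 𝔠) j₁ ≤ (Function.update Q₀ j 𝔠) j₂ := by
        intro j₁ hj₁ j₂ hj₂ hle
        by_cases h1 : j₁ = j
        · by_cases h2 : j₂ = j
          · rw [h1, h2]
          · have hj₂M : j₂ ∈ M := (Finset.mem_insert.1 hj₂).resolve_left h2
            rw [h1, Function.update_self, Function.update_of_ne h2]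
            exact hupp j₂ hj₂M (lt_of_le_of_ne (h1 ▸ hle) (Ne.symm h2))
        · have hj₁M : j₁ ∈ M := (Finset.mem_insert.1 hj₁).resolve_left h1
          by_cases h2 : j₂ = j
          · rw [h2, Function.update_self, Function.update_of_ne h1]
            exact hlow j₁ hj₁M (lt_of_le_of_ne (h2 ▸ hle) h1)
          · have hj₂M : j₂ ∈ M := (Finset.mem_insert.1 hj₂).resolve_left h2
            rw [Function.update_of_ne h1, Function.update_of_ne h2]
            exact hmono j₁ hj₁M j₂ hj₂M hle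
      obtain ⟨Q, hQ1, hQ2, hQ3⟩ := ih (insert j M) (Function.update Q₀ j 𝔠) hcard' hcomap' hmono'
      refine ⟨Q, hQ1, hQ2, fun j' hj' => ?_⟩
      rw [hQ3 j' (Finset.mem_insert_of_mem hj')]
      have hne : j' ≠ j := fun h => hjM (h ▸ hj')
      exact Function.update_of_ne hne _ _

end Fill

section Dim

variable {k : Type u} [Field k]

/-- dimension of the quotient by a prime contracting to `Pj` under a finite map -/
lemma ringKrullDim_quotient_of_comap {A : Type u} [CommRing A] [Algebra k A] {d : ℕ}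
    (φ : MvPolynomial (Fin d) k →ₐ[k] A) (hφ : φ.toRingHom.Finite) (𝔮 : Ideal A) (m : ℕ)
    (h : 𝔮.comap φ = Pj k d m) : ringKrullDim (A ⧸ 𝔮) = ((d - m : ℕ) : WithBot ℕ∞) := by
  letI : Algebra (MvPolynomial (Fin d) k) A := φ.toRingHom.toAlgebra
  haveI : Algebra.IsIntegral (MvPolynomial (Fin d) k) A := ⟨hφ.to_isIntegral⟩
  have h' : 𝔮.comap (algebraMap (MvPolynomial (Fin d) k) A) = Pj k d m := h
  have h1 : ringKrullDim (A ⧸ 𝔮) =
      ringKrullDim (MvPolynomial (Fin d) k ⧸ 𝔮.comap (algebraMap (MvPolynomial (Fin d) k) A)) :=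
    le_antisymm
      (Groth.Agent.Lib.Helper12.ringKrullDim_le_of_isIntegral
        (R := MvPolynomial (Fin d) k ⧸ 𝔮.comap (algebraMap (MvPolynomial (Fin d) k) A))
        (S := A ⧸ 𝔮))
      (Groth.Agent.Lib.Helper12.ringKrullDim_le_of_isIntegral_of_injective
        (R := MvPolynomial (Fin d) k ⧸ 𝔮.comap (algebraMap (MvPolynomial (Fin d) k) A))
        (S := A ⧸ 𝔮) Ideal.algebraMap_quotient_injective)
  rw [h1, ringKrullDim_eq_of_ringEquiv (Ideal.quotEquivOfEq h'), ringKrullDim_quot]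

lemma ringKrullDim_of_finite_injective {A : Type u} [CommRing A] [Algebra k A] {s : ℕ}
    (g : MvPolynomial (Fin s) k →ₐ[k] A) (hginj : Function.Injective g)
    (hg : g.toRingHom.Finite) : ringKrullDim A = (s : WithBot ℕ∞) := by
  letI : Algebra (MvPolynomial (Fin s) k) A := g.toRingHom.toAlgebra
  haveI : Algebra.IsIntegral (MvPolynomial (Fin s) k) A := ⟨hg.to_isIntegral⟩
  have hinj' : Function.Injective (algebraMap (MvPolynomial (Fin s) k) A) := hginj
  refine le_antisymm ?_ ?_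
  · have := Groth.Agent.Lib.Helper12.ringKrullDim_le_of_isIntegral
      (R := MvPolynomial (Fin s) k) (S := A)
    rwa [Groth.Agent.Lib.Helper12.ringKrullDim_mvPolynomial_field] at this
  · have := Groth.Agent.Lib.Helper12.ringKrullDim_le_of_isIntegral_of_injective
      (R := MvPolynomial (Fin s) k) (S := A) hinj'
    rwa [Groth.Agent.Lib.Helper12.ringKrullDim_mvPolynomial_field] at this

end Dim

end Groth.Agent.Lib.Helper19.ChainNN
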