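import Mathlib

/-!
# Coefficients of characteristic polynomials of endomorphisms of a lattice

For a finitely generated module `E` over a Noetherian ring `A` whose base change to the total ring
of fractions `K` is free, the coefficients of the characteristic polynomials of the endomorphisms of
`E` all stabilise the "determinant lattice" `L ⊆ K`, and the stabiliser of `L` is a finite
`A`-module.
-/

open Polynomial Matrix Module

universe u

namespace Helper19.CharCoef

section Mat

variable {K : Type*} [CommRing K] {n : Type*} [Fintype n] [DecidableEq n]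

theorem prod_expand (p q : n → K) :
    ∏ i, ((X : K[X]) * C (p i) - C (q i)) =
      ∑ t ∈ (Finset.univ : Finset n).powerset,
        X ^ t.card * C (∏ i, if i ∈ t then p i else - q i) := by
  have h0 : ∀ i, (X : K[X]) * C (p i) - C (q i) = X * C (p i) + C (-(q i)) := by
    intro i; rw [map_neg, sub_eq_add_neg]
  simp only [h0]
  rw [Finset.prod_add]
  refine Finset.sum_congr rfl fun t _ => ?_
  have hsplit : ∏ i, (if i ∈ t then p i else - q i) =
      (∏ i ∈ t, p i) * ∏ i ∈ Finset.univ \ t, - q i := by
    calc ∏ i, (if i ∈ t then p i else - q i)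
        = (∏ i ∈ Finset.univ \ t, (if i ∈ t then p i else - q i)) *
            ∏ i ∈ t, (if i ∈ t then p i else - q i) :=
          (Finset.prod_sdiff (Finset.subset_univ t)).symm
      _ = (∏ i ∈ Finset.univ \ t, - q i) * ∏ i ∈ t, p i := by
          congr 1
          · exact Finset.prod_congr rfl fun i hi => if_neg (Finset.mem_sdiff.mp hi).2
          · exact Finset.prod_congr rfl fun i hi => if_pos hi
      _ = _ := mul_comm _ _
  rw [hsplit, map_mul, map_prod, map_prod, Finset.prod_mul_distrib, Finset.prod_const, mul_assoc]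

theorem det_expand (P Q : Matrix n n K) :
    (Matrix.of fun i j => (X : K[X]) * C (P i j) - C (Q i j)).det =
      ∑ t ∈ (Finset.univ : Finset n).powerset,
        X ^ t.card * C ((Matrix.of fun i j => if j ∈ t then P i j else - Q i j).det) := by
  rw [Matrix.det_apply']
  simp only [Matrix.of_apply]
  have h1 : ∀ σ : Equiv.Perm n, ∏ i, ((X : K[X]) * C (P (σ i) i) - C (Q (σ i) i)) =
      ∑ t ∈ (Finset.univ : Finset n).powerset,
        X ^ t.card * C (∏ i, if i ∈ t then P (σ i) i else - Q (σ i) i) :=
    fun σ => prod_expand _ _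
  simp only [h1]
  have h2 : ∀ t : Finset n, (Matrix.of fun i j => if j ∈ t then P i j else - Q i j).det =
      ∑ σ : Equiv.Perm n, ((Equiv.Perm.sign σ : ℤ) : K) *
        ∏ i, if i ∈ t then P (σ i) i else - Q (σ i) i := by
    intro t
    rw [Matrix.det_apply']
    rfl
  simp only [h2, map_sum, Finset.mul_sum, map_mul, map_intCast]
  refine Finset.sum_comm.trans ?_
  refine Finset.sum_congr rfl fun t _ => Finset.sum_congr rfl fun σ _ => ?_
  ring

theorem charpoly_mul_C_det (W P : Matrix n n K) :
    W.charpoly * C P.det = ∑ t ∈ (Finset.univ : Finset n).powerset,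
      X ^ t.card * C ((Matrix.of fun i j => if j ∈ t then P i j else - (W * P) i j).det) := by
  rw [← det_expand P (W * P)]
  have hmat : charmatrix W * (C : K →+* K[X]).mapMatrix P =
      Matrix.of fun i j => (X : K[X]) * C (P i j) - C ((W * P) i j) := by
    ext i j
    simp only [Matrix.mul_apply, Matrix.charmatrix_apply, RingHom.mapMatrix_apply,
      Matrix.map_apply, Matrix.of_apply, sub_mul, Finset.sum_sub_distrib, map_sum, map_mul]
    congr 1
    simp [Matrix.diagonal_apply]
  rw [← hmat, Matrix.det_mul, ← RingHom.map_det]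
  rfl

end Mat

section Mod

variable {A K V ι : Type*} [CommRing A] [CommRing K] [Algebra A K] [AddCommGroup V] [Module K V]
  [Module A V] [IsScalarTower A K V] [Fintype ι] [DecidableEq ι] (b : Basis ι K V)
  (E' : Submodule A V)

/-- The `A`-span of the determinants of the `ι`-tuples of elements of `E'`. -/
def detSpan : Submodule A K :=
  Submodule.span A {d | ∃ x : ι → V, (∀ i, x i ∈ E') ∧ d = b.det x}

/-- The stabiliser of an `A`-submodule of `K`. -/
def stab (L : Submodule A K) : Subalgebra A K where
  carrier := {k | ∀ ℓ ∈ L, k * ℓ ∈ L}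
  mul_mem' := fun {a c} ha hc ℓ hℓ => by rw [mul_assoc]; exact ha _ (hc _ hℓ)
  add_mem' := fun {a c} ha hc ℓ hℓ => by rw [add_mul]; exact L.add_mem (ha _ hℓ) (hc _ hℓ)
  one_mem' := fun ℓ hℓ => by rw [one_mul]; exact hℓ
  zero_mem' := fun ℓ hℓ => by rw [zero_mul]; exact L.zero_mem
  algebraMap_mem' := fun r ℓ hℓ => by rw [← Algebra.smul_def]; exact L.smul_mem r hℓ

theorem mem_stab (L : Submodule A K) (k : K) : k ∈ stab L ↔ ∀ ℓ ∈ L, k * ℓ ∈ L := Iff.rfl

theorem coeff_mem_stab [Module.Free K V] [Module.Finite K V] (w : V →ₗ[K] V)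
    (hw : ∀ x ∈ E', w x ∈ E') (j : ℕ) :
    w.charpoly.coeff j ∈ stab (detSpan b E') := by
  refine (mem_stab _ _).mpr fun ℓ hℓ => ?_
  induction hℓ using Submodule.span_induction with
  | mem d hd =>
    obtain ⟨x, hx, rfl⟩ := hd
    have hWP : LinearMap.toMatrix b b w * b.toMatrix x = b.toMatrix (fun j => w (x j)) := by
      ext i j
      have := congrFun (LinearMap.toMatrix_mulVec_repr b b w (x j)) i
      rw [Matrix.mul_apply]
      simpa [Matrix.mulVec, dotProduct, Basis.toMatrix_apply] using this
    have key := charpoly_mul_C_det (LinearMap.toMatrix b b w) (b.toMatrix x)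
    have hcp : (LinearMap.toMatrix b b w).charpoly = w.charpoly := LinearMap.charpoly_toMatrix w b
    have hdet : (b.toMatrix x).det = b.det x := (Basis.det_apply b x).symm
    rw [hcp, hdet] at key
    have := congrArg (fun f => Polynomial.coeff f j) key
    simp only [Polynomial.coeff_mul_C, Polynomial.finset_sum_coeff] at this
    rw [this]
    refine Submodule.sum_mem _ fun t _ => ?_
    rw [Polynomial.coeff_X_pow]
    split_ifs
    · rw [one_mul]
      refine Submodule.subset_span ⟨fun j => if j ∈ t then x j else - w (x j), ?_, ?_⟩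
      · intro i
        show (if i ∈ t then x i else - w (x i)) ∈ E'
        split_ifs
        · exact hx i
        · exact E'.neg_mem (hw _ (hx i))
      · rw [Basis.det_apply]
        congr 1
        ext i j
        rw [hWP]
        by_cases hj : j ∈ t <;> simp [Basis.toMatrix_apply, hj]
    · rw [zero_mul]
      exact Submodule.zero_mem _
  | zero => rw [mul_zero]; exact Submodule.zero_mem _
  | add y z _ _ hy hz => rw [mul_add]; exact Submodule.add_mem _ hy hz
  | smul r y _ hy => rw [mul_smul_comm]; exact Submodule.smul_mem _ r hy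

theorem stab_le_span (t t' : K) (htt : t * t' = 1)
    (hden : ∀ x ∈ E', ∀ i, ∃ a : A, algebraMap A K a = t * b.repr x i)
    (x0 : ι → V) (hx0 : ∀ i, x0 i ∈ E') (d0' : K) (hd0 : b.det x0 * d0' = 1) :
    Subalgebra.toSubmodule (stab (detSpan b E')) ≤
      Submodule.span A {t' ^ Fintype.card ι * d0'} := by
  have hL : detSpan b E' ≤ Submodule.span A {t' ^ Fintype.card ι} := by
    refine Submodule.span_le.mpr ?_
    rintro d ⟨x, hx, rfl⟩
    choose m hm using fun i j => hden (x j) (hx j) i
    have h1 : (algebraMap A K).mapMatrix (Matrix.of m) = t • b.toMatrix x := by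
      ext i j
      simp [Basis.toMatrix_apply, hm]
    have h2 : algebraMap A K (Matrix.of m).det = t ^ Fintype.card ι * b.det x := by
      rw [RingHom.map_det, h1, Matrix.det_smul, Basis.det_apply]
    refine Submodule.mem_span_singleton.mpr ⟨(Matrix.of m).det, ?_⟩
    rw [Algebra.smul_def, h2]
    calc t ^ Fintype.card ι * b.det x * t' ^ Fintype.card ι
        = (t * t') ^ Fintype.card ι * b.det x := by ring
      _ = b.det x := by rw [htt, one_pow, one_mul]
  intro k hk
  have hk2 : ∀ ℓ ∈ detSpan b E', k * ℓ ∈ detSpan b E' :=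
    (mem_stab _ _).mp ((Subalgebra.mem_toSubmodule _).mp hk)
  have hk' : k * b.det x0 ∈ detSpan b E' := hk2 _ (Submodule.subset_span ⟨x0, hx0, rfl⟩)
  obtain ⟨a, ha⟩ := Submodule.mem_span_singleton.mp (hL hk')
  refine Submodule.mem_span_singleton.mpr ⟨a, ?_⟩
  rw [← smul_mul_assoc, ha, mul_assoc, hd0, mul_one]

end Mod

theorem main (A : Type u) [CommRing A] [IsNoetherianRing A] (K : Type u) [CommRing K] [Algebra A K]
    [IsFractionRing A K] (E : Type u) [AddCommGroup E] [Module A E] [Module.Finite A E]
    [Module.Free K (TensorProduct A K E)] :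
    (Algebra.adjoin A {c : K | ∃ (v : E →ₗ[A] E) (j : ℕ),
      c = ((v.baseChange K).charpoly).coeff j}).toSubmodule.FG := by
  classical
  obtain ⟨b, -⟩ : ∃ b : Basis (Module.Free.ChooseBasisIndex K (TensorProduct A K E)) K
      (TensorProduct A K E), b = Module.Free.chooseBasis K _ := ⟨_, rfl⟩
  obtain ⟨E', hE'⟩ : ∃ E' : Submodule A (TensorProduct A K E),
      E' = LinearMap.range (TensorProduct.mk A K E 1) := ⟨_, rfl⟩
  have hmemE' : ∀ y : E, (1 : K) ⊗ₜ[A] y ∈ E' := fun y => hE' ▸ ⟨y, rfl⟩
  -- common denominator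
  have hden : ∃ s : nonZeroDivisors A, ∀ x ∈ E', ∀ i,
      ∃ a : A, algebraMap A K a = algebraMap A K s * b.repr x i := by
    obtain ⟨S, hS⟩ := Module.finite_def.mp (inferInstance : Module.Finite A E)
    obtain ⟨s, hs⟩ := IsLocalization.exist_integer_multiples_of_finset (nonZeroDivisors A)
      ((S ×ˢ Finset.univ).image fun p : E × Module.Free.ChooseBasisIndex K (TensorProduct A K E) =>
        b.repr ((1 : K) ⊗ₜ[A] p.1) p.2)
    refine ⟨s, ?_⟩
    have hall : ∀ y : E, ∀ i, ∃ a : A,
        algebraMap A K a = algebraMap A K s * b.repr ((1 : K) ⊗ₜ[A] y) i := by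
      intro y
      have hy : y ∈ Submodule.span A (S : Set E) := hS ▸ Submodule.mem_top
      induction hy using Submodule.span_induction with
      | mem y hy =>
        intro i
        obtain ⟨a, ha⟩ := hs _ (Finset.mem_image.mpr
          ⟨(y, i), Finset.mem_product.mpr ⟨Finset.mem_coe.mp hy, Finset.mem_univ i⟩, rfl⟩)
        exact ⟨a, by rw [ha, Algebra.smul_def]⟩
      | zero => intro i; exact ⟨0, by simp⟩
      | add y z _ _ hy hz =>
        intro i
        obtain ⟨a, ha⟩ := hy i
        obtain ⟨a', ha'⟩ := hz i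
        exact ⟨a + a', by
          rw [map_add, ha, ha', TensorProduct.tmul_add, map_add, Finsupp.add_apply, mul_add]⟩
      | smul r y _ hy =>
        intro i
        obtain ⟨a, ha⟩ := hy i
        refine ⟨r * a, ?_⟩
        have h3 : (1 : K) ⊗ₜ[A] (r • y) = (algebraMap A K r) • ((1 : K) ⊗ₜ[A] y) := by
          rw [TensorProduct.tmul_smul, algebraMap_smul]
        rw [h3, map_smul, Finsupp.smul_apply, smul_eq_mul, map_mul, ha]
        ring
    rintro x hx i
    rw [hE'] at hx
    obtain ⟨y, rfl⟩ := hx
    exact hall y i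
  obtain ⟨s, hs⟩ := hden
  obtain ⟨t', ht'⟩ := isUnit_iff_exists_inv.mp (IsLocalization.map_units K s)
  -- a tuple of lattice elements with invertible determinant
  have hloc : IsLocalizedModule (nonZeroDivisors A) (TensorProduct.mk A K E 1) :=
    (isLocalizedModule_iff_isBaseChange (nonZeroDivisors A) K _).mpr
      (TensorProduct.isBaseChange A E K)
  choose yz hyz using fun i =>
    IsLocalizedModule.surj (nonZeroDivisors A) (TensorProduct.mk A K E 1) (b i)
  have hx0 : ∀ i, (algebraMap A K (yz i).2 : K) • b i ∈ E' := by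
    intro i
    have h4 : (algebraMap A K (yz i).2 : K) • b i = (1 : K) ⊗ₜ[A] (yz i).1 := by
      rw [algebraMap_smul, ← Submonoid.smul_def, hyz i, TensorProduct.mk_apply]
    rw [h4]
    exact hmemE' _
  have hdet0 : b.det (fun i => (algebraMap A K (yz i).2 : K) • b i) =
      ∏ i, algebraMap A K (yz i).2 := by
    have h := b.det.toMultilinearMap.map_smul_univ (fun i => (algebraMap A K (yz i).2 : K))
      (fun i => b i)
    have h1 : b.det (fun i => b i) = 1 := b.det_self
    calc b.det (fun i => (algebraMap A K (yz i).2 : K) • b i)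
        = (∏ i, algebraMap A K (yz i).2) • b.det (fun i => b i) := h
      _ = _ := by rw [h1, smul_eq_mul, mul_one]
  have hunit : IsUnit (∏ i, algebraMap A K ((yz i).2 : A)) := by
    rw [← map_prod]
    exact IsLocalization.map_units K
      (⟨_, Submonoid.prod_mem _ fun i _ => (yz i).2.2⟩ : nonZeroDivisors A)
  obtain ⟨d0', hd0'⟩ := isUnit_iff_exists_inv.mp hunit
  have hstab := stab_le_span b E' (algebraMap A K s) t' ht' hs
    (fun i => (algebraMap A K (yz i).2 : K) • b i) hx0 d0' (by rw [hdet0]; exact hd0')
  have hadj : Algebra.adjoin A {c : K | ∃ (v : E →ₗ[A] E) (j : ℕ),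
      c = ((v.baseChange K).charpoly).coeff j} ≤ stab (detSpan b E') := by
    refine Algebra.adjoin_le ?_
    rintro c ⟨v, j, rfl⟩
    refine coeff_mem_stab b E' (v.baseChange K) ?_ j
    intro x hx
    rw [hE'] at hx ⊢
    obtain ⟨y, rfl⟩ := hx
    exact ⟨v y, by simp [LinearMap.baseChange_tmul]⟩
  have hN : IsNoetherian A (Submodule.span A
      {t' ^ Fintype.card (Module.Free.ChooseBasisIndex K (TensorProduct A K E)) * d0'}) :=
    isNoetherian_of_fg_of_noetherian _ (Submodule.fg_span_singleton _)
  exact isNoetherian_submodule.mp hN _ fun x hx =>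
    hstab ((Subalgebra.mem_toSubmodule _).mpr (hadj ((Subalgebra.mem_toSubmodule _).mp hx)))

end Helper19.CharCoef
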