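import Groth.Agent.Lib.Helper19.Reynolds
import Groth.Agent.Lib.Helper28.ComodHom

/-!
# Coefficient spaces and subcoalgebras over a field (helper19)

* `lsl φ : M ⊗ N → N`: left slices, `mem_range_lTensor_iff`, `mem_range_map_of_mem`
  (`(E ⊗ N) ∩ (M ⊗ D) = E ⊗ D`);
* `cfm φ : V → C`: the coefficient map `v ↦ (φ ⊗ id)(ρ v)` of a comodule, a comodule map to the regular
  comodule (`isComodHom_cfm`), `apply_cfm`, `counit_cfm`;
* `cfS S`: the coefficient space of a subspace `S` of a comodule; `isLeast_cfS_top`,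
  `isLeast_cfS_regular`;
* `IsSubcoalg`, `IsSimpleSubcoalg`, `isSubcoalg_iff` (stable under left and right operators),
  closure under `⊓`, `⨆`; `isSubcoalg_cfS`.
-/

set_option autoImplicit false
set_option linter.unusedSectionVars false
universe u v w w'

open TensorProduct

namespace Groth.Agent.Lib.Helper19.Coalg

open Groth.Agent.Lib.Helper19.Reynolds
open Groth.Agent.Lib.Helper28.ComodHom

section LeftSlice

variable {K : Type u} [Field K] {M : Type*} {N : Type*} [AddCommGroup M] [Module K M]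
  [AddCommGroup N] [Module K N]

/-- The left slice map `M ⊗ N → N` attached to a linear form on `M`. -/
noncomputable def lsl (φ : M →ₗ[K] K) : M ⊗[K] N →ₗ[K] N :=
  (TensorProduct.lid K N).toLinearMap ∘ₗ LinearMap.rTensor N φ

@[simp] lemma lsl_tmul (φ : M →ₗ[K] K) (m : M) (n : N) : lsl φ (m ⊗ₜ[K] n) = φ m • n := by
  simp [lsl]

lemma lsl_lTensor {N' : Type*} [AddCommGroup N'] [Module K N'] (g : N →ₗ[K] N')
    (φ : M →ₗ[K] K) (x : M ⊗[K] N) : lsl φ (g.lTensor M x) = g (lsl φ x) := by
  induction x using TensorProduct.induction_on with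
  | zero => simp
  | tmul m n => simp
  | add a b ha hb => simp only [map_add, ha, hb]

lemma lsl_map {M' : Type*} {N' : Type*} [AddCommGroup M'] [Module K M'] [AddCommGroup N']
    [Module K N'] (h : M' →ₗ[K] M) (g : N' →ₗ[K] N) (φ : M →ₗ[K] K) (x : M' ⊗[K] N') :
    lsl φ (TensorProduct.map h g x) = g (lsl (φ ∘ₗ h) x) := by
  induction x using TensorProduct.induction_on with
  | zero => simp
  | tmul m n => simp
  | add a b ha hb => simp only [map_add, ha, hb]

lemma lsl_rTensor {M' : Type*} [AddCommGroup M'] [Module K M'] (h : M' →ₗ[K] M)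
    (φ : M →ₗ[K] K) (x : M' ⊗[K] N) : lsl φ (h.rTensor N x) = lsl (φ ∘ₗ h) x := by
  induction x using TensorProduct.induction_on with
  | zero => simp
  | tmul m n => simp
  | add a b ha hb => simp only [map_add, ha, hb]

lemma slice_map {M' : Type*} {N' : Type*} [AddCommGroup M'] [Module K M'] [AddCommGroup N']
    [Module K N'] (h : M' →ₗ[K] M) (g : N' →ₗ[K] N) (f : N →ₗ[K] K) (x : M' ⊗[K] N') :
    slice f (TensorProduct.map h g x) = h (slice (f ∘ₗ g) x) := by
  induction x using TensorProduct.induction_on with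
  | zero => simp
  | tmul m n => simp
  | add a b ha hb => simp only [map_add, ha, hb]

lemma apply_slice (f : N →ₗ[K] K) (φ : M →ₗ[K] K) (x : M ⊗[K] N) :
    φ (slice f x) = f (lsl φ x) := by
  induction x using TensorProduct.induction_on with
  | zero => simp
  | tmul m n => simp [mul_comm]
  | add a b ha hb => simp only [map_add, ha, hb]

lemma lsl_eq_slice_comm (φ : M →ₗ[K] K) (x : M ⊗[K] N) :
    lsl φ x = slice φ (TensorProduct.comm K M N x) := by
  induction x using TensorProduct.induction_on with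
  | zero => simp
  | tmul m n => simp
  | add a b ha hb => simp only [map_add, ha, hb]

lemma eq_zero_of_lsl_eq_zero (y : M ⊗[K] N) (h : ∀ φ : M →ₗ[K] K, lsl φ y = 0) : y = 0 := by
  have h1 : TensorProduct.comm K M N y = 0 := by
    apply eq_zero_of_slice_eq_zero
    intro φ
    rw [← lsl_eq_slice_comm]
    exact h φ
  exact (TensorProduct.comm K M N).map_eq_zero_iff.mp h1

lemma mem_range_lTensor_iff (D : Submodule K N) (x : M ⊗[K] N) :
    x ∈ LinearMap.range (D.subtype.lTensor M) ↔ ∀ φ : M →ₗ[K] K, lsl φ x ∈ D := by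
  constructor
  · rintro ⟨y, rfl⟩ φ
    rw [lsl_lTensor]
    exact (lsl φ y).2
  · intro h
    rw [← lTensor_mkQ, LinearMap.mem_ker]
    apply eq_zero_of_lsl_eq_zero
    intro φ
    rw [lsl_lTensor, Submodule.mkQ_apply, Submodule.Quotient.mk_eq_zero]
    exact h φ

/-- `(E ⊗ N) ∩ (M ⊗ D) = E ⊗ D` inside `M ⊗ N`. -/
lemma mem_range_map_of_mem (E : Submodule K M) (D : Submodule K N) (x : M ⊗[K] N)
    (h1 : x ∈ LinearMap.range (E.subtype.rTensor N))
    (h2 : x ∈ LinearMap.range (D.subtype.lTensor M)) :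
    x ∈ LinearMap.range (TensorProduct.map E.subtype D.subtype) := by
  obtain ⟨p, hp⟩ := LinearMap.exists_leftInverse_of_injective E.subtype (Submodule.ker_subtype E)
  obtain ⟨z, rfl⟩ := h1
  obtain ⟨y, hy⟩ := h2
  refine ⟨p.rTensor D y, ?_⟩
  have ha : ∀ y : M ⊗[K] D, TensorProduct.map E.subtype D.subtype (p.rTensor D y) =
      (E.subtype ∘ₗ p).rTensor N (D.subtype.lTensor M y) := by
    intro y
    induction y using TensorProduct.induction_on with
    | zero => simp
    | tmul m d => simp
    | add a b ha hb => simp only [map_add, ha, hb]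
  have hb : ∀ z : E ⊗[K] N, (E.subtype ∘ₗ p).rTensor N (E.subtype.rTensor N z) =
      E.subtype.rTensor N z := by
    intro z
    induction z using TensorProduct.induction_on with
    | zero => simp
    | tmul e n =>
      have h3 : p (e : M) = e := by simpa using LinearMap.congr_fun hp e
      simp [h3]
    | add a b ha hb => simp only [map_add, ha, hb]
  rw [ha, hy, hb]

/-- Linear forms separate points. -/
lemma eq_of_forall_apply_eq {c c' : N} (h : ∀ f : N →ₗ[K] K, f c = f c') : c = c' := by
  rw [← sub_eq_zero]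
  apply (Module.forall_dual_apply_eq_zero_iff K _).mp
  intro f
  have := h f
  show f (c - c') = 0
  rw [map_sub, this, sub_self]

lemma exists_apply_ne_zero {c : N} (hc : c ≠ 0) : ∃ f : N →ₗ[K] K, f c ≠ 0 := by
  by_contra hcon
  push Not at hcon
  exact hc ((Module.forall_dual_apply_eq_zero_iff K c).mp hcon)

/-- Finiteness of the space of left slices of a tensor. -/
lemma exists_finite_span_lsl (t : M ⊗[K] N) :
    ∃ S : Finset N, ∀ φ : M →ₗ[K] K, lsl φ t ∈ Submodule.span K (S : Set N) := by
  classical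
  induction t using TensorProduct.induction_on with
  | zero => exact ⟨∅, fun f => by simp⟩
  | tmul m n =>
    exact ⟨{n}, fun f => by
      rw [lsl_tmul]
      exact Submodule.smul_mem _ _ (Submodule.subset_span (by simp))⟩
  | add a b ha hb =>
    obtain ⟨S, hS⟩ := ha
    obtain ⟨S', hS'⟩ := hb
    refine ⟨S ∪ S', fun f => ?_⟩
    rw [map_add]
    exact Submodule.add_mem _ (Submodule.span_mono (by simp) (hS f))
      (Submodule.span_mono (by simp) (hS' f))

end LeftSlice

section Coeff

variable {K : Type u} {C : Type v} [Field K] [AddCommGroup C] [Module K C] [Coalgebra K C]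
variable {V : Type w} [AddCommGroup V] [Module K V] [HopfRep.Comod K C V]

/-- The coefficient map `v ↦ (φ ⊗ id)(ρ v)` of a comodule. -/
noncomputable def cfm (φ : V →ₗ[K] K) : V →ₗ[K] C :=
  lsl φ ∘ₗ HopfRep.Comod.coact (k := K) (A := C)

lemma cfm_apply (φ : V →ₗ[K] K) (v : V) :
    cfm (C := C) φ v = lsl φ (HopfRep.Comod.coact (k := K) (A := C) v) := rfl

/-- `f (c_{φ,v}) = φ (T_f v)`. -/
lemma apply_cfm (f : C →ₗ[K] K) (φ : V →ₗ[K] K) (v : V) :
    f (cfm (C := C) φ v) = φ (opT K C V f v) := by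
  rw [cfm_apply, opT_apply, apply_slice]

lemma counit_cfm (φ : V →ₗ[K] K) (v : V) :
    Coalgebra.counit (R := K) (A := C) (cfm (C := C) φ v) = φ v := by
  rw [apply_cfm, opT_counit]

/-- On the regular comodule: `g (R_f c) = (g * f) c`. -/
lemma apply_opT_regular (g f : C →ₗ[K] K) (c : C) :
    g (opT K C C f c) = conv g f c := by
  rw [opT_apply]
  show g (slice f (Coalgebra.comul (R := K) c)) = _
  unfold conv
  simp only [LinearMap.comp_apply]
  generalize Coalgebra.comul (R := K) c = x
  induction x using TensorProduct.induction_on with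
  | zero => simp
  | tmul a b => simp [mul_comm]
  | add a b ha hb => simp only [map_add, ha, hb]

/-- `c_{φ, T_f v} = R_f (c_{φ,v})`. -/
lemma cfm_opT (φ : V →ₗ[K] K) (f : C →ₗ[K] K) (v : V) :
    cfm (C := C) φ (opT K C V f v) = opT K C C f (cfm (C := C) φ v) := by
  apply eq_of_forall_apply_eq (K := K)
  intro g
  rw [apply_cfm, opT_comp, apply_opT_regular, apply_cfm]

/-- The coefficient maps are comodule maps to the regular comodule. -/
lemma isComodHom_cfm (φ : V →ₗ[K] K) : Hoch.IsComodHom C (cfm (C := C) φ) :=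
  isComodHom_of_map_opT _ (fun f v => cfm_opT φ f v)

/-- On the regular comodule, `cfm counit` is the identity. -/
lemma cfm_counit_regular (c : C) :
    cfm (C := C) (V := C) (Coalgebra.counit (R := K) (A := C)) c = c := by
  rw [cfm_apply]
  show lsl _ (Coalgebra.comul (R := K) c) = c
  unfold lsl
  rw [LinearMap.comp_apply, Coalgebra.rTensor_counit_comul]
  simp

/-- `L_f (c_{φ,v}) = c_{f ∘ c_φ, v}`. -/
lemma cfm_regular_cfm (f : C →ₗ[K] K) (φ : V →ₗ[K] K) (v : V) :
    cfm (C := C) (V := C) f (cfm (C := C) φ v) = cfm (C := C) (f ∘ₗ cfm (C := C) φ) v := by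
  apply eq_of_forall_apply_eq (K := K)
  intro g
  have h1 : g (cfm (C := C) (V := C) f (cfm (C := C) φ v)) =
      f (cfm (C := C) φ (opT K C V g v)) := by
    rw [apply_cfm, ← cfm_opT]
  have h2 : g (cfm (C := C) (f ∘ₗ cfm (C := C) φ) v) = f (cfm (C := C) φ (opT K C V g v)) := by
    rw [apply_cfm]
    rfl
  rw [h1, h2]

variable {W : Type w'} [AddCommGroup W] [Module K W] [HopfRep.Comod K C W]

lemma cfm_comp_of_isComodHom (g : V →ₗ[K] W) (hg : Hoch.IsComodHom C g) (ψ : W →ₗ[K] K) (v : V) :
    cfm (C := C) ψ (g v) = cfm (C := C) (ψ ∘ₗ g) v := by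
  apply eq_of_forall_apply_eq (K := K)
  intro f
  rw [apply_cfm, apply_cfm, ← map_opT g hg]
  rfl

/-- `c_{φ,s}` for `s` in a subcomodule `S` only depends on `φ|_S`. -/
lemma cfm_congr (S : Submodule K V) (hS : HopfRep.IsSubcomod (k := K) (A := C) S)
    (φ φ' : V →ₗ[K] K) (h : ∀ s ∈ S, φ s = φ' s) {s : V} (hs : s ∈ S) :
    cfm (C := C) φ s = cfm (C := C) φ' s := by
  apply eq_of_forall_apply_eq (K := K)
  intro f
  rw [apply_cfm, apply_cfm]
  exact h _ ((isSubcomod_iff S).mp hS f s hs)

/-- The coefficient space of a subspace of a comodule. -/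
noncomputable def cfS (S : Submodule K V) : Submodule K C :=
  ⨆ φ : V →ₗ[K] K, S.map (cfm (C := C) φ)

lemma cfm_mem_cfS (S : Submodule K V) (φ : V →ₗ[K] K) {s : V} (hs : s ∈ S) :
    cfm (C := C) φ s ∈ cfS (C := C) S :=
  (le_iSup (fun φ : V →ₗ[K] K => S.map (cfm (C := C) φ)) φ) (Submodule.mem_map_of_mem hs)

lemma cfS_le_iff (S : Submodule K V) (D : Submodule K C) :
    cfS (C := C) S ≤ D ↔ ∀ φ : V →ₗ[K] K, ∀ s ∈ S, cfm (C := C) φ s ∈ D := by
  unfold cfS
  rw [iSup_le_iff]
  constructor
  · intro h φ s hs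
    exact h φ (Submodule.mem_map_of_mem hs)
  · rintro h φ _ ⟨s, hs, rfl⟩
    exact h φ s hs

lemma cfS_mono {S S' : Submodule K V} (h : S ≤ S') : cfS (C := C) S ≤ cfS (C := C) S' := by
  rw [cfS_le_iff]
  intro φ s hs
  exact cfm_mem_cfS S' φ (h hs)

/-- The coefficient space of the whole comodule is the least subspace through which the coaction
factors. -/
lemma isLeast_cfS_top :
    IsLeast {D' : Submodule K C | ∀ e : V, HopfRep.Comod.coact (k := K) (A := C) e ∈
      LinearMap.range (LinearMap.lTensor V D'.subtype)} (cfS (C := C) (⊤ : Submodule K V)) := by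
  constructor
  · intro e
    rw [mem_range_lTensor_iff]
    intro φ
    exact cfm_mem_cfS ⊤ φ (Submodule.mem_top : e ∈ ⊤)
  · intro D' hD'
    rw [cfS_le_iff]
    intro φ s _
    exact (mem_range_lTensor_iff D' _).mp (hD' s) φ

lemma cfS_map_le (S : Submodule K V) (g : V →ₗ[K] W) (hg : Hoch.IsComodHom C g) :
    cfS (C := C) (S.map g) ≤ cfS (C := C) S := by
  rw [cfS_le_iff]
  rintro ψ _ ⟨s, hs, rfl⟩
  rw [cfm_comp_of_isComodHom g hg]
  exact cfm_mem_cfS S _ hs

end Coeff

section Subcoalg

variable {K : Type u} {C : Type v} [Field K] [AddCommGroup C] [Module K C] [Coalgebra K C]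

/-- Subcoalgebras (in the form used by the statements). -/
def IsSubcoalg (B : Submodule K C) : Prop :=
  ∀ b ∈ B, CoalgebraStruct.comul (R := K) b ∈
    LinearMap.range (TensorProduct.map B.subtype B.subtype)

/-- Simple subcoalgebras (in the form used by the statements). -/
def IsSimpleSubcoalg (D : Submodule K C) : Prop :=
  D ≠ ⊥ ∧ IsSubcoalg D ∧ ∀ B : Submodule K C, B ≤ D → IsSubcoalg B → B = ⊥ ∨ B = D

lemma isSubcoalg_iff (B : Submodule K C) :
    IsSubcoalg B ↔ (∀ f : C →ₗ[K] K, ∀ b ∈ B, opT K C C f b ∈ B) ∧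
      (∀ f : C →ₗ[K] K, ∀ b ∈ B, cfm (C := C) (V := C) f b ∈ B) := by
  constructor
  · intro h
    constructor
    · intro f b hb
      obtain ⟨y, hy⟩ := h b hb
      show slice f (Coalgebra.comul (R := K) b) ∈ B
      rw [← hy, slice_map]
      exact Submodule.coe_mem _
    · intro f b hb
      obtain ⟨y, hy⟩ := h b hb
      show lsl f (Coalgebra.comul (R := K) b) ∈ B
      rw [← hy, lsl_map]
      exact Submodule.coe_mem _
  · rintro ⟨h1, h2⟩ b hb
    apply mem_range_map_of_mem
    · exact (mem_range_rTensor_iff B _).mpr (fun f => h1 f b hb)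
    · exact (mem_range_lTensor_iff B _).mpr (fun f => h2 f b hb)

lemma IsSubcoalg.isSubcomod {B : Submodule K C} (hB : IsSubcoalg B) :
    HopfRep.IsSubcomod (k := K) (A := C) B :=
  (isSubcomod_iff B).mpr ((isSubcoalg_iff B).mp hB).1

lemma isSubcoalg_bot : IsSubcoalg (⊥ : Submodule K C) := by
  rw [isSubcoalg_iff]
  constructor
  · intro f b hb
    rw [(Submodule.mem_bot K).mp hb, map_zero]
    exact Submodule.zero_mem _
  · intro f b hb
    rw [(Submodule.mem_bot K).mp hb, map_zero]
    exact Submodule.zero_mem _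

lemma isSubcoalg_inf {B B' : Submodule K C} (hB : IsSubcoalg B) (hB' : IsSubcoalg B') :
    IsSubcoalg (B ⊓ B') := by
  rw [isSubcoalg_iff] at hB hB' ⊢
  exact ⟨fun f b hb => ⟨hB.1 f b hb.1, hB'.1 f b hb.2⟩,
    fun f b hb => ⟨hB.2 f b hb.1, hB'.2 f b hb.2⟩⟩

lemma isSubcoalg_iSup {ι : Sort*} (B : ι → Submodule K C) (h : ∀ i, IsSubcoalg (B i)) :
    IsSubcoalg (⨆ i, B i) := by
  rw [isSubcoalg_iff]
  constructor
  · intro f b hb
    refine Submodule.iSup_induction B (motive := fun b => opT K C C f b ∈ ⨆ i, B i) hb ?_ ?_ ?_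
    · intro i x hx
      exact (le_iSup B i) (((isSubcoalg_iff _).mp (h i)).1 f x hx)
    · rw [map_zero]; exact Submodule.zero_mem _
    · intro x y hx hy
      rw [map_add]; exact Submodule.add_mem _ hx hy
  · intro f b hb
    refine Submodule.iSup_induction B
      (motive := fun b => cfm (C := C) (V := C) f b ∈ ⨆ i, B i) hb ?_ ?_ ?_
    · intro i x hx
      exact (le_iSup B i) (((isSubcoalg_iff _).mp (h i)).2 f x hx)
    · rw [map_zero]; exact Submodule.zero_mem _
    · intro x y hx hy
      rw [map_add]; exact Submodule.add_mem _ hx hy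

variable {V : Type w} [AddCommGroup V] [Module K V] [HopfRep.Comod K C V]

/-- The coefficient space of a subcomodule is a subcoalgebra. -/
lemma isSubcoalg_cfS (S : Submodule K V) (hS : HopfRep.IsSubcomod (k := K) (A := C) S) :
    IsSubcoalg (cfS (C := C) S) := by
  rw [isSubcoalg_iff]
  constructor
  · intro f b hb
    unfold cfS at hb
    refine Submodule.iSup_induction (fun φ : V →ₗ[K] K => S.map (cfm (C := C) φ))
      (motive := fun b => opT K C C f b ∈ cfS (C := C) S) hb ?_ ?_ ?_
    · rintro φ _ ⟨s, hs, rfl⟩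
      rw [← cfm_opT]
      exact cfm_mem_cfS S φ ((isSubcomod_iff S).mp hS f s hs)
    · rw [map_zero]; exact Submodule.zero_mem _
    · intro x y hx hy
      rw [map_add]; exact Submodule.add_mem _ hx hy
  · intro f b hb
    unfold cfS at hb
    refine Submodule.iSup_induction (fun φ : V →ₗ[K] K => S.map (cfm (C := C) φ))
      (motive := fun b => cfm (C := C) (V := C) f b ∈ cfS (C := C) S) hb ?_ ?_ ?_
    · rintro φ _ ⟨s, hs, rfl⟩
      rw [cfm_regular_cfm]
      exact cfm_mem_cfS S _ hs
    · rw [map_zero]; exact Submodule.zero_mem _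
    · intro x y hx hy
      rw [map_add]; exact Submodule.add_mem _ hx hy

/-- A subspace of the regular comodule lies in its coefficient space. -/
lemma le_cfS_regular (S : Submodule K C) : S ≤ cfS (C := C) (V := C) S := by
  intro s hs
  have h := cfm_mem_cfS (C := C) S (Coalgebra.counit (R := K) (A := C)) hs
  rw [cfm_counit_regular (K := K) s] at h
  exact h

/-- The coefficient space of a subspace of a subcoalgebra lies in the subcoalgebra. -/
lemma cfS_le_of_le {S B : Submodule K C} (hB : IsSubcoalg B) (h : S ≤ B) :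
    cfS (C := C) (V := C) S ≤ B := by
  rw [cfS_le_iff]
  intro φ s hs
  exact ((isSubcoalg_iff B).mp hB).2 φ s (h hs)

/-- For a subcomodule `E` of the regular comodule, `cfS E` is the least `D'` with
`Δ E ⊆ E ⊗ D'`. -/
lemma isLeast_cfS_regular (E : Submodule K C) (hE : HopfRep.IsSubcomod (k := K) (A := C) E) :
    IsLeast {D' : Submodule K C | ∀ e ∈ E, CoalgebraStruct.comul (R := K) e ∈
      LinearMap.range (TensorProduct.map E.subtype D'.subtype)} (cfS (C := C) (V := C) E) := by
  constructor
  · intro e he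
    apply mem_range_map_of_mem
    · exact hE e he
    · rw [mem_range_lTensor_iff]
      intro φ
      exact cfm_mem_cfS E φ he
  · intro D' hD'
    rw [cfS_le_iff]
    intro φ e he
    obtain ⟨y, hy⟩ := hD' e he
    show lsl φ (Coalgebra.comul (R := K) e) ∈ D'
    rw [← hy, lsl_map]
    exact Submodule.coe_mem _

end Subcoalg

end Groth.Agent.Lib.Helper19.Coalg
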