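import Groth.Agent.Lib.Helper19.Coalg2

/-!
# Simple coalgebras are isotypic as regular comodules (helper19)
-/

set_option autoImplicit false
set_option linter.unusedSectionVars false
set_option linter.style.haveILetI false
universe u v w w'

open TensorProduct

namespace Groth.Agent.Lib.Helper19.Coalg

open Groth.Agent.Lib.Helper19.Reynolds
open Groth.Agent.Lib.Helper28.ComodHom

section Isotypic

variable {K : Type u} {C : Type v} [Field K] [AddCommGroup C] [Module K C] [Coalgebra K C]
variable {V : Type w} [AddCommGroup V] [Module K V] [HopfRep.Comod K C V]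

/-- A minimal subcomodule is a simple comodule. -/
theorem isSimpleComod_subComod (N : Submodule (opAlg K C V) V) (hN : IsAtom N) :
    @HopfRep.IsSimpleComod K C _ _ _ _ (N.restrictScalars K) _ _
      (subComod (N.restrictScalars K) (isSubcomod_restrictScalars N)) := by
  letI := subComod (N.restrictScalars K) (isSubcomod_restrictScalars N)
  obtain ⟨hne, hmin⟩ := (isAtom_toOp_iff _ _).mp (isAtom_toOp_restrictScalars N hN)
  refine ⟨Submodule.nontrivial_iff_ne_bot.mpr hne, fun W hW => ?_⟩
  have hW2 : HopfRep.IsSubcomod (k := K) (A := C) (W.map (N.restrictScalars K).subtype) := by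
    rw [isSubcomod_iff] at hW ⊢
    rintro f _ ⟨w, hw, rfl⟩
    exact ⟨opT K C _ f w, hW f w hw, coe_opT_sub _ _ f w⟩
  rcases hmin _ hW2 (Submodule.map_subtype_le _ _) with h | h
  · left
    exact Submodule.map_injective_of_injective (Submodule.injective_subtype _)
      (h.trans (Submodule.map_bot _).symm)
  · right
    exact Submodule.map_injective_of_injective (Submodule.injective_subtype _)
      (h.trans (Submodule.map_subtype_top _).symm)

/-- A minimal subcomodule `m` of the regular comodule inside the coefficient space of a minimal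
subcomodule `N` is the image of an injective comodule map from `N`. -/
theorem exists_comodMap_range_eq (N : Submodule (opAlg K C C) C) (hN : IsAtom N)
    (m : Submodule (opAlg K C C) C) (hm : IsAtom m)
    (hle : m.restrictScalars K ≤ cfS (C := C) (V := C) (N.restrictScalars K)) :
    ∃ f : (N.restrictScalars K) →ₗ[K] C,
      @Hoch.IsComodHom K _ C _ _ _ (N.restrictScalars K) _ _
        (subComod (N.restrictScalars K) (isSubcomod_restrictScalars N)) C _ _ _ f ∧
      Function.Injective f ∧ LinearMap.range f = m.restrictScalars K := by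
  letI := subComod (N.restrictScalars K) (isSubcomod_restrictScalars N)
  have hsub := isSubcomod_restrictScalars N
  have hle' : m ≤ ⨆ φ : C →ₗ[K] K, toOp ((N.restrictScalars K).map (cfm (C := C) (V := C) φ))
      (isSubcomod_map _ (isComodHom_cfm φ) _ hsub) := by
    apply le_iSup_toOp
    exact hle
  have hT : ∀ φ : C →ₗ[K] K, toOp ((N.restrictScalars K).map (cfm (C := C) (V := C) φ))
      (isSubcomod_map _ (isComodHom_cfm φ) _ hsub) = ⊥ ∨
      IsAtom (toOp ((N.restrictScalars K).map (cfm (C := C) (V := C) φ))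
        (isSubcomod_map _ (isComodHom_cfm φ) _ hsub)) := by
    intro φ
    rcases map_eq_bot_or_isAtom N hN (cfm (C := C) (V := C) φ) (isComodHom_cfm φ) with h | h
    · exact Or.inl (toOp_eq_bot _ h)
    · exact Or.inr h
  obtain ⟨φ, hφat, ⟨e⟩⟩ := exists_equiv_of_le_iSup m hm _ hT hle'
  set g : C →ₗ[K] C := cfm (C := C) (V := C) φ with hg
  have hgc : Hoch.IsComodHom C g := isComodHom_cfm φ
  have h0 : (N.restrictScalars K).map g ≠ ⊥ := fun h => hφat.1 (toOp_eq_bot _ h)
  have hdisj := inf_ker_eq_bot_of_map_ne_bot N hN g hgc h0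
  have hmapsub := isSubcomod_map g hgc _ hsub
  let g' : (N.restrictScalars K) →ₗ[K] ((N.restrictScalars K).map g) :=
    LinearMap.codRestrict ((N.restrictScalars K).map g) (g ∘ₗ (N.restrictScalars K).subtype)
      (fun s => Submodule.mem_map_of_mem s.2)
  let f : (N.restrictScalars K) →ₗ[K] C :=
    (m.subtype.restrictScalars K) ∘ₗ (e.symm.restrictScalars K).toLinearMap ∘ₗ
      (toOpEquiv _ hmapsub).toLinearMap ∘ₗ g'
  have key : ∀ s : N.restrictScalars K,
      f s = ((e.symm ⟨g s.1, Submodule.mem_map_of_mem s.2⟩ : m) : C) := fun s => rfl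
  refine ⟨f, ?_, ?_, ?_⟩
  · apply isComodHom_of_map_opT
    intro h s
    rw [key, key]
    have h1 : (⟨g (opT K C (N.restrictScalars K) h s : N.restrictScalars K).1,
        Submodule.mem_map_of_mem (opT K C (N.restrictScalars K) h s).2⟩ :
        toOp ((N.restrictScalars K).map g) hmapsub) =
        (opEl' h : opAlg K C C) • (⟨g s.1, Submodule.mem_map_of_mem s.2⟩ :
          toOp ((N.restrictScalars K).map g) hmapsub) := by
      apply Subtype.ext
      rw [Submodule.coe_smul, opEl'_smul]
      show g ((opT K C (N.restrictScalars K) h s : N.restrictScalars K) : C) = opT K C C h (g s.1)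
      rw [coe_opT_sub, hg, cfm_opT]
    rw [h1, e.symm.map_smul, Submodule.coe_smul, opEl'_smul]
  · rw [injective_iff_map_eq_zero]
    intro s hs
    rw [key] at hs
    have h1 : e.symm ⟨g s.1, Submodule.mem_map_of_mem s.2⟩ = 0 := Subtype.ext hs
    have h2 := e.symm.map_eq_zero_iff.mp h1
    have h3 : g s.1 = 0 := congrArg Subtype.val h2
    have h4 : (s : C) ∈ N.restrictScalars K ⊓ LinearMap.ker g := ⟨s.2, LinearMap.mem_ker.mpr h3⟩
    rw [hdisj, Submodule.mem_bot] at h4
    exact Subtype.ext h4
  · apply le_antisymm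
    · rintro _ ⟨s, rfl⟩
      rw [key]
      exact Submodule.coe_mem _
    · intro x hx
      obtain ⟨s, hs, hs2⟩ := (e ⟨x, hx⟩).2
      refine ⟨⟨s, hs⟩, ?_⟩
      rw [key]
      have h1 : (⟨g s, Submodule.mem_map_of_mem hs⟩ :
          toOp ((N.restrictScalars K).map g) hmapsub) = e ⟨x, hx⟩ := Subtype.ext hs2
      rw [h1, LinearEquiv.symm_apply_apply]

/-- A nonzero simple coalgebra is isotypic as a regular comodule. -/
theorem exists_isotypic_of_simple [Nontrivial C]
    (hsimple : ∀ B : Submodule K C, IsSubcoalg B → B = ⊥ ∨ B = ⊤) :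
    ∃ (E : Type v) (_ : AddCommGroup E) (_ : Module K E) (_ : HopfRep.Comod K C E),
      HopfRep.IsSimpleComod K C E ∧
      ∃ (ι : Type v) (f : ι → (E →ₗ[K] C)),
        (∀ i, Hoch.IsComodHom C (f i) ∧ Function.Injective (f i)) ∧
        iSupIndep (fun i => LinearMap.range (f i)) ∧ (⨆ i, LinearMap.range (f i)) = ⊤ := by
  classical
  obtain ⟨N, hN, -⟩ := exists_isAtom_le (⊤ : Submodule (opAlg K C C) C) top_ne_bot
  have hsub := isSubcomod_restrictScalars N
  have hcf : cfS (C := C) (V := C) (N.restrictScalars K) = ⊤ := by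
    rcases hsimple _ (isSubcoalg_cfS _ hsub) with h | h
    · exact absurd h (isSimpleSubcoalg_cfS N hN).1
    · exact h
  refine ⟨N.restrictScalars K, inferInstance, inferInstance, subComod _ hsub,
    isSimpleComod_subComod N hN, ?_⟩
  have h1 : sSup {a : Submodule (opAlg K C C) C | IsAtom a} = ⊤ := by
    rw [eq_top_iff]
    intro x _
    have hx : x ∈ cfS (C := C) (V := C) (N.restrictScalars K) := by rw [hcf]; trivial
    exact cfS_le_sSup_atoms N hN hx
  obtain ⟨t, hind, htop, hat⟩ := exists_sSupIndep_of_sSup_atoms_eq_top h1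
  have hmap : ∀ m : t, ∃ f : (N.restrictScalars K) →ₗ[K] C,
      @Hoch.IsComodHom K _ C _ _ _ (N.restrictScalars K) _ _
        (subComod (N.restrictScalars K) (isSubcomod_restrictScalars N)) C _ _ _ f ∧
      Function.Injective f ∧ LinearMap.range f = (m.1).restrictScalars K := by
    intro m
    exact exists_comodMap_range_eq N hN m.1 (hat m.2) (by rw [hcf]; exact le_top)
  choose f hf hfinj hfrange using hmap
  refine ⟨t, f, fun i => ⟨hf i, hfinj i⟩, ?_, ?_⟩
  · have hF : (fun i : t => LinearMap.range (f i)) = fun i : t => (i.1).restrictScalars K :=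
      funext hfrange
    rw [hF, iSupIndep_def]
    intro i
    have h3 := (iSupIndep_def.mp ((sSupIndep_iff t).mp hind)) i
    have h4 := (Submodule.disjoint_restrictScalars_iff (S := K)).mpr h3
    simp only [Submodule.restrictScalars_iSup] at h4
    exact h4
  · have hF : (⨆ i : t, LinearMap.range (f i)) = ⨆ i : t, (i.1).restrictScalars K :=
      iSup_congr hfrange
    rw [hF, ← Submodule.restrictScalars_iSup, ← sSup_eq_iSup', htop, Submodule.restrictScalars_top]

/-- A coalgebra which is isotypic as a regular comodule is simple. -/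
theorem simple_of_isotypic {E : Type w} [AddCommGroup E] [Module K E] [HopfRep.Comod K C E]
    (hE : HopfRep.IsSimpleComod K C E) {ι : Type*} (f : ι → (E →ₗ[K] C))
    (hf : ∀ i, Hoch.IsComodHom C (f i) ∧ Function.Injective (f i))
    (htop : (⨆ i, LinearMap.range (f i)) = ⊤) (B : Submodule K C) (hB : IsSubcoalg B) :
    B = ⊥ ∨ B = ⊤ := by
  by_cases hB0 : B = ⊥
  · exact Or.inl hB0
  right
  have hBsub := hB.isSubcomod
  obtain ⟨A', hA', hA'B⟩ := exists_isAtom_le (toOp B hBsub) (toOp_ne_bot hBsub hB0)
  have hAB : A'.restrictScalars K ≤ B := fun x hx => hA'B hx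
  have hle : A' ≤ ⨆ i, toOp (LinearMap.range (f i)) (isSubcomod_range _ (hf i).1) := by
    apply le_iSup_toOp
    rw [htop]; exact le_top
  have hf0 : ∀ i, f i ≠ 0 := by
    intro i h
    haveI := hE.1
    obtain ⟨e₀, he₀⟩ := exists_ne (0 : E)
    apply he₀
    apply (hf i).2
    simp [h]
  have hT : ∀ i, toOp (LinearMap.range (f i)) (isSubcomod_range _ (hf i).1) = ⊥ ∨
      IsAtom (toOp (LinearMap.range (f i)) (isSubcomod_range _ (hf i).1)) :=
    fun i => Or.inr (isAtom_toOp_range hE _ (hf i).1 (hf0 i))
  obtain ⟨i, -, ⟨e⟩⟩ := exists_equiv_of_le_iSup A' hA' _ hT hle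
  have hcfr : ∀ j, cfS (C := C) (V := C) (LinearMap.range (f j)) =
      cfS (C := C) (⊤ : Submodule K E) := by
    intro j
    have h := cfS_map_eq (⊤ : Submodule (opAlg K C E) E) (isAtom_top_of_isSimpleComod hE) (f j)
      (hf j).1 (by
        rw [Submodule.restrictScalars_top, Submodule.map_top]
        intro h
        exact hf0 j (LinearMap.range_eq_bot.mp h))
    rwa [Submodule.restrictScalars_top, Submodule.map_top] at h
  have h1 := cfS_eq_of_linearEquiv (C := C) A' _ e
  rw [toOp_restrictScalars, hcfr i] at h1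
  have h2 : cfS (C := C) (⊤ : Submodule K E) ≤ B := by
    rw [← h1]; exact cfS_le_of_le hB hAB
  rw [eq_top_iff, ← htop]
  refine iSup_le fun j => ?_
  exact (le_cfS_regular _).trans ((hcfr j).le.trans h2)

end Isotypic

end Groth.Agent.Lib.Helper19.Coalg
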