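import Mathlib
import Groth.Prelude.Def_HopfRep

/-!
# Decomposition of comodules along a decomposition of the coalgebra into subcoalgebras (helper19)

`C = ⊕ D i` with `D i` subcoalgebras over a commutative ring `R`.  For a right comodule `V` the
operators `E i = (id ⊗ ε ∘ pr i) ∘ ρ` are orthogonal idempotent comodule maps with (locally finite) sum the
identity, and the image of `E i` is `ρ⁻¹(V ⊗ D i)`.
-/

set_option autoImplicit false
set_option linter.unusedSectionVars false
universe u v w w'

open TensorProduct

namespace Groth.Agent.Lib.Helper19.CoalgDecomp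

variable {R : Type u} {C : Type v} [CommRing R] [AddCommGroup C] [Module R C] [Coalgebra R C]
  {ι : Type w} (D : ι → Submodule R C) (hind : iSupIndep D) (htop : iSup D = ⊤)

include hind htop in
lemma isCompl_D (i : ι) : IsCompl (D i) (⨆ (j) (_ : j ≠ i), D j) := by
  refine ⟨hind i, codisjoint_iff.mpr ?_⟩
  rw [eq_top_iff, ← htop]
  apply iSup_le
  intro j
  by_cases h : j = i
  · subst h
    exact le_sup_left
  · exact le_trans (le_iSup₂ (f := fun j (_ : j ≠ i) => D j) j h) le_sup_right

/-- The projection of `C` onto `D i`. -/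
noncomputable def pr' (i : ι) : C →ₗ[R] D i :=
  Submodule.projectionOnto (D i) _ (isCompl_D D hind htop i)

/-- The projection of `C` onto `D i`, as an endomorphism of `C`. -/
noncomputable def pr (i : ι) : C →ₗ[R] C := (D i).subtype ∘ₗ pr' D hind htop i

lemma pr_eq (i : ι) : pr D hind htop i = (D i).subtype ∘ₗ pr' D hind htop i := rfl

lemma pr_mem (i : ι) (c : C) : pr D hind htop i c ∈ D i := (pr' D hind htop i c).2

lemma pr_of_mem_same (i : ι) (c : C) (hc : c ∈ D i) : pr D hind htop i c = c := by
  show ((Submodule.projectionOnto (D i) _ (isCompl_D D hind htop i) c : D i) : C) = c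
  rw [Submodule.projectionOnto_apply_of_mem_left _ hc]

lemma pr_of_mem_ne (i j : ι) (h : i ≠ j) (c : C) (hc : c ∈ D j) : pr D hind htop i c = 0 := by
  show ((Submodule.projectionOnto (D i) _ (isCompl_D D hind htop i) c : D i) : C) = 0
  have hc' : c ∈ ⨆ (j) (_ : j ≠ i), D j :=
    (le_iSup₂ (f := fun j (_ : j ≠ i) => D j) j (Ne.symm h)) hc
  rw [Submodule.projectionOnto_apply_of_mem_right _ hc']
  rfl

lemma pr_comp_subtype_same (i : ι) : pr D hind htop i ∘ₗ (D i).subtype = (D i).subtype := by
  apply LinearMap.ext
  intro x
  exact pr_of_mem_same D hind htop i x x.2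

lemma pr_comp_subtype_ne (i j : ι) (h : i ≠ j) : pr D hind htop i ∘ₗ (D j).subtype = 0 := by
  apply LinearMap.ext
  intro x
  exact pr_of_mem_ne D hind htop i j h x x.2

lemma pr_comp_pr_same (i : ι) : pr D hind htop i ∘ₗ pr D hind htop i = pr D hind htop i := by
  apply LinearMap.ext
  intro c
  exact pr_of_mem_same D hind htop i _ (pr_mem D hind htop i c)

lemma pr_comp_pr_ne (i j : ι) (h : i ≠ j) : pr D hind htop i ∘ₗ pr D hind htop j = 0 := by
  apply LinearMap.ext
  intro c
  exact pr_of_mem_ne D hind htop i j h _ (pr_mem D hind htop j c)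

lemma exists_finset_sum_pr (c : C) :
    ∃ s : Finset ι, ∀ s' : Finset ι, s ⊆ s' → ∑ i ∈ s', pr D hind htop i c = c := by
  classical
  have hc : c ∈ ⨆ i, D i := by rw [htop]; exact Submodule.mem_top
  refine Submodule.iSup_induction D
    (motive := fun c => ∃ s : Finset ι, ∀ s' : Finset ι, s ⊆ s' → ∑ i ∈ s', pr D hind htop i c = c)
    hc ?_ ?_ ?_
  · intro i x hx
    refine ⟨{i}, fun s' hs' => ?_⟩
    rw [Finset.sum_eq_single_of_mem i (hs' (Finset.mem_singleton_self i))
      (fun j _ hji => pr_of_mem_ne D hind htop j i hji x hx)]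
    exact pr_of_mem_same D hind htop i x hx
  · exact ⟨∅, fun s' _ => by simp⟩
  · rintro x y ⟨s₁, h₁⟩ ⟨s₂, h₂⟩
    refine ⟨s₁ ∪ s₂, fun s' hs' => ?_⟩
    simp only [map_add, Finset.sum_add_distrib]
    rw [h₁ s' (Finset.subset_union_left.trans hs'), h₂ s' (Finset.subset_union_right.trans hs')]

/-- `ε ∘ pr i`. -/
noncomputable def fi (i : ι) : C →ₗ[R] R :=
  CoalgebraStruct.counit (R := R) (A := C) ∘ₗ pr D hind htop i

section Comul

variable (hD : ∀ i, ∀ d ∈ D i, CoalgebraStruct.comul (R := R) d ∈
  LinearMap.range (TensorProduct.map (D i).subtype (D i).subtype))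

include hD in
lemma K1 (i : ι) (c : C) :
    TensorProduct.rid R C ((fi D hind htop i).lTensor C (CoalgebraStruct.comul (R := R) c)) =
      pr D hind htop i c := by
  have hc : c ∈ ⨆ i, D i := by rw [htop]; exact Submodule.mem_top
  refine Submodule.iSup_induction D
    (motive := fun c => TensorProduct.rid R C ((fi D hind htop i).lTensor C
      (CoalgebraStruct.comul (R := R) c)) = pr D hind htop i c) hc ?_ ?_ ?_
  · intro j x hx
    obtain ⟨s, hs⟩ := hD j x hx
    by_cases h : i = j
    · subst h
      have e1 : ∀ s : (D i) ⊗[R] (D i),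
          (fi D hind htop i).lTensor C (TensorProduct.map (D i).subtype (D i).subtype s) =
          (CoalgebraStruct.counit (R := R) (A := C)).lTensor C
            (TensorProduct.map (D i).subtype (D i).subtype s) := by
        intro s
        induction s using TensorProduct.induction_on with
        | zero => simp
        | tmul a b =>
          simp only [TensorProduct.map_tmul, LinearMap.lTensor_tmul, Submodule.subtype_apply]
          rw [fi, LinearMap.comp_apply, pr_of_mem_same D hind htop i b b.2]
        | add s t hs ht => simp only [map_add, hs, ht]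
      rw [← hs, e1 s, hs, Coalgebra.lTensor_counit_comul, TensorProduct.rid_tmul, one_smul,
        pr_of_mem_same D hind htop i x hx]
    · have e0 : ∀ s : (D j) ⊗[R] (D j),
          (fi D hind htop i).lTensor C (TensorProduct.map (D j).subtype (D j).subtype s) =
          0 := by
        intro s
        induction s using TensorProduct.induction_on with
        | zero => simp
        | tmul a b =>
          simp only [TensorProduct.map_tmul, LinearMap.lTensor_tmul, Submodule.subtype_apply]
          rw [fi, LinearMap.comp_apply, pr_of_mem_ne D hind htop i j h b b.2, map_zero,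
            TensorProduct.tmul_zero]
        | add s t hs ht => simp only [map_add, hs, ht, add_zero]
      rw [← hs, e0 s, map_zero, pr_of_mem_ne D hind htop i j h x hx]
  · simp
  · intro x y hx hy
    simp only [map_add, hx, hy]

include hD in
lemma K2 (i : ι) (c : C) :
    TensorProduct.lid R C ((fi D hind htop i).rTensor C (CoalgebraStruct.comul (R := R) c)) =
      pr D hind htop i c := by
  have hc : c ∈ ⨆ i, D i := by rw [htop]; exact Submodule.mem_top
  refine Submodule.iSup_induction D
    (motive := fun c => TensorProduct.lid R C ((fi D hind htop i).rTensor C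
      (CoalgebraStruct.comul (R := R) c)) = pr D hind htop i c) hc ?_ ?_ ?_
  · intro j x hx
    obtain ⟨s, hs⟩ := hD j x hx
    by_cases h : i = j
    · subst h
      have e1 : ∀ s : (D i) ⊗[R] (D i),
          (fi D hind htop i).rTensor C (TensorProduct.map (D i).subtype (D i).subtype s) =
          (CoalgebraStruct.counit (R := R) (A := C)).rTensor C
            (TensorProduct.map (D i).subtype (D i).subtype s) := by
        intro s
        induction s using TensorProduct.induction_on with
        | zero => simp
        | tmul a b =>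
          simp only [TensorProduct.map_tmul, LinearMap.rTensor_tmul, Submodule.subtype_apply]
          rw [fi, LinearMap.comp_apply, pr_of_mem_same D hind htop i a a.2]
        | add s t hs ht => simp only [map_add, hs, ht]
      rw [← hs, e1 s, hs, Coalgebra.rTensor_counit_comul, TensorProduct.lid_tmul, one_smul,
        pr_of_mem_same D hind htop i x hx]
    · have e0 : ∀ s : (D j) ⊗[R] (D j),
          (fi D hind htop i).rTensor C (TensorProduct.map (D j).subtype (D j).subtype s) =
          0 := by
        intro s
        induction s using TensorProduct.induction_on with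
        | zero => simp
        | tmul a b =>
          simp only [TensorProduct.map_tmul, LinearMap.rTensor_tmul, Submodule.subtype_apply]
          rw [fi, LinearMap.comp_apply, pr_of_mem_ne D hind htop i j h a a.2, map_zero,
            TensorProduct.zero_tmul]
        | add s t hs ht => simp only [map_add, hs, ht, add_zero]
      rw [← hs, e0 s, map_zero, pr_of_mem_ne D hind htop i j h x hx]
  · simp
  · intro x y hx hy
    simp only [map_add, hx, hy]

end Comul

section Comod

variable {V : Type w'} [AddCommGroup V] [Module R V] [HopfRep.Comod R C V]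

local notation "ρV" => (HopfRep.Comod.coact (k := R) (A := C) (V := V))

lemma coact_injective : Function.Injective ρV := by
  have h : ∀ v : V, TensorProduct.rid R V
      ((CoalgebraStruct.counit (R := R) (A := C)).lTensor V (ρV v)) = v := by
    intro v
    have hv := LinearMap.congr_fun (HopfRep.Comod.counit_comp (k := R) (A := C) (V := V)) v
    simp only [LinearMap.comp_apply, LinearMap.flip_apply, TensorProduct.mk_apply] at hv
    rw [hv, TensorProduct.rid_tmul, one_smul]
  intro a b hab
  rw [← h a, ← h b, hab]

lemma coact_rTensor_coact (v : V) :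
    (LinearMap.rTensor C ρV) (ρV v) = (TensorProduct.assoc R V C C).symm
      ((CoalgebraStruct.comul (R := R) (A := C)).lTensor V (ρV v)) := by
  have h3 := LinearMap.congr_fun (HopfRep.Comod.coassoc (k := R) (A := C) (V := V)) v
  simp only [LinearMap.comp_apply, LinearEquiv.coe_coe] at h3
  rw [← h3, LinearEquiv.symm_apply_apply]

/-- The operator `(id ⊗ ε ∘ pr i) ∘ ρ` on a comodule. -/
noncomputable def E (i : ι) : V →ₗ[R] V :=
  (TensorProduct.rid R V).toLinearMap ∘ₗ (fi D hind htop i).lTensor V ∘ₗ ρV

lemma E_apply (i : ι) (v : V) :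
    E D hind htop i v = TensorProduct.rid R V ((fi D hind htop i).lTensor V (ρV v)) := rfl

lemma coact_rid_lTensor (f : C →ₗ[R] R) (t : V ⊗[R] C) :
    ρV (TensorProduct.rid R V (f.lTensor V t)) =
      TensorProduct.rid R (V ⊗[R] C) (f.lTensor (V ⊗[R] C) ((LinearMap.rTensor C ρV) t)) := by
  induction t using TensorProduct.induction_on with
  | zero => simp
  | tmul x c =>
    rw [LinearMap.lTensor_tmul, TensorProduct.rid_tmul, map_smul, LinearMap.rTensor_tmul,
      LinearMap.lTensor_tmul, TensorProduct.rid_tmul]
  | add a b ha hb => simp only [map_add, ha, hb]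

lemma rid_lTensor_assoc_symm (f : C →ₗ[R] R) (x : V) (z : C ⊗[R] C) :
    TensorProduct.rid R (V ⊗[R] C) (f.lTensor (V ⊗[R] C)
      ((TensorProduct.assoc R V C C).symm (x ⊗ₜ[R] z))) =
      x ⊗ₜ[R] TensorProduct.rid R C (f.lTensor C z) := by
  induction z using TensorProduct.induction_on with
  | zero => simp
  | tmul a b =>
    rw [TensorProduct.assoc_symm_tmul, LinearMap.lTensor_tmul, TensorProduct.rid_tmul,
      LinearMap.lTensor_tmul, TensorProduct.rid_tmul, TensorProduct.tmul_smul]
  | add a b ha hb => simp only [TensorProduct.tmul_add, map_add, ha, hb]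

lemma rTensor_rid_lTensor_assoc_symm (f : C →ₗ[R] R) (x : V) (z : C ⊗[R] C) :
    ((TensorProduct.rid R V).toLinearMap ∘ₗ f.lTensor V).rTensor C
      ((TensorProduct.assoc R V C C).symm (x ⊗ₜ[R] z)) =
      x ⊗ₜ[R] TensorProduct.lid R C (f.rTensor C z) := by
  induction z using TensorProduct.induction_on with
  | zero => simp
  | tmul a b =>
    rw [TensorProduct.assoc_symm_tmul, LinearMap.rTensor_tmul, LinearMap.comp_apply,
      LinearMap.lTensor_tmul, LinearEquiv.coe_coe, TensorProduct.rid_tmul, LinearMap.rTensor_tmul,
      TensorProduct.lid_tmul, TensorProduct.smul_tmul]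
  | add a b ha hb => simp only [TensorProduct.tmul_add, map_add, ha, hb]

variable (hD : ∀ i, ∀ d ∈ D i, CoalgebraStruct.comul (R := R) d ∈
  LinearMap.range (TensorProduct.map (D i).subtype (D i).subtype))

include hD in
lemma coact_E (i : ι) (v : V) :
    ρV (E D hind htop i v) = (pr D hind htop i).lTensor V (ρV v) := by
  rw [E_apply, coact_rid_lTensor, coact_rTensor_coact]
  generalize ρV v = t
  induction t using TensorProduct.induction_on with
  | zero => simp
  | tmul x c =>
    rw [LinearMap.lTensor_tmul, rid_lTensor_assoc_symm, K1 D hind htop hD, LinearMap.lTensor_tmul]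
  | add a b ha hb => simp only [map_add, ha, hb]

include hD in
lemma rTensor_E_coact (i : ι) (v : V) :
    (E D hind htop i).rTensor C (ρV v) = (pr D hind htop i).lTensor V (ρV v) := by
  have e : E D hind htop i =
      ((TensorProduct.rid R V).toLinearMap ∘ₗ (fi D hind htop i).lTensor V) ∘ₗ ρV := rfl
  rw [e, LinearMap.rTensor_comp, LinearMap.comp_apply, coact_rTensor_coact]
  generalize ρV v = t
  induction t using TensorProduct.induction_on with
  | zero => simp
  | tmul x c =>
    rw [LinearMap.lTensor_tmul, rTensor_rid_lTensor_assoc_symm, K2 D hind htop hD,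
      LinearMap.lTensor_tmul]
  | add a b ha hb => simp only [map_add, ha, hb]

include hD in
lemma E_E_same (i : ι) (v : V) : E D hind htop i (E D hind htop i v) = E D hind htop i v := by
  apply coact_injective (R := R) (C := C)
  rw [coact_E D hind htop hD, coact_E D hind htop hD, ← LinearMap.comp_apply,
    ← LinearMap.lTensor_comp, pr_comp_pr_same]

include hD in
lemma E_E_ne (i j : ι) (h : i ≠ j) (v : V) : E D hind htop i (E D hind htop j v) = 0 := by
  apply coact_injective (R := R) (C := C)
  rw [coact_E D hind htop hD, coact_E D hind htop hD, ← LinearMap.comp_apply,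
    ← LinearMap.lTensor_comp, pr_comp_pr_ne D hind htop i j h, LinearMap.lTensor_zero,
    LinearMap.zero_apply, map_zero]

/-- The `i`-th component of a comodule. -/
def Vi (i : ι) : Submodule R V :=
  (LinearMap.range (LinearMap.lTensor V (D i).subtype)).comap ρV

include hD in
lemma mem_Vi_iff (i : ι) (v : V) : v ∈ Vi (V := V) D i ↔ E D hind htop i v = v := by
  constructor
  · rintro ⟨s, hs⟩
    apply coact_injective (R := R) (C := C)
    rw [coact_E D hind htop hD, ← hs, ← LinearMap.comp_apply, ← LinearMap.lTensor_comp,
      pr_comp_subtype_same]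
  · intro h
    show ρV v ∈ LinearMap.range (LinearMap.lTensor V (D i).subtype)
    rw [← h, coact_E D hind htop hD, pr_eq, LinearMap.lTensor_comp, LinearMap.comp_apply]
    exact ⟨_, rfl⟩

include hD in
lemma E_mem_Vi (i : ι) (v : V) : E D hind htop i v ∈ Vi (V := V) D i :=
  (mem_Vi_iff D hind htop hD i _).mpr (E_E_same D hind htop hD i v)

include hD in
lemma rTensor_E_coact_of_mem (i : ι) (v : V) (hv : v ∈ Vi (V := V) D i) :
    (E D hind htop i).rTensor C (ρV v) = ρV v := by
  rw [rTensor_E_coact D hind htop hD, ← coact_E D hind htop hD,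
    (mem_Vi_iff D hind htop hD i v).mp hv]

/-- `E i` corestricted to `Vi`. -/
noncomputable def E' (i : ι) : V →ₗ[R] Vi (V := V) D i :=
  LinearMap.codRestrict _ (E D hind htop i) (E_mem_Vi D hind htop hD i)

lemma subtype_comp_E' (i : ι) :
    (Vi (V := V) D i).subtype ∘ₗ E' D hind htop hD i = E D hind htop i := rfl

include hind htop hD in
theorem isSubcomod_Vi (i : ι) : HopfRep.IsSubcomod (k := R) (A := C) (Vi (V := V) D i) := by
  intro v hv
  rw [← rTensor_E_coact_of_mem D hind htop hD i v hv, ← subtype_comp_E' D hind htop hD i,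
    LinearMap.rTensor_comp, LinearMap.comp_apply]
  exact ⟨_, rfl⟩

include hind htop hD in
theorem coact_mem_range_map (i : ι) (v : V) (hv : v ∈ Vi (V := V) D i) :
    ρV v ∈ LinearMap.range (TensorProduct.map (Vi (V := V) D i).subtype (D i).subtype) := by
  have h1 : TensorProduct.map (E D hind htop i) (pr D hind htop i) (ρV v) = ρV v := by
    have e : TensorProduct.map (E D hind htop i) (pr D hind htop i) =
        (pr D hind htop i).lTensor V ∘ₗ (E D hind htop i).rTensor C := by
      apply TensorProduct.ext'
      intro x c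
      simp
    rw [e, LinearMap.comp_apply, rTensor_E_coact_of_mem D hind htop hD i v hv,
      ← coact_E D hind htop hD, (mem_Vi_iff D hind htop hD i v).mp hv]
  rw [← h1, ← subtype_comp_E' D hind htop hD i, pr_eq, TensorProduct.map_comp,
    LinearMap.comp_apply]
  exact ⟨_, rfl⟩

include hind htop hD in
theorem iSup_Vi : (⨆ i, Vi (V := V) D i) = ⊤ := by
  classical
  rw [eq_top_iff]
  intro v _
  have key : ∀ t : V ⊗[R] C, ∃ s : Finset ι, ∀ s' : Finset ι, s ⊆ s' →
      ∑ i ∈ s', TensorProduct.rid R V ((fi D hind htop i).lTensor V t) =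
        TensorProduct.rid R V ((CoalgebraStruct.counit (R := R) (A := C)).lTensor V t) := by
    intro t
    induction t using TensorProduct.induction_on with
    | zero => exact ⟨∅, fun s' _ => by simp⟩
    | tmul x c =>
      obtain ⟨s, hs⟩ := exists_finset_sum_pr D hind htop c
      refine ⟨s, fun s' hs' => ?_⟩
      simp only [LinearMap.lTensor_tmul, TensorProduct.rid_tmul]
      rw [← Finset.sum_smul]
      congr 1
      simp only [fi, LinearMap.comp_apply]
      rw [← map_sum, hs s' hs']
    | add a b ha hb =>
      obtain ⟨s₁, h₁⟩ := ha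
      obtain ⟨s₂, h₂⟩ := hb
      refine ⟨s₁ ∪ s₂, fun s' hs' => ?_⟩
      simp only [map_add, Finset.sum_add_distrib]
      rw [h₁ s' (Finset.subset_union_left.trans hs'), h₂ s' (Finset.subset_union_right.trans hs')]
  obtain ⟨s, hs⟩ := key (ρV v)
  have hv := LinearMap.congr_fun (HopfRep.Comod.counit_comp (k := R) (A := C) (V := V)) v
  simp only [LinearMap.comp_apply, LinearMap.flip_apply, TensorProduct.mk_apply] at hv
  have h2 : ∑ i ∈ s, E D hind htop i v = v := by
    have := hs s (Finset.Subset.refl s)
    rw [hv, TensorProduct.rid_tmul, one_smul] at this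
    exact this
  rw [← h2]
  exact Submodule.sum_mem _ fun i _ =>
    Submodule.mem_iSup_of_mem i (E_mem_Vi D hind htop hD i v)

include hind htop hD in
theorem iSupIndep_Vi : iSupIndep (fun i => Vi (V := V) D i) := by
  intro i
  rw [Submodule.disjoint_def]
  intro v hv1 hv2
  have h1 : E D hind htop i v = v := (mem_Vi_iff D hind htop hD i v).mp hv1
  have h2 : (⨆ (j) (_ : j ≠ i), Vi (V := V) D j) ≤ LinearMap.ker (E D hind htop i) := by
    apply iSup₂_le
    intro j hj w hw
    rw [LinearMap.mem_ker, ← (mem_Vi_iff D hind htop hD j w).mp hw]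
    exact E_E_ne D hind htop hD i j (Ne.symm hj) w
  rw [← h1]
  exact LinearMap.mem_ker.mp (h2 hv2)

end Comod

end Groth.Agent.Lib.Helper19.CoalgDecomp
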