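import Mathlib

/-!
# A linear map of finite flat modules over a Noetherian ring which is an isomorphism in
codimension `≤ 1` is an isomorphism (determinant + Krull's principal ideal theorem)
-/

set_option autoImplicit false
universe u

namespace Groth.Agent.Lib.Helper19.CodimIso

open Module TensorProduct

section Basic

variable {R : Type u} [CommRing R] {M N P : Type u} [AddCommGroup M] [AddCommGroup N]
  [AddCommGroup P] [Module R M] [Module R N] [Module R P]

theorem baseChange_injective_of_comp {K : Type u} [Field K] [Algebra R K] (φ : M →ₗ[R] N)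
    (ψ : N →ₗ[R] M) (r : R) (hk : algebraMap R K r ≠ 0) (h2 : ψ ∘ₗ φ = r • LinearMap.id) :
    Function.Injective (φ.baseChange K) := by
  have e : (ψ.baseChange K) ∘ₗ (φ.baseChange K) = (algebraMap R K r) • LinearMap.id := by
    rw [← LinearMap.baseChange_comp, h2, LinearMap.baseChange_smul, LinearMap.baseChange_id]
    refine LinearMap.ext fun x => ?_
    simp only [LinearMap.smul_apply, LinearMap.id_apply]
    exact (algebraMap_smul K r x).symm
  intro x y hxy
  have h3 : (algebraMap R K r) • x = (algebraMap R K r) • y := by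
    have hx := LinearMap.congr_fun e x
    have hy := LinearMap.congr_fun e y
    simp only [LinearMap.comp_apply, LinearMap.smul_apply, LinearMap.id_apply] at hx hy
    rw [← hx, ← hy, hxy]
  exact smul_right_injective _ hk h3

theorem finrank_eq_of_comp_eq_smul [Module.Free R M] [Module.Free R N] [Module.Finite R M]
    [Module.Finite R N] (q : Ideal R) [q.IsPrime] (φ : M →ₗ[R] N) (ψ : N →ₗ[R] M) (r : R)
    (hr : r ∉ q) (h1 : φ ∘ₗ ψ = r • LinearMap.id) (h2 : ψ ∘ₗ φ = r • LinearMap.id) :
    Module.finrank R M = Module.finrank R N := by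
  have hk : algebraMap R q.ResidueField r ≠ 0 := fun h0 =>
    hr (Ideal.algebraMap_residueField_eq_zero.mp h0)
  haveI : Nontrivial R := nontrivial_of_ne (1 : R) 0 fun h => hr (by
    have h0 : r = 0 := by rw [← mul_one r, h, mul_zero]
    rw [h0]
    exact q.zero_mem)
  have i1 := baseChange_injective_of_comp (K := q.ResidueField) φ ψ r hk h2
  have i2 := baseChange_injective_of_comp (K := q.ResidueField) ψ φ r hk h1
  have l1 := LinearMap.finrank_le_finrank_of_injective i1
  have l2 := LinearMap.finrank_le_finrank_of_injective i2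
  rw [Module.finrank_baseChange, Module.finrank_baseChange] at l1
  rw [Module.finrank_baseChange, Module.finrank_baseChange] at l2
  exact le_antisymm l1 l2

theorem localizedModule_map_comp (S : Submonoid R) (f : M →ₗ[R] N) (g : N →ₗ[R] P) :
    LocalizedModule.map S (g ∘ₗ f) = LocalizedModule.map S g ∘ₗ LocalizedModule.map S f := by
  refine LinearMap.ext fun x => ?_
  induction x using LocalizedModule.induction_on with
  | h m s => simp only [LinearMap.comp_apply, LocalizedModule.map_mk]

theorem localizedModule_map_smul_id (S : Submonoid R) (r : R) :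
    LocalizedModule.map S (r • (LinearMap.id : M →ₗ[R] M)) =
      algebraMap R (Localization S) r • LinearMap.id := by
  refine LinearMap.ext fun x => ?_
  induction x using LocalizedModule.induction_on with
  | h m s =>
    rw [LocalizedModule.map_mk]
    simp only [LinearMap.smul_apply, LinearMap.id_apply]
    rw [algebraMap_smul, LocalizedModule.smul'_mk]

end Basic

section Local

variable {R : Type u} [CommRing R] {M N : Type u} [AddCommGroup M] [AddCommGroup N]
  [Module R M] [Module R N]

/-- the local case. -/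
theorem bijective_of_local [IsLocalRing R] [IsNoetherianRing R]
    [Module.Free R M] [Module.Free R N] [Module.Finite R M] [Module.Finite R N]
    (φ : M →ₗ[R] N)
    (H : ∀ q : Ideal R, q.IsPrime → q.height ≤ 1 → ∃ r : R, r ∉ q ∧ ∃ ψ : N →ₗ[R] M,
      φ ∘ₗ ψ = r • LinearMap.id ∧ ψ ∘ₗ φ = r • LinearMap.id) :
    Function.Bijective φ := by
  classical
  obtain ⟨q0, hq0min, -⟩ := Ideal.exists_minimalPrimes_le (I := (⊥ : Ideal R))
    (J := IsLocalRing.maximalIdeal R) bot_le
  haveI : q0.IsPrime := hq0min.1.1
  have hq0h : q0.height ≤ 1 :=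
    Ideal.height_le_one_of_isPrincipal_of_mem_minimalPrimes _ q0 hq0min
  obtain ⟨r0, hr0, ψ0, h01, h02⟩ := H q0 inferInstance hq0h
  have hrank : Module.finrank R M = Module.finrank R N :=
    finrank_eq_of_comp_eq_smul q0 φ ψ0 r0 hr0 h01 h02
  obtain ⟨ε⟩ : Nonempty (N ≃ₗ[R] M) := ⟨LinearEquiv.ofFinrankEq N M hrank.symm⟩
  obtain ⟨θ, hθdef⟩ : ∃ θ : M →ₗ[R] M, θ = ε.toLinearMap ∘ₗ φ := ⟨_, rfl⟩
  have hθapp : ∀ x, θ x = ε (φ x) := fun x => by rw [hθdef]; rfl
  have hunit : IsUnit (LinearMap.det θ) := by
    by_contra hnu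
    have hmem : LinearMap.det θ ∈ IsLocalRing.maximalIdeal R :=
      (IsLocalRing.mem_maximalIdeal _).mpr hnu
    have hle : Ideal.span {LinearMap.det θ} ≤ IsLocalRing.maximalIdeal R :=
      (Ideal.span_singleton_le_iff_mem _).mpr hmem
    obtain ⟨Q, hQmin, hQle⟩ := Ideal.exists_minimalPrimes_le
      (I := Ideal.span {LinearMap.det θ}) (J := IsLocalRing.maximalIdeal R) hle
    haveI : Q.IsPrime := hQmin.1.1
    have hQh : Q.height ≤ 1 :=
      Ideal.height_le_one_of_isPrincipal_of_mem_minimalPrimes _ Q hQmin
    obtain ⟨r, hr, ψ, h1, -⟩ := H Q inferInstance hQh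
    have hcomp : θ ∘ₗ (ψ ∘ₗ ε.symm.toLinearMap) = r • LinearMap.id := by
      refine LinearMap.ext fun x => ?_
      have h3 := LinearMap.congr_fun h1 (ε.symm x)
      simp only [LinearMap.comp_apply, LinearMap.smul_apply, LinearMap.id_apply] at h3
      simp only [LinearMap.comp_apply, LinearEquiv.coe_coe, LinearMap.smul_apply,
        LinearMap.id_apply]
      rw [hθapp, h3, map_smul, LinearEquiv.apply_symm_apply]
    have hdet := congrArg LinearMap.det hcomp
    rw [LinearMap.det_comp, LinearMap.det_smul, LinearMap.det_id, mul_one] at hdet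
    have hmemQ : r ^ Module.finrank R M ∈ Q := by
      rw [← hdet]
      exact Ideal.mul_mem_right _ _ (hQmin.1.2 (Ideal.mem_span_singleton_self _))
    exact hr (Ideal.IsPrime.mem_of_pow_mem inferInstance _ hmemQ)
  have hθ : IsUnit θ := (LinearMap.isUnit_iff_isUnit_det θ).mpr hunit
  have hbij : Function.Bijective θ := (Module.End.isUnit_iff θ).mp hθ
  constructor
  · intro x y hxy
    apply hbij.1
    rw [hθapp, hθapp, hxy]
  · intro y
    obtain ⟨x, hx⟩ := hbij.2 (ε y)
    refine ⟨x, ?_⟩
    rw [hθapp] at hx
    exact ε.injective hx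

end Local

section Global

variable {R : Type u} [CommRing R] {M N : Type u} [AddCommGroup M] [AddCommGroup N]
  [Module R M] [Module R N]

/-- the global case, with explicit inverses up to an element outside the prime. -/
theorem bijective_of_noetherian [IsNoetherianRing R] [Module.Finite R M] [Module.Finite R N]
    [Module.Flat R M] [Module.Flat R N] (φ : M →ₗ[R] N)
    (H : ∀ q : Ideal R, q.IsPrime → q.height ≤ 1 → ∃ r : R, r ∉ q ∧ ∃ ψ : N →ₗ[R] M,
      φ ∘ₗ ψ = r • LinearMap.id ∧ ψ ∘ₗ φ = r • LinearMap.id) :
    Function.Bijective φ := by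
  refine bijective_of_localized_maximal φ fun p hp => ?_
  haveI : p.IsPrime := hp.isPrime
  haveI : Module.Free (Localization p.primeCompl) (LocalizedModule p.primeCompl M) :=
    Module.free_of_flat_of_isLocalRing
  haveI : Module.Free (Localization p.primeCompl) (LocalizedModule p.primeCompl N) :=
    Module.free_of_flat_of_isLocalRing
  refine bijective_of_local (LocalizedModule.map p.primeCompl φ) ?_
  intro q' hq' hq'h
  haveI := hq'
  have hqh : (q'.comap (algebraMap R (Localization p.primeCompl))).height ≤ 1 := by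
    have := IsLocalization.height_under p.primeCompl q'
    rw [Ideal.under] at this
    rw [this]
    exact hq'h
  obtain ⟨r, hr, ψ, h1, h2⟩ := H _ (Ideal.IsPrime.comap _) hqh
  refine ⟨algebraMap R (Localization p.primeCompl) r, fun hmem => hr (Ideal.mem_comap.mpr hmem),
    LocalizedModule.map p.primeCompl ψ, ?_, ?_⟩
  · rw [← localizedModule_map_comp, h1, localizedModule_map_smul_id]
  · rw [← localizedModule_map_comp, h2, localizedModule_map_smul_id]

/-- the global case, with localisation data. -/
theorem bijective_of_noetherian' [IsNoetherianRing R] [Module.Finite R M] [Module.Finite R N]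
    [Module.Flat R M] [Module.Flat R N] (φ : M →ₗ[R] N)
    (H : ∀ q : Ideal R, q.IsPrime → q.height ≤ 1 → ∃ r : R, r ∉ q ∧
      ∃ (M' N' : Type u) (_ : AddCommGroup M') (_ : AddCommGroup N') (_ : Module R M')
        (_ : Module R N') (f : M →ₗ[R] M') (g : N →ₗ[R] N') (φ' : M' →ₗ[R] N'),
        IsLocalizedModule (Submonoid.powers r) f ∧ IsLocalizedModule (Submonoid.powers r) g ∧
        Function.Bijective φ' ∧ φ' ∘ₗ f = g ∘ₗ φ) :
    Function.Bijective φ := by
  refine bijective_of_noetherian φ fun q hq hqh => ?_
  obtain ⟨r, hr, M', N', _, _, _, _, f, g, φ', hf, hg, hbij, hcomm⟩ := H q hq hqh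
  haveI := hf
  haveI := hg
  have hS : ∀ s : Submonoid.powers r, (s : R) ∉ q := by
    rintro ⟨s, k, rfl⟩ hmem
    exact hr (hq.mem_of_pow_mem k hmem)
  obtain ⟨e, he⟩ : ∃ e : M' ≃ₗ[R] N', ∀ x, e x = φ' x :=
    ⟨LinearEquiv.ofBijective φ' hbij, fun x => rfl⟩
  haveI : Module.FinitePresentation R N := Module.finitePresentation_of_finite R N
  obtain ⟨l', s₀, H0⟩ := Module.FinitePresentation.exists_lift_of_isLocalizedModule
    (Submonoid.powers r) f (e.symm.toLinearMap.comp g)
  have H0' : ∀ b : N, f (l' b) = (s₀ : R) • e.symm (g b) := fun b => by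
    have h := LinearMap.congr_fun H0 b
    simpa only [LinearMap.comp_apply, LinearMap.smul_apply, LinearEquiv.coe_coe,
      Submonoid.smul_def] using h
  have hcomm' : ∀ c : M, φ' (f c) = g (φ c) := fun c => LinearMap.congr_fun hcomm c
  have H₁ : g ∘ₗ (φ ∘ₗ l') = g ∘ₗ ((s₀ : R) • LinearMap.id) := by
    refine LinearMap.ext fun b => ?_
    simp only [LinearMap.comp_apply, LinearMap.smul_apply, LinearMap.id_apply]
    rw [← hcomm', H0', map_smul, map_smul, ← he, LinearEquiv.apply_symm_apply]
  obtain ⟨s₁, hs₁⟩ := Module.Finite.exists_smul_of_comp_eq_of_isLocalizedModule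
    (Submonoid.powers r) g _ _ H₁
  have H₂ : f ∘ₗ (l' ∘ₗ φ) = f ∘ₗ ((s₀ : R) • LinearMap.id) := by
    refine LinearMap.ext fun c => ?_
    simp only [LinearMap.comp_apply, LinearMap.smul_apply, LinearMap.id_apply]
    rw [H0', ← hcomm', ← he, LinearEquiv.symm_apply_apply, map_smul]
  obtain ⟨s₂, hs₂⟩ := Module.Finite.exists_smul_of_comp_eq_of_isLocalizedModule
    (Submonoid.powers r) f _ _ H₂
  have e1 : ∀ b : N, (s₁ : R) • φ (l' b) = (s₁ : R) • ((s₀ : R) • b) := fun b => by
    have h := LinearMap.congr_fun hs₁ b
    simpa only [LinearMap.smul_apply, LinearMap.comp_apply, LinearMap.id_apply,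
      Submonoid.smul_def] using h
  have e2 : ∀ c : M, (s₂ : R) • l' (φ c) = (s₂ : R) • ((s₀ : R) • c) := fun c => by
    have h := LinearMap.congr_fun hs₂ c
    simpa only [LinearMap.smul_apply, LinearMap.comp_apply, LinearMap.id_apply,
      Submonoid.smul_def] using h
  refine ⟨(s₀ : R) * (s₁ : R) * (s₂ : R), ?_, ((s₁ : R) * (s₂ : R)) • l', ?_, ?_⟩
  · intro hmem
    rcases hq.mem_or_mem hmem with h | h
    · rcases hq.mem_or_mem h with h | h
      · exact hS s₀ h
      · exact hS s₁ h
    · exact hS s₂ h
  · refine LinearMap.ext fun b => ?_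
    simp only [LinearMap.comp_apply, LinearMap.smul_apply, LinearMap.id_apply, map_smul]
    rw [mul_comm (s₁ : R) (s₂ : R), mul_smul, e1 b, ← mul_smul, ← mul_smul]
    congr 1
    ring
  · refine LinearMap.ext fun c => ?_
    simp only [LinearMap.comp_apply, LinearMap.smul_apply, LinearMap.id_apply]
    rw [mul_smul, e2 c, ← mul_smul, ← mul_smul]
    congr 1
    ring

end Global

section Ring

/-- ring version: a homomorphism `C → B` of finite flat algebras over a Noetherian ring `R` which
becomes bijective after inverting some `r ∉ q`, for every prime `q` of height `≤ 1`, is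
bijective. -/
theorem bijective_of_ringHom {R C B : Type u} [CommRing R] [CommRing C] [CommRing B]
    [IsNoetherianRing R] (ρ : R →+* C) (φ : C →+* B) (hρ1 : ρ.Finite) (hρ2 : ρ.Flat)
    (hφ1 : (φ.comp ρ).Finite) (hφ2 : (φ.comp ρ).Flat)
    (H : ∀ q : Ideal R, q.IsPrime → q.height ≤ 1 → ∃ r : R, r ∉ q ∧
      ∃ (C' B' : Type u) (_ : CommRing C') (_ : CommRing B') (_ : Algebra C C')
        (_ : Algebra B B') (φ' : C' →+* B'), IsLocalization.Away (ρ r) C' ∧
        IsLocalization.Away (φ (ρ r)) B' ∧ Function.Bijective φ' ∧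
        φ'.comp (algebraMap C C') = (algebraMap B B').comp φ) :
    Function.Bijective φ := by
  letI : Algebra R C := ρ.toAlgebra
  letI : Algebra R B := (φ.comp ρ).toAlgebra
  haveI : Module.Finite R C := hρ1
  haveI : Module.Flat R C := hρ2
  haveI : Module.Finite R B := hφ1
  haveI : Module.Flat R B := hφ2
  let φL : C →ₗ[R] B :=
    { toFun := φ
      map_add' := map_add φ
      map_smul' := fun r c => by
        simp only [Algebra.smul_def, RingHom.algebraMap_toAlgebra, map_mul, RingHom.id_apply,
          RingHom.comp_apply] }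
  have key : Function.Bijective φL := by
    refine bijective_of_noetherian' φL fun q hq hqh => ?_
    obtain ⟨r, hr, C', B', _, _, _, _, φ', hC, hB, hbij, hcomm⟩ := H q hq hqh
    letI : Algebra R C' := ((algebraMap C C').comp ρ).toAlgebra
    letI : Algebra R B' := ((algebraMap B B').comp (φ.comp ρ)).toAlgebra
    haveI : IsScalarTower R C C' := IsScalarTower.of_algebraMap_eq fun x => rfl
    haveI : IsScalarTower R B B' := IsScalarTower.of_algebraMap_eq fun x => rfl
    have hf : IsLocalizedModule (Submonoid.powers r)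
        (IsScalarTower.toAlgHom R C C').toLinearMap := by
      rw [isLocalizedModule_iff_isLocalization]
      have h0 : Algebra.algebraMapSubmonoid C (Submonoid.powers r) = Submonoid.powers (ρ r) :=
        Submonoid.map_powers (algebraMap R C) r
      rw [h0]
      exact hC
    have hg : IsLocalizedModule (Submonoid.powers r)
        (IsScalarTower.toAlgHom R B B').toLinearMap := by
      rw [isLocalizedModule_iff_isLocalization]
      have h0 : Algebra.algebraMapSubmonoid B (Submonoid.powers r) =
          Submonoid.powers (φ (ρ r)) :=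
        Submonoid.map_powers (algebraMap R B) r
      rw [h0]
      exact hB
    let φ'L : C' →ₗ[R] B' :=
      { toFun := φ'
        map_add' := map_add φ'
        map_smul' := fun x c => by
          simp only [Algebra.smul_def, RingHom.algebraMap_toAlgebra, map_mul, RingHom.id_apply,
            RingHom.comp_apply]
          congr 1
          exact RingHom.congr_fun hcomm (ρ x) }
    refine ⟨r, hr, C', B', inferInstance, inferInstance, inferInstance, inferInstance,
      (IsScalarTower.toAlgHom R C C').toLinearMap, (IsScalarTower.toAlgHom R B B').toLinearMap,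
      φ'L, hf, hg, hbij, ?_⟩
    refine LinearMap.ext fun c => ?_
    exact RingHom.congr_fun hcomm c
  exact key

end Ring

end Groth.Agent.Lib.Helper19.CodimIso
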