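import Mathlib
import Groth.Agent.Lib.Helper19.CodimIsoA
import Groth.Agent.Lib.Helper17.FibreIsoLocusC
import Groth.Agent.Lib.Helper16.CartSum.Points

/-!
# A morphism of finite flat schemes over a Noetherian base which is an isomorphism on the fibres
over all points of codimension `≤ 1` is an isomorphism
-/

set_option autoImplicit false
universe u
open CategoryTheory CategoryTheory.Limits AlgebraicGeometry Opposite TopologicalSpace

namespace Groth.Agent.Lib.Helper19.CodimIso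

open Groth.Agent.Lib.Helper17.FibreIsoLocus Groth.Agent.Lib.Helper17.FlatLocusBase

theorem isIso_restrict_of_isIso_app {X Y : Scheme.{u}} (f : X ⟶ Y) {U : Y.Opens}
    (hU : IsAffineOpen U) (haff : IsAffineOpen (f ⁻¹ᵁ U)) (h : IsIso (f.app U)) :
    IsIso (f ∣_ U) := by
  haveI : IsAffine U.toScheme := hU
  have haff' : IsAffine (f ⁻¹ᵁ U).toScheme := haff
  apply (HasAffineProperty.iff_of_isAffine (P := MorphismProperty.isomorphisms Scheme)).2
  refine ⟨haff', ?_⟩
  rw [morphismRestrict_appTop]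
  have key : ∀ W : Y.Opens, W = U → IsIso (f.app W) := by rintro W rfl; exact h
  have h2 : IsIso (X.presheaf.map (eqToHom (image_morphismRestrict_preimage f U ⊤)).op) :=
    inferInstance
  exact @IsIso.comp_isIso _ _ _ _ _ _ _ (key _ U.ι_image_top) h2

theorem app_bijective_of_le {X Y : Scheme.{u}} (f : X ⟶ Y) (U : Y.Opens) [IsIso (f ∣_ U)]
    (W : Y.Opens) (hWU : W ≤ U) : Function.Bijective (f.app W).hom := by
  have hW' : U.ι ''ᵁ (U.ι ⁻¹ᵁ W) = W := by
    rw [Scheme.Hom.image_preimage_eq_opensRange_inf, Scheme.Opens.opensRange_ι]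
    exact inf_eq_right.2 hWU
  have h1 : Function.Bijective ((f ∣_ U).app (U.ι ⁻¹ᵁ W)).hom :=
    ConcreteCategory.bijective_of_isIso ((f ∣_ U).app (U.ι ⁻¹ᵁ W))
  rw [morphismRestrict_app] at h1
  have hb : Function.Bijective (X.presheaf.map (eqToHom
      (image_morphismRestrict_preimage f U (U.ι ⁻¹ᵁ W))).op).hom :=
    ConcreteCategory.bijective_of_isIso _
  have h2 : Function.Bijective (f.app (U.ι ''ᵁ (U.ι ⁻¹ᵁ W))).hom :=
    (Function.Bijective.of_comp_iff' hb _).1 h1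
  revert h2
  generalize U.ι ''ᵁ (U.ι ⁻¹ᵁ W) = W'' at hW'
  subst hW'
  exact id

section Main

variable {X Y S : Scheme.{u}} (f : X ⟶ Y) (h : Y ⟶ S)

theorem isIso_restrict_affine [IsNoetherian S] [IsFinite h] [Flat h] [IsFinite (f ≫ h)]
    [Flat (f ≫ h)]
    (H : ∀ s : S, ringKrullDim (S.presheaf.stalk s) ≤ 1 → IsIso (fib f h s))
    (V : S.Opens) (hV : IsAffineOpen V) : IsIso (f ∣_ h ⁻¹ᵁ V) := by
  haveI : LocallyOfFinitePresentation h := locallyOfFinitePresentation_of_isLocallyNoetherian h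
  haveI : LocallyOfFinitePresentation (f ≫ h) :=
    locallyOfFinitePresentation_of_isLocallyNoetherian (f ≫ h)
  haveI : IsNoetherianRing Γ(S, V) := IsLocallyNoetherian.component_noetherian ⟨V, hV⟩
  have hW : IsAffineOpen (h ⁻¹ᵁ V) := hV.preimage h
  have hW' : IsAffineOpen (f ⁻¹ᵁ (h ⁻¹ᵁ V)) := hV.preimage (f ≫ h)
  apply isIso_restrict_of_isIso_app f hW hW'
  rw [ConcreteCategory.isIso_iff_bijective]
  have hfin1 : (h.app V).hom.Finite := h.finite_app V hV
  have hflat1 : (h.app V).hom.Flat := by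
    have := h.flat_appLE hV hW le_rfl
    rwa [Scheme.Hom.appLE_eq_app] at this
  have hfin2 : ((f.app (h ⁻¹ᵁ V)).hom.comp (h.app V).hom).Finite :=
    (f ≫ h).finite_app V hV
  have hflat2 : ((f.app (h ⁻¹ᵁ V)).hom.comp (h.app V).hom).Flat := by
    have hW'' : IsAffineOpen ((f ≫ h) ⁻¹ᵁ V) := hV.preimage (f ≫ h)
    have := (f ≫ h).flat_appLE hV hW'' le_rfl
    rw [Scheme.Hom.appLE_eq_app] at this
    exact this
  refine bijective_of_ringHom (h.app V).hom (f.app (h ⁻¹ᵁ V)).hom hfin1 hflat1 hfin2 hflat2 ?_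
  intro q hq hqh
  obtain ⟨s, hsV, hsq⟩ := H16CartSum.exists_primeIdealOf_eq hV ⟨q, hq⟩
  have hdim : ringKrullDim (S.presheaf.stalk s) ≤ 1 := by
    rw [H16CartSum.ringKrullDim_stalk_eq_height hV s hsV, hsq]
    exact_mod_cast hqh
  haveI : IsIso (fib f h s) := H s hdim
  obtain ⟨V', hsV', hV'iso⟩ := exists_nhd_isIso_restrict f h s
  obtain ⟨r, hrle, hsr⟩ := hV.exists_basicOpen_le (V := V') ⟨s, hsV'⟩ hsV
  have hrq : r ∉ q := by
    have h0 := (Groth.Agent.Lib.Helper3.mem_basicOpen_iff_notMem_primeIdealOf hV s hsV r).mp hsr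
    rwa [hsq] at h0
  haveI := hV'iso
  have hbij' : Function.Bijective (f.app (h ⁻¹ᵁ S.basicOpen r)).hom :=
    app_bijective_of_le f (h ⁻¹ᵁ V') (h ⁻¹ᵁ S.basicOpen r) (h.preimage_mono hrle)
  -- the restriction maps
  have hle1 : h ⁻¹ᵁ S.basicOpen r ≤ h ⁻¹ᵁ V := h.preimage_mono (S.basicOpen_le r)
  have hle2 : f ⁻¹ᵁ (h ⁻¹ᵁ S.basicOpen r) ≤ f ⁻¹ᵁ (h ⁻¹ᵁ V) := f.preimage_mono hle1
  have e1 : h ⁻¹ᵁ S.basicOpen r = Y.basicOpen ((h.app V).hom r) := Scheme.preimage_basicOpen h r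
  have e2 : f ⁻¹ᵁ (h ⁻¹ᵁ S.basicOpen r) =
      X.basicOpen ((f.app (h ⁻¹ᵁ V)).hom ((h.app V).hom r)) := by
    rw [e1]
    exact Scheme.preimage_basicOpen f _
  have loc1 := hW.isLocalization_of_eq_basicOpen ((h.app V).hom r) (homOfLE hle1) e1
  have loc2 := hW'.isLocalization_of_eq_basicOpen
    ((f.app (h ⁻¹ᵁ V)).hom ((h.app V).hom r)) (homOfLE hle2) e2
  refine ⟨r, hrq, Γ(Y, h ⁻¹ᵁ S.basicOpen r), Γ(X, f ⁻¹ᵁ (h ⁻¹ᵁ S.basicOpen r)), inferInstance,
    inferInstance, (Y.presheaf.map (homOfLE hle1).op).hom.toAlgebra,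
    (X.presheaf.map (homOfLE hle2).op).hom.toAlgebra, (f.app (h ⁻¹ᵁ S.basicOpen r)).hom,
    loc1, loc2, hbij', ?_⟩
  have hnat := f.naturality (homOfLE hle1).op
  have e3 : ((Opens.map f.base).map (homOfLE hle1).op.unop) = homOfLE hle2 :=
    Subsingleton.elim _ _
  rw [e3] at hnat
  have := congrArg CommRingCat.Hom.hom hnat
  rw [CommRingCat.hom_comp, CommRingCat.hom_comp] at this
  exact this

theorem isIso_of_codim_le_one [IsNoetherian S] [IsFinite h] [Flat h] [IsFinite (f ≫ h)]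
    [Flat (f ≫ h)]
    (H : ∀ s : S, ringKrullDim (S.presheaf.stalk s) ≤ 1 → IsIso (fib f h s)) : IsIso f := by
  have key : MorphismProperty.isomorphisms Scheme f := by
    refine IsZariskiLocalAtTarget.of_iSup_eq_top (P := MorphismProperty.isomorphisms Scheme)
      (fun V : S.affineOpens => h ⁻¹ᵁ V.1) ?_ (fun V => isIso_restrict_affine f h H V.1 V.2)
    rw [eq_top_iff]
    intro y _
    obtain ⟨_, ⟨U, hU : IsAffineOpen U, rfl⟩, hzU, -⟩ :=
      S.isBasis_affineOpens.exists_subset_of_mem_open (Set.mem_univ (h y)) isOpen_univ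
    exact Opens.mem_iSup.mpr ⟨⟨U, hU⟩, hzU⟩
  exact key

/-- variant where the fibre maps are written with an arbitrary structure map of the source. -/
theorem isIso_of_codim_le_one' [IsNoetherian S] [IsFinite h] [Flat h] (g : X ⟶ S)
    [IsFinite g] [Flat g] (hg : f ≫ h = g)
    (H : ∀ s : S, ringKrullDim (S.presheaf.stalk s) ≤ 1 →
      IsIso (pullback.map g (S.fromSpecResidueField s) h (S.fromSpecResidueField s) f (𝟙 _) (𝟙 S)
        ((Category.comp_id _).trans hg.symm)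
        ((Category.comp_id _).trans (Category.id_comp _).symm))) : IsIso f := by
  subst hg
  exact isIso_of_codim_le_one f h H

end Main

theorem surjective_of_codim_le_one {Y S : Scheme.{u}} [IsNoetherian S] (h : Y ⟶ S) [IsFinite h]
    (H : ∀ s : S, ringKrullDim (S.presheaf.stalk s) ≤ 1 → s ∈ Set.range h) :
    Function.Surjective h := by
  have hcl : IsClosed (Set.range h) := h.isClosedMap.isClosed_range
  intro s
  obtain ⟨_, ⟨V, hV : IsAffineOpen V, rfl⟩, hsV, -⟩ :=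
    S.isBasis_affineOpens.exists_subset_of_mem_open (Set.mem_univ s) isOpen_univ
  haveI : IsNoetherianRing Γ(S, V) := IsLocallyNoetherian.component_noetherian ⟨V, hV⟩
  obtain ⟨q0, hq0min, hq0le⟩ := Ideal.exists_minimalPrimes_le (I := (⊥ : Ideal Γ(S, V)))
    (J := (hV.primeIdealOf ⟨s, hsV⟩).asIdeal) bot_le
  haveI : q0.IsPrime := hq0min.1.1
  have hq0h : q0.height ≤ 1 :=
    Ideal.height_le_one_of_isPrincipal_of_mem_minimalPrimes _ q0 hq0min
  obtain ⟨s0, hs0V, hs0q⟩ := H16CartSum.exists_primeIdealOf_eq hV ⟨q0, inferInstance⟩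
  have hdim : ringKrullDim (S.presheaf.stalk s0) ≤ 1 := by
    rw [H16CartSum.ringKrullDim_stalk_eq_height hV s0 hs0V, hs0q]
    exact_mod_cast hq0h
  have hspec : s0 ⤳ s := by
    rw [← Groth.Agent.Lib.Helper3.primeIdealOf_le_iff_specializes hV s0 s hs0V hsV, hs0q]
    exact hq0le
  exact hspec.mem_closed hcl (H s0 hdim)

end Groth.Agent.Lib.Helper19.CodimIso
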