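import Groth.Prelude.Def_VecGrp
import Groth.Prelude.Def_HopfRep
import Mathlib.AlgebraicGeometry.Group.Affine
import Mathlib.RingTheory.TensorProduct.Basic

/-!
# Comodules over a Hopf algebra `A` and `Spec A`-module structures (helper19)

For a commutative Hopf algebra `A` over `R` and an `R`-module `E`: a right `A`-comodule structure on `E`
gives a `VecGrp.GMod (Spec A) E` (`gmodOf`) and conversely (`deltaOf`), compatibly with the rule
`g • (1 ⊗ x) = (f_g ⊗ id)(δ x)` (up to the swap), and each side is determined by the other.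
-/

set_option autoImplicit false
universe u
open CategoryTheory MonObj GrpObj AlgebraicGeometry
open scoped TensorProduct
open WithConv

namespace Groth.Agent.Lib.Helper19.ComodGMod

noncomputable section

/-- The affine group scheme `Spec A` over `Spec R`. -/
abbrev GA (R A : Type u) [CommRing R] [CommRing A] [HopfAlgebra R A] : Over (Spec (CommRingCat.of R)) :=
  (Spec (CommRingCat.of A)).asOver (Spec (CommRingCat.of R))

variable {R : Type u} [CommRing R] {A : Type u} [CommRing A] [HopfAlgebra R A]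
  {E : Type u} [AddCommGroup E] [Module R E]
  {B B' : Type u} [CommRing B] [Algebra R B] [CommRing B'] [Algebra R B']

/-- The algebra map of a point. -/
def fOf (g : VecGrp.pt R B ⟶ GA R A) : A →ₐ[R] B := (Spec.mapMulEquiv.symm g).ofConv

/-- The point of an algebra map. -/
def gOf (f : A →ₐ[R] B) : VecGrp.pt R B ⟶ GA R A := Spec.mapMulEquiv (toConv f)

lemma fOf_gOf (f : A →ₐ[R] B) : fOf (gOf f) = f := by
  unfold fOf gOf
  rw [MulEquiv.symm_apply_apply, ofConv_toConv]

lemma gOf_fOf (g : VecGrp.pt R B ⟶ GA R A) : gOf (fOf g) = g := by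
  unfold fOf gOf
  rw [toConv_ofConv, MulEquiv.apply_symm_apply]

lemma ptMap_comp_gOf (φ : B →ₐ[R] B') (f : A →ₐ[R] B) :
    VecGrp.ptMap φ ≫ gOf f = gOf (φ.comp f) := by
  apply Over.OverMorphism.ext
  rw [Over.comp_left, VecGrp.ptMap_left]
  change Spec.map (CommRingCat.ofHom φ.toRingHom) ≫ Spec.map (CommRingCat.ofHom f.toRingHom) =
    Spec.map (CommRingCat.ofHom (φ.comp f).toRingHom)
  rw [LieS.specMap_comp]
  rfl

lemma fOf_ptMap_comp (φ : B →ₐ[R] B') (g : VecGrp.pt R B ⟶ GA R A) :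
    fOf (VecGrp.ptMap φ ≫ g) = φ.comp (fOf g) := by
  have h : VecGrp.ptMap φ ≫ g = gOf (φ.comp (fOf g)) := by
    rw [← ptMap_comp_gOf, gOf_fOf]
  rw [h, fOf_gOf]

lemma fOf_one_toLinearMap :
    (fOf (1 : VecGrp.pt R B ⟶ GA R A)).toLinearMap =
      (Algebra.linearMap R B) ∘ₗ (CoalgebraStruct.counit (R := R) (A := A)) := by
  have h1 : Spec.mapMulEquiv.symm (1 : VecGrp.pt R B ⟶ GA R A) = 1 := map_one _
  unfold fOf
  rw [h1]
  exact LinearMap.ext fun a => rfl

lemma fOf_mul_toLinearMap (g h : VecGrp.pt R B ⟶ GA R A) :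
    (fOf (g * h)).toLinearMap =
      (Algebra.TensorProduct.lift (fOf g) (fOf h) (fun _ _ => Commute.all _ _)).toLinearMap ∘ₗ
        (CoalgebraStruct.comul (R := R) (A := A)) := by
  have h1 : Spec.mapMulEquiv.symm (g * h) = Spec.mapMulEquiv.symm g * Spec.mapMulEquiv.symm h :=
    map_mul _ g h
  refine LinearMap.ext fun a => ?_
  unfold fOf
  rw [h1]
  exact AlgHom.convMul_apply _ _ a

/-! ### The action attached to a linear map `δ : E → E ⊗ A` -/

/-- `x ↦ swap ((id ⊗ f)(δ x))`. -/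
def act0 (δ : E →ₗ[R] E ⊗[R] A) (f : A →ₗ[R] B) : E →ₗ[R] B ⊗[R] E :=
  (TensorProduct.comm R E B).toLinearMap ∘ₗ (f.lTensor E) ∘ₗ δ

lemma act0_apply (δ : E →ₗ[R] E ⊗[R] A) (f : A →ₗ[R] B) (x : E) :
    act0 δ f x = TensorProduct.comm R E B (f.lTensor E (δ x)) := rfl

/-- The `B`-linear extension of `act0`. -/
def act (δ : E →ₗ[R] E ⊗[R] A) (f : A →ₗ[R] B) : B ⊗[R] E →ₗ[B] B ⊗[R] E :=
  (act0 δ f).liftBaseChange B

lemma act_tmul (δ : E →ₗ[R] E ⊗[R] A) (f : A →ₗ[R] B) (b : B) (x : E) :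
    act δ f (b ⊗ₜ[R] x) = b • act0 δ f x :=
  LinearMap.liftBaseChange_tmul _ _ _ _

lemma act_one_tmul (δ : E →ₗ[R] E ⊗[R] A) (f : A →ₗ[R] B) (x : E) :
    act δ f ((1 : B) ⊗ₜ[R] x) = act0 δ f x := by
  rw [act_tmul, one_smul]

lemma ext_one_tmul {T T' : B ⊗[R] E →ₗ[B] B ⊗[R] E}
    (h : ∀ e : E, T ((1 : B) ⊗ₜ[R] e) = T' ((1 : B) ⊗ₜ[R] e)) : T = T' := by
  refine LinearMap.ext fun x => ?_
  induction x using TensorProduct.induction_on with
  | zero => simp
  | add x y hx hy => rw [map_add, map_add, hx, hy]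
  | tmul b e =>
    have h1 : b ⊗ₜ[R] e = b • ((1 : B) ⊗ₜ[R] e) := by
      rw [TensorProduct.smul_tmul', smul_eq_mul, _root_.mul_one]
    rw [h1, map_smul, map_smul, h]

/-- The key computation: composing the action of `f` after the one of `f'`. -/
lemma key (δ : E →ₗ[R] E ⊗[R] A) (f f' : A →ₐ[R] B) (T : B ⊗[R] E →ₗ[B] B ⊗[R] E)
    (hT : ∀ e : E, T ((1 : B) ⊗ₜ[R] e) =
      TensorProduct.comm R E B (f.toLinearMap.lTensor E (δ e)))
    (z : E ⊗[R] A) :
    T (TensorProduct.comm R E B (f'.toLinearMap.lTensor E z)) =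
      TensorProduct.comm R E B
        ((Algebra.TensorProduct.lift f f' (fun _ _ => Commute.all _ _)).toLinearMap.lTensor E
          (TensorProduct.assoc R E A A (δ.rTensor A z))) := by
  induction z using TensorProduct.induction_on with
  | zero => simp
  | add x y hx hy => simp only [map_add, hx, hy]
  | tmul e a =>
    rw [LinearMap.lTensor_tmul, TensorProduct.comm_tmul, LinearMap.rTensor_tmul,
      AlgHom.toLinearMap_apply]
    have h1 : (f' a) ⊗ₜ[R] e = (f' a) • ((1 : B) ⊗ₜ[R] e) := by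
      rw [TensorProduct.smul_tmul', smul_eq_mul, _root_.mul_one]
    rw [h1, map_smul, hT]
    generalize δ e = w
    induction w using TensorProduct.induction_on with
    | zero => simp
    | add x y hx hy => simp only [map_add, smul_add, TensorProduct.add_tmul, hx, hy]
    | tmul e' a' =>
      rw [LinearMap.lTensor_tmul, TensorProduct.comm_tmul, TensorProduct.assoc_tmul,
        LinearMap.lTensor_tmul, TensorProduct.comm_tmul, AlgHom.toLinearMap_apply,
        AlgHom.toLinearMap_apply, Algebra.TensorProduct.lift_tmul, TensorProduct.smul_tmul',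
        smul_eq_mul, mul_comm (f' a) (f a')]

lemma act_act0 (δ : E →ₗ[R] E ⊗[R] A)
    (hco : (TensorProduct.assoc R E A A).toLinearMap ∘ₗ δ.rTensor A ∘ₗ δ =
      (CoalgebraStruct.comul (R := R) (A := A)).lTensor E ∘ₗ δ)
    (f f' : A →ₐ[R] B) (x : E) :
    act δ f.toLinearMap (act0 δ f'.toLinearMap x) =
      act0 δ ((Algebra.TensorProduct.lift f f' (fun _ _ => Commute.all _ _)).toLinearMap ∘ₗ
        (CoalgebraStruct.comul (R := R) (A := A))) x := by
  have h : TensorProduct.assoc R E A A (δ.rTensor A (δ x)) =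
      (CoalgebraStruct.comul (R := R) (A := A)).lTensor E (δ x) := LinearMap.congr_fun hco x
  have h2 := key δ f f' (act δ f.toLinearMap) (fun e => act_one_tmul δ _ e) (δ x)
  rw [h] at h2
  rw [act0_apply, h2, act0_apply, LinearMap.lTensor_comp_apply]

lemma act0_one (δ : E →ₗ[R] E ⊗[R] A)
    (hcu : (CoalgebraStruct.counit (R := R) (A := A)).lTensor E ∘ₗ δ = (TensorProduct.mk R E R).flip 1)
    (x : E) :
    act0 δ ((Algebra.linearMap R B) ∘ₗ (CoalgebraStruct.counit (R := R) (A := A))) x =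
      (1 : B) ⊗ₜ[R] x := by
  have h : (CoalgebraStruct.counit (R := R) (A := A)).lTensor E (δ x) = x ⊗ₜ[R] (1 : R) :=
    LinearMap.congr_fun hcu x
  rw [act0_apply, LinearMap.lTensor_comp_apply, h, LinearMap.lTensor_tmul, TensorProduct.comm_tmul,
    Algebra.linearMap_apply, map_one]

lemma Wmap_comm_lTensor (φ : B →ₐ[R] B') (f : A →ₗ[R] B) (z : E ⊗[R] A) :
    VecGrp.Wmap φ (TensorProduct.comm R E B (f.lTensor E z)) =
      TensorProduct.comm R E B' ((φ.toLinearMap ∘ₗ f).lTensor E z) := by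
  induction z using TensorProduct.induction_on with
  | zero => simp
  | add x y hx hy => simp only [map_add, hx, hy]
  | tmul e a =>
    rw [LinearMap.lTensor_tmul, TensorProduct.comm_tmul, VecGrp.Wmap_tmul, LinearMap.lTensor_tmul,
      TensorProduct.comm_tmul]
    rfl

lemma act_natural (δ : E →ₗ[R] E ⊗[R] A) (φ : B →ₐ[R] B') (f : A →ₐ[R] B) (x : B ⊗[R] E) :
    VecGrp.Wmap φ (act δ f.toLinearMap x) = act δ (φ.comp f).toLinearMap (VecGrp.Wmap φ x) := by
  induction x using TensorProduct.induction_on with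
  | zero => simp
  | add x y hx hy => simp only [map_add, hx, hy]
  | tmul b e =>
    rw [act_tmul, VecGrp.Wmap_smul, VecGrp.Wmap_tmul, act_tmul, act0_apply, act0_apply,
      Wmap_comm_lTensor]
    rfl

/-! ### From a comodule structure to a `G`-module structure -/

section FromComod

variable (δ : E →ₗ[R] E ⊗[R] A)
  (hco : (TensorProduct.assoc R E A A).toLinearMap ∘ₗ δ.rTensor A ∘ₗ δ =
      (CoalgebraStruct.comul (R := R) (A := A)).lTensor E ∘ₗ δ)
  (hcu : (CoalgebraStruct.counit (R := R) (A := A)).lTensor E ∘ₗ δ = (TensorProduct.mk R E R).flip 1)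

/-- The action as a monoid homomorphism to endomorphisms. -/
def rho0 (B : Type u) [CommRing B] [Algebra R B] :
    (VecGrp.pt R B ⟶ GA R A) →* Module.End B (B ⊗[R] E) where
  toFun g := act δ (fOf g).toLinearMap
  map_one' := by
    refine ext_one_tmul fun e => ?_
    rw [act_one_tmul, fOf_one_toLinearMap, act0_one δ hcu]
    rfl
  map_mul' g h := by
    refine ext_one_tmul fun e => ?_
    rw [Module.End.mul_apply, act_one_tmul, act_one_tmul, act_act0 δ hco, fOf_mul_toLinearMap]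

/-- The action as a monoid homomorphism to linear automorphisms. -/
def rho (B : Type u) [CommRing B] [Algebra R B] :
    (VecGrp.pt R B ⟶ GA R A) →* ((B ⊗[R] E) ≃ₗ[B] (B ⊗[R] E)) :=
  (LinearMap.GeneralLinearGroup.generalLinearEquiv B (B ⊗[R] E)).toMonoidHom.comp
    (rho0 δ hco hcu B).toHomUnits

lemma rho_apply (B : Type u) [CommRing B] [Algebra R B] (g : VecGrp.pt R B ⟶ GA R A)
    (x : B ⊗[R] E) : rho δ hco hcu B g x = act δ (fOf g).toLinearMap x := rfl

/-- The `G`-module structure of a comodule. -/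
def gmodOf : VecGrp.GMod (GA R A) E where
  ρ B _ _ := rho δ hco hcu B
  naturality := by
    intro B B' _ _ _ _ φ g x
    rw [rho_apply, rho_apply, fOf_ptMap_comp]
    exact act_natural δ φ (fOf g) x

lemma gmodOf_one_tmul (B : Type u) [CommRing B] [Algebra R B] (g : VecGrp.pt R B ⟶ GA R A)
    (e : E) :
    (gmodOf δ hco hcu).ρ B g ((1 : B) ⊗ₜ[R] e) =
      TensorProduct.comm R E B
        (LinearMap.lTensor E (Spec.mapMulEquiv.symm g).ofConv.toLinearMap (δ e)) := by
  change rho δ hco hcu B g _ = _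
  rw [rho_apply, act_one_tmul]
  rfl

end FromComod

lemma GMod_ext {G : Over (Spec (CommRingCat.of R))} [GrpObj G] (m m' : VecGrp.GMod G E)
    (h : ∀ (B : Type u) [CommRing B] [Algebra R B] (g : VecGrp.pt R B ⟶ G) (e : E),
      m.ρ B g ((1 : B) ⊗ₜ[R] e) = m'.ρ B g ((1 : B) ⊗ₜ[R] e)) : m = m' := by
  have hρ : m.ρ = m'.ρ := by
    funext B _ _
    refine MonoidHom.ext fun g => LinearEquiv.ext fun x => ?_
    induction x using TensorProduct.induction_on with
    | zero => simp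
    | add x y hx hy => rw [map_add, map_add, hx, hy]
    | tmul b e =>
      have h1 : b ⊗ₜ[R] e = b • ((1 : B) ⊗ₜ[R] e) := by
        rw [TensorProduct.smul_tmul', smul_eq_mul, _root_.mul_one]
      rw [h1, map_smul, map_smul, h]
  cases m
  cases m'
  simp only [VecGrp.GMod.mk.injEq]
  exact hρ

theorem part1 [HopfRep.Comod R A E] :
    ∃! m : VecGrp.GMod (GA R A) E,
      ∀ (B : Type u) [CommRing B] [Algebra R B] (g : VecGrp.pt R B ⟶ GA R A) (x : E),
        m.ρ B g ((1 : B) ⊗ₜ[R] x) =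
          (TensorProduct.comm R E B) (LinearMap.lTensor E (Spec.mapMulEquiv.symm g).ofConv.toLinearMap
            (HopfRep.Comod.coact (k := R) (A := A) x)) := by
  refine ⟨gmodOf (HopfRep.Comod.coact (k := R) (A := A)) HopfRep.Comod.coassoc
    HopfRep.Comod.counit_comp, ?_, ?_⟩
  · intro B _ _ g x
    exact gmodOf_one_tmul _ _ _ B g x
  · intro m' hm'
    refine GMod_ext _ _ fun B _ _ g e => ?_
    rw [hm' B g e]
    exact (gmodOf_one_tmul _ _ _ B g e).symm

/-! ### From a `G`-module structure to a comodule structure -/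

/-- The universal point. -/
def gU : VecGrp.pt R A ⟶ GA R A := gOf (AlgHom.id R A)

/-- The coaction attached to a `G`-module structure. -/
def deltaOf (m : VecGrp.GMod (GA R A) E) : E →ₗ[R] E ⊗[R] A :=
  (TensorProduct.comm R E A).symm.toLinearMap ∘ₗ
    ((m.ρ A gU).toLinearMap.restrictScalars R) ∘ₗ (TensorProduct.mk R A E 1)

lemma deltaOf_apply (m : VecGrp.GMod (GA R A) E) (x : E) :
    deltaOf m x = (TensorProduct.comm R E A).symm (m.ρ A gU ((1 : A) ⊗ₜ[R] x)) := rfl

lemma formula (m : VecGrp.GMod (GA R A) E) (B : Type u) [CommRing B] [Algebra R B]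
    (g : VecGrp.pt R B ⟶ GA R A) (x : E) :
    m.ρ B g ((1 : B) ⊗ₜ[R] x) =
      TensorProduct.comm R E B (LinearMap.lTensor E (fOf g).toLinearMap (deltaOf m x)) := by
  have hg : VecGrp.ptMap (fOf g) ≫ gU = g := by
    unfold gU
    rw [ptMap_comp_gOf, AlgHom.comp_id, gOf_fOf]
  have h := m.naturality (fOf g) gU ((1 : A) ⊗ₜ[R] x)
  rw [hg, VecGrp.Wmap_tmul, map_one] at h
  rw [← h]
  have h2 : m.ρ A gU ((1 : A) ⊗ₜ[R] x) = TensorProduct.comm R E A (deltaOf m x) := by
    rw [deltaOf_apply, LinearEquiv.apply_symm_apply]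
  rw [h2]
  have h3 := Wmap_comm_lTensor (E := E) (fOf g) (LinearMap.id : A →ₗ[R] A) (deltaOf m x)
  rw [LinearMap.lTensor_id, LinearMap.id_apply, LinearMap.comp_id] at h3
  exact h3

lemma delta_unique (m : VecGrp.GMod (GA R A) E) (δ' : E →ₗ[R] E ⊗[R] A)
    (h : ∀ (B : Type u) [CommRing B] [Algebra R B] (g : VecGrp.pt R B ⟶ GA R A) (x : E),
      m.ρ B g ((1 : B) ⊗ₜ[R] x) =
        TensorProduct.comm R E B (LinearMap.lTensor E (fOf g).toLinearMap (δ' x))) :
    δ' = deltaOf m := by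
  refine LinearMap.ext fun x => ?_
  have h1 := h A gU x
  have h2 : fOf (gU (R := R) (A := A)) = AlgHom.id R A := fOf_gOf _
  rw [h2] at h1
  have h3 : (AlgHom.id R A).toLinearMap = LinearMap.id := rfl
  rw [h3, LinearMap.lTensor_id, LinearMap.id_apply] at h1
  rw [deltaOf_apply, h1, LinearEquiv.symm_apply_apply]

lemma counit_of (m : VecGrp.GMod (GA R A) E) :
    (CoalgebraStruct.counit (R := R) (A := A)).lTensor E ∘ₗ deltaOf m =
      (TensorProduct.mk R E R).flip 1 := by
  refine LinearMap.ext fun x => ?_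
  have h := formula m R (1 : VecGrp.pt R R ⟶ GA R A) x
  have hρ : m.ρ R (1 : VecGrp.pt R R ⟶ GA R A) = 1 := map_one _
  rw [hρ, fOf_one_toLinearMap] at h
  have h0 : Algebra.linearMap R R = LinearMap.id := rfl
  rw [h0, LinearMap.id_comp] at h
  have h' := congrArg (TensorProduct.comm R E R).symm h
  rw [LinearEquiv.symm_apply_apply] at h'
  rw [LinearMap.comp_apply, ← h']
  rfl

lemma coassoc_of (m : VecGrp.GMod (GA R A) E) :
    (TensorProduct.assoc R E A A).toLinearMap ∘ₗ (deltaOf m).rTensor A ∘ₗ deltaOf m =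
      (CoalgebraStruct.comul (R := R) (A := A)).lTensor E ∘ₗ deltaOf m := by
  refine LinearMap.ext fun x => ?_
  obtain ⟨i₁, hi₁⟩ : ∃ i : A →ₐ[R] A ⊗[R] A, i = Algebra.TensorProduct.includeLeft := ⟨_, rfl⟩
  obtain ⟨i₂, hi₂⟩ : ∃ i : A →ₐ[R] A ⊗[R] A, i = Algebra.TensorProduct.includeRight := ⟨_, rfl⟩
  have e1 : m.ρ (A ⊗[R] A) (gOf i₁ * gOf i₂) ((1 : A ⊗[R] A) ⊗ₜ[R] x) =
      m.ρ (A ⊗[R] A) (gOf i₁) (m.ρ (A ⊗[R] A) (gOf i₂) ((1 : A ⊗[R] A) ⊗ₜ[R] x)) := by
    rw [map_mul]
    rfl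
  rw [formula m _ (gOf i₁ * gOf i₂) x, formula m _ (gOf i₂) x, fOf_mul_toLinearMap, fOf_gOf,
    fOf_gOf] at e1
  have e2 := key (deltaOf m) i₁ i₂ ((m.ρ (A ⊗[R] A) (gOf i₁)).toLinearMap)
    (fun e => by rw [LinearEquiv.coe_coe, formula m _ (gOf i₁) e, fOf_gOf]) (deltaOf m x)
  rw [LinearEquiv.coe_coe] at e2
  rw [e2] at e1
  have hl : (Algebra.TensorProduct.lift i₁ i₂ (fun _ _ => Commute.all _ _)).toLinearMap =
      LinearMap.id := by
    have : Algebra.TensorProduct.lift i₁ i₂ (fun _ _ => Commute.all _ _) =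
        AlgHom.id R (A ⊗[R] A) := by
      subst hi₁ hi₂
      exact Algebra.TensorProduct.lift_includeLeft_includeRight
    rw [this]
    rfl
  rw [hl, LinearMap.id_comp, LinearMap.lTensor_id, LinearMap.id_apply] at e1
  exact ((TensorProduct.comm R E (A ⊗[R] A)).injective e1).symm

theorem part2 (m : VecGrp.GMod (GA R A) E) :
    ∃! δ : E →ₗ[R] E ⊗[R] A,
      ((TensorProduct.assoc R E A A).toLinearMap ∘ₗ δ.rTensor A ∘ₗ δ =
          (CoalgebraStruct.comul (R := R) (A := A)).lTensor E ∘ₗ δ ∧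
        (CoalgebraStruct.counit (R := R) (A := A)).lTensor E ∘ₗ δ = (TensorProduct.mk R E R).flip 1) ∧
      (∀ (B : Type u) [CommRing B] [Algebra R B] (g : VecGrp.pt R B ⟶ GA R A) (x : E),
        m.ρ B g ((1 : B) ⊗ₜ[R] x) =
          (TensorProduct.comm R E B) (LinearMap.lTensor E (Spec.mapMulEquiv.symm g).ofConv.toLinearMap
            (δ x))) := by
  refine ⟨deltaOf m, ⟨⟨coassoc_of m, counit_of m⟩, fun B _ _ g x => formula m B g x⟩, ?_⟩
  rintro δ' ⟨_, h⟩
  exact delta_unique m δ' h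

end

end Groth.Agent.Lib.Helper19.ComodGMod
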