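import Mathlib
import Groth.Prelude.Def_HopfRep

/-!
# Local finiteness of comodules over a Noetherian base (helper19)

`R` a commutative ring, `C` an `R`-coalgebra, `E` a `C`-comodule.  For a submodule `F₀ ⊆ E` let
`core F₀ = {x | ρ x ∈ F₀ ⊗ C}`.

* `core_le`: `core F₀ ≤ F₀`;
* `isSubcomod_core`: if `C` is flat, `core F₀` is a subcomodule;
* `exists_finset_mem_range`: every tensor lies in `span s ⊗ C` for a finite `s`;
* `exists_fg_subcomod`: over a Noetherian ring with `C` flat, every finite subset of `E` lies in a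
  subcomodule which is a finite `R`-module.
-/

set_option autoImplicit false
universe u v w

open TensorProduct

namespace Groth.Agent.Lib.Helper19.ComodNoeth

variable {R : Type u} [CommRing R] {C : Type v} [AddCommGroup C] [Module R C] [Coalgebra R C]
  {E : Type w} [AddCommGroup E] [Module R E] [HopfRep.Comod R C E]

/-- `E → (E/F₀) ⊗ C` -/
noncomputable def psi (F₀ : Submodule R E) : E →ₗ[R] (E ⧸ F₀) ⊗[R] C :=
  F₀.mkQ.rTensor C ∘ₗ HopfRep.Comod.coact (k := R) (A := C)

/-- the elements whose coaction lies in `F₀ ⊗ C` -/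
noncomputable def core (F₀ : Submodule R E) : Submodule R E := LinearMap.ker (psi (C := C) F₀)

lemma mem_core (F₀ : Submodule R E) (x : E) :
    x ∈ core (C := C) F₀ ↔
      (F₀.mkQ.rTensor C) (HopfRep.Comod.coact (k := R) (A := C) x) = 0 := Iff.rfl

lemma mem_core_iff (F₀ : Submodule R E) (x : E) :
    x ∈ core (C := C) F₀ ↔
      HopfRep.Comod.coact (k := R) (A := C) x ∈ LinearMap.range (F₀.subtype.rTensor C) := by
  have hex : Function.Exact (F₀.subtype.rTensor C) (F₀.mkQ.rTensor C) :=
    rTensor_exact C (LinearMap.exact_subtype_mkQ F₀) F₀.mkQ_surjective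
  rw [mem_core]
  exact hex _

lemma core_le (F₀ : Submodule R E) : core (C := C) F₀ ≤ F₀ := by
  intro x hx
  rw [mem_core] at hx
  have h1 := LinearMap.congr_fun (HopfRep.Comod.counit_comp (k := R) (A := C) (V := E)) x
  have h2 : (F₀.mkQ.rTensor R) ((CoalgebraStruct.counit (R := R) (A := C)).lTensor E
        (HopfRep.Comod.coact (k := R) (A := C) x)) =
      (CoalgebraStruct.counit (R := R) (A := C)).lTensor (E ⧸ F₀)
        ((F₀.mkQ.rTensor C) (HopfRep.Comod.coact (k := R) (A := C) x)) := by
    have hcomm : (F₀.mkQ.rTensor R) ∘ₗ (CoalgebraStruct.counit (R := R) (A := C)).lTensor E =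
        (CoalgebraStruct.counit (R := R) (A := C)).lTensor (E ⧸ F₀) ∘ₗ (F₀.mkQ.rTensor C) := by
      rw [LinearMap.rTensor_comp_lTensor, LinearMap.lTensor_comp_rTensor]
    exact LinearMap.congr_fun hcomm _
  rw [hx, map_zero] at h2
  simp only [LinearMap.comp_apply] at h1
  rw [h1] at h2
  have h3 : F₀.mkQ x ⊗ₜ[R] (1 : R) = 0 := h2
  have h4 := congrArg (TensorProduct.rid R (E ⧸ F₀)) h3
  rw [TensorProduct.rid_tmul, one_smul, map_zero] at h4
  exact (Submodule.Quotient.mk_eq_zero F₀).1 h4

omit [Coalgebra R C] [HopfRep.Comod R C E] in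
lemma assoc_rTensor_rTensor {E' : Type*} [AddCommGroup E'] [Module R E'] (q : E →ₗ[R] E')
    (S : (E ⊗[R] C) ⊗[R] C) :
    (q.rTensor (C ⊗[R] C)) (TensorProduct.assoc R E C C S) =
      TensorProduct.assoc R E' C C (((q.rTensor C).rTensor C) S) := by
  have h : (q.rTensor (C ⊗[R] C)) ∘ₗ (TensorProduct.assoc R E C C).toLinearMap =
      (TensorProduct.assoc R E' C C).toLinearMap ∘ₗ ((q.rTensor C).rTensor C) := by
    apply TensorProduct.ext_threefold
    intro x y z
    simp
  exact LinearMap.congr_fun h S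

theorem isSubcomod_core [Module.Flat R C] (F₀ : Submodule R E) :
    HopfRep.IsSubcomod (k := R) (A := C) (core (C := C) F₀) := by
  intro x hx
  rw [mem_core] at hx
  have hex : Function.Exact ((core (C := C) F₀).subtype.rTensor C)
      ((psi (C := C) F₀).rTensor C) :=
    Module.Flat.rTensor_exact C (LinearMap.exact_subtype_ker_map (psi (C := C) F₀))
  apply (hex _).1
  apply (TensorProduct.assoc R (E ⧸ F₀) C C).injective
  rw [map_zero]
  have hco := LinearMap.congr_fun (HopfRep.Comod.coassoc (k := R) (A := C) (V := E)) x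
  simp only [LinearMap.comp_apply, LinearEquiv.coe_coe] at hco
  have h1 : ((psi (C := C) F₀).rTensor C) (HopfRep.Comod.coact (k := R) (A := C) x) =
      ((F₀.mkQ.rTensor C).rTensor C)
        (((HopfRep.Comod.coact (k := R) (A := C)).rTensor C)
          (HopfRep.Comod.coact (k := R) (A := C) x)) := by
    unfold psi
    rw [LinearMap.rTensor_comp]
    rfl
  rw [h1, ← assoc_rTensor_rTensor, hco]
  have h2 : (F₀.mkQ.rTensor (C ⊗[R] C))
      ((CoalgebraStruct.comul (R := R) (A := C)).lTensor E
        (HopfRep.Comod.coact (k := R) (A := C) x)) =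
      (CoalgebraStruct.comul (R := R) (A := C)).lTensor (E ⧸ F₀)
        ((F₀.mkQ.rTensor C) (HopfRep.Comod.coact (k := R) (A := C) x)) := by
    have hcomm : (F₀.mkQ.rTensor (C ⊗[R] C)) ∘ₗ
          (CoalgebraStruct.comul (R := R) (A := C)).lTensor E =
        (CoalgebraStruct.comul (R := R) (A := C)).lTensor (E ⧸ F₀) ∘ₗ (F₀.mkQ.rTensor C) := by
      rw [LinearMap.rTensor_comp_lTensor, LinearMap.lTensor_comp_rTensor]
    exact LinearMap.congr_fun hcomm _
  rw [h2, hx, map_zero]

omit [Coalgebra R C] [HopfRep.Comod R C E] in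
lemma range_rTensor_mono {P Q : Submodule R E} (h : P ≤ Q) :
    LinearMap.range (P.subtype.rTensor C) ≤ LinearMap.range (Q.subtype.rTensor C) := by
  have h1 : P.subtype = Q.subtype ∘ₗ Submodule.inclusion h := by
    ext x
    rfl
  rw [h1, LinearMap.rTensor_comp]
  exact LinearMap.range_comp_le_range _ _

omit [Coalgebra R C] [HopfRep.Comod R C E] in
lemma exists_finset_mem_range (t : E ⊗[R] C) :
    ∃ s : Finset E, t ∈ LinearMap.range ((Submodule.span R (s : Set E)).subtype.rTensor C) := by
  classical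
  induction t using TensorProduct.induction_on with
  | zero => exact ⟨∅, zero_mem _⟩
  | tmul e c =>
    refine ⟨{e}, ⟨(⟨e, Submodule.subset_span (by simp)⟩ :
      Submodule.span R ((({e} : Finset E)) : Set E)) ⊗ₜ[R] c, rfl⟩⟩
  | add x y hx hy =>
    obtain ⟨s, hs⟩ := hx
    obtain ⟨t, ht⟩ := hy
    refine ⟨s ∪ t, add_mem ?_ ?_⟩
    · refine range_rTensor_mono (Submodule.span_mono ?_) hs
      intro z hz
      simp only [Finset.coe_union]
      exact Or.inl hz
    · refine range_rTensor_mono (Submodule.span_mono ?_) ht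
      intro z hz
      simp only [Finset.coe_union]
      exact Or.inr hz

/-- Over a Noetherian ring, with `C` flat, every finite subset of a comodule lies in a subcomodule
which is a finite module. -/
theorem exists_fg_subcomod [IsNoetherianRing R] [Module.Flat R C] (s : Finset E) :
    ∃ V : Submodule R E, HopfRep.IsSubcomod (k := R) (A := C) V ∧ Module.Finite R V ∧
      (s : Set E) ⊆ V := by
  classical
  choose S hS using fun x : E =>
    exists_finset_mem_range (C := C) (HopfRep.Comod.coact (k := R) (A := C) x)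
  obtain ⟨F₀, hF₀⟩ : ∃ F₀ : Submodule R E, F₀ = Submodule.span R ((s.biUnion S : Finset E) : Set E) :=
    ⟨_, rfl⟩
  have hfg : F₀.FG := by
    rw [hF₀]
    exact Submodule.fg_span (Finset.finite_toSet _)
  haveI : IsNoetherian R F₀ := isNoetherian_of_fg_of_noetherian F₀ hfg
  refine ⟨core (C := C) F₀, isSubcomod_core F₀, ?_, ?_⟩
  · exact Module.Finite.of_injective (Submodule.inclusion (core_le (C := C) F₀))
      (Submodule.inclusion_injective _)
  · intro x hx
    rw [SetLike.mem_coe, mem_core_iff]
    refine range_rTensor_mono ?_ (hS x)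
    rw [hF₀]
    apply Submodule.span_mono
    intro z hz
    exact Finset.mem_coe.2 (Finset.mem_biUnion.2 ⟨x, Finset.mem_coe.1 hx, hz⟩)

end Groth.Agent.Lib.Helper19.ComodNoeth
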