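import Mathlib
import Groth.Agent.Lib.Helper19.ConnEt3
import Groth.Prelude.Def_SGA3

/-!
# The connected–étale sequence of a finite flat group scheme, part 4 (helper19)

The augmentation ideal of the invariants generates `(1 - e)`; the invariants are étale (explicit
separability idempotent `(id ⊗ S) Δ e`).
-/

set_option autoImplicit false
universe u v w

open TensorProduct WithConv

namespace Groth.Agent.Lib.Helper19.ConnEt

open Groth.Agent.Lib.Helper19.KT Groth.Agent.Lib.Helper19.EtInv

section Aug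

variable {R : Type u} [CommRing R] {A : Type v} [CommRing A] [HopfAlgebra R A]
  (I : Ideal A) [I.IsHopfIdeal R]

lemma lid_rTensor_counit_lTensor_mk (w : A ⊗[R] A) :
    TensorProduct.lid R (A ⧸ I) ((Coalgebra.counit (R := R) (A := A)).rTensor (A ⧸ I)
      ((Ideal.Quotient.mkₐ R I).toLinearMap.lTensor A w)) =
      Ideal.Quotient.mkₐ R I
        (TensorProduct.lid R A ((Coalgebra.counit (R := R) (A := A)).rTensor A w)) := by
  induction w using TensorProduct.induction_on with
  | zero => simp
  | tmul p q =>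
    rw [LinearMap.lTensor_tmul, LinearMap.rTensor_tmul, TensorProduct.lid_tmul,
      LinearMap.rTensor_tmul, TensorProduct.lid_tmul, map_smul]
    rfl
  | add x y hx hy => simp only [map_add, hx, hy]

lemma mem_of_coinv_of_counit_eq_zero {a : A} (ha : a ∈ coinv (rhoQ (R := R) I))
    (h0 : Coalgebra.counit (R := R) a = 0) : a ∈ I := by
  have ha' : rhoQ (R := R) I a = a ⊗ₜ[R] (1 : A ⧸ I) := ha
  have h1 : TensorProduct.lid R (A ⧸ I) ((Coalgebra.counit (R := R) (A := A)).rTensor (A ⧸ I)
      (rhoQ (R := R) I a)) = TensorProduct.lid R (A ⧸ I)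
      ((Coalgebra.counit (R := R) (A := A)).rTensor (A ⧸ I) (a ⊗ₜ[R] (1 : A ⧸ I))) := by
    rw [ha']
  rw [rhoQ_apply, lid_rTensor_counit_lTensor_mk, Coalgebra.rTensor_counit_comul,
    TensorProduct.lid_tmul, one_smul, LinearMap.rTensor_tmul, TensorProduct.lid_tmul, h0,
    zero_smul] at h1
  exact Ideal.Quotient.eq_zero_iff_mem.1 h1

lemma map_mk_id (z : A ⊗[R] A) :
    Algebra.TensorProduct.map (Ideal.Quotient.mkₐ R I) (AlgHom.id R A) z =
      (Ideal.Quotient.mkₐ R I).toLinearMap.rTensor A z := by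
  induction z using TensorProduct.induction_on with
  | zero => simp
  | tmul a b =>
    rw [Algebra.TensorProduct.map_tmul, LinearMap.rTensor_tmul]
    rfl
  | add a b ha hb => simp only [map_add, ha, hb]

end Aug

section AugUnit

variable {R : Type u} [CommRing R] {A : Type u} [CommRing A] [HopfAlgebra R A]
  (e : A) (he : IsIdempotentElem e) (hε : Bialgebra.counitAlgHom R A e = 1)
  [(Ideal.span ({1 - e} : Set A)).IsHopfIdeal R] [Nontrivial R] [Module.Finite R A] [IsLocalRing (A ⧸ Ideal.span ({1 - e} : Set A))]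

include he hε in
theorem augIdealSpan_eq :
    SGA3.augIdealSpan R A (coinv (rhoQ (R := R) (Ideal.span ({1 - e} : Set A)))) = (Ideal.span ({1 - e} : Set A)) := by
  apply le_antisymm
  · unfold SGA3.augIdealSpan
    rw [Ideal.span_le]
    rintro a ⟨haB, ha0⟩
    exact mem_of_coinv_of_counit_eq_zero (Ideal.span ({1 - e} : Set A)) haB ha0
  · rw [Ideal.span_le, Set.singleton_subset_iff]
    apply Ideal.subset_span
    refine ⟨Subalgebra.sub_mem _ (Subalgebra.one_mem _) (e_mem e he hε), ?_⟩
    have h1 : Coalgebra.counit (R := R) e = 1 := hε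
    rw [map_sub, Bialgebra.counit_one, h1, sub_self]

include he hε in
theorem lamL_eq_of_mem {b : A} (hb : b ∈ coinv (rhoQ (R := R) (Ideal.span ({1 - e} : Set A)))) :
    lamL (R := R) (Ideal.span ({1 - e} : Set A)) b = (1 : (A ⧸ Ideal.span ({1 - e} : Set A))) ⊗ₜ[R] b := by
  rw [← left_coinv e he hε hb]
  exact (map_mk_id (Ideal.span ({1 - e} : Set A)) _).symm

end AugUnit

section Division

variable {R : Type u} [CommRing R] {A : Type v} [CommRing A] [HopfAlgebra R A]

noncomputable abbrev i1 : A →ₐ[R] A ⊗[R] A := Algebra.TensorProduct.includeLeft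

noncomputable abbrev i2 : A →ₐ[R] A ⊗[R] A := Algebra.TensorProduct.includeRight

lemma comul_eq : (toConv (i1 (R := R) (A := A)) * toConv (i2 (R := R) (A := A))).ofConv =
    Bialgebra.comulAlgHom R A := by
  rw [AlgHom.convMul_def]
  simp only [ofConv_toConv]
  rw [← AlgHom.comp_assoc]
  have h : (Algebra.TensorProduct.lmul' (S := A ⊗[R] A) R).comp
      (Algebra.TensorProduct.map (i1 (R := R) (A := A)) (i2 (R := R) (A := A))) =
      AlgHom.id R (A ⊗[R] A) := by
    apply Algebra.TensorProduct.ext'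
    intro a b
    simp
  rw [h, AlgHom.id_comp]

/-- the division map `(g, h) ↦ g h⁻¹` on coordinates: `a ↦ a₁ ⊗ S a₂` -/
noncomputable def dvn : WithConv (A →ₐ[R] A ⊗[R] A) :=
  toConv (i1 (R := R) (A := A)) * (toConv (i2 (R := R) (A := A)))⁻¹

/-- `(g, h) ↦ (g h⁻¹, h)` on coordinate rings -/
noncomputable def Phi : A ⊗[R] A →ₐ[R] A ⊗[R] A :=
  Algebra.TensorProduct.lift (dvn (R := R) (A := A)).ofConv (i2 (R := R) (A := A))
    (fun _ _ => Commute.all _ _)

lemma Phi_i1 : (Phi (R := R) (A := A)).comp (i1 (R := R) (A := A)) =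
    (dvn (R := R) (A := A)).ofConv :=
  Algebra.TensorProduct.lift_comp_includeLeft _ _ _

lemma Phi_i2 : (Phi (R := R) (A := A)).comp (i2 (R := R) (A := A)) = i2 (R := R) (A := A) := by
  ext a
  show Phi (R := R) (A := A) ((1 : A) ⊗ₜ[R] a) = (1 : A) ⊗ₜ[R] a
  rw [Phi, Algebra.TensorProduct.lift_tmul, map_one, one_mul]
  rfl

lemma Phi_comul : (Phi (R := R) (A := A)).comp (Bialgebra.comulAlgHom R A) =
    i1 (R := R) (A := A) := by
  have h : postComp (Phi (R := R) (A := A))
      (toConv (i1 (R := R) (A := A)) * toConv (i2 (R := R) (A := A))) =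
      toConv (i1 (R := R) (A := A)) := by
    rw [map_mul]
    have e1 : postComp (Phi (R := R) (A := A)) (toConv (i1 (R := R) (A := A))) =
        dvn (R := R) (A := A) := by
      rw [postComp_apply]
      exact congrArg toConv Phi_i1
    have e2 : postComp (Phi (R := R) (A := A)) (toConv (i2 (R := R) (A := A))) =
        toConv (i2 (R := R) (A := A)) := by
      rw [postComp_apply]
      exact congrArg toConv Phi_i2
    rw [e1, e2]
    unfold dvn
    rw [inv_mul_cancel_right]
  have h' := congrArg WithConv.ofConv h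
  rw [← comul_eq]
  exact h'

lemma lmul_dvn (a : A) :
    Algebra.TensorProduct.lmul' R ((dvn (R := R) (A := A)).ofConv a) =
      algebraMap R A (Coalgebra.counit (R := R) a) := by
  have h : postComp (Algebra.TensorProduct.lmul' (S := A) R) (dvn (R := R) (A := A)) = 1 := by
    unfold dvn
    rw [map_mul, map_inv]
    have e1 : postComp (Algebra.TensorProduct.lmul' (S := A) R)
        (toConv (i1 (R := R) (A := A))) = toConv (AlgHom.id R A) := by
      rw [postComp_apply]
      congr 1
      ext a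
      simp
    have e2 : postComp (Algebra.TensorProduct.lmul' (S := A) R)
        (toConv (i2 (R := R) (A := A))) = toConv (AlgHom.id R A) := by
      rw [postComp_apply]
      congr 1
      ext a
      simp
    rw [e1, e2, mul_inv_cancel]
  have h' : Algebra.TensorProduct.lmul' R ((dvn (R := R) (A := A)).ofConv a) =
      (1 : WithConv (A →ₐ[R] A)).ofConv a :=
    congrArg (fun k : WithConv (A →ₐ[R] A) => k.ofConv a) h
  rw [h', AlgHom.convOne_def, ofConv_toConv, AlgHom.comp_apply]
  rfl

lemma dvn_apply (a : A) : (dvn (R := R) (A := A)).ofConv a =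
    (HopfAlgebraStruct.antipode R (A := A)).lTensor A (Coalgebra.comul (R := R) a) := by
  have key : ∀ z : A ⊗[R] A, Algebra.TensorProduct.lmul' (S := A ⊗[R] A) R
      (Algebra.TensorProduct.map (i1 (R := R) (A := A))
        ((toConv (i2 (R := R) (A := A)))⁻¹).ofConv z) =
      (HopfAlgebraStruct.antipode R (A := A)).lTensor A z := by
    intro z
    induction z using TensorProduct.induction_on with
    | zero => simp
    | tmul p q =>
      rw [Algebra.TensorProduct.map_tmul, Algebra.TensorProduct.lmul'_apply_tmul,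
        LinearMap.lTensor_tmul]
      show (p ⊗ₜ[R] (1 : A)) * ((1 : A) ⊗ₜ[R] (HopfAlgebra.antipodeAlgHom R A q)) = _
      rw [Algebra.TensorProduct.tmul_mul_tmul, mul_one, one_mul]
      rfl
    | add x y hx hy => simp only [map_add, hx, hy]
  exact key _

end Division

section Etale

variable {R : Type u} [CommRing R] {A : Type v} [CommRing A] [HopfAlgebra R A]
  (e : A) (he : IsIdempotentElem e) (hε : Bialgebra.counitAlgHom R A e = 1)
  [(Ideal.span ({1 - e} : Set A)).IsHopfIdeal R]

lemma iotaE_rTensor_mk (z : A ⊗[R] A) :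
    (iotaE (R := R) e he).rTensor A ((Ideal.Quotient.mkₐ R (Ideal.span ({1 - e} : Set A))).toLinearMap.rTensor A z) =
      (e ⊗ₜ[R] (1 : A)) * z := by
  induction z using TensorProduct.induction_on with
  | zero => simp
  | tmul a b =>
    rw [LinearMap.rTensor_tmul, LinearMap.rTensor_tmul, Algebra.TensorProduct.tmul_mul_tmul,
      one_mul]
    rfl
  | add x y hx hy => simp only [map_add, mul_add, hx, hy]

lemma val_lmul (B : Subalgebra R A) (z : B ⊗[R] B) :
    ((Algebra.TensorProduct.lmul' R z : B) : A) =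
      Algebra.TensorProduct.lmul' R (TensorProduct.map B.val.toLinearMap B.val.toLinearMap z) := by
  induction z using TensorProduct.induction_on with
  | zero => simp
  | tmul x y =>
    rw [Algebra.TensorProduct.lmul'_apply_tmul, TensorProduct.map_tmul,
      Algebra.TensorProduct.lmul'_apply_tmul]
    rfl
  | add x y hx hy =>
    rw [map_add, map_add, map_add, ← hx, ← hy]
    rfl

include he hε in
/-- **the invariants of the unit component are unramified** -/
theorem formallyUnramified_coinv
    (hcl : ∀ b ∈ coinv (rhoQ (R := R) (Ideal.span ({1 - e} : Set A))), Coalgebra.comul (R := R) b ∈ LinearMap.range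
      (TensorProduct.map (coinv (rhoQ (R := R) (Ideal.span ({1 - e} : Set A)))).val.toLinearMap
        (coinv (rhoQ (R := R) (Ideal.span ({1 - e} : Set A)))).val.toLinearMap))
    (hS : ∀ b ∈ coinv (rhoQ (R := R) (Ideal.span ({1 - e} : Set A))),
      HopfAlgebraStruct.antipode R (A := A) b ∈ coinv (rhoQ (R := R) (Ideal.span ({1 - e} : Set A))))
    (hleft : ∀ b ∈ coinv (rhoQ (R := R) (Ideal.span ({1 - e} : Set A))), lamL (R := R) (Ideal.span ({1 - e} : Set A)) b = (1 : (A ⧸ Ideal.span ({1 - e} : Set A))) ⊗ₜ[R] b)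
    (heB : e ∈ coinv (rhoQ (R := R) (Ideal.span ({1 - e} : Set A))))
    (lam : A →ₗ[R] coinv (rhoQ (R := R) (Ideal.span ({1 - e} : Set A))))
    (hlam : lam ∘ₗ (coinv (rhoQ (R := R) (Ideal.span ({1 - e} : Set A)))).val.toLinearMap = LinearMap.id)
    [Algebra.EssFiniteType R (coinv (rhoQ (R := R) (Ideal.span ({1 - e} : Set A))))] :
    Algebra.FormallyUnramified R (coinv (rhoQ (R := R) (Ideal.span ({1 - e} : Set A)))) := by
  obtain ⟨t, ht⟩ : ∃ t, t = (dvn (R := R) (A := A)).ofConv e := ⟨_, rfl⟩
  obtain ⟨w, hw⟩ := hcl e heB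
  let SB : coinv (rhoQ (R := R) (Ideal.span ({1 - e} : Set A))) →ₗ[R] coinv (rhoQ (R := R) (Ideal.span ({1 - e} : Set A))) :=
    lam ∘ₗ (HopfAlgebraStruct.antipode R (A := A)) ∘ₗ (coinv (rhoQ (R := R) (Ideal.span ({1 - e} : Set A)))).val.toLinearMap
  have hSB : (coinv (rhoQ (R := R) (Ideal.span ({1 - e} : Set A)))).val.toLinearMap ∘ₗ SB =
      (HopfAlgebraStruct.antipode R (A := A)) ∘ₗ (coinv (rhoQ (R := R) (Ideal.span ({1 - e} : Set A)))).val.toLinearMap := by
    apply LinearMap.ext
    intro b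
    have hmem := hS b b.2
    have h1 : lam (HopfAlgebraStruct.antipode R (A := A) (b : A)) =
        ⟨HopfAlgebraStruct.antipode R (A := A) (b : A), hmem⟩ :=
      LinearMap.congr_fun hlam ⟨HopfAlgebraStruct.antipode R (A := A) (b : A), hmem⟩
    show ((lam (HopfAlgebraStruct.antipode R (A := A) (b : A)) :
      coinv (rhoQ (R := R) (Ideal.span ({1 - e} : Set A)))) : A) = HopfAlgebraStruct.antipode R (A := A) (b : A)
    rw [h1]
  have htw : TensorProduct.map (coinv (rhoQ (R := R) (Ideal.span ({1 - e} : Set A)))).val.toLinearMap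
      (coinv (rhoQ (R := R) (Ideal.span ({1 - e} : Set A)))).val.toLinearMap
      (SB.lTensor (coinv (rhoQ (R := R) (Ideal.span ({1 - e} : Set A)))) w) = t := by
    rw [LinearMap.map_lTensor, hSB, ← LinearMap.lTensor_map, hw, ht, dvn_apply]
  have hst : ∀ s ∈ coinv (rhoQ (R := R) (Ideal.span ({1 - e} : Set A))),
      ((s : A) ⊗ₜ[R] (1 : A)) * t = ((1 : A) ⊗ₜ[R] s) * t := by
    intro s hs
    have h1 : (e ⊗ₜ[R] (1 : A)) * Coalgebra.comul (R := R) s = e ⊗ₜ[R] s := by
      have h2 := congrArg ((iotaE (R := R) e he).rTensor A) (hleft s hs)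
      rw [lamL, LinearMap.comp_apply, iotaE_rTensor_mk, LinearMap.rTensor_tmul] at h2
      rw [h2, ← map_one (Ideal.Quotient.mk (Ideal.span ({1 - e} : Set A))), iotaE_mk, mul_one]
    have h3 := congrArg (Phi (R := R) (A := A)) h1
    rw [map_mul] at h3
    have e1 : Phi (R := R) (A := A) (e ⊗ₜ[R] (1 : A)) = t := by
      rw [ht]
      exact AlgHom.congr_fun Phi_i1 e
    have e2 : Phi (R := R) (A := A) (Coalgebra.comul (R := R) s) = s ⊗ₜ[R] (1 : A) :=
      AlgHom.congr_fun Phi_comul s
    have e3 : Phi (R := R) (A := A) (e ⊗ₜ[R] s) = t * ((1 : A) ⊗ₜ[R] s) := by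
      have h4 : e ⊗ₜ[R] s = (e ⊗ₜ[R] (1 : A)) * ((1 : A) ⊗ₜ[R] s) := by
        rw [Algebra.TensorProduct.tmul_mul_tmul, mul_one, one_mul]
      rw [h4, map_mul, e1]
      congr 1
      exact AlgHom.congr_fun Phi_i2 s
    rw [e1, e2, e3] at h3
    rw [mul_comm, h3, mul_comm]
  have hFinj : Function.Injective
      (Algebra.TensorProduct.map (coinv (rhoQ (R := R) (Ideal.span ({1 - e} : Set A)))).val
        (coinv (rhoQ (R := R) (Ideal.span ({1 - e} : Set A)))).val) := by
    intro z z' h
    have h1 : TensorProduct.map (coinv (rhoQ (R := R) (Ideal.span ({1 - e} : Set A)))).val.toLinearMap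
        (coinv (rhoQ (R := R) (Ideal.span ({1 - e} : Set A)))).val.toLinearMap z =
        TensorProduct.map (coinv (rhoQ (R := R) (Ideal.span ({1 - e} : Set A)))).val.toLinearMap
        (coinv (rhoQ (R := R) (Ideal.span ({1 - e} : Set A)))).val.toLinearMap z' := h
    have h2 := congrArg (TensorProduct.map lam lam) h1
    rw [← LinearMap.comp_apply, ← LinearMap.comp_apply, ← TensorProduct.map_comp, hlam,
      TensorProduct.map_id] at h2
    exact h2
  rw [Algebra.FormallyUnramified.iff_exists_tensorProduct]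
  refine ⟨SB.lTensor (coinv (rhoQ (R := R) (Ideal.span ({1 - e} : Set A)))) w, ?_, ?_⟩
  · intro s
    apply hFinj
    rw [map_mul, map_sub, map_zero, Algebra.TensorProduct.map_tmul,
      Algebra.TensorProduct.map_tmul, map_one]
    have h5 : Algebra.TensorProduct.map (coinv (rhoQ (R := R) (Ideal.span ({1 - e} : Set A)))).val
        (coinv (rhoQ (R := R) (Ideal.span ({1 - e} : Set A)))).val (SB.lTensor (coinv (rhoQ (R := R) (Ideal.span ({1 - e} : Set A)))) w) = t := htw
    rw [h5]
    show ((1 : A) ⊗ₜ[R] (s : A) - (s : A) ⊗ₜ[R] (1 : A)) * t = 0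
    rw [sub_mul, hst s s.2, sub_self]
  · apply Subtype.val_injective
    rw [val_lmul, htw, ht, lmul_dvn]
    have h1 : Coalgebra.counit (R := R) e = 1 := hε
    rw [h1, map_one]
    rfl

end Etale

end Groth.Agent.Lib.Helper19.ConnEt
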