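import Mathlib
import Groth.Agent.Lib.Helper19.PrimHopf

/-!
# Leibniz formula in the convolution algebra (helper19)

`A` a commutative bialgebra over a field `k`, `D = WithConv (A →ₗ[k] k)` the convolution algebra.
An `ε`-derivation is `x : D` with `x (a b) = ε a x b + x a ε b`.

* `leibniz`: `(x ^ n) (a b) = ∑ m, C(n,m) (x ^ m) a (x ^ (n-m)) b`.
* `isEpsDer_pow_p`: in characteristic `p` the `p`-th convolution power of an `ε`-derivation is an
  `ε`-derivation.
-/

set_option autoImplicit false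
universe u v

open TensorProduct

namespace Groth.Agent.Lib.Helper19.ConvLeibniz

open Groth.Agent.Lib.Helper19.PrimHopf

variable {k : Type u} [Field k] {A : Type v} [CommRing A] [Bialgebra k A]

/-- the functional `a ⊗ b ↦ f a * g b` -/
noncomputable def bx (f g : WithConv (A →ₗ[k] k)) : WithConv ((A ⊗[k] A) →ₗ[k] k) :=
  WithConv.toConv (LinearMap.mul' k k ∘ₗ TensorProduct.map f.ofConv g.ofConv)

lemma bx_tmul (f g : WithConv (A →ₗ[k] k)) (a b : A) : bx f g (a ⊗ₜ[k] b) = f a * g b := by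
  show LinearMap.mul' k k (TensorProduct.map f.ofConv g.ofConv (a ⊗ₜ[k] b)) = _
  rw [TensorProduct.map_tmul, LinearMap.mul'_apply]

lemma bx_mul (f g f' g' : WithConv (A →ₗ[k] k)) :
    bx f g * bx f' g' = bx (f * f') (g * g') := by
  have h1 := TensorProduct.map_convMul_map (R := k) (f := f) (h := f') (g := g) (k := g')
  have h2 := LinearMap.algHom_comp_convMul_distrib (Algebra.TensorProduct.lmul' k (S := k))
    (WithConv.toConv (TensorProduct.map f.ofConv g.ofConv))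
    (WithConv.toConv (TensorProduct.map f'.ofConv g'.ofConv))
  rw [h1, Algebra.TensorProduct.lmul'_toLinearMap] at h2
  apply WithConv.ext
  exact h2.symm

lemma bx_one : bx (1 : WithConv (A →ₗ[k] k)) 1 = 1 := by
  apply WithConv.ext
  apply TensorProduct.ext'
  intro a b
  show bx (1 : WithConv (A →ₗ[k] k)) 1 (a ⊗ₜ[k] b) =
    (1 : WithConv ((A ⊗[k] A) →ₗ[k] k)) (a ⊗ₜ[k] b)
  rw [bx_tmul, LinearMap.convOne_apply, LinearMap.convOne_apply, LinearMap.convOne_apply,
    TensorProduct.counit_tmul]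
  simp [mul_comm]

/-- precomposition with the multiplication -/
noncomputable def mstar (f : WithConv (A →ₗ[k] k)) : WithConv ((A ⊗[k] A) →ₗ[k] k) :=
  WithConv.toConv (f.ofConv ∘ₗ LinearMap.mul' k A)

lemma mstar_tmul (f : WithConv (A →ₗ[k] k)) (a b : A) : mstar f (a ⊗ₜ[k] b) = f (a * b) := by
  show f.ofConv (LinearMap.mul' k A (a ⊗ₜ[k] b)) = _
  rw [LinearMap.mul'_apply]

lemma mstar_mul (f g : WithConv (A →ₗ[k] k)) : mstar (f * g) = mstar f * mstar g := by
  apply WithConv.ext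
  exact LinearMap.convMul_comp_coalgHom_distrib f g (Bialgebra.mulCoalgHom k A)

lemma mstar_one : mstar (1 : WithConv (A →ₗ[k] k)) = 1 := by
  apply WithConv.ext
  apply TensorProduct.ext'
  intro a b
  show mstar (1 : WithConv (A →ₗ[k] k)) (a ⊗ₜ[k] b) =
    (1 : WithConv ((A ⊗[k] A) →ₗ[k] k)) (a ⊗ₜ[k] b)
  rw [mstar_tmul, LinearMap.convOne_apply, LinearMap.convOne_apply, TensorProduct.counit_tmul,
    Bialgebra.counit_mul]
  simp [mul_comm]

lemma mstar_pow (f : WithConv (A →ₗ[k] k)) (n : ℕ) : mstar (f ^ n) = mstar f ^ n := by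
  induction n with
  | zero => rw [pow_zero, pow_zero, mstar_one]
  | succ n ih => rw [pow_succ, pow_succ, mstar_mul, ih]

lemma bx_pow_left (f : WithConv (A →ₗ[k] k)) (n : ℕ) : bx f 1 ^ n = bx (f ^ n) 1 := by
  induction n with
  | zero => rw [pow_zero, pow_zero, bx_one]
  | succ n ih => rw [pow_succ, pow_succ, ih, bx_mul, mul_one]

lemma bx_pow_right (f : WithConv (A →ₗ[k] k)) (n : ℕ) : bx 1 f ^ n = bx 1 (f ^ n) := by
  induction n with
  | zero => rw [pow_zero, pow_zero, bx_one]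
  | succ n ih => rw [pow_succ, pow_succ, ih, bx_mul, mul_one]

/-- `ε`-derivations -/
def IsEpsDer (x : WithConv (A →ₗ[k] k)) : Prop :=
  ∀ a b : A, x (a * b) = Coalgebra.counit (R := k) a * x b + x a * Coalgebra.counit (R := k) b

lemma IsEpsDer.map_one {x : WithConv (A →ₗ[k] k)} (hx : IsEpsDer x) : x 1 = 0 := by
  have h := hx 1 1
  rw [mul_one, Bialgebra.counit_one, one_mul, mul_one] at h
  exact add_eq_left.1 h.symm

lemma IsEpsDer.zero : IsEpsDer (0 : WithConv (A →ₗ[k] k)) := by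
  intro a b
  show (0 : k) = _ * 0 + 0 * _
  rw [mul_zero, zero_mul, add_zero]

lemma IsEpsDer.add {x y : WithConv (A →ₗ[k] k)} (hx : IsEpsDer x) (hy : IsEpsDer y) :
    IsEpsDer (x + y) := by
  intro a b
  show x (a * b) + y (a * b) = _ * (x b + y b) + (x a + y a) * _
  rw [hx a b, hy a b]
  ring

lemma IsEpsDer.smul {x : WithConv (A →ₗ[k] k)} (hx : IsEpsDer x) (c : k) :
    IsEpsDer (c • x) := by
  intro a b
  show c • x (a * b) = _ * (c • x b) + (c • x a) * _
  rw [hx a b, smul_eq_mul, smul_eq_mul, smul_eq_mul]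
  ring

lemma mstar_epsDer (x : WithConv (A →ₗ[k] k)) (hx : IsEpsDer x) :
    mstar x = bx x 1 + bx 1 x := by
  apply WithConv.ext
  apply TensorProduct.ext'
  intro a b
  show mstar x (a ⊗ₜ[k] b) = bx x 1 (a ⊗ₜ[k] b) + bx 1 x (a ⊗ₜ[k] b)
  rw [mstar_tmul, bx_tmul, bx_tmul, hx a b, LinearMap.convOne_apply, LinearMap.convOne_apply]
  simp [add_comm]

lemma commute_bx (x : WithConv (A →ₗ[k] k)) : Commute (bx x 1) (bx 1 x) := by
  show bx x 1 * bx 1 x = bx 1 x * bx x 1
  rw [bx_mul, bx_mul, mul_one, one_mul]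

/-- evaluation at a point as an additive map -/
def evAt (t : A ⊗[k] A) : WithConv ((A ⊗[k] A) →ₗ[k] k) →+ k where
  toFun F := F t
  map_zero' := rfl
  map_add' _ _ := rfl

theorem leibniz (x : WithConv (A →ₗ[k] k)) (hx : IsEpsDer x) (n : ℕ) (a b : A) :
    (x ^ n) (a * b) =
      ∑ m ∈ Finset.range (n + 1), (n.choose m : k) * ((x ^ m) a * (x ^ (n - m)) b) := by
  have h1 : mstar (x ^ n) = ∑ m ∈ Finset.range (n + 1),
      (n.choose m) • bx (x ^ m) (x ^ (n - m)) := by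
    rw [mstar_pow, mstar_epsDer x hx, (commute_bx x).add_pow]
    refine Finset.sum_congr rfl fun m _ => ?_
    rw [bx_pow_left, bx_pow_right, bx_mul, mul_one, one_mul, nsmul_eq_mul']
  have h2 := congrArg (evAt (a ⊗ₜ[k] b)) h1
  rw [map_sum] at h2
  have h3 : evAt (a ⊗ₜ[k] b) (mstar (x ^ n)) = (x ^ n) (a * b) := mstar_tmul _ a b
  rw [← h3, h2]
  refine Finset.sum_congr rfl fun m _ => ?_
  rw [map_nsmul, nsmul_eq_mul]
  congr 1

section CharP

variable (p : ℕ) [Fact p.Prime] [CharP k p]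

theorem isEpsDer_pow_p (x : WithConv (A →ₗ[k] k)) (hx : IsEpsDer x) : IsEpsDer (x ^ p) := by
  intro a b
  have h1 : mstar (x ^ p) = bx (x ^ p) 1 + bx 1 (x ^ p) := by
    rw [mstar_pow, mstar_epsDer x hx, add_pow_p_of_commute k p _ _ (commute_bx x), bx_pow_left,
      bx_pow_right]
  have h2 := congrArg (evAt (a ⊗ₜ[k] b)) h1
  rw [map_add] at h2
  have h3 : evAt (a ⊗ₜ[k] b) (mstar (x ^ p)) = (x ^ p) (a * b) := mstar_tmul _ a b
  have h4 : evAt (a ⊗ₜ[k] b) (bx (x ^ p) 1) = (x ^ p) a * Coalgebra.counit (R := k) b := by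
    show bx (x ^ p) 1 (a ⊗ₜ[k] b) = _
    rw [bx_tmul, LinearMap.convOne_apply]
    rfl
  have h5 : evAt (a ⊗ₜ[k] b) (bx 1 (x ^ p)) = Coalgebra.counit (R := k) a * (x ^ p) b := by
    show bx 1 (x ^ p) (a ⊗ₜ[k] b) = _
    rw [bx_tmul, LinearMap.convOne_apply]
    rfl
  rw [h3, h4, h5] at h2
  rw [h2, add_comm]

end CharP

end Groth.Agent.Lib.Helper19.ConvLeibniz
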