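import Mathlib
import Groth.Agent.Lib.Helper21.CohenStructE
import Groth.Agent.Lib.Helper6.PowerSeriesAdic
import Groth.Agent.Lib.Helper1.PSOmega

set_option autoImplicit false
set_option linter.style.haveILetI false

/-!
# Curvilinear jets and regularity

Truncated polynomial rings `k[X]/(X^N)`, evaluation of power series maps into them, extension of
maps from a finitely generated algebra to the completion of its localisation at a maximal ideal,
and the criterion: the local ring is regular iff curvilinear jets lift.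
-/

namespace Groth.Agent.Lib.Helper19.CurvJet

open IsLocalRing Polynomial

universe u

noncomputable section

/-! ### truncated polynomial rings -/

section Q

variable (k : Type u) [Field k]

/-- `k[X]/(X^N)` -/
abbrev Q (N : ℕ) : Type u := k[X] ⧸ Ideal.span {(X : k[X]) ^ N}

/-- the class of `X` -/
def xbar (N : ℕ) : Q k N := Ideal.Quotient.mk _ X

theorem xbar_pow_self (N : ℕ) : xbar k N ^ N = 0 := by
  rw [xbar, ← map_pow, Ideal.Quotient.eq_zero_iff_mem]
  exact Ideal.mem_span_singleton_self _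

theorem xbar_pow_eq_zero {N j : ℕ} (h : N ≤ j) : xbar k N ^ j = 0 := by
  obtain ⟨i, rfl⟩ := Nat.exists_eq_add_of_le h
  rw [pow_add, xbar_pow_self, zero_mul]

/-- constant coefficient -/
def eps {N : ℕ} (hN : 1 ≤ N) : Q k N →ₐ[k] k :=
  Ideal.Quotient.liftₐ _ (Polynomial.aeval (0 : k)) (by
    intro a ha
    obtain ⟨c, rfl⟩ := Ideal.mem_span_singleton.1 ha
    rw [map_mul, map_pow, Polynomial.aeval_X, zero_pow (by omega), zero_mul])

theorem eps_mk {N : ℕ} (hN : 1 ≤ N) (p : k[X]) :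
    eps k hN (Ideal.Quotient.mk _ p) = Polynomial.aeval (0 : k) p := rfl

theorem eps_xbar {N : ℕ} (hN : 1 ≤ N) : eps k hN (xbar k N) = 0 := by
  rw [xbar, eps_mk, Polynomial.aeval_X]

theorem exists_eq_add {N : ℕ} (hN : 1 ≤ N) (y : Q k N) :
    ∃ w : Q k N, y = algebraMap k (Q k N) (eps k hN y) + xbar k N * w := by
  obtain ⟨p, rfl⟩ := Ideal.Quotient.mk_surjective y
  refine ⟨Ideal.Quotient.mk _ p.divX, ?_⟩
  rw [eps_mk, ← Polynomial.coeff_zero_eq_aeval_zero, xbar, ← map_mul]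
  have h1 : algebraMap k (Q k N) (p.coeff 0) =
      Ideal.Quotient.mk _ (Polynomial.C (p.coeff 0)) := rfl
  rw [h1, ← map_add, add_comm, Polynomial.X_mul_divX_add]

theorem mem_span_xbar_of_eps_eq_zero {N : ℕ} (hN : 1 ≤ N) {y : Q k N} (hy : eps k hN y = 0) :
    y ∈ Ideal.span {xbar k N} := by
  obtain ⟨w, hw⟩ := exists_eq_add k hN y
  rw [hy, map_zero, zero_add] at hw
  rw [hw]
  exact Ideal.mul_mem_right _ _ (Ideal.mem_span_singleton_self _)

theorem eps_eq_zero_of_mem_span_xbar {N : ℕ} (hN : 1 ≤ N) {y : Q k N}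
    (hy : y ∈ Ideal.span {xbar k N}) : eps k hN y = 0 := by
  obtain ⟨w, rfl⟩ := Ideal.mem_span_singleton'.1 hy
  rw [map_mul, eps_xbar, mul_zero]

theorem mem_span_xbar_of_isNilpotent {N : ℕ} (hN : 1 ≤ N) {y : Q k N} (hy : IsNilpotent y) :
    y ∈ Ideal.span {xbar k N} := by
  apply mem_span_xbar_of_eps_eq_zero k hN
  exact (hy.map (eps k hN)).eq_zero

theorem isNilpotent_of_mem_span_xbar {N : ℕ} {y : Q k N} (hy : y ∈ Ideal.span {xbar k N}) :
    IsNilpotent y := by
  obtain ⟨w, rfl⟩ := Ideal.mem_span_singleton'.1 hy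
  exact ⟨N, by rw [mul_pow, xbar_pow_self, mul_zero]⟩

theorem span_xbar_pow (N : ℕ) : Ideal.span {xbar k N} ^ N = ⊥ := by
  rw [Ideal.span_singleton_pow, xbar_pow_self]
  exact Ideal.span_singleton_eq_bot.2 rfl

theorem xbar_pow_mul_eq (r : ℕ) (c : Q k (r + 1)) :
    xbar k (r + 1) ^ r * c =
      xbar k (r + 1) ^ r * algebraMap k (Q k (r + 1)) (eps k (Nat.le_add_left 1 r) c) := by
  obtain ⟨w, hw⟩ := exists_eq_add k (Nat.le_add_left 1 r) c
  have h0 : xbar k (r + 1) ^ r * (xbar k (r + 1) * w) = 0 := by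
    rw [← mul_assoc, ← pow_succ, xbar_pow_self, zero_mul]
  conv_lhs => rw [hw]
  rw [mul_add, h0, add_zero]

theorem algebraMap_mul_xbar_pow_ne_zero (r : ℕ) {c : k} (hc : c ≠ 0) :
    algebraMap k (Q k (r + 1)) c * xbar k (r + 1) ^ r ≠ 0 := by
  intro h
  have h1 : algebraMap k (Q k (r + 1)) c * xbar k (r + 1) ^ r =
      Ideal.Quotient.mk _ (Polynomial.C c * X ^ r) := by
    rw [map_mul, map_pow]; rfl
  rw [h1, Ideal.Quotient.eq_zero_iff_mem, Ideal.mem_span_singleton, Polynomial.X_pow_dvd_iff] at h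
  have h2 := h r (Nat.lt_succ_self r)
  rw [Polynomial.coeff_C_mul_X_pow, if_pos rfl] at h2
  exact hc h2

theorem exists_eq_of_factor_eq_zero (l : ℕ)
    (h : Ideal.span {(X : k[X]) ^ (l + 1)} ≤ Ideal.span {(X : k[X]) ^ l}) (y : Q k (l + 1))
    (hy : Ideal.Quotient.factorₐ k h y = 0) : ∃ w, y = xbar k (l + 1) ^ l * w := by
  obtain ⟨p, rfl⟩ := Ideal.Quotient.mk_surjective y
  rw [Ideal.Quotient.factorₐ_apply_mk, Ideal.Quotient.eq_zero_iff_mem,
    Ideal.mem_span_singleton] at hy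
  obtain ⟨q, rfl⟩ := hy
  exact ⟨Ideal.Quotient.mk _ q, by rw [xbar, ← map_pow, ← map_mul]⟩

theorem eps_factor (l : ℕ) (hl : 1 ≤ l)
    (h : Ideal.span {(X : k[X]) ^ (l + 1)} ≤ Ideal.span {(X : k[X]) ^ l}) (y : Q k (l + 1)) :
    eps k hl (Ideal.Quotient.factorₐ k h y) = eps k (Nat.le_add_left 1 l) y := by
  obtain ⟨p, rfl⟩ := Ideal.Quotient.mk_surjective y
  rw [Ideal.Quotient.factorₐ_apply_mk, eps_mk, eps_mk]

theorem factor_xbar (l : ℕ)
    (h : Ideal.span {(X : k[X]) ^ (l + 1)} ≤ Ideal.span {(X : k[X]) ^ l}) :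
    Ideal.Quotient.factorₐ k h (xbar k (l + 1)) = xbar k l := by
  rw [xbar, Ideal.Quotient.factorₐ_apply_mk]
  rfl

theorem pow_mul_pow_aux {S : Type*} [CommRing S] (x u v : S) (l : ℕ) (hl : 1 ≤ l) :
    x ^ l * u * (x ^ l * v) = x ^ (l + 1) * (x ^ (l - 1) * (u * v)) := by
  obtain ⟨j, rfl⟩ := Nat.exists_eq_add_of_le hl
  rw [Nat.add_sub_cancel_left]
  ring

theorem ker_factor_sq (l : ℕ) (hl : 1 ≤ l)
    (h : Ideal.span {(X : k[X]) ^ (l + 1)} ≤ Ideal.span {(X : k[X]) ^ l}) :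
    RingHom.ker (Ideal.Quotient.factorₐ k h) ^ 2 = ⊥ := by
  have h2 := pow_two (RingHom.ker (Ideal.Quotient.factorₐ k h))
  rw [h2, eq_bot_iff, Ideal.mul_le]
  intro x hx y hy
  obtain ⟨u, rfl⟩ := exists_eq_of_factor_eq_zero k l h x (RingHom.mem_ker.1 hx)
  obtain ⟨v, rfl⟩ := exists_eq_of_factor_eq_zero k l h y (RingHom.mem_ker.1 hy)
  rw [Ideal.mem_bot]
  rw [pow_mul_pow_aux _ u v l hl, xbar_pow_self, zero_mul]

end Q

/-! ### monomial computations -/

section Mono

variable (k : Type u) [Field k] {n : ℕ}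

theorem aeval_monomial_xbar_mul {N : ℕ} (w : Fin n → Q k N) (d : Fin n →₀ ℕ) (c : k) :
    MvPolynomial.aeval (fun i => xbar k N * w i) (MvPolynomial.monomial d c) =
      algebraMap k (Q k N) c * (xbar k N ^ (Finsupp.degree d) * ∏ i, w i ^ d i) := by
  rw [MvPolynomial.aeval_monomial, Finsupp.prod_fintype _ _ (fun i => pow_zero _)]
  congr 1
  simp only [mul_pow]
  rw [Finset.prod_mul_distrib, Finset.prod_pow_eq_pow_sum, Finsupp.degree_eq_sum]

theorem aeval_eq_zero_of_low {N : ℕ} (w : Fin n → Q k N) (p : MvPolynomial (Fin n) k)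
    (hp : ∀ d, Finsupp.degree d < N → p.coeff d = 0) :
    MvPolynomial.aeval (fun i => xbar k N * w i) p = 0 := by
  rw [← MvPolynomial.support_sum_monomial_coeff p, map_sum]
  apply Finset.sum_eq_zero
  intro d _
  rw [aeval_monomial_xbar_mul]
  by_cases h : Finsupp.degree d < N
  · rw [hp d h, map_zero, zero_mul]
  · rw [xbar_pow_eq_zero k (not_lt.1 h), zero_mul, mul_zero]

theorem aeval_monomial_eq (r : ℕ) (a : Fin n → k) (w : Fin n → Q k (r + 1))
    (hw : ∀ i, eps k (Nat.le_add_left 1 r) (w i) = a i) (d : Fin n →₀ ℕ) (c : k)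
    (hd : r ≤ Finsupp.degree d) :
    MvPolynomial.aeval (fun i => xbar k (r + 1) * w i) (MvPolynomial.monomial d c) =
      algebraMap k (Q k (r + 1)) (MvPolynomial.eval a
        (MvPolynomial.homogeneousComponent r (MvPolynomial.monomial d c))) *
          xbar k (r + 1) ^ r := by
  rw [aeval_monomial_xbar_mul]
  rcases hd.eq_or_lt with h | h
  · have hh : MvPolynomial.homogeneousComponent r (MvPolynomial.monomial d c) =
        MvPolynomial.monomial d c := by
      rw [MvPolynomial.homogeneousComponent_of_mem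
        ((MvPolynomial.mem_homogeneousSubmodule _ _).2
          (MvPolynomial.isHomogeneous_monomial c h.symm)), if_pos rfl]
    rw [hh, MvPolynomial.eval_monomial, Finsupp.prod_fintype _ _ (fun i => pow_zero _), ← h,
      xbar_pow_mul_eq, map_prod]
    simp only [map_pow, hw]
    rw [map_mul]
    ring
  · have hh : MvPolynomial.homogeneousComponent r (MvPolynomial.monomial d c) = 0 := by
      rw [MvPolynomial.homogeneousComponent_of_mem
        ((MvPolynomial.mem_homogeneousSubmodule _ _).2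
          (MvPolynomial.isHomogeneous_monomial c rfl)), if_neg (ne_of_lt h)]
    rw [hh, map_zero, map_zero, zero_mul,
      xbar_pow_eq_zero k (show r + 1 ≤ Finsupp.degree d by omega), zero_mul, mul_zero]

theorem aeval_eq_of_low (r : ℕ) (a : Fin n → k) (w : Fin n → Q k (r + 1))
    (hw : ∀ i, eps k (Nat.le_add_left 1 r) (w i) = a i) (p : MvPolynomial (Fin n) k)
    (hp : ∀ d, Finsupp.degree d < r → p.coeff d = 0) :
    MvPolynomial.aeval (fun i => xbar k (r + 1) * w i) p =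
      algebraMap k (Q k (r + 1)) (MvPolynomial.eval a (MvPolynomial.homogeneousComponent r p)) *
        xbar k (r + 1) ^ r := by
  have key : ∀ s : Finset (Fin n →₀ ℕ), (∀ d ∈ s, r ≤ Finsupp.degree d) →
      ∀ c : (Fin n →₀ ℕ) → k,
      MvPolynomial.aeval (fun i => xbar k (r + 1) * w i)
        (∑ d ∈ s, MvPolynomial.monomial d (c d)) =
      algebraMap k (Q k (r + 1)) (MvPolynomial.eval a (MvPolynomial.homogeneousComponent r
        (∑ d ∈ s, MvPolynomial.monomial d (c d)))) * xbar k (r + 1) ^ r := by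
    intro s hs c
    rw [map_sum, map_sum, map_sum, map_sum, Finset.sum_mul]
    exact Finset.sum_congr rfl (fun d hd => aeval_monomial_eq k r a w hw d (c d) (hs d hd))
  have h := key p.support (fun d hd => by
    by_contra hlt
    exact (MvPolynomial.mem_support_iff.1 hd) (hp d (not_le.1 hlt))) (fun d => p.coeff d)
  rwa [MvPolynomial.support_sum_monomial_coeff] at h

end Mono

/-! ### power series -/

section PS

variable (k : Type u) [Field k] {n : ℕ}

theorem coeff_eq_zero_of_mem_sq {g : MvPowerSeries (Fin n) k}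
    (hg : g ∈ maximalIdeal (MvPowerSeries (Fin n) k) ^ 2) (d : Fin n →₀ ℕ)
    (hd : Finsupp.degree d < 2) : MvPowerSeries.coeff d g = 0 := by
  have h2 : (2 : ℕ∞) ≤ g.order := by
    have hp := pow_two (maximalIdeal (MvPowerSeries (Fin n) k))
    rw [hp] at hg
    refine Submodule.mul_induction_on hg ?_ ?_
    · intro x hx y hy
      rw [Groth.Agent.Lib.Helper1.PSOmega.maximalIdeal_eq_ker, RingHom.mem_ker] at hx hy
      have hx1 : 1 ≤ x.order := MvPowerSeries.one_le_order_iff_constCoeff_eq_zero.2 hx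
      have hy1 : 1 ≤ y.order := MvPowerSeries.one_le_order_iff_constCoeff_eq_zero.2 hy
      calc (2 : ℕ∞) = 1 + 1 := by norm_num
        _ ≤ x.order + y.order := add_le_add hx1 hy1
        _ ≤ (x * y).order := MvPowerSeries.le_order_mul
    · intro x y hx hy
      exact (le_min hx hy).trans MvPowerSeries.min_order_le_add
  apply MvPowerSeries.coeff_of_lt_order
  exact lt_of_lt_of_le (by exact_mod_cast hd) h2

theorem apply_eq_aeval_trunc {C : Type u} [CommRing C] [Algebra k C] (𝔫 : Ideal C) (N : ℕ)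
    (h𝔫 : 𝔫 ^ N = ⊥) (Φ : MvPowerSeries (Fin n) k →ₐ[k] C)
    (hΦ : ∀ i, Φ (MvPowerSeries.X i) ∈ 𝔫) (g : MvPowerSeries (Fin n) k) :
    Φ g = MvPolynomial.aeval (fun i => Φ (MvPowerSeries.X i))
      (MvPowerSeries.trunc' k (Finsupp.equivFunOnFinite.symm (fun _ => N)) g) := by
  classical
  obtain ⟨d₀, hd₀⟩ : ∃ d₀ : Fin n →₀ ℕ, d₀ = Finsupp.equivFunOnFinite.symm (fun _ => N) :=
    ⟨_, rfl⟩
  rw [← hd₀]
  obtain ⟨p, hp⟩ : ∃ p : MvPolynomial (Fin n) k, p = MvPowerSeries.trunc' k d₀ g := ⟨_, rfl⟩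
  rw [← hp]
  have hr : g - (p : MvPowerSeries (Fin n) k) ∈
      (RingHom.ker (MvPowerSeries.constantCoeff : MvPowerSeries (Fin n) k →+* k)) ^ N := by
    apply Groth.Agent.Lib.Helper6.PowerSeriesAdic.mem_ker_pow_of_coeff_eq_zero
    intro d hd
    rw [map_sub, MvPolynomial.coeff_coe, hp, MvPowerSeries.coeff_trunc', if_pos, sub_self]
    intro i
    rw [hd₀]
    exact (hd i).le
  have hle : RingHom.ker (MvPowerSeries.constantCoeff : MvPowerSeries (Fin n) k →+* k) ≤
      Ideal.comap Φ 𝔫 := by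
    refine Groth.Agent.Lib.Helper6.PowerSeriesAdic.ker_constantCoeff_le_span_X.trans ?_
    rw [Ideal.span_le]
    rintro _ ⟨i, rfl⟩
    exact hΦ i
  have hkill : Φ (g - (p : MvPowerSeries (Fin n) k)) = 0 := by
    have h1 := Ideal.le_comap_pow Φ N (Ideal.pow_right_mono hle N hr)
    rwa [h𝔫, Ideal.mem_comap, Ideal.mem_bot] at h1
  have hpoly : Φ.comp (MvPolynomial.coeToMvPowerSeries.algHom k) =
      MvPolynomial.aeval (fun i => Φ (MvPowerSeries.X i)) := by
    apply MvPolynomial.algHom_ext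
    intro i
    simp
  rw [map_sub, sub_eq_zero] at hkill
  rw [hkill]
  exact AlgHom.congr_fun hpoly p

end PS

/-! ### extension of maps to the completion of the local ring -/

section Loc

variable {k : Type u} [Field k] {A : Type u} [CommRing A] [Algebra k A] [IsNoetherianRing A]
  (m : Ideal A) [m.IsMaximal] {C : Type u} [CommRing C] [Algebra k C] (𝔫 : Ideal C) (N : ℕ)
  (h𝔫 : 𝔫 ^ N = ⊥)

local notation "Rm" => Localization.AtPrime m
local notation "Rh" => AdicCompletion (maximalIdeal (Localization.AtPrime m))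
  (Localization.AtPrime m)

include h𝔫 in
theorem isUnit_of_notMem (θ : A →ₐ[k] C) (hθ : ∀ a ∈ m, θ a ∈ 𝔫) {s : A} (hs : s ∉ m) :
    IsUnit (θ s) := by
  obtain ⟨y, i, hi, hyi⟩ := Ideal.IsMaximal.exists_inv ‹m.IsMaximal› hs
  have hnil : IsNilpotent (θ i) := ⟨N, by
    have h1 : θ i ^ N ∈ 𝔫 ^ N := Ideal.pow_mem_pow (hθ i hi) N
    rwa [h𝔫, Ideal.mem_bot] at h1⟩
  have h1 : θ y * θ s = 1 - θ i := by
    rw [← map_mul, eq_sub_iff_add_eq, ← map_add, hyi, map_one]
  have h2 : IsUnit (θ y * θ s) := by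
    rw [h1]
    exact hnil.isUnit_one_sub
  exact isUnit_of_mul_isUnit_right h2

include h𝔫 in
theorem kills_pow (ρ : Rm →+* C) (hρ : ∀ a ∈ m, ρ (algebraMap A Rm a) ∈ 𝔫) :
    ∀ x ∈ maximalIdeal Rm ^ N, ρ x = 0 := by
  have hle : maximalIdeal Rm ≤ Ideal.comap ρ 𝔫 := by
    rw [← Localization.AtPrime.map_eq_maximalIdeal, Ideal.map_le_iff_le_comap]
    intro a ha
    rw [Ideal.mem_comap, Ideal.mem_comap]
    exact hρ a ha
  intro x hx
  have h1 := Ideal.le_comap_pow ρ N (Ideal.pow_right_mono hle N hx)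
  rwa [h𝔫, Ideal.mem_comap, Ideal.mem_bot] at h1

include h𝔫 in
theorem exists_extension (θ : A →ₐ[k] C) (hθ : ∀ a ∈ m, θ a ∈ 𝔫) :
    ∃ Θ : Rh →ₐ[k] C, ∀ a, Θ (algebraMap A Rh a) = θ a := by
  have hu : ∀ y : m.primeCompl, IsUnit (θ y) := fun y => isUnit_of_notMem m 𝔫 N h𝔫 θ hθ y.2
  let θR : Rm →ₐ[k] C := IsLocalization.liftAlgHom (M := m.primeCompl) (S := Rm) hu
  have hθR : ∀ a, θR (algebraMap A Rm a) = θ a := fun a => by
    show IsLocalization.liftAlgHom (M := m.primeCompl) (S := Rm) hu (algebraMap A Rm a) = θ a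
    rw [IsLocalization.liftAlgHom_apply]
    exact IsLocalization.lift_eq _ a
  have hkill : ∀ x ∈ maximalIdeal Rm ^ N, θR x = 0 :=
    kills_pow m 𝔫 N h𝔫 θR.toRingHom (fun a ha => by
      show θR (algebraMap A Rm a) ∈ 𝔫
      rw [hθR]
      exact hθ a ha)
  let θq : Rm ⧸ maximalIdeal Rm ^ N →ₐ[k] C := Ideal.Quotient.liftₐ (maximalIdeal Rm ^ N) θR hkill
  refine ⟨θq.comp ((AdicCompletion.evalₐ (maximalIdeal Rm) N).restrictScalars k), fun a => ?_⟩
  show θq (AdicCompletion.evalₐ (maximalIdeal Rm) N (algebraMap A Rh a)) = θ a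
  rw [AdicCompletion.algebraMap_apply, AdicCompletion.evalₐ_of, ← hθR]
  rfl

include h𝔫 in
theorem ext_of_agree (Θ₁ Θ₂ : Rh →ₐ[k] C) (h1 : ∀ a ∈ m, Θ₁ (algebraMap A Rh a) ∈ 𝔫)
    (h : ∀ a, Θ₁ (algebraMap A Rh a) = Θ₂ (algebraMap A Rh a)) : Θ₁ = Θ₂ := by
  have hρ : Θ₁.toRingHom.comp (algebraMap Rm Rh) = Θ₂.toRingHom.comp (algebraMap Rm Rh) := by
    apply IsLocalization.ringHom_ext m.primeCompl
    ext a
    show Θ₁ (algebraMap Rm Rh (algebraMap A Rm a)) = Θ₂ (algebraMap Rm Rh (algebraMap A Rm a))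
    rw [← IsScalarTower.algebraMap_apply A Rm Rh]
    exact h a
  have hk1 : ∀ x ∈ maximalIdeal Rm ^ N, Θ₁ (algebraMap Rm Rh x) = 0 :=
    kills_pow m 𝔫 N h𝔫 (Θ₁.toRingHom.comp (algebraMap Rm Rh)) (fun a ha => by
      show Θ₁ (algebraMap Rm Rh (algebraMap A Rm a)) ∈ 𝔫
      rw [← IsScalarTower.algebraMap_apply A Rm Rh]
      exact h1 a ha)
  have hk2 : ∀ x ∈ maximalIdeal Rm ^ N, Θ₂ (algebraMap Rm Rh x) = 0 := by
    intro x hx
    have := hk1 x hx
    rw [← this]
    exact (RingHom.congr_fun hρ x).symm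
  have hker : ∀ Θ : Rh →ₐ[k] C, (∀ x ∈ maximalIdeal Rm ^ N, Θ (algebraMap Rm Rh x) = 0) →
      ∀ y : Rh, AdicCompletion.evalₐ (maximalIdeal Rm) N y = 0 → Θ y = 0 := by
    intro Θ hΘ y hy
    have hy' : AdicCompletion.eval (maximalIdeal Rm) Rm N y = 0 := by
      rw [← AdicCompletion.factor_evalₐ_eq_eval (maximalIdeal Rm) y
        (by rw [smul_eq_mul, Ideal.mul_top]), hy, map_zero]
    have hmem : y ∈ (maximalIdeal Rm ^ N • ⊤ : Submodule Rm Rh) := by
      rw [AdicCompletion.pow_smul_top_eq_ker_eval (maximalIdeal Rm).fg_of_isNoetherianRing]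
      exact hy'
    refine Submodule.smul_induction_on hmem ?_ ?_
    · intro c hc z _
      rw [Algebra.smul_def, map_mul, hΘ c hc, zero_mul]
    · intro x y hx hy
      rw [map_add, hx, hy, add_zero]
  ext y
  obtain ⟨r, hr⟩ := Ideal.Quotient.mk_surjective (AdicCompletion.evalₐ (maximalIdeal Rm) N y)
  have hy : AdicCompletion.evalₐ (maximalIdeal Rm) N (y - algebraMap Rm Rh r) = 0 := by
    rw [map_sub, AdicCompletion.algebraMap_apply, AdicCompletion.evalₐ_of, ← hr]
    simp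
  have e1 := hker Θ₁ hk1 _ hy
  have e2 := hker Θ₂ hk2 _ hy
  rw [map_sub, sub_eq_zero] at e1 e2
  rw [e1, e2]
  exact RingHom.congr_fun hρ r

end Loc

end

end Groth.Agent.Lib.Helper19.CurvJet
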