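import Mathlib.RingTheory.DividedPowers.RatAlgebra
import Mathlib.NumberTheory.Padics.PadicVal.Basic
import Mathlib.Algebra.MvPolynomial.Basic
import Mathlib.Algebra.MvPolynomial.Eval
import Mathlib.Combinatorics.Enumerative.Bell
import Mathlib.Data.Nat.Prime.Factorial
import Mathlib.Tactic

/-!
# Divided powers from the `p`-th divided power: arithmetic and single-variable identities
-/

namespace Groth.Agent.Lib.Helper19.DPPrime

open Nat

section Arith

variable (p : ℕ) [hp : Fact p.Prime]

/-- `vv p n = v_p(n!)`. -/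
def vv (n : ℕ) : ℕ := padicValNat p n.factorial

theorem vv_zero : vv p 0 = 0 := by simp [vv]

theorem vv_one : vv p 1 = 0 := by simp [vv]

theorem vv_mul_add (a : ℕ) {b : ℕ} (hb : b < p) : vv p (p * a + b) = a + vv p a := by
  unfold vv
  rw [padicValNat_factorial_mul_add a hb, padicValNat_factorial_mul, add_comm]

theorem vv_mul (a : ℕ) : vv p (p * a) = a + vv p a := by
  have := vv_mul_add p a hp.out.pos
  simpa using this

theorem vv_lt {r : ℕ} (hr : r < p) : vv p r = 0 := by
  have := vv_mul_add p 0 hr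
  simpa [vv_zero] using this

theorem exists_qr (n : ℕ) : ∃ q r, r < p ∧ n = p * q + r :=
  ⟨n / p, n % p, Nat.mod_lt _ hp.out.pos, (Nat.div_add_mod n p).symm⟩

theorem q_lt {q r : ℕ} (hn : p * q + r ≠ 0) : q < p * q + r := by
  have h2 : 2 ≤ p := hp.out.two_le
  rcases Nat.eq_zero_or_pos q with rfl | hq
  · omega
  · have : 2 * q ≤ p * q := Nat.mul_le_mul_right q h2
    omega

theorem pfact_pow_dvd (n : ℕ) : p.factorial ^ vv p n ∣ n.factorial := by
  induction n using Nat.strong_induction_on with
  | _ n ih =>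
    rcases Nat.eq_zero_or_pos n with rfl | hn
    · simp [vv_zero]
    · obtain ⟨q, r, hr, rfl⟩ := exists_qr p n
      have hq : q < p * q + r := q_lt p (Nat.pos_iff_ne_zero.1 hn)
      rw [vv_mul_add p q hr, pow_add]
      have h1 : p.factorial ^ q * q.factorial ∣ (p * q).factorial := by
        have := Nat.uniformBell_mul_eq q hp.out.ne_zero
        rw [mul_comm q p] at this
        exact Dvd.intro_left (Nat.uniformBell q p) (by rw [← this]; ring)
      have h2 : (p * q).factorial ∣ (p * q + r).factorial :=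
        Nat.factorial_dvd_factorial (Nat.le_add_right _ _)
      exact dvd_trans (dvd_trans (Nat.mul_dvd_mul_left _ (ih q hq)) h1) h2

/-- `NN p n = n! / (p!)^{v_p(n!)}`, an integer prime to `p`. -/
def NN (n : ℕ) : ℕ := n.factorial / p.factorial ^ vv p n

theorem NN_spec (n : ℕ) : NN p n * p.factorial ^ vv p n = n.factorial :=
  Nat.div_mul_cancel (pfact_pow_dvd p n)

theorem NN_not_dvd (n : ℕ) : ¬ p ∣ NN p n := by
  intro h
  have h1 : p ^ (vv p n + 1) ∣ n.factorial := by
    rw [← NN_spec p n, pow_succ, mul_comm (p ^ vv p n) p]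
    exact Nat.mul_dvd_mul h (pow_dvd_pow_of_dvd (Nat.dvd_factorial hp.out.pos le_rfl) _)
  have h2 := (padicValNat_dvd_iff_le (Nat.factorial_ne_zero n)).1 h1
  have h3 : vv p n = padicValNat p n.factorial := rfl
  omega

theorem NN_zero : NN p 0 = 1 := by simp [NN, vv_zero]

theorem NN_one : NN p 1 = 1 := by simp [NN, vv_one]

theorem NN_lt {r : ℕ} (hr : r < p) : NN p r = r.factorial := by simp [NN, vv_lt p hr]

theorem NN_p : NN p p = 1 := by
  have h : vv p p = 1 := by
    have := vv_mul p 1
    simpa [vv_one] using this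
  simp [NN, h, Nat.div_self (Nat.factorial_pos p)]

theorem NN_mul_choose (m n c : ℕ) (hc : vv p (m + n) = vv p m + vv p n + c) :
    NN p m * NN p n * (m + n).choose m = p.factorial ^ c * NN p (m + n) := by
  have hpos : 0 < p.factorial ^ (vv p m + vv p n) := pow_pos (Nat.factorial_pos p) _
  apply Nat.eq_of_mul_eq_mul_right hpos
  calc NN p m * NN p n * (m + n).choose m * p.factorial ^ (vv p m + vv p n)
      = (m + n).choose m * (NN p m * p.factorial ^ vv p m) *
          (NN p n * p.factorial ^ vv p n) := by rw [pow_add]; ring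
    _ = (m + n).factorial := by
        rw [NN_spec, NN_spec, Nat.choose_symm_add]
        exact Nat.add_choose_mul_factorial_mul_factorial m n
    _ = NN p (m + n) * p.factorial ^ vv p (m + n) := (NN_spec p (m + n)).symm
    _ = p.factorial ^ c * NN p (m + n) * p.factorial ^ (vv p m + vv p n) := by
        rw [hc, pow_add, pow_add]; ring

theorem NN_rec' (q : ℕ) {r : ℕ} (hr : r < p) :
    (p * q + r).choose r * Nat.uniformBell q p * NN p r * NN p q = NN p (p * q + r) := by
  have hpos : 0 < p.factorial ^ (q + vv p q) := pow_pos (Nat.factorial_pos p) _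
  apply Nat.eq_of_mul_eq_mul_right hpos
  have hub := Nat.uniformBell_mul_eq q hp.out.ne_zero
  have hch := Nat.add_choose_mul_factorial_mul_factorial (p * q) r
  rw [NN_lt p hr]
  calc (p * q + r).choose r * Nat.uniformBell q p * r.factorial * NN p q *
        p.factorial ^ (q + vv p q)
      = (p * q + r).choose r * (Nat.uniformBell q p * p.factorial ^ q *
          (NN p q * p.factorial ^ vv p q)) * r.factorial := by rw [pow_add]; ring
    _ = (p * q + r).choose r * (q * p).factorial * r.factorial := by rw [NN_spec, hub]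
    _ = (p * q + r).factorial := by rw [mul_comm q p, hch]
    _ = NN p (p * q + r) * p.factorial ^ (q + vv p q) := by
        rw [← vv_mul_add p q hr, NN_spec]

theorem NN_comp {m e : ℕ} (hm : m ≠ 0) (he : m + vv p m = p * vv p m + e + 1) :
    NN p (p * m) * p.factorial ^ e = Nat.uniformBell p m * NN p m ^ p := by
  have hpos : 0 < p.factorial ^ (1 + p * vv p m) := pow_pos (Nat.factorial_pos p) _
  apply Nat.eq_of_mul_eq_mul_right hpos
  have hub := Nat.uniformBell_mul_eq p hm
  have hv : vv p (p * m) = m + vv p m := vv_mul p m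
  have hexp : e + (1 + p * vv p m) = vv p (p * m) := by rw [hv]; omega
  calc NN p (p * m) * p.factorial ^ e * p.factorial ^ (1 + p * vv p m)
      = NN p (p * m) * p.factorial ^ (e + (1 + p * vv p m)) := by rw [pow_add (p.factorial) e]; ring
    _ = NN p (p * m) * p.factorial ^ vv p (p * m) := by rw [hexp]
    _ = (p * m).factorial := NN_spec p (p * m)
    _ = Nat.uniformBell p m * (NN p m * p.factorial ^ vv p m) ^ p * p.factorial := by
        rw [NN_spec, hub]
    _ = Nat.uniformBell p m * NN p m ^ p * p.factorial ^ (1 + p * vv p m) := by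
        rw [mul_pow, ← pow_mul, pow_add, pow_one, mul_comm (vv p m) p]; ring

theorem not_dvd_choose_mul_bell (q : ℕ) {r : ℕ} (hr : r < p) :
    ¬ p ∣ (p * q + r).choose r * Nat.uniformBell q p := by
  intro h
  apply NN_not_dvd p (p * q + r)
  rw [← NN_rec' p q hr]
  exact Dvd.dvd.mul_right (Dvd.dvd.mul_right h _) _

end Arith

section WDef

variable {A : Type*} [CommRing A]

/-- The digit monomial `W_n(x) = ∏_k (d^k x)^{a_k}` where `n = ∑ a_k p^k`. -/
def W (p : ℕ) (d : A → A) (n : ℕ) (x : A) : A :=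
  if h : n = 0 ∨ p ≤ 1 then 1 else x ^ (n % p) * W p d (n / p) (d x)
termination_by n
decreasing_by exact Nat.div_lt_self (by omega) (by omega)

theorem W_zero (p : ℕ) (d : A → A) (x : A) : W p d 0 x = 1 := by
  rw [W]; simp

theorem W_pos {p : ℕ} (hp1 : 1 < p) (d : A → A) {n : ℕ} (hn : n ≠ 0) (x : A) :
    W p d n x = x ^ (n % p) * W p d (n / p) (d x) := by
  rw [W]
  have : ¬ (n = 0 ∨ p ≤ 1) := by omega
  rw [dif_neg this]

theorem W_one' {p : ℕ} (hp1 : 1 < p) (d : A → A) (x : A) : W p d 1 x = x := by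
  rw [W_pos hp1 d one_ne_zero, Nat.mod_eq_of_lt hp1, Nat.div_eq_of_lt hp1, W_zero, pow_one, mul_one]

theorem W_mul_add {p : ℕ} (hp1 : 1 < p) (d : A → A) (q : ℕ) {r : ℕ} (hr : r < p) (x : A) :
    W p d (p * q + r) x = x ^ r * W p d q (d x) := by
  by_cases hn : p * q + r = 0
  · have hq : q = 0 := by
      rcases Nat.eq_zero_or_pos q with h | h
      · exact h
      · have : 0 < p * q := Nat.mul_pos (by omega) h
        omega
    have hr0 : r = 0 := by omega
    subst hq; subst hr0
    simp [W_zero]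
  · rw [W_pos hp1 d hn, Nat.mul_add_mod, Nat.mod_eq_of_lt hr, Nat.mul_add_div (by omega),
      Nat.div_eq_of_lt hr, add_zero]

end WDef

/-- The data of the statement. -/
structure PD (A : Type*) [CommRing A] (p : ℕ) where
  hA : ∀ n : ℕ, ¬ p ∣ n → IsUnit (n : A)
  I : Ideal A
  d : A → A
  hdI : ∀ x ∈ I, d x ∈ I
  h1 : ∀ x ∈ I, (p.factorial : A) * d x = x ^ p
  h2 : ∀ (a x : A), x ∈ I → d (a * x) = a ^ p * d x
  h3 : ∀ x ∈ I, ∀ y ∈ I, d (x + y) = d x + d y +
      ((Finset.HasAntidiagonal.antidiagonal p).filter fun k => 0 < k.1 ∧ 0 < k.2).sum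
        fun k => Ring.inverse ((k.1.factorial * k.2.factorial : ℕ) : A) * x ^ k.1 * y ^ k.2

section Single

variable {A : Type*} [CommRing A] {p : ℕ} [hp : Fact p.Prime] (S : PD A p)

theorem d_zero : S.d 0 = 0 := by
  have := S.h2 0 0 S.I.zero_mem
  rw [mul_zero, zero_pow hp.out.ne_zero, zero_mul] at this
  exact this

theorem W_mem : ∀ n, n ≠ 0 → ∀ x ∈ S.I, W p S.d n x ∈ S.I := by
  intro n
  induction n using Nat.strong_induction_on with
  | _ n ih =>
    intro hn x hx
    have hp1 : 1 < p := hp.out.one_lt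
    rw [W_pos hp1 _ hn]
    by_cases hr : n % p = 0
    · have hq : n / p ≠ 0 := by
        intro h0
        have := Nat.div_add_mod n p
        rw [h0, hr] at this
        omega
      rw [hr, pow_zero, one_mul]
      exact ih (n / p) (Nat.div_lt_self (Nat.pos_of_ne_zero hn) hp1) hq _ (S.hdI x hx)
    · exact S.I.mul_mem_right _ (S.I.pow_mem_of_mem hx _ (Nat.pos_of_ne_zero hr))

theorem pow_W : ∀ n, ∀ x ∈ S.I, (p.factorial : A) ^ vv p n * W p S.d n x = x ^ n := by
  intro n
  induction n using Nat.strong_induction_on with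
  | _ n ih =>
    intro x hx
    rcases Nat.eq_zero_or_pos n with rfl | hn
    · simp [vv_zero, W_zero]
    · obtain ⟨q, r, hr, rfl⟩ := exists_qr p n
      have hq : q < p * q + r := q_lt p (Nat.pos_iff_ne_zero.1 hn)
      rw [vv_mul_add p q hr, W_mul_add hp.out.one_lt _ q hr]
      have ih' := ih q hq _ (S.hdI x hx)
      calc (p.factorial : A) ^ (q + vv p q) * (x ^ r * W p S.d q (S.d x))
          = x ^ r * ((p.factorial : A) ^ q *
              ((p.factorial : A) ^ vv p q * W p S.d q (S.d x))) := by rw [pow_add]; ring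
        _ = x ^ r * ((p.factorial : A) * S.d x) ^ q := by rw [ih', mul_pow]
        _ = x ^ (p * q + r) := by rw [S.h1 x hx, ← pow_mul, ← pow_add, add_comm]

theorem W_smul : ∀ n, ∀ a x, x ∈ S.I → W p S.d n (a * x) = a ^ n * W p S.d n x := by
  intro n
  induction n using Nat.strong_induction_on with
  | _ n ih =>
    intro a x hx
    rcases Nat.eq_zero_or_pos n with rfl | hn
    · simp [W_zero]
    · obtain ⟨q, r, hr, rfl⟩ := exists_qr p n
      have hq : q < p * q + r := q_lt p (Nat.pos_iff_ne_zero.1 hn)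
      rw [W_mul_add hp.out.one_lt _ q hr, W_mul_add hp.out.one_lt _ q hr, S.h2 a x hx,
        ih q hq _ _ (S.hdI x hx)]
      ring

theorem WW : ∀ s m n, m + n = s → ∀ x ∈ S.I, ∃ c, vv p (m + n) = vv p m + vv p n + c ∧
    W p S.d m x * W p S.d n x = (p.factorial : A) ^ c * W p S.d (m + n) x := by
  intro s
  induction s using Nat.strong_induction_on with
  | _ s ih =>
    intro m n hmn x hx
    rcases Nat.eq_zero_or_pos m with rfl | hm
    · exact ⟨0, by simp [vv_zero], by simp [W_zero]⟩
    rcases Nat.eq_zero_or_pos n with rfl | hn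
    · exact ⟨0, by simp [vv_zero], by simp [W_zero]⟩
    obtain ⟨q, r, hr, rfl⟩ := exists_qr p m
    obtain ⟨q', r', hr', rfl⟩ := exists_qr p n
    have hq : q < p * q + r := q_lt p (Nat.pos_iff_ne_zero.1 hm)
    have hq' : q' < p * q' + r' := q_lt p (Nat.pos_iff_ne_zero.1 hn)
    have hp1 : 1 < p := hp.out.one_lt
    have hy := S.hdI x hx
    obtain ⟨c₁, hc₁, hW₁⟩ := ih (q + q') (by omega) q q' rfl _ hy
    rw [W_mul_add hp1 _ q hr, W_mul_add hp1 _ q' hr']
    by_cases hrr : r + r' < p
    · have e : p * q + r + (p * q' + r') = p * (q + q') + (r + r') := by ring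
      refine ⟨c₁, ?_, ?_⟩
      · rw [e, vv_mul_add p _ hrr, vv_mul_add p q hr, vv_mul_add p q' hr', hc₁]; omega
      · rw [e, W_mul_add hp1 _ (q + q') hrr]
        calc x ^ r * W p S.d q (S.d x) * (x ^ r' * W p S.d q' (S.d x))
            = x ^ (r + r') * (W p S.d q (S.d x) * W p S.d q' (S.d x)) := by ring
          _ = _ := by rw [hW₁]; ring
    · obtain ⟨r'', hr''⟩ : ∃ r'', r + r' = p + r'' := ⟨r + r' - p, by omega⟩
      have hr''lt : r'' < p := by omega
      have e : p * q + r + (p * q' + r') = p * (q + q' + 1) + r'' := by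
        calc p * q + r + (p * q' + r') = p * q + p * q' + (r + r') := by ring
          _ = p * q + p * q' + (p + r'') := by rw [hr'']
          _ = p * (q + q' + 1) + r'' := by ring
      have hlt : q + q' + 1 < s := by
        have h2 : 2 ≤ p := hp.out.two_le
        have : 2 * (q + q') ≤ p * (q + q') := Nat.mul_le_mul_right _ h2
        have e2 : p * q + r + (p * q' + r') = p * (q + q') + (r + r') := by ring
        omega
      obtain ⟨c₂, hc₂, hW₂⟩ := ih (q + q' + 1) hlt (q + q') 1 rfl _ hy
      rw [W_one' hp1] at hW₂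
      refine ⟨1 + c₁ + c₂, ?_, ?_⟩
      · rw [e, vv_mul_add p _ hr''lt, vv_mul_add p q hr, vv_mul_add p q' hr', hc₂, hc₁, vv_one]
        omega
      · rw [e, W_mul_add hp1 _ (q + q' + 1) hr''lt]
        calc x ^ r * W p S.d q (S.d x) * (x ^ r' * W p S.d q' (S.d x))
            = x ^ (r + r') * (W p S.d q (S.d x) * W p S.d q' (S.d x)) := by ring
          _ = x ^ r'' * ((p.factorial : A) * S.d x) *
                ((p.factorial : A) ^ c₁ * W p S.d (q + q') (S.d x)) := by
              rw [hW₁, hr'', pow_add, S.h1 x hx]; ring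
          _ = x ^ r'' * (p.factorial : A) * (p.factorial : A) ^ c₁ *
                (W p S.d (q + q') (S.d x) * S.d x) := by ring
          _ = _ := by rw [hW₂]; ring

theorem Wpow (q : ℕ) {x : A} (hx : x ∈ S.I) : ∀ j, ∃ c, vv p (j * q) = j * vv p q + c ∧
    (W p S.d q x) ^ j = (p.factorial : A) ^ c * W p S.d (j * q) x := by
  intro j
  induction j with
  | zero => exact ⟨0, by simp [vv_zero], by simp [W_zero]⟩
  | succ j ih =>
    obtain ⟨c, hc, hW⟩ := ih
    obtain ⟨c', hc', hW'⟩ := WW S _ (j * q) q rfl x hx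
    have e : (j + 1) * q = j * q + q := by ring
    refine ⟨c + c', ?_, ?_⟩
    · rw [e, hc', hc]; ring
    · rw [pow_succ, hW, e]
      calc (p.factorial : A) ^ c * W p S.d (j * q) x * W p S.d q x
          = (p.factorial : A) ^ c * (W p S.d (j * q) x * W p S.d q x) := by ring
        _ = _ := by rw [hW', pow_add]; ring

theorem W_p_mul (q : ℕ) (x : A) : W p S.d (p * q) x = W p S.d q (S.d x) := by
  have := W_mul_add hp.out.one_lt S.d q hp.out.pos x
  simpa using this

theorem dW : ∀ m, m ≠ 0 → ∀ x ∈ S.I, ∃ e, m + vv p m = p * vv p m + e + 1 ∧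
    S.d (W p S.d m x) = (p.factorial : A) ^ e * W p S.d m (S.d x) := by
  intro m
  induction m using Nat.strong_induction_on with
  | _ m ih =>
    intro hm x hx
    obtain ⟨q, r, hr, rfl⟩ := exists_qr p m
    have hp1 : 1 < p := hp.out.one_lt
    have hy := S.hdI x hx
    have hq : q < p * q + r := q_lt p hm
    rcases Nat.eq_zero_or_pos r with rfl | hrpos
    · have hq0 : q ≠ 0 := by
        rintro rfl
        exact hm (by simp)
      obtain ⟨e, he, hd⟩ := ih q hq hq0 _ hy
      refine ⟨e, ?_, ?_⟩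
      · rw [vv_mul_add p q hr]
        have := Nat.mul_add p q (vv p q)
        omega
      · rw [add_zero, W_p_mul, W_p_mul, hd]
    · obtain ⟨c, hc, hWp⟩ := Wpow S q hy p
      refine ⟨r - 1 + c, ?_, ?_⟩
      · rw [vv_mul_add p q hr]
        have h1 := Nat.mul_add p q (vv p q)
        have h2 := vv_mul p q
        omega
      · rw [W_mul_add hp1 _ q hr, W_mul_add hp1 _ q hr]
        obtain ⟨r₀, rfl⟩ : ∃ r₀, r = r₀ + 1 := ⟨r - 1, by omega⟩
        have e1 : x ^ (r₀ + 1) * W p S.d q (S.d x) = (x ^ r₀ * W p S.d q (S.d x)) * x := by ring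
        rw [e1, S.h2 _ x hx, mul_pow, ← pow_mul, mul_comm r₀ p, pow_mul, ← S.h1 x hx, hWp,
          W_p_mul]
        simp only [Nat.add_sub_cancel]
        ring

/-- The candidate divided powers. -/
noncomputable def g (n : ℕ) (x : A) : A := Ring.inverse ((NN p n : ℕ) : A) * W p S.d n x

theorem unitN (S : PD A p) (n : ℕ) : IsUnit ((NN p n : ℕ) : A) := S.hA _ (NN_not_dvd p n)

theorem NN_g (n : ℕ) (x : A) : ((NN p n : ℕ) : A) * g S n x = W p S.d n x := by
  unfold g
  rw [← mul_assoc, Ring.mul_inverse_cancel _ (unitN S n), one_mul]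

theorem g_zero (x : A) : g S 0 x = 1 := by simp [g, NN_zero, W_zero]

theorem g_one (x : A) : g S 1 x = x := by simp [g, NN_one, W_one' hp.out.one_lt]

theorem g_p (x : A) : g S p x = S.d x := by
  have h := W_p_mul S 1 x
  rw [mul_one, W_one' hp.out.one_lt] at h
  simp [g, NN_p, h]

theorem g_mem {n : ℕ} (hn : n ≠ 0) {x : A} (hx : x ∈ S.I) : g S n x ∈ S.I :=
  S.I.mul_mem_left _ (W_mem S n hn x hx)

theorem fact_g (n : ℕ) {x : A} (hx : x ∈ S.I) : (n.factorial : A) * g S n x = x ^ n := by
  have h := congrArg (Nat.cast : ℕ → A) (NN_spec p n)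
  push_cast at h
  calc (n.factorial : A) * g S n x
      = (p.factorial : A) ^ vv p n * (((NN p n : ℕ) : A) * g S n x) := by rw [← h]; ring
    _ = x ^ n := by rw [NN_g, pow_W S n x hx]

theorem g_smul (n : ℕ) (a : A) {x : A} (hx : x ∈ S.I) : g S n (a * x) = a ^ n * g S n x := by
  unfold g
  rw [W_smul S n a x hx]; ring

omit hp in
theorem unit_helper {u v a b : A} (hu : IsUnit u) (hv : IsUnit v) (h : a * v = b * u) :
    Ring.inverse u * a = b * Ring.inverse v := by
  have hu1 := Ring.inverse_mul_cancel u hu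
  have hv1 := Ring.mul_inverse_cancel v hv
  calc Ring.inverse u * a = Ring.inverse u * a * (v * Ring.inverse v) := by rw [hv1, mul_one]
    _ = Ring.inverse u * (a * v) * Ring.inverse v := by ring
    _ = Ring.inverse u * (b * u) * Ring.inverse v := by rw [h]
    _ = b * (Ring.inverse u * u) * Ring.inverse v := by ring
    _ = b * Ring.inverse v := by rw [hu1, mul_one]

theorem g_mul (m n : ℕ) {x : A} (hx : x ∈ S.I) :
    g S m x * g S n x = ((m + n).choose m : A) * g S (m + n) x := by
  obtain ⟨c, hc, hW⟩ := WW S _ m n rfl x hx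
  have hN := NN_mul_choose p m n c hc
  have hNA : (p.factorial : A) ^ c * ((NN p (m + n) : ℕ) : A) =
      ((m + n).choose m : A) * (((NN p m : ℕ) : A) * ((NN p n : ℕ) : A)) := by
    have h := congrArg (Nat.cast : ℕ → A) hN
    push_cast at h
    linear_combination (-1 : A) * h
  have key := unit_helper ((unitN S m).mul (unitN S n)) (unitN S (m + n)) hNA
  unfold g
  calc Ring.inverse ((NN p m : ℕ) : A) * W p S.d m x *
        (Ring.inverse ((NN p n : ℕ) : A) * W p S.d n x)
      = (Ring.inverse ((NN p n : ℕ) : A) * Ring.inverse ((NN p m : ℕ) : A)) *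
          (W p S.d m x * W p S.d n x) := by ring
    _ = Ring.inverse (((NN p m : ℕ) : A) * ((NN p n : ℕ) : A)) * (p.factorial : A) ^ c *
          W p S.d (m + n) x := by rw [hW, Ring.mul_inverse_rev]; ring
    _ = _ := by rw [key]; ring

theorem g_rec (q : ℕ) {r : ℕ} (hr : r < p) {x : A} (hx : x ∈ S.I) :
    (((p * q + r).choose r * Nat.uniformBell q p : ℕ) : A) * g S (p * q + r) x =
      g S r x * g S q (S.d x) := by
  have hN := NN_rec' p q hr
  apply ((unitN S r).mul (unitN S q)).mul_left_cancel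
  have e1 := NN_g S (p * q + r) x
  have e2 := NN_g S r x
  have e3 := NN_g S q (S.d x)
  have hWr : W p S.d r x = x ^ r := by
    have := W_mul_add hp.out.one_lt S.d 0 hr x
    simpa [W_zero] using this
  have hWn := W_mul_add hp.out.one_lt S.d q hr x
  have hNA : (((p * q + r).choose r * Nat.uniformBell q p : ℕ) : A) *
      (((NN p r : ℕ) : A) * ((NN p q : ℕ) : A)) = ((NN p (p * q + r) : ℕ) : A) := by
    have h := congrArg (Nat.cast : ℕ → A) hN
    push_cast at h ⊢
    linear_combination h
  calc ((NN p r : ℕ) : A) * ((NN p q : ℕ) : A) *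
        ((((p * q + r).choose r * Nat.uniformBell q p : ℕ) : A) * g S (p * q + r) x)
      = ((((p * q + r).choose r * Nat.uniformBell q p : ℕ) : A) *
          (((NN p r : ℕ) : A) * ((NN p q : ℕ) : A))) * g S (p * q + r) x := by ring
    _ = W p S.d (p * q + r) x := by rw [hNA, e1]
    _ = (((NN p r : ℕ) : A) * g S r x) * (((NN p q : ℕ) : A) * g S q (S.d x)) := by
        rw [e2, e3, hWn, hWr]
    _ = _ := by ring

theorem d_g {m : ℕ} (hm : m ≠ 0) {x : A} (hx : x ∈ S.I) :
    S.d (g S m x) = (Nat.uniformBell p m : A) * g S (p * m) x := by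
  obtain ⟨e, he, hd⟩ := dW S m hm x hx
  have hN := NN_comp p hm he
  have hNA : (p.factorial : A) ^ e * ((NN p (p * m) : ℕ) : A) =
      (Nat.uniformBell p m : A) * (((NN p m : ℕ) : A)) ^ p := by
    have h := congrArg (Nat.cast : ℕ → A) hN
    push_cast at h
    linear_combination h
  have key := unit_helper ((unitN S m).pow p) (unitN S (p * m)) hNA
  unfold g
  rw [S.h2 _ _ (W_mem S m hm x hx), hd, Ring.inverse_pow, W_p_mul]
  calc Ring.inverse (((NN p m : ℕ) : A) ^ p) * ((p.factorial : A) ^ e * W p S.d m (S.d x))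
      = (Ring.inverse (((NN p m : ℕ) : A) ^ p) * (p.factorial : A) ^ e) *
          W p S.d m (S.d x) := by ring
    _ = _ := by rw [key]; ring

theorem fact_unit (S : PD A p) {n : ℕ} (hn : n < p) : IsUnit ((n.factorial : ℕ) : A) :=
  S.hA _ (fun h => absurd ((hp.out.dvd_factorial).1 h) (not_le.2 hn))

end Single

end Groth.Agent.Lib.Helper19.DPPrime
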