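import Mathlib.RingTheory.DividedPowers.RatAlgebra
import Mathlib.NumberTheory.Padics.PadicVal.Basic
import Mathlib.Algebra.MvPolynomial.Basic
import Mathlib.Algebra.MvPolynomial.Eval
import Mathlib.Combinatorics.Enumerative.Bell
import Mathlib.Tactic
import Groth.Agent.Lib.Helper19.DPPrime1

/-!
# Divided powers from the `p`-th divided power: the universal torsion-free ring
-/

namespace Groth.Agent.Lib.Helper19.DPPrime

open MvPolynomial

/-- The rational polynomial ring in two variables. -/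
abbrev RR := MvPolynomial Bool ℚ

/-- Divided powers `f ↦ f^n/n!` on the unit ideal of `RR`. -/
noncomputable def eps : DividedPowers (⊤ : Ideal RR) := by
  classical exact DividedPowers.RatAlgebra.dividedPowers ⊤

/-- The free ring on symbols for `X^[k+1]`, `Y^[k+1]`. -/
abbrev TT := MvPolynomial (Bool × ℕ) ℤ

theorem mem_top' (f : RR) : f ∈ (⊤ : Ideal RR) := Submodule.mem_top

/-- A pair of sequences behaving like divided powers of two elements. -/
structure DPSys (B : Type*) [CommRing B] where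
  e : Bool → ℕ → B
  e_zero : ∀ b, e b 0 = 1
  e_mul : ∀ b m n, e b m * e b n = ((m + n).choose m : B) * e b (m + n)

noncomputable def sysR : DPSys RR where
  e b n := eps.dpow n (X b)
  e_zero b := eps.dpow_zero (mem_top' _)
  e_mul b m n := eps.mul_dpow (mem_top' _)

section Gen

variable {B : Type*} [CommRing B] (E : DPSys B)

noncomputable def DPSys.theta : TT →+* B :=
  MvPolynomial.eval₂Hom (Int.castRingHom B) (fun i => E.e i.1 (i.2 + 1))

theorem DPSys.theta_X (i : Bool × ℕ) : E.theta (X i) = E.e i.1 (i.2 + 1) := by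
  unfold DPSys.theta
  rw [MvPolynomial.eval₂Hom_X']

theorem DPSys.theta_C (z : ℤ) : E.theta (C z) = (z : B) := by
  unfold DPSys.theta
  rw [MvPolynomial.eval₂Hom_C]
  rfl

/-- The symbol for the `n`-th divided power of the variable `b` (`1` for `n = 0`). -/
noncomputable def UU (b : Bool) (n : ℕ) : TT := if n = 0 then 1 else X (b, n - 1)

theorem DPSys.theta_UU (b : Bool) (n : ℕ) : E.theta (UU b n) = E.e b n := by
  unfold UU
  split_ifs with h
  · subst h; rw [map_one, E.e_zero]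
  · rw [E.theta_X]
    show E.e b (n - 1 + 1) = E.e b n
    rw [Nat.sub_add_cancel (Nat.pos_of_ne_zero h)]

noncomputable def DPSys.NF (c : ℕ × ℕ →₀ ℤ) : B :=
  c.sum (fun mn z => (z : B) * (E.e false mn.1 * E.e true mn.2))

theorem DPSys.NF_zero : E.NF 0 = 0 := Finsupp.sum_zero_index

theorem DPSys.NF_add (c c' : ℕ × ℕ →₀ ℤ) : E.NF (c + c') = E.NF c + E.NF c' := by
  unfold DPSys.NF
  exact Finsupp.sum_add_index' (fun a => by simp) (fun a b₁ b₂ => by push_cast; ring)

theorem DPSys.NF_single (mn : ℕ × ℕ) (z : ℤ) :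
    E.NF (Finsupp.single mn z) = (z : B) * (E.e false mn.1 * E.e true mn.2) := by
  unfold DPSys.NF
  exact Finsupp.sum_single_index (by simp)

def shb (b : Bool) (k : ℕ) (mn : ℕ × ℕ) : ℕ × ℕ :=
  if b then (mn.1, mn.2 + (k + 1)) else (mn.1 + (k + 1), mn.2)

def chb (b : Bool) (k : ℕ) (mn : ℕ × ℕ) : ℕ :=
  if b then (mn.2 + (k + 1)).choose mn.2 else (mn.1 + (k + 1)).choose mn.1

noncomputable def stepc (b : Bool) (k : ℕ) (c : ℕ × ℕ →₀ ℤ) : ℕ × ℕ →₀ ℤ :=
  c.sum (fun mn z => Finsupp.single (shb b k mn) (z * (chb b k mn : ℤ)))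

theorem DPSys.NF_step (b : Bool) (k : ℕ) (c : ℕ × ℕ →₀ ℤ) :
    E.NF c * E.e b (k + 1) = E.NF (stepc b k c) := by
  have hR : E.NF (stepc b k c) =
      c.sum (fun mn z => E.NF (Finsupp.single (shb b k mn) (z * (chb b k mn : ℤ)))) := by
    unfold stepc DPSys.NF
    exact Finsupp.sum_sum_index (fun a => by simp) (fun a b₁ b₂ => by push_cast; ring)
  rw [hR]
  unfold DPSys.NF
  rw [Finsupp.sum_mul]
  refine Finsupp.sum_congr (fun mn _ => ?_)
  rw [Finsupp.sum_single_index (by simp)]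
  cases b
  · simp only [shb, chb, Bool.false_eq_true, if_false]
    have := E.e_mul false mn.1 (k + 1)
    push_cast
    linear_combination ((c mn : B) * E.e true mn.2) * this
  · simp only [shb, chb, if_true]
    have := E.e_mul true mn.2 (k + 1)
    push_cast
    linear_combination ((c mn : B) * E.e false mn.1) * this

end Gen

theorem exists_NF {B₁ B₂ : Type*} [CommRing B₁] [CommRing B₂] (E₁ : DPSys B₁) (E₂ : DPSys B₂)
    (F : TT) : ∃ c : ℕ × ℕ →₀ ℤ, E₁.theta F = E₁.NF c ∧ E₂.theta F = E₂.NF c := by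
  refine MvPolynomial.induction_on (motive := fun F => ∃ c : ℕ × ℕ →₀ ℤ,
    E₁.theta F = E₁.NF c ∧ E₂.theta F = E₂.NF c) F ?_ ?_ ?_
  · intro z
    refine ⟨Finsupp.single (0, 0) z, ?_, ?_⟩
    · rw [DPSys.NF_single, DPSys.theta_C]; simp [E₁.e_zero]
    · rw [DPSys.NF_single, DPSys.theta_C]; simp [E₂.e_zero]
  · rintro F G ⟨c, h1, h2⟩ ⟨c', h1', h2'⟩
    exact ⟨c + c', by rw [map_add, h1, h1', DPSys.NF_add],
      by rw [map_add, h2, h2', DPSys.NF_add]⟩
  · rintro F i ⟨c, h1, h2⟩
    exact ⟨stepc i.1 i.2 c, by rw [map_mul, h1, DPSys.theta_X, DPSys.NF_step],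
      by rw [map_mul, h2, DPSys.theta_X, DPSys.NF_step]⟩

theorem EE_eq (b : Bool) (n : ℕ) :
    sysR.e b n = MvPolynomial.monomial (Finsupp.single b n) ((n.factorial : ℚ)⁻¹) := by
  classical
  show eps.dpow n (X b) = _
  unfold eps
  rw [DividedPowers.RatAlgebra.dpow_apply, if_pos (mem_top' _),
    ← MvPolynomial.C_mul_X_pow_eq_monomial,
    Ring.inverse_mul_eq_iff_eq_mul _ _ _ (IsUnit.natCast_factorial_of_algebra ℚ n), ← mul_assoc]
  have : ((n.factorial : ℕ) : RR) * C ((n.factorial : ℚ)⁻¹) = 1 := by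
    rw [← map_natCast (C : ℚ →+* RR), ← map_mul,
      mul_inv_cancel₀ (Nat.cast_ne_zero.2 (Nat.factorial_ne_zero n)), map_one]
  rw [this, one_mul]

/-- The exponent vector of `X^m Y^n`. -/
noncomputable def ss (mn : ℕ × ℕ) : Bool →₀ ℕ :=
  Finsupp.single false mn.1 + Finsupp.single true mn.2

theorem ss_inj : Function.Injective ss := by
  intro a b h
  have h1 := DFunLike.congr_fun h false
  have h2 := DFunLike.congr_fun h true
  simp [ss] at h1 h2
  exact Prod.ext h1 h2

theorem coeff_NF (c : ℕ × ℕ →₀ ℤ) (mn : ℕ × ℕ) :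
    MvPolynomial.coeff (ss mn) (sysR.NF c) =
      (c mn : ℚ) * ((mn.1.factorial : ℚ)⁻¹ * (mn.2.factorial : ℚ)⁻¹) := by
  classical
  unfold DPSys.NF Finsupp.sum
  rw [MvPolynomial.coeff_sum]
  have hterm : ∀ x : ℕ × ℕ, MvPolynomial.coeff (ss mn)
      (((c x : ℤ) : RR) * (sysR.e false x.1 * sysR.e true x.2)) =
      if x = mn then (c x : ℚ) * ((x.1.factorial : ℚ)⁻¹ * (x.2.factorial : ℚ)⁻¹) else 0 := by
    intro x
    rw [EE_eq, EE_eq, MvPolynomial.monomial_mul, ← map_intCast (C : ℚ →+* RR),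
      MvPolynomial.C_mul_monomial, MvPolynomial.coeff_monomial]
    by_cases h : x = mn
    · subst h; simp [ss]
    · rw [if_neg h, if_neg]
      intro h'
      exact h (ss_inj h')
  simp_rw [hterm]
  rw [Finset.sum_ite_eq']
  split_ifs with hmem
  · rfl
  · rw [Finsupp.notMem_support_iff.1 hmem]; simp

theorem NF_eq_zero {c : ℕ × ℕ →₀ ℤ} (h : sysR.NF c = 0) : c = 0 := by
  ext mn
  have := coeff_NF c mn
  rw [h, MvPolynomial.coeff_zero] at this
  have h1 : ((mn.1.factorial : ℚ)⁻¹ * (mn.2.factorial : ℚ)⁻¹) ≠ 0 :=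
    mul_ne_zero (inv_ne_zero (Nat.cast_ne_zero.2 (Nat.factorial_ne_zero _)))
      (inv_ne_zero (Nat.cast_ne_zero.2 (Nat.factorial_ne_zero _)))
  have h2 : (c mn : ℚ) = 0 := by
    rcases mul_eq_zero.1 this.symm with h | h
    · exact h
    · exact absurd h h1
  exact_mod_cast h2

theorem theta_functional {B : Type*} [CommRing B] (E : DPSys B) {F F' : TT}
    (h : sysR.theta F = sysR.theta F') : E.theta F = E.theta F' := by
  obtain ⟨c, h1, h2⟩ := exists_NF sysR E (F - F')
  rw [map_sub, h, sub_self] at h1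
  have hc := NF_eq_zero h1.symm
  rw [hc, DPSys.NF_zero, map_sub, sub_eq_zero] at h2
  exact h2

/-- The augmentation ideal of `TT`. -/
noncomputable def Tplus : Ideal TT := Ideal.span (Set.range (X : Bool × ℕ → TT))

theorem X_mem_Tplus (i : Bool × ℕ) : (X i : TT) ∈ Tplus := Ideal.subset_span ⟨i, rfl⟩

theorem UU_mem_Tplus (b : Bool) {n : ℕ} (hn : n ≠ 0) : UU b n ∈ Tplus := by
  unfold UU
  rw [if_neg hn]
  exact X_mem_Tplus _

theorem theta_mem {B : Type*} [CommRing B] (E : DPSys B) (J : Ideal B)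
    (hJ : ∀ b n, n ≠ 0 → E.e b n ∈ J) {F : TT} (hF : F ∈ Tplus) : E.theta F ∈ J := by
  refine Submodule.span_induction (p := fun F _ => E.theta F ∈ J) ?_ ?_ ?_ ?_ hF
  · rintro x ⟨i, rfl⟩
    rw [DPSys.theta_X]
    exact hJ _ _ (Nat.succ_ne_zero _)
  · rw [map_zero]; exact J.zero_mem
  · intro x y _ _ hx hy
    rw [map_add]; exact J.add_mem hx hy
  · intro a x _ hx
    rw [smul_eq_mul, map_mul]; exact J.mul_mem_left _ hx

/-- Representatives of all the divided powers of the image of `F`. -/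
def RepP (F : TT) : Prop :=
  ∃ rep : ℕ → TT, (∀ i, sysR.theta (rep i) = eps.dpow i (sysR.theta F)) ∧
    ∀ i, i ≠ 0 → rep i ∈ Tplus

theorem exists_rep {F : TT} (hF : F ∈ Tplus) : RepP F := by
  refine Submodule.span_induction (p := fun F _ => RepP F) ?_ ?_ ?_ ?_ hF
  · rintro x ⟨⟨b, k⟩, rfl⟩
    refine ⟨fun i => (Nat.uniformBell i (k + 1) : TT) * UU b (i * (k + 1)),
      fun i => ?_, fun i hi => ?_⟩
    · rw [map_mul, map_natCast, DPSys.theta_UU, DPSys.theta_X]
      show _ = eps.dpow i (eps.dpow (k + 1) (X b))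
      rw [eps.dpow_comp (Nat.succ_ne_zero k) (mem_top' _)]
      rfl
    · exact Ideal.mul_mem_left _ _ (UU_mem_Tplus b (Nat.mul_ne_zero hi (Nat.succ_ne_zero k)))
  · refine ⟨fun i => if i = 0 then 1 else 0, fun i => ?_, fun i hi => ?_⟩
    · by_cases hi : i = 0
      · subst hi; simp [eps.dpow_zero (mem_top' _)]
      · simp [hi, eps.dpow_eval_zero hi]
    · simp [hi]
  · rintro F G _ _ ⟨rF, hrF, hrF'⟩ ⟨rG, hrG, hrG'⟩
    refine ⟨fun n => ∑ k ∈ Finset.HasAntidiagonal.antidiagonal n, rF k.1 * rG k.2,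
      fun n => ?_, fun n hn => ?_⟩
    · rw [map_add, eps.dpow_add (mem_top' _) (mem_top' _), map_sum]
      refine Finset.sum_congr rfl (fun k _ => ?_)
      rw [map_mul, hrF, hrG]
    · refine Ideal.sum_mem _ (fun k hk => ?_)
      have hk' := Finset.HasAntidiagonal.mem_antidiagonal.1 hk
      by_cases h1 : k.1 = 0
      · have h2 : k.2 ≠ 0 := by omega
        exact Ideal.mul_mem_left _ _ (hrG' _ h2)
      · exact Ideal.mul_mem_right _ _ (hrF' _ h1)
  · rintro G F _ ⟨rF, hrF, hrF'⟩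
    refine ⟨fun i => G ^ i * rF i, fun i => ?_, fun i hi => ?_⟩
    · rw [smul_eq_mul, map_mul, map_mul, map_pow, hrF, eps.dpow_mul (mem_top' _)]
    · exact Ideal.mul_mem_left _ _ (hrF' i hi)

theorem sum_antidiag_split {M : Type*} [AddCommMonoid M] (f : ℕ × ℕ → M) {p : ℕ} (hp : p ≠ 0) :
    ∑ k ∈ Finset.HasAntidiagonal.antidiagonal p, f k = f (p, 0) + f (0, p) +
      ∑ k ∈ (Finset.HasAntidiagonal.antidiagonal p).filter (fun k => 0 < k.1 ∧ 0 < k.2), f k := by
  classical
  rw [← Finset.sum_filter_add_sum_filter_not (Finset.HasAntidiagonal.antidiagonal p)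
    (fun k => 0 < k.1 ∧ 0 < k.2) f]
  have hcomp : (Finset.HasAntidiagonal.antidiagonal p).filter
      (fun k => ¬ (0 < k.1 ∧ 0 < k.2)) = {(p, 0), (0, p)} := by
    ext ⟨i, j⟩
    simp only [Finset.mem_filter, Finset.HasAntidiagonal.mem_antidiagonal, Finset.mem_insert,
      Finset.mem_singleton, Prod.mk.injEq]
    omega
  have hne : ((p, 0) : ℕ × ℕ) ≠ (0, p) := by
    intro h
    exact hp (Prod.ext_iff.1 h).1
  rw [hcomp, Finset.sum_pair hne, add_comm]

section Transfer

variable {A : Type*} [CommRing A] {p : ℕ} [hp : Fact p.Prime] (S : PD A p)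

/-- The system of candidate divided powers of two elements of `I`. -/
noncomputable def sysA {x y : A} (hx : x ∈ S.I) (hy : y ∈ S.I) : DPSys A where
  e b n := g S n (cond b y x)
  e_zero b := g_zero S _
  e_mul b m n := by
    cases b
    · exact g_mul S m n hx
    · exact g_mul S m n hy

omit hp in
theorem cond_mem {x y : A} (hx : x ∈ S.I) (hy : y ∈ S.I) (b : Bool) : cond b y x ∈ S.I := by
  cases b
  · exact hx
  · exact hy

theorem sysA_mem {x y : A} (hx : x ∈ S.I) (hy : y ∈ S.I) {F : TT} (hF : F ∈ Tplus) :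
    (sysA S hx hy).theta F ∈ S.I :=
  theta_mem _ S.I (fun b _ hn => g_mem S hn (cond_mem S hx hy b)) hF

theorem psi_rep_lt {x y : A} (hx : x ∈ S.I) (hy : y ∈ S.I) {F Fi : TT} {i : ℕ} (hi : i < p)
    (h : sysR.theta Fi = eps.dpow i (sysR.theta F)) :
    (sysA S hx hy).theta Fi = Ring.inverse ((i.factorial : ℕ) : A) * (sysA S hx hy).theta F ^ i := by
  have h1 : sysR.theta ((i.factorial : TT) * Fi) = sysR.theta (F ^ i) := by
    rw [map_mul, map_natCast, h, eps.factorial_mul_dpow_eq_pow (mem_top' _), map_pow]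
  have h2 := theta_functional (sysA S hx hy) h1
  rw [map_mul, map_natCast, map_pow] at h2
  exact ((Ring.inverse_mul_eq_iff_eq_mul _ _ _ (fact_unit S hi)).2 h2.symm).symm

theorem g_lt {i : ℕ} (hi : i < p) {a : A} (ha : a ∈ S.I) :
    g S i a = Ring.inverse ((i.factorial : ℕ) : A) * a ^ i :=
  ((Ring.inverse_mul_eq_iff_eq_mul _ _ _ (fact_unit S hi)).2 (fact_g S i ha).symm).symm

theorem rep_p {x y : A} (hx : x ∈ S.I) (hy : y ∈ S.I) {F : TT} (hF : F ∈ Tplus) :
    ∃ F' : TT, sysR.theta F' = eps.dpow p (sysR.theta F) ∧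
      (sysA S hx hy).theta F' = S.d ((sysA S hx hy).theta F) := by
  have hp0 : p ≠ 0 := hp.out.ne_zero
  refine Submodule.span_induction (p := fun F _ => ∃ F' : TT,
    sysR.theta F' = eps.dpow p (sysR.theta F) ∧
      (sysA S hx hy).theta F' = S.d ((sysA S hx hy).theta F)) ?_ ?_ ?_ ?_ hF
  · rintro _ ⟨⟨b, k⟩, rfl⟩
    refine ⟨(Nat.uniformBell p (k + 1) : TT) * UU b (p * (k + 1)), ?_, ?_⟩
    · rw [map_mul, map_natCast, DPSys.theta_UU, DPSys.theta_X]
      show _ = eps.dpow p (eps.dpow (k + 1) (X b))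
      rw [eps.dpow_comp (Nat.succ_ne_zero k) (mem_top' _)]
      rfl
    · rw [map_mul, map_natCast, DPSys.theta_UU, DPSys.theta_X]
      show _ = S.d (g S (k + 1) (cond b y x))
      rw [d_g S (Nat.succ_ne_zero k) (cond_mem S hx hy b)]
      rfl
  · refine ⟨0, ?_, ?_⟩
    · rw [map_zero, eps.dpow_eval_zero hp0]
    · rw [map_zero, d_zero S]
  · rintro F G hF hG ⟨F', hF1, hF2⟩ ⟨G', hG1, hG2⟩
    obtain ⟨rF, hrF, -⟩ := exists_rep (F := F) hF
    obtain ⟨rG, hrG, -⟩ := exists_rep (F := G) hG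
    have ha : (sysA S hx hy).theta F ∈ S.I := sysA_mem S hx hy hF
    have hb : (sysA S hx hy).theta G ∈ S.I := sysA_mem S hx hy hG
    refine ⟨F' + G' + ∑ k ∈ (Finset.HasAntidiagonal.antidiagonal p).filter
      (fun k => 0 < k.1 ∧ 0 < k.2), rF k.1 * rG k.2, ?_, ?_⟩
    · rw [map_add (sysR.theta) F G, eps.dpow_add (mem_top' _) (mem_top' _),
        sum_antidiag_split _ hp0, map_add, map_add, map_sum, hF1, hG1]
      simp only [eps.dpow_zero (mem_top' _), mul_one, one_mul]
      congr 1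
      refine Finset.sum_congr rfl (fun k _ => ?_)
      rw [map_mul, hrF, hrG]
    · rw [map_add ((sysA S hx hy).theta) F G, S.h3 _ ha _ hb, map_add, map_add, map_sum, hF2, hG2]
      congr 1
      refine Finset.sum_congr rfl (fun k hk => ?_)
      have hk' := Finset.mem_filter.1 hk
      have hk'' := Finset.HasAntidiagonal.mem_antidiagonal.1 hk'.1
      have h1 : k.1 < p := by omega
      have h2 : k.2 < p := by omega
      rw [map_mul, psi_rep_lt S hx hy h1 (hrF k.1), psi_rep_lt S hx hy h2 (hrG k.2),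
        Nat.cast_mul, Ring.mul_inverse_rev]
      ring
  · rintro G F hF ⟨F', hF1, hF2⟩
    have ha : (sysA S hx hy).theta F ∈ S.I := sysA_mem S hx hy hF
    refine ⟨G ^ p * F', ?_, ?_⟩
    · rw [smul_eq_mul, map_mul, map_mul, map_pow, hF1, eps.dpow_mul (mem_top' _)]
    · rw [smul_eq_mul, map_mul, map_mul, map_pow, hF2, S.h2 _ _ ha]

theorem rep_g {x y : A} (hx : x ∈ S.I) (hy : y ∈ S.I) : ∀ n, ∀ F ∈ Tplus, ∀ F' : TT,
    sysR.theta F' = eps.dpow n (sysR.theta F) →
      (sysA S hx hy).theta F' = g S n ((sysA S hx hy).theta F) := by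
  intro n
  induction n using Nat.strong_induction_on with
  | _ n ih =>
    intro F hF F' hF'
    have ha : (sysA S hx hy).theta F ∈ S.I := sysA_mem S hx hy hF
    by_cases hn : n < p
    · rw [psi_rep_lt S hx hy hn hF', g_lt S hn ha]
    · obtain ⟨q, r, hr, rfl⟩ := exists_qr p n
      have hp0 : p ≠ 0 := hp.out.ne_zero
      have hq0 : q ≠ 0 := by
        rintro rfl
        omega
      have hqlt : q < p * q + r := q_lt p (by omega)
      have hrlt : r < p * q + r := by omega
      obtain ⟨rF, hrF, hrF'⟩ := exists_rep (F := F) hF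
      obtain ⟨Fp, hFp1, hFp2⟩ := rep_p S hx hy hF
      have hFp : rF p ∈ Tplus := hrF' p hp0
      have hpsiFp : (sysA S hx hy).theta (rF p) = S.d ((sysA S hx hy).theta F) := by
        rw [← hFp2]
        exact theta_functional _ ((hrF p).trans hFp1.symm)
      obtain ⟨rFp, hrFp, -⟩ := exists_rep (F := rF p) hFp
      -- the identity in `RR`
      have hid : sysR.theta (rF r * rFp q) =
          sysR.theta ((((p * q + r).choose r * Nat.uniformBell q p : ℕ) : TT) * F') := by
        rw [map_mul, map_mul, map_natCast, hrF, hrFp, hrF p, hF',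
          eps.dpow_comp hp0 (mem_top' _)]
        have e0 : r + q * p = p * q + r := by ring
        calc eps.dpow r (sysR.theta F) *
              ((Nat.uniformBell q p : RR) * eps.dpow (q * p) (sysR.theta F))
            = (Nat.uniformBell q p : RR) *
                (eps.dpow r (sysR.theta F) * eps.dpow (q * p) (sysR.theta F)) := by ring
          _ = _ := by
              rw [eps.mul_dpow (mem_top' _), e0]
              push_cast
              ring
      have h2 := theta_functional (sysA S hx hy) hid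
      rw [map_mul, map_mul, map_natCast, ih r hrlt F hF (rF r) (hrF r),
        ih q hqlt (rF p) hFp (rFp q) (hrFp q), hpsiFp, ← g_rec S q hr ha] at h2
      exact ((S.hA _ (not_dvd_choose_mul_bell p q hr)).mul_left_cancel h2).symm

theorem g_add (n : ℕ) {x y : A} (hx : x ∈ S.I) (hy : y ∈ S.I) :
    g S n (x + y) = ∑ k ∈ Finset.HasAntidiagonal.antidiagonal n, g S k.1 x * g S k.2 y := by
  have hF : (X (false, 0) + X (true, 0) : TT) ∈ Tplus :=
    Tplus.add_mem (X_mem_Tplus _) (X_mem_Tplus _)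
  have h1 : sysR.theta (∑ k ∈ Finset.HasAntidiagonal.antidiagonal n,
      UU false k.1 * UU true k.2) = eps.dpow n (sysR.theta (X (false, 0) + X (true, 0))) := by
    rw [map_add, DPSys.theta_X, DPSys.theta_X, eps.dpow_add (mem_top' _) (mem_top' _), map_sum]
    refine Finset.sum_congr rfl (fun k _ => ?_)
    rw [map_mul, DPSys.theta_UU, DPSys.theta_UU]
    show eps.dpow k.1 (X false) * eps.dpow k.2 (X true) =
      eps.dpow k.1 (eps.dpow 1 (X false)) * eps.dpow k.2 (eps.dpow 1 (X true))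
    rw [eps.dpow_one (mem_top' _), eps.dpow_one (mem_top' _)]
  have h2 := rep_g S hx hy n _ hF _ h1
  rw [map_sum, map_add, DPSys.theta_X, DPSys.theta_X] at h2
  have e1 : (sysA S hx hy).e (false, 0).1 ((false, 0).2 + 1) = x := g_one S x
  have e2 : (sysA S hx hy).e (true, 0).1 ((true, 0).2 + 1) = y := g_one S y
  rw [e1, e2] at h2
  rw [← h2]
  refine Finset.sum_congr rfl (fun k _ => ?_)
  rw [map_mul, DPSys.theta_UU, DPSys.theta_UU]
  rfl

theorem g_comp (m : ℕ) {n : ℕ} (hn : n ≠ 0) {x : A} (hx : x ∈ S.I) :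
    g S m (g S n x) = (Nat.uniformBell m n : A) * g S (m * n) x := by
  have hF : UU false n ∈ Tplus := UU_mem_Tplus false hn
  have h1 : sysR.theta ((Nat.uniformBell m n : TT) * UU false (m * n)) =
      eps.dpow m (sysR.theta (UU false n)) := by
    rw [map_mul, map_natCast, DPSys.theta_UU, DPSys.theta_UU]
    show _ = eps.dpow m (eps.dpow n (X false))
    rw [eps.dpow_comp hn (mem_top' _)]
    rfl
  have h2 := rep_g S hx hx m _ hF _ h1
  rw [map_mul, map_natCast, DPSys.theta_UU, DPSys.theta_UU] at h2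
  exact h2.symm

end Transfer

end Groth.Agent.Lib.Helper19.DPPrime
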