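import Mathlib

/-!
# Flat deformations of smooth algebras over `k[τ]/(τ^(n+1))` (helper19)

`D ≃ k[X]/(X^(n+1))` (the class of `X` being `τ`), `B` a flat `D`-algebra with `B/tB` formally
smooth over `k` (`t` the image of `τ`).

* `Phi`, `Phi_bijective`: `D ⊗[k] B/tB ≃ B` (smooth affine schemes are rigid);
* `formallySmooth`: `B` is formally smooth over `D`;
* `exists_derivation`: a `k`-derivation `B → B/t^n` with `t ↦ 1`;
* the exact sequence `0 → B' → B' ⊗ Ω_{B/k} → B' ⊗ Ω_{B/D} → 0`, and the two fibre-product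
  descriptions of `B` and of `Ω_{B/k}` (characteristic zero).
-/

set_option autoImplicit false
universe u
open Polynomial TensorProduct

namespace Groth.Agent.Lib.Helper19.DefTrunc

theorem tsz_mul_eq_zero {E M : Type*} [CommRing E] [AddCommGroup M] [Module E M] [Module Eᵐᵒᵖ M]
    [IsCentralScalar E M] (r s : TrivSqZeroExt E M) (hr : r.fst = 0) (hs : s.fst = 0) :
    r * s = 0 := by
  refine TrivSqZeroExt.ext ?_ ?_
  · rw [TrivSqZeroExt.fst_mul, hr, zero_mul]; rfl
  · rw [TrivSqZeroExt.snd_mul, hr, hs, zero_smul, MulOpposite.op_zero, zero_smul, add_zero]; rfl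

section Base

variable {k : Type u} [Field k] {n : ℕ} {D : Type u} [CommRing D] [Algebra k D] {τ : D}
  (e : (k[X] ⧸ Ideal.span {(X : k[X]) ^ (n + 1)}) ≃ₐ[k] D)
  (he : e (Ideal.Quotient.mk (Ideal.span {(X : k[X]) ^ (n + 1)}) X) = τ)

include he

theorem e_mk (p : k[X]) :
    e (Ideal.Quotient.mk (Ideal.span {(X : k[X]) ^ (n + 1)}) p) = aeval τ p := by
  have h : (e : (k[X] ⧸ Ideal.span {(X : k[X]) ^ (n + 1)}) →ₐ[k] D).comp
      (Ideal.Quotient.mkₐ k (Ideal.span {(X : k[X]) ^ (n + 1)})) = aeval τ := by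
    apply Polynomial.algHom_ext
    rw [aeval_X]
    exact he
  exact AlgHom.congr_fun h p

theorem exists_aeval (d : D) : ∃ p : k[X], d = aeval τ p := by
  obtain ⟨p, hp⟩ := Ideal.Quotient.mk_surjective (e.symm d)
  refine ⟨p, ?_⟩
  rw [← e_mk e he, hp, AlgEquiv.apply_symm_apply]

theorem tau_pow : τ ^ (n + 1) = 0 := by
  have h := e_mk e he ((X : k[X]) ^ (n + 1))
  rw [Ideal.Quotient.eq_zero_iff_mem.2 (Ideal.mem_span_singleton_self _), map_zero, map_pow,
    aeval_X] at h
  exact h.symm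

theorem D_decomp (d : D) : ∃ (c : k) (d' : D), d = algebraMap k D c + τ * d' := by
  obtain ⟨p, rfl⟩ := exists_aeval e he d
  refine ⟨p.coeff 0, aeval τ p.divX, ?_⟩
  conv_lhs => rw [← Polynomial.X_mul_divX_add p]
  rw [map_add, map_mul, aeval_X, aeval_C, add_comm]

variable (A : Type u) [CommRing A] [Algebra k A] [Algebra D A] [IsScalarTower k D A]

theorem map_mem (ω : Ω[D⁄k]) : ∃ a : A, KaehlerDifferential.map k k D A ω =
    a • KaehlerDifferential.D k A (algebraMap D A τ) := by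
  have hω : ω ∈ Submodule.span D (Set.range (KaehlerDifferential.D k D)) := by
    rw [KaehlerDifferential.span_range_derivation]; trivial
  refine Submodule.span_induction (p := fun ω _ => ∃ a : A, KaehlerDifferential.map k k D A ω =
    a • KaehlerDifferential.D k A (algebraMap D A τ)) ?_ ?_ ?_ ?_ hω
  · rintro _ ⟨d, rfl⟩
    obtain ⟨p, rfl⟩ := exists_aeval e he d
    refine ⟨aeval (algebraMap D A τ) (derivative p), ?_⟩
    rw [KaehlerDifferential.map_D, ← Polynomial.aeval_algebraMap_apply, Derivation.map_aeval]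
  · exact ⟨0, by rw [map_zero, zero_smul]⟩
  · rintro x y _ _ ⟨a, ha⟩ ⟨b, hb⟩
    exact ⟨a + b, by rw [map_add, ha, hb, add_smul]⟩
  · rintro d x _ ⟨a, ha⟩
    exact ⟨d • a, by rw [map_smul, ha, smul_assoc]⟩

theorem mapBaseChange_mem (v : A ⊗[D] Ω[D⁄k]) : ∃ a : A, KaehlerDifferential.mapBaseChange k D A v =
    a • KaehlerDifferential.D k A (algebraMap D A τ) := by
  induction v using TensorProduct.induction_on with
  | zero => exact ⟨0, by rw [map_zero, zero_smul]⟩
  | tmul a₀ ω =>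
    obtain ⟨a, ha⟩ := map_mem e he A ω
    exact ⟨a₀ * a, by rw [KaehlerDifferential.mapBaseChange_tmul, ha, smul_smul]⟩
  | add x y hx hy =>
    obtain ⟨a, ha⟩ := hx
    obtain ⟨b, hb⟩ := hy
    exact ⟨a + b, by rw [map_add, ha, hb, add_smul]⟩

end Base

section PhiDef

variable {k : Type u} [Field k] {D : Type u} [CommRing D] [Algebra k D]
  {B : Type u} [CommRing B] [Algebra k B] [Algebra D B] [IsScalarTower k D B] {t : B}

/-- the comparison map `D ⊗ B/tB → B` attached to a section of `B → B/tB` -/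
noncomputable def Phi (s : (B ⧸ Ideal.span {t}) →ₐ[k] B) : D ⊗[k] (B ⧸ Ideal.span {t}) →ₐ[D] B :=
  Algebra.TensorProduct.lift (Algebra.ofId D B) s (fun _ _ => Commute.all _ _)

theorem Phi_tmul (s : (B ⧸ Ideal.span {t}) →ₐ[k] B) (d : D) (x : B ⧸ Ideal.span {t}) :
    Phi s (d ⊗ₜ[k] x) = algebraMap D B d * s x := by
  unfold Phi
  rw [Algebra.TensorProduct.lift_tmul]
  rfl

end PhiDef

section Main

variable {k : Type u} [Field k] {n : ℕ} {D : Type u} [CommRing D] [Algebra k D] {τ : D}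
  (e : (k[X] ⧸ Ideal.span {(X : k[X]) ^ (n + 1)}) ≃ₐ[k] D)
  (he : e (Ideal.Quotient.mk (Ideal.span {(X : k[X]) ^ (n + 1)}) X) = τ)
  {B : Type u} [CommRing B] [Algebra k B] [Algebra D B] [IsScalarTower k D B]
  {t : B} (ht : t = algebraMap D B τ)

include he ht

theorem t_pow : t ^ (n + 1) = 0 := by
  rw [ht, ← map_pow, tau_pow e he, map_zero]

theorem exists_section [Algebra.FormallySmooth k (B ⧸ Ideal.span {t})] :
    ∃ s : (B ⧸ Ideal.span {t}) →ₐ[k] B, ∀ x, Ideal.Quotient.mk (Ideal.span {t}) (s x) = x := by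
  have hnil : IsNilpotent (Ideal.span {t}) := by
    refine ⟨n + 1, ?_⟩
    rw [Ideal.span_singleton_pow, t_pow e he ht]
    exact Ideal.span_singleton_eq_bot.2 rfl
  obtain ⟨s, hs⟩ := Algebra.FormallySmooth.exists_lift (Ideal.span {t}) hnil
    (AlgHom.id k (B ⧸ Ideal.span {t}))
  exact ⟨s, fun x => AlgHom.congr_fun hs x⟩

theorem Phi_surjective (s : (B ⧸ Ideal.span {t}) →ₐ[k] B)
    (hs : ∀ x, Ideal.Quotient.mk (Ideal.span {t}) (s x) = x) :
    Function.Surjective (Phi (D := D) s) := by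
  have key : ∀ j : ℕ, ∀ b : B, ∃ (q : D ⊗[k] (B ⧸ Ideal.span {t})) (c : B),
      b = Phi s q + t ^ j * c := by
    intro j
    induction j with
    | zero =>
      intro b
      exact ⟨0, b, by rw [map_zero, zero_add, pow_zero, one_mul]⟩
    | succ j ih =>
      intro b
      obtain ⟨q, c, hb⟩ := ih b
      have hc : c - s (Ideal.Quotient.mk _ c) ∈ Ideal.span {t} := by
        rw [← Ideal.Quotient.eq_zero_iff_mem, map_sub, hs, sub_self]
      obtain ⟨a, ha⟩ := Ideal.mem_span_singleton'.1 hc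
      refine ⟨q + (τ ^ j) ⊗ₜ[k] Ideal.Quotient.mk _ c, a, ?_⟩
      rw [map_add, Phi_tmul, map_pow, ← ht, hb]
      have hc2 : c = s (Ideal.Quotient.mk _ c) + a * t := by rw [ha]; ring
      conv_lhs => rw [hc2]
      ring
  intro b
  obtain ⟨q, c, hb⟩ := key (n + 1) b
  exact ⟨q, by rw [hb, t_pow e he ht, zero_mul, add_zero]⟩

theorem sub_tmul_mem (s : (B ⧸ Ideal.span {t}) →ₐ[k] B)
    (hs : ∀ x, Ideal.Quotient.mk (Ideal.span {t}) (s x) = x) :
    ∀ x : D ⊗[k] (B ⧸ Ideal.span {t}),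
      x - (1 : D) ⊗ₜ[k] (Ideal.Quotient.mk (Ideal.span {t}) (Phi s x)) ∈
        (Ideal.span {τ} • (⊤ : Submodule D (D ⊗[k] (B ⧸ Ideal.span {t})))) := by
  intro x
  induction x using TensorProduct.induction_on with
  | zero =>
    rw [map_zero, map_zero, TensorProduct.tmul_zero, sub_zero]
    exact zero_mem _
  | tmul d b =>
    obtain ⟨c, d', hd⟩ := D_decomp e he d
    have h1 : Ideal.Quotient.mk (Ideal.span {t}) (Phi s (d ⊗ₜ[k] b)) = c • b := by
      rw [Phi_tmul, map_mul, hs, hd, map_add, map_mul, ← ht, map_add, map_mul,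
        Ideal.Quotient.eq_zero_iff_mem.2 (Ideal.mem_span_singleton_self t), zero_mul, add_zero,
        ← IsScalarTower.algebraMap_apply, Ideal.Quotient.mk_algebraMap, Algebra.smul_def]
    have h2 : d ⊗ₜ[k] b - (1 : D) ⊗ₜ[k] (c • b) = τ • (d' ⊗ₜ[k] b) := by
      calc d ⊗ₜ[k] b - (1 : D) ⊗ₜ[k] (c • b)
          = (algebraMap k D c + τ * d') ⊗ₜ[k] b - (c • (1 : D)) ⊗ₜ[k] b := by
            rw [← hd, TensorProduct.smul_tmul]
        _ = (τ * d') ⊗ₜ[k] b := by
            rw [← TensorProduct.sub_tmul, Algebra.algebraMap_eq_smul_one, add_sub_cancel_left]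
        _ = τ • (d' ⊗ₜ[k] b) := by
            rw [TensorProduct.smul_tmul', smul_eq_mul]
    rw [h1, h2]
    exact Submodule.smul_mem_smul (Ideal.mem_span_singleton_self τ) Submodule.mem_top
  | add x y hx hy =>
    have h : (x + y) - (1 : D) ⊗ₜ[k] (Ideal.Quotient.mk (Ideal.span {t}) (Phi s (x + y))) =
        (x - (1 : D) ⊗ₜ[k] (Ideal.Quotient.mk (Ideal.span {t}) (Phi s x))) +
        (y - (1 : D) ⊗ₜ[k] (Ideal.Quotient.mk (Ideal.span {t}) (Phi s y))) := by
      rw [map_add, map_add, TensorProduct.tmul_add]; abel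
    rw [h]
    exact add_mem hx hy

theorem Phi_injective [Module.Flat D B] (s : (B ⧸ Ideal.span {t}) →ₐ[k] B)
    (hs : ∀ x, Ideal.Quotient.mk (Ideal.span {t}) (s x) = x) :
    Function.Injective (Phi (D := D) s) := by
  have hsurj := Phi_surjective e he ht s hs
  obtain ⟨f, hf⟩ : ∃ f : D ⊗[k] (B ⧸ Ideal.span {t}) →ₗ[D] B, ∀ x, f x = Phi s x :=
    ⟨(Phi s).toLinearMap, fun _ => rfl⟩
  have hfsurj : Function.Surjective f := by
    intro b
    obtain ⟨q, hq⟩ := hsurj b
    exact ⟨q, by rw [hf, hq]⟩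
  have hK1 : LinearMap.ker f ≤ Ideal.span {τ} • ⊤ := by
    intro x hx
    have hx0 : Phi s x = 0 := by rw [← hf]; exact hx
    have h := sub_tmul_mem e he ht s hs x
    rwa [hx0, map_zero, TensorProduct.tmul_zero, sub_zero] at h
  have hK2 := LinearMap.ker_inf_smul_top_eq_smul_of_flat (Ideal.span {τ}) f hfsurj
  rw [inf_eq_left.2 hK1] at hK2
  have hK3 : ∀ j : ℕ, LinearMap.ker f = Ideal.span {τ} ^ j • LinearMap.ker f := by
    intro j
    induction j with
    | zero => rw [pow_zero, Ideal.one_eq_top, Submodule.top_smul]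
    | succ j ih =>
      conv_lhs => rw [ih, hK2]
      rw [← Submodule.mul_smul, ← pow_succ]
  have hK4 : LinearMap.ker f = ⊥ := by
    rw [hK3 (n + 1), Ideal.span_singleton_pow, tau_pow e he, Ideal.span_singleton_eq_bot.2 rfl,
      Submodule.bot_smul]
  have hinj : Function.Injective f := LinearMap.ker_eq_bot.1 hK4
  intro x y hxy
  exact hinj (by rw [hf, hf, hxy])

theorem formallySmooth [Module.Flat D B] [Algebra.FormallySmooth k (B ⧸ Ideal.span {t})] :
    Algebra.FormallySmooth D B := by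
  obtain ⟨s, hs⟩ := exists_section e he ht
  exact Algebra.FormallySmooth.of_equiv (AlgEquiv.ofBijective (Phi (D := D) s)
    ⟨Phi_injective e he ht s hs, Phi_surjective e he ht s hs⟩)

end Main

end Groth.Agent.Lib.Helper19.DefTrunc
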