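import Mathlib
import Groth.Agent.Lib.Helper19.DefTrunc

/-!
# Flat deformations of smooth algebras over `k[τ]/(τ^(n+1))`, part 2 (helper19)

The derivation `∂ : B → B/t^n` with `∂ t = 1`, the exact sequence
`0 → B' → B' ⊗ Ω_{B/k} → B' ⊗ Ω_{B/D} → 0` and the fibre-product descriptions.
-/

set_option autoImplicit false
universe u
open Polynomial TensorProduct

namespace Groth.Agent.Lib.Helper19.DefTrunc

section Deriv

variable {k : Type u} [Field k] {n : ℕ} {D : Type u} [CommRing D] [Algebra k D] {τ : D}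
  (e : (k[X] ⧸ Ideal.span {(X : k[X]) ^ (n + 1)}) ≃ₐ[k] D)
  (he : e (Ideal.Quotient.mk (Ideal.span {(X : k[X]) ^ (n + 1)}) X) = τ)
  {B : Type u} [CommRing B] [Algebra k B] [Algebra D B] [IsScalarTower k D B]
  {t : B} (ht : t = algebraMap D B τ)

include he ht

theorem exists_derivation [Algebra.FormallySmooth D B] :
    ∃ δ : Derivation k B (B ⧸ Ideal.span {t ^ n}), δ t = 1 := by
  classical
  have htn : (Ideal.Quotient.mk (Ideal.span {t ^ n}) t) ^ n = 0 := by
    rw [← map_pow]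
    exact Ideal.Quotient.eq_zero_iff_mem.2 (Ideal.mem_span_singleton_self _)
  obtain ⟨z, hzdef⟩ : ∃ z : TrivSqZeroExt (B ⧸ Ideal.span {t ^ n}) (B ⧸ Ideal.span {t ^ n}),
      z = TrivSqZeroExt.inl (Ideal.Quotient.mk (Ideal.span {t ^ n}) t) + TrivSqZeroExt.inr 1 :=
    ⟨_, rfl⟩
  have hz : z ^ (n + 1) = 0 := by
    rw [hzdef]
    exact (Commute.all _ _).add_pow_eq_zero_of_add_le_succ_of_pow_eq_zero (m := n) (n := 2)
      (by rw [TrivSqZeroExt.inl_pow, htn, TrivSqZeroExt.inl_zero])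
      (by rw [pow_two, TrivSqZeroExt.inr_mul_inr]) (by omega)
  have hzfst : z.fst = Ideal.Quotient.mk (Ideal.span {t ^ n}) t := by
    rw [hzdef, TrivSqZeroExt.fst_add, TrivSqZeroExt.fst_inl, TrivSqZeroExt.fst_inr, add_zero]
  have hzsnd : z.snd = 1 := by
    rw [hzdef, TrivSqZeroExt.snd_add, TrivSqZeroExt.snd_inl, TrivSqZeroExt.snd_inr, zero_add]
  -- the twisted structure map `D → B'[ε]`, `τ ↦ t + ε`
  let ρ₀ : (k[X] ⧸ Ideal.span {(X : k[X]) ^ (n + 1)}) →ₐ[k]
      TrivSqZeroExt (B ⧸ Ideal.span {t ^ n}) (B ⧸ Ideal.span {t ^ n}) :=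
    Ideal.Quotient.liftₐ _ (aeval z) (by
      intro a ha
      obtain ⟨q, rfl⟩ := Ideal.mem_span_singleton'.1 ha
      rw [map_mul, map_pow, aeval_X, hz, mul_zero])
  have hρ₀ : ∀ p : k[X], ρ₀ (Ideal.Quotient.mk _ p) = aeval z p := fun p => rfl
  let ρ : D →ₐ[k] TrivSqZeroExt (B ⧸ Ideal.span {t ^ n}) (B ⧸ Ideal.span {t ^ n}) :=
    ρ₀.comp (e.symm : D →ₐ[k] (k[X] ⧸ Ideal.span {(X : k[X]) ^ (n + 1)}))
  have hρ : ∀ p : k[X], ρ (aeval τ p) = aeval z p := by
    intro p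
    show ρ₀ (e.symm (aeval τ p)) = aeval z p
    rw [← e_mk e he, AlgEquiv.symm_apply_apply, hρ₀]
  have hρfst : ∀ d : D, (ρ d).fst = algebraMap D (B ⧸ Ideal.span {t ^ n}) d := by
    intro d
    obtain ⟨p, rfl⟩ := exists_aeval e he d
    rw [hρ]
    have h1 : (aeval z p).fst = aeval z.fst p := by
      have := Polynomial.aeval_algHom_apply
        (TrivSqZeroExt.fstHom k (B ⧸ Ideal.span {t ^ n}) (B ⧸ Ideal.span {t ^ n})) z p
      exact this.symm
    rw [h1, hzfst, ← Polynomial.aeval_algebraMap_apply]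
    congr 1
    rw [IsScalarTower.algebraMap_apply D B (B ⧸ Ideal.span {t ^ n}), ← ht]
    rfl
  letI algDC : Algebra D (TrivSqZeroExt (B ⧸ Ideal.span {t ^ n}) (B ⧸ Ideal.span {t ^ n})) :=
    ρ.toRingHom.toAlgebra
  let g : TrivSqZeroExt (B ⧸ Ideal.span {t ^ n}) (B ⧸ Ideal.span {t ^ n}) →ₐ[D]
      (B ⧸ Ideal.span {t ^ n}) :=
    { (TrivSqZeroExt.fstHom k (B ⧸ Ideal.span {t ^ n}) (B ⧸ Ideal.span {t ^ n})).toRingHom with
      commutes' := fun d => hρfst d }
  have hgfst : ∀ x, g x = x.fst := fun _ => rfl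
  let f : B →ₐ[D] (B ⧸ Ideal.span {t ^ n}) := IsScalarTower.toAlgHom D B (B ⧸ Ideal.span {t ^ n})
  have hf : ∀ b, f b = Ideal.Quotient.mk (Ideal.span {t ^ n}) b := fun _ => rfl
  have hg : Function.Surjective g := fun x => ⟨TrivSqZeroExt.inl x, rfl⟩
  have hg' : IsNilpotent (RingHom.ker (g : TrivSqZeroExt (B ⧸ Ideal.span {t ^ n})
      (B ⧸ Ideal.span {t ^ n}) →+* (B ⧸ Ideal.span {t ^ n}))) := by
    refine ⟨2, ?_⟩
    have h : RingHom.ker (g : TrivSqZeroExt (B ⧸ Ideal.span {t ^ n})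
        (B ⧸ Ideal.span {t ^ n}) →+* (B ⧸ Ideal.span {t ^ n})) *
        RingHom.ker (g : TrivSqZeroExt (B ⧸ Ideal.span {t ^ n})
        (B ⧸ Ideal.span {t ^ n}) →+* (B ⧸ Ideal.span {t ^ n})) = ⊥ := by
      rw [eq_bot_iff, Ideal.mul_le]
      intro r hr s hs
      rw [Ideal.mem_bot]
      exact tsz_mul_eq_zero r s (RingHom.mem_ker.1 hr) (RingHom.mem_ker.1 hs)
    have h2 := pow_two (RingHom.ker (g : TrivSqZeroExt (B ⧸ Ideal.span {t ^ n})
        (B ⧸ Ideal.span {t ^ n}) →+* (B ⧸ Ideal.span {t ^ n})))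
    exact h2.trans h
  obtain ⟨Θ, hΘ1, hΘ2⟩ : ∃ Θ : B →+* TrivSqZeroExt (B ⧸ Ideal.span {t ^ n})
      (B ⧸ Ideal.span {t ^ n}),
      (∀ b, (Θ b).fst = Ideal.Quotient.mk (Ideal.span {t ^ n}) b) ∧
      ∀ d : D, Θ (algebraMap D B d) = ρ d := by
    refine ⟨(Algebra.FormallySmooth.liftOfSurjective f g hg hg').toRingHom, ?_, ?_⟩
    · intro b
      have := Algebra.FormallySmooth.liftOfSurjective_apply f g hg hg' b
      rw [hgfst, hf] at this
      exact this
    · intro d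
      exact (Algebra.FormallySmooth.liftOfSurjective f g hg hg').commutes d
  have hΘsmul : ∀ (c : k) (b : B), Θ (c • b) = c • Θ b := by
    intro c b
    rw [Algebra.smul_def, map_mul, IsScalarTower.algebraMap_apply k D B, hΘ2, AlgHom.commutes,
      ← Algebra.smul_def]
  let L : B →ₗ[k] (B ⧸ Ideal.span {t ^ n}) :=
    { toFun := fun b => (Θ b).snd
      map_add' := fun a b => by rw [map_add, TrivSqZeroExt.snd_add]
      map_smul' := fun c b => by
        rw [hΘsmul, TrivSqZeroExt.snd_smul]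
        rfl }
  have hL : ∀ b, L b = (Θ b).snd := fun _ => rfl
  refine ⟨Derivation.mk' L ?_, ?_⟩
  · intro a b
    rw [hL, hL, hL, map_mul, TrivSqZeroExt.snd_mul, hΘ1, hΘ1, op_smul_eq_smul, smul_eq_mul,
      smul_eq_mul, Algebra.smul_def, Algebra.smul_def, Ideal.Quotient.algebraMap_eq]
  · show (Θ t).snd = 1
    have h1 : Θ t = z := by
      have h2 := hΘ2 τ
      rw [← ht] at h2
      have h3 := hρ X
      rw [aeval_X, aeval_X] at h3
      rw [h2, h3]
    rw [h1, hzsnd]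

end Deriv

section Seq

variable {k : Type u} [Field k] {n : ℕ} {D : Type u} [CommRing D] [Algebra k D] {τ : D}
  (e : (k[X] ⧸ Ideal.span {(X : k[X]) ^ (n + 1)}) ≃ₐ[k] D)
  (he : e (Ideal.Quotient.mk (Ideal.span {(X : k[X]) ^ (n + 1)}) X) = τ)
  {B : Type u} [CommRing B] [Algebra k B] [Algebra D B] [IsScalarTower k D B]
  {t : B} (ht : t = algebraMap D B τ)

omit [Field k] in
theorem one_tmul_smul {k : Type u} [CommRing k] {B : Type u} [CommRing B] [Algebra k B]
    (I : Ideal B) (β : B) (ω : Ω[B⁄k]) :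
    (1 : B ⧸ I) ⊗ₜ[B] (β • ω) = Ideal.Quotient.mk I β • ((1 : B ⧸ I) ⊗ₜ[B] ω) := by
  rw [TensorProduct.tmul_smul, ← algebraMap_smul (B ⧸ I) β, Ideal.Quotient.algebraMap_eq]

omit [Field k] in
theorem tmul_eq_smul_one_tmul {k : Type u} [CommRing k] {B : Type u} [CommRing B] [Algebra k B]
    (I : Ideal B) (c : B ⧸ I) (ω : Ω[B⁄k]) :
    c ⊗ₜ[B] ω = c • ((1 : B ⧸ I) ⊗ₜ[B] ω) := by
  rw [TensorProduct.smul_tmul', smul_eq_mul, mul_one]

include he ht

theorem toSpanSingleton_injective [Algebra.FormallySmooth D B] :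
    Function.Injective (LinearMap.toSpanSingleton (B ⧸ Ideal.span {t ^ n})
      ((B ⧸ Ideal.span {t ^ n}) ⊗[B] Ω[B⁄k])
      ((1 : (B ⧸ Ideal.span {t ^ n})) ⊗ₜ[B] KaehlerDifferential.D k B t)) := by
  obtain ⟨δ, hδ⟩ := exists_derivation e he ht
  apply Function.LeftInverse.injective
    (g := LinearMap.liftBaseChange (B ⧸ Ideal.span {t ^ n}) δ.liftKaehlerDifferential)
  intro c
  rw [LinearMap.toSpanSingleton_apply, map_smul, LinearMap.liftBaseChange_tmul,
    Derivation.liftKaehlerDifferential_comp_D, hδ, smul_eq_mul, smul_eq_mul, mul_one, mul_one]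

theorem baseChange_surjective :
    Function.Surjective (LinearMap.baseChange (B ⧸ Ideal.span {t ^ n})
      (KaehlerDifferential.map k D B B)) := by
  rw [LinearMap.baseChange_eq_ltensor]
  exact LinearMap.lTensor_surjective _ (KaehlerDifferential.map_surjective k D B)

theorem lTensor_mem (w : (B ⧸ Ideal.span {t ^ n}) ⊗[B] (B ⊗[D] Ω[D⁄k])) :
    ∃ c : B ⧸ Ideal.span {t ^ n},
      (KaehlerDifferential.mapBaseChange k D B).lTensor (B ⧸ Ideal.span {t ^ n}) w =
        c • ((1 : (B ⧸ Ideal.span {t ^ n})) ⊗ₜ[B] KaehlerDifferential.D k B t) := by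
  induction w using TensorProduct.induction_on with
  | zero => exact ⟨0, by rw [map_zero, zero_smul]⟩
  | tmul c₀ v =>
    obtain ⟨a, ha⟩ := mapBaseChange_mem e he B v
    refine ⟨c₀ * Ideal.Quotient.mk _ a, ?_⟩
    rw [LinearMap.lTensor_tmul, ha, ← ht, tmul_eq_smul_one_tmul, one_tmul_smul, smul_smul]
  | add x y hx hy =>
    obtain ⟨a, ha⟩ := hx
    obtain ⟨b, hb⟩ := hy
    exact ⟨a + b, by rw [map_add, ha, hb, add_smul]⟩

theorem baseChange_exact :
    Function.Exact (LinearMap.toSpanSingleton (B ⧸ Ideal.span {t ^ n})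
      ((B ⧸ Ideal.span {t ^ n}) ⊗[B] Ω[B⁄k])
      ((1 : (B ⧸ Ideal.span {t ^ n})) ⊗ₜ[B] KaehlerDifferential.D k B t))
      (LinearMap.baseChange (B ⧸ Ideal.span {t ^ n}) (KaehlerDifferential.map k D B B)) := by
  intro y
  constructor
  · intro hy
    have hy' : (KaehlerDifferential.map k D B B).lTensor (B ⧸ Ideal.span {t ^ n}) y = 0 := by
      rw [← hy, LinearMap.baseChange_eq_ltensor]
    obtain ⟨w, rfl⟩ := (lTensor_exact (B ⧸ Ideal.span {t ^ n})
      (KaehlerDifferential.exact_mapBaseChange_map k D B)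
      (KaehlerDifferential.map_surjective k D B) y).1 hy'
    obtain ⟨c, hc⟩ := lTensor_mem e he ht w
    exact ⟨c, by rw [LinearMap.toSpanSingleton_apply, hc]⟩
  · rintro ⟨c, rfl⟩
    rw [LinearMap.toSpanSingleton_apply, map_smul, LinearMap.baseChange_tmul,
      KaehlerDifferential.map_D]
    have h0 : KaehlerDifferential.D D B (algebraMap B B t) = 0 := by
      show KaehlerDifferential.D D B t = 0
      rw [ht, Derivation.map_algebraMap]
    rw [h0, TensorProduct.tmul_zero, smul_zero]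

theorem projective_tensor [Algebra.FormallySmooth D B] :
    Module.Projective (B ⧸ Ideal.span {t ^ n}) ((B ⧸ Ideal.span {t ^ n}) ⊗[B] Ω[B⁄k]) := by
  obtain ⟨δ, hδ⟩ := exists_derivation e he ht
  have hli : ∀ c : B ⧸ Ideal.span {t ^ n},
      LinearMap.liftBaseChange (B ⧸ Ideal.span {t ^ n}) δ.liftKaehlerDifferential
        (LinearMap.toSpanSingleton (B ⧸ Ideal.span {t ^ n})
          ((B ⧸ Ideal.span {t ^ n}) ⊗[B] Ω[B⁄k])
          ((1 : (B ⧸ Ideal.span {t ^ n})) ⊗ₜ[B] KaehlerDifferential.D k B t) c) = c := by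
    intro c
    rw [LinearMap.toSpanSingleton_apply, map_smul, LinearMap.liftBaseChange_tmul,
      Derivation.liftKaehlerDifferential_comp_D, hδ, smul_eq_mul, smul_eq_mul, mul_one, mul_one]
  have hexact := baseChange_exact (k := k) e he ht
  have hsurj := baseChange_surjective (k := k) e he ht
  have hpi : ∀ c : B ⧸ Ideal.span {t ^ n},
      LinearMap.baseChange (B ⧸ Ideal.span {t ^ n}) (KaehlerDifferential.map k D B B)
        (LinearMap.toSpanSingleton (B ⧸ Ideal.span {t ^ n})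
          ((B ⧸ Ideal.span {t ^ n}) ⊗[B] Ω[B⁄k])
          ((1 : (B ⧸ Ideal.span {t ^ n})) ⊗ₜ[B] KaehlerDifferential.D k B t) c) = 0 :=
    fun c => (hexact _).2 ⟨c, rfl⟩
  have hφ : Function.Bijective
      ((LinearMap.liftBaseChange (B ⧸ Ideal.span {t ^ n}) δ.liftKaehlerDifferential).prod
        (LinearMap.baseChange (B ⧸ Ideal.span {t ^ n}) (KaehlerDifferential.map k D B B))) := by
    constructor
    · rw [injective_iff_map_eq_zero]
      intro x hx
      have h1 : LinearMap.liftBaseChange (B ⧸ Ideal.span {t ^ n}) δ.liftKaehlerDifferential x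
          = 0 := congrArg Prod.fst hx
      have h2 : LinearMap.baseChange (B ⧸ Ideal.span {t ^ n}) (KaehlerDifferential.map k D B B) x
          = 0 := congrArg Prod.snd hx
      obtain ⟨c, rfl⟩ := (hexact x).1 h2
      rw [hli] at h1
      rw [h1, map_zero]
    · rintro ⟨c, m⟩
      obtain ⟨x₀, hx₀⟩ := hsurj m
      refine ⟨x₀ + LinearMap.toSpanSingleton (B ⧸ Ideal.span {t ^ n})
          ((B ⧸ Ideal.span {t ^ n}) ⊗[B] Ω[B⁄k])
          ((1 : (B ⧸ Ideal.span {t ^ n})) ⊗ₜ[B] KaehlerDifferential.D k B t)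
          (c - LinearMap.liftBaseChange (B ⧸ Ideal.span {t ^ n}) δ.liftKaehlerDifferential x₀), ?_⟩
      apply Prod.ext
      · show LinearMap.liftBaseChange (B ⧸ Ideal.span {t ^ n}) δ.liftKaehlerDifferential _ = c
        rw [map_add, hli]
        ring
      · show LinearMap.baseChange (B ⧸ Ideal.span {t ^ n}) (KaehlerDifferential.map k D B B) _ = m
        rw [map_add, hpi, add_zero, hx₀]
  exact Module.Projective.of_equiv (LinearEquiv.ofBijective _ hφ).symm

end Seq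

end Groth.Agent.Lib.Helper19.DefTrunc
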