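import Mathlib
import Groth.Agent.Lib.Helper19.DefTrunc2

/-!
# Flat deformations of smooth algebras over `k[τ]/(τ^(n+1))`, part 3 (helper19)

The fibre-product descriptions of `B` and of `Ω_{B/k}` (characteristic zero).
-/

set_option autoImplicit false
universe u
open Polynomial TensorProduct

namespace Groth.Agent.Lib.Helper19.DefTrunc

section General

variable {k : Type u} [Field k] {n : ℕ} {D : Type u} [CommRing D] [Algebra k D]
  {B : Type u} [CommRing B] [Algebra k B] [Algebra D B] [IsScalarTower k D B] {t : B}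

theorem one_tmul_D_mul_pow (b : B) :
    (1 : B ⧸ Ideal.span {t ^ n}) ⊗ₜ[B] KaehlerDifferential.D k B (b * t ^ n) =
      Ideal.Quotient.mk (Ideal.span {t ^ n}) (b * (n : B) * t ^ (n - 1)) •
        ((1 : B ⧸ Ideal.span {t ^ n}) ⊗ₜ[B] KaehlerDifferential.D k B t) := by
  have h1 : KaehlerDifferential.D k B (b * t ^ n) =
      (b * (n : B) * t ^ (n - 1)) • KaehlerDifferential.D k B t +
        t ^ n • KaehlerDifferential.D k B b := by
    rw [Derivation.leibniz, Derivation.leibniz_pow, ← Nat.cast_smul_eq_nsmul B, smul_smul,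
      smul_smul]
  rw [h1, TensorProduct.tmul_add, one_tmul_smul, one_tmul_smul,
    Ideal.Quotient.eq_zero_iff_mem.2 (Ideal.mem_span_singleton_self (t ^ n)), zero_smul, add_zero]

theorem mu_range :
    Set.range (fun f : B =>
      ((Ideal.Quotient.mk (Ideal.span {t ^ n}) f,
        (1 : (B ⧸ Ideal.span {t ^ n})) ⊗ₜ[B] KaehlerDifferential.D k B f) :
          (B ⧸ Ideal.span {t ^ n}) × ((B ⧸ Ideal.span {t ^ n}) ⊗[B] Ω[B⁄k]))) =
      {p | KaehlerDifferential.D k (B ⧸ Ideal.span {t ^ n}) p.1 =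
        KaehlerDifferential.mapBaseChange k B (B ⧸ Ideal.span {t ^ n}) p.2} := by
  ext ⟨g, α⟩
  constructor
  · rintro ⟨f, hf⟩
    have h1 : Ideal.Quotient.mk (Ideal.span {t ^ n}) f = g := congrArg Prod.fst hf
    have h2 : (1 : (B ⧸ Ideal.span {t ^ n})) ⊗ₜ[B] KaehlerDifferential.D k B f = α :=
      congrArg Prod.snd hf
    show KaehlerDifferential.D k (B ⧸ Ideal.span {t ^ n}) g =
      KaehlerDifferential.mapBaseChange k B (B ⧸ Ideal.span {t ^ n}) α
    rw [← h1, ← h2, KaehlerDifferential.mapBaseChange_tmul, one_smul, KaehlerDifferential.map_D]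
    rfl
  · intro h
    have h' : KaehlerDifferential.D k (B ⧸ Ideal.span {t ^ n}) g =
      KaehlerDifferential.mapBaseChange k B (B ⧸ Ideal.span {t ^ n}) α := h
    obtain ⟨f₀, rfl⟩ := Ideal.Quotient.mk_surjective g
    have hγ : KaehlerDifferential.mapBaseChange k B (B ⧸ Ideal.span {t ^ n})
        (α - (1 : (B ⧸ Ideal.span {t ^ n})) ⊗ₜ[B] KaehlerDifferential.D k B f₀) = 0 := by
      rw [map_sub, ← h', KaehlerDifferential.mapBaseChange_tmul, one_smul,
        KaehlerDifferential.map_D, sub_eq_zero]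
      rfl
    obtain ⟨ξ, hξ⟩ := (KaehlerDifferential.exact_kerCotangentToTensor_mapBaseChange k B
      (B ⧸ Ideal.span {t ^ n}) Ideal.Quotient.mk_surjective _).1 hγ
    obtain ⟨x, rfl⟩ := Ideal.toCotangent_surjective _ ξ
    rw [KaehlerDifferential.kerCotangentToTensor_toCotangent] at hξ
    have hx : Ideal.Quotient.mk (Ideal.span {t ^ n}) (x : B) = 0 := by
      have h3 := x.2
      rw [RingHom.mem_ker] at h3
      exact h3
    refine ⟨f₀ + x, ?_⟩
    apply Prod.ext
    · show Ideal.Quotient.mk (Ideal.span {t ^ n}) (f₀ + x) =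
        Ideal.Quotient.mk (Ideal.span {t ^ n}) f₀
      rw [map_add, hx, add_zero]
    · show (1 : (B ⧸ Ideal.span {t ^ n})) ⊗ₜ[B] KaehlerDifferential.D k B (f₀ + x) = α
      rw [map_add, TensorProduct.tmul_add, hξ]
      abel

theorem map_map_eq (η : Ω[B⁄k]) :
    KaehlerDifferential.map D D B (B ⧸ Ideal.span {t ^ n}) (KaehlerDifferential.map k D B B η) =
      KaehlerDifferential.map k D (B ⧸ Ideal.span {t ^ n}) (B ⧸ Ideal.span {t ^ n})
        (KaehlerDifferential.map k k B (B ⧸ Ideal.span {t ^ n}) η) := by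
  have hη : η ∈ Submodule.span B (Set.range (KaehlerDifferential.D k B)) := by
    rw [KaehlerDifferential.span_range_derivation]; trivial
  refine Submodule.span_induction (p := fun η _ =>
    KaehlerDifferential.map D D B (B ⧸ Ideal.span {t ^ n}) (KaehlerDifferential.map k D B B η) =
      KaehlerDifferential.map k D (B ⧸ Ideal.span {t ^ n}) (B ⧸ Ideal.span {t ^ n})
        (KaehlerDifferential.map k k B (B ⧸ Ideal.span {t ^ n}) η)) ?_ ?_ ?_ ?_ hη
  · rintro _ ⟨x, rfl⟩
    rw [KaehlerDifferential.map_D, KaehlerDifferential.map_D, KaehlerDifferential.map_D,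
      KaehlerDifferential.map_D]
    rfl
  · rw [map_zero, map_zero, map_zero, map_zero]
  · intro x y _ _ hx hy
    rw [map_add, map_add, map_add, map_add, hx, hy]
  · intro b x _ hx
    rw [map_smul, map_smul, map_smul, LinearMap.map_smul_of_tower, hx]

end General

section MuNu

variable {k : Type u} [Field k] [CharZero k] {n : ℕ} {D : Type u} [CommRing D] [Algebra k D]
  {τ : D}
  (e : (k[X] ⧸ Ideal.span {(X : k[X]) ^ (n + 1)}) ≃ₐ[k] D)
  (he : e (Ideal.Quotient.mk (Ideal.span {(X : k[X]) ^ (n + 1)}) X) = τ)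
  {B : Type u} [CommRing B] [Algebra k B] [Algebra D B] [IsScalarTower k D B]
  {t : B} (ht : t = algebraMap D B τ)

include he ht

theorem mu_injective (hn : 1 ≤ n) [Algebra.FormallySmooth D B] :
    Function.Injective (fun f : B =>
      ((Ideal.Quotient.mk (Ideal.span {t ^ n}) f,
        (1 : (B ⧸ Ideal.span {t ^ n})) ⊗ₜ[B] KaehlerDifferential.D k B f) :
          (B ⧸ Ideal.span {t ^ n}) × ((B ⧸ Ideal.span {t ^ n}) ⊗[B] Ω[B⁄k]))) := by
  intro f f' h
  have h1 : Ideal.Quotient.mk (Ideal.span {t ^ n}) f =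
      Ideal.Quotient.mk (Ideal.span {t ^ n}) f' := congrArg Prod.fst h
  have h2 : (1 : (B ⧸ Ideal.span {t ^ n})) ⊗ₜ[B] KaehlerDifferential.D k B f =
      (1 : (B ⧸ Ideal.span {t ^ n})) ⊗ₜ[B] KaehlerDifferential.D k B f' := congrArg Prod.snd h
  have h3 : f - f' ∈ Ideal.span {t ^ n} := by
    rw [← Ideal.Quotient.eq_zero_iff_mem, map_sub, h1, sub_self]
  obtain ⟨a, ha⟩ := Ideal.mem_span_singleton'.1 h3
  have h4 : (1 : (B ⧸ Ideal.span {t ^ n})) ⊗ₜ[B] KaehlerDifferential.D k B (a * t ^ n) = 0 := by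
    rw [ha, map_sub, TensorProduct.tmul_sub, h2, sub_self]
  rw [one_tmul_D_mul_pow] at h4
  have h5 : Ideal.Quotient.mk (Ideal.span {t ^ n}) (a * (n : B) * t ^ (n - 1)) = 0 := by
    apply toSpanSingleton_injective (k := k) e he ht
    rw [LinearMap.toSpanSingleton_apply, h4, map_zero]
  obtain ⟨c, hc⟩ := Ideal.mem_span_singleton'.1 (Ideal.Quotient.eq_zero_iff_mem.1 h5)
  have h6 : (n : B) * (f - f') = 0 := by
    rw [← ha]
    have hpow : t ^ n = t ^ (n - 1) * t := by rw [← pow_succ, Nat.sub_add_cancel hn]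
    calc (n : B) * (a * t ^ n) = (a * (n : B) * t ^ (n - 1)) * t := by rw [hpow]; ring
      _ = c * t ^ (n + 1) := by rw [← hc]; ring
      _ = 0 := by rw [t_pow e he ht, mul_zero]
  have hnk : (n : k) ≠ 0 := Nat.cast_ne_zero.2 (by omega)
  have h7 : f - f' = algebraMap k B ((n : k)⁻¹) * ((n : B) * (f - f')) := by
    rw [← mul_assoc, ← map_natCast (algebraMap k B) n, ← map_mul, inv_mul_cancel₀ hnk, map_one,
      one_mul]
  rw [h6, mul_zero] at h7
  exact sub_eq_zero.1 h7

theorem pow_smul_D_eq_zero : t ^ n • KaehlerDifferential.D k B t = 0 := by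
  have h1 : KaehlerDifferential.D k B (t ^ (n + 1)) = 0 := by rw [t_pow e he ht, map_zero]
  rw [Derivation.leibniz_pow, Nat.add_sub_cancel, ← Nat.cast_smul_eq_nsmul k] at h1
  rcases smul_eq_zero.1 h1 with h | h
  · exact absurd h (Nat.cast_ne_zero.2 (Nat.succ_ne_zero n))
  · exact h

theorem nu_injective [Algebra.FormallySmooth D B] :
    Function.Injective (fun η : Ω[B⁄k] =>
      ((KaehlerDifferential.map k D B B η, (1 : (B ⧸ Ideal.span {t ^ n})) ⊗ₜ[B] η) :
        Ω[B⁄D] × ((B ⧸ Ideal.span {t ^ n}) ⊗[B] Ω[B⁄k]))) := by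
  intro η η' h
  have h1 : KaehlerDifferential.map k D B B η = KaehlerDifferential.map k D B B η' :=
    congrArg Prod.fst h
  have h2 : (1 : (B ⧸ Ideal.span {t ^ n})) ⊗ₜ[B] η =
      (1 : (B ⧸ Ideal.span {t ^ n})) ⊗ₜ[B] η' := congrArg Prod.snd h
  have h3 : KaehlerDifferential.map k D B B (η - η') = 0 := by rw [map_sub, h1, sub_self]
  obtain ⟨v, hv⟩ := (KaehlerDifferential.exact_mapBaseChange_map k D B (η - η')).1 h3
  obtain ⟨a, ha⟩ := mapBaseChange_mem e he B v
  rw [hv, ← ht] at ha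
  have h4 : Ideal.Quotient.mk (Ideal.span {t ^ n}) a = 0 := by
    apply toSpanSingleton_injective (k := k) e he ht
    rw [LinearMap.toSpanSingleton_apply, map_zero, ← one_tmul_smul, ← ha, TensorProduct.tmul_sub,
      h2, sub_self]
  obtain ⟨c, hc⟩ := Ideal.mem_span_singleton'.1 (Ideal.Quotient.eq_zero_iff_mem.1 h4)
  have h5 : η - η' = 0 := by
    rw [ha, ← hc, mul_smul, pow_smul_D_eq_zero e he ht, smul_zero]
  exact sub_eq_zero.1 h5

theorem nu_range :
    Set.range (fun η : Ω[B⁄k] =>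
      ((KaehlerDifferential.map k D B B η, (1 : (B ⧸ Ideal.span {t ^ n})) ⊗ₜ[B] η) :
        Ω[B⁄D] × ((B ⧸ Ideal.span {t ^ n}) ⊗[B] Ω[B⁄k]))) =
      {p | KaehlerDifferential.map D D B (B ⧸ Ideal.span {t ^ n}) p.1 =
        KaehlerDifferential.map k D (B ⧸ Ideal.span {t ^ n}) (B ⧸ Ideal.span {t ^ n})
          (KaehlerDifferential.mapBaseChange k B (B ⧸ Ideal.span {t ^ n}) p.2)} := by
  ext ⟨α, β⟩
  constructor
  · rintro ⟨η, hη⟩
    have h1 : KaehlerDifferential.map k D B B η = α := congrArg Prod.fst hη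
    have h2 : (1 : (B ⧸ Ideal.span {t ^ n})) ⊗ₜ[B] η = β := congrArg Prod.snd hη
    show KaehlerDifferential.map D D B (B ⧸ Ideal.span {t ^ n}) α =
      KaehlerDifferential.map k D (B ⧸ Ideal.span {t ^ n}) (B ⧸ Ideal.span {t ^ n})
        (KaehlerDifferential.mapBaseChange k B (B ⧸ Ideal.span {t ^ n}) β)
    rw [← h1, ← h2, KaehlerDifferential.mapBaseChange_tmul, one_smul, map_map_eq]
  · intro h
    have h' : KaehlerDifferential.map D D B (B ⧸ Ideal.span {t ^ n}) α =
      KaehlerDifferential.map k D (B ⧸ Ideal.span {t ^ n}) (B ⧸ Ideal.span {t ^ n})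
        (KaehlerDifferential.mapBaseChange k B (B ⧸ Ideal.span {t ^ n}) β) := h
    obtain ⟨η₀, rfl⟩ := KaehlerDifferential.map_surjective k D B α
    have hu : KaehlerDifferential.map k D (B ⧸ Ideal.span {t ^ n}) (B ⧸ Ideal.span {t ^ n})
        (KaehlerDifferential.mapBaseChange k B (B ⧸ Ideal.span {t ^ n})
          (β - (1 : (B ⧸ Ideal.span {t ^ n})) ⊗ₜ[B] η₀)) = 0 := by
      rw [map_sub, map_sub, ← h', KaehlerDifferential.mapBaseChange_tmul, one_smul, map_map_eq,
        sub_self]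
    obtain ⟨v, hv⟩ := (KaehlerDifferential.exact_mapBaseChange_map k D
      (B ⧸ Ideal.span {t ^ n}) _).1 hu
    obtain ⟨a', ha'⟩ := mapBaseChange_mem e he (B ⧸ Ideal.span {t ^ n}) v
    rw [hv] at ha'
    obtain ⟨c₀, rfl⟩ := Ideal.Quotient.mk_surjective a'
    have hτ : algebraMap D (B ⧸ Ideal.span {t ^ n}) τ =
        Ideal.Quotient.mk (Ideal.span {t ^ n}) t := by
      rw [IsScalarTower.algebraMap_apply D B (B ⧸ Ideal.span {t ^ n}), ← ht]
      rfl
    rw [hτ] at ha'
    have hγ₂ : KaehlerDifferential.mapBaseChange k B (B ⧸ Ideal.span {t ^ n})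
        (β - (1 : (B ⧸ Ideal.span {t ^ n})) ⊗ₜ[B] η₀ -
          Ideal.Quotient.mk (Ideal.span {t ^ n}) c₀ •
            ((1 : (B ⧸ Ideal.span {t ^ n})) ⊗ₜ[B] KaehlerDifferential.D k B t)) = 0 := by
      rw [map_sub, ha', map_smul, KaehlerDifferential.mapBaseChange_tmul, one_smul,
        KaehlerDifferential.map_D, sub_eq_zero]
      rfl
    obtain ⟨ξ, hξ⟩ := (KaehlerDifferential.exact_kerCotangentToTensor_mapBaseChange k B
      (B ⧸ Ideal.span {t ^ n}) Ideal.Quotient.mk_surjective _).1 hγ₂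
    obtain ⟨x, rfl⟩ := Ideal.toCotangent_surjective _ ξ
    rw [KaehlerDifferential.kerCotangentToTensor_toCotangent] at hξ
    have hx : (x : B) ∈ Ideal.span {t ^ n} := by
      have h3 : algebraMap B (B ⧸ Ideal.span {t ^ n}) (x : B) = 0 := RingHom.mem_ker.1 x.2
      exact Ideal.Quotient.eq_zero_iff_mem.1 h3
    obtain ⟨b, hb⟩ := Ideal.mem_span_singleton'.1 hx
    rw [← hb, one_tmul_D_mul_pow] at hξ
    refine ⟨η₀ + (c₀ + b * (n : B) * t ^ (n - 1)) • KaehlerDifferential.D k B t, ?_⟩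
    apply Prod.ext
    · show KaehlerDifferential.map k D B B
        (η₀ + (c₀ + b * (n : B) * t ^ (n - 1)) • KaehlerDifferential.D k B t) =
          KaehlerDifferential.map k D B B η₀
      have h0 : KaehlerDifferential.D D B (algebraMap B B t) = 0 := by
        show KaehlerDifferential.D D B t = 0
        rw [ht, Derivation.map_algebraMap]
      rw [map_add, map_smul, KaehlerDifferential.map_D, h0, smul_zero, add_zero]
    · show (1 : (B ⧸ Ideal.span {t ^ n})) ⊗ₜ[B]
        (η₀ + (c₀ + b * (n : B) * t ^ (n - 1)) • KaehlerDifferential.D k B t) = β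
      rw [TensorProduct.tmul_add, one_tmul_smul, map_add, add_smul, hξ]
      abel

end MuNu

end Groth.Agent.Lib.Helper19.DefTrunc
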