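import Mathlib
import Groth.Prelude.Def_ArtFun4
import Groth.Prelude.Def_Exal
import Groth.Agent.Lib.Helper19.AffDefAlg
import Groth.Agent.Lib.Helper19.AffDefExt
import Groth.Agent.Lib.Helper19.SmObsFlat

/-!
# Extensions of an affine deformation over a semismall extension, part 1 (helper19)

`p : C' ⟶ C` a surjection of local Artinian `k`-algebras with kernel `J` killed by the maximal
ideal of `C'`, `D` an algebraic deformation datum of `B₀` over `C`.

* `XExt p D`: an algebraic deformation datum `D'` over `C'` with a ring map `q : D'.R → D.R` over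
  `p`, compatible with the projections to `B₀`, surjective with kernel `J D'.R`;
* `uu`: the canonical additive map `B₀ ⊗[k] J → D'.R`, `π r ⊗ x ↦ x r`; its image is the kernel of
  `q` (`exists_uu_eq`) and it is injective (`uu_injective`, by flatness).
-/

set_option autoImplicit false
set_option linter.style.haveILetI false
set_option linter.unusedSectionVars false
universe u
open TensorProduct

namespace Groth.Agent.Lib.Helper19.DefX

open ArtFun ArtFun.Art Groth.Agent.Lib.Helper19.AffDef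

variable {k : Type u} [Field k] {C' C : Art k k} (p : C' ⟶ C) {B₀ : Type u} [CommRing B₀]
  [Algebra k B₀]

section Basic

variable {p}

lemma mul_eq_zero_of_mem (hp : IsSemismallExt p) {m x : C'}
    (hm : m ∈ IsLocalRing.maximalIdeal C') (hx : x ∈ RingHom.ker p.toAlgHom) : m * x = 0 := by
  have h := Ideal.mul_mem_mul hm hx
  rw [hp.2] at h
  exact (Submodule.mem_bot C').1 h

lemma res_eq_zero_of_mem {x : C'} (hx : x ∈ RingHom.ker p.toAlgHom) : C'.res x = 0 := by
  have h := res_app p x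
  have hx' : p.toAlgHom x = 0 := hx
  change C.res (p.toAlgHom x) = C'.res x at h
  rw [hx', map_zero] at h
  exact h.symm

lemma mem_max_of_mem {x : C'} (hx : x ∈ RingHom.ker p.toAlgHom) :
    x ∈ IsLocalRing.maximalIdeal C' :=
  (mem_maximalIdeal_iff C' x).2 (res_eq_zero_of_mem hx)

lemma sub_res_mem (c : C') : c - algebraMap k C' (C'.res c) ∈ IsLocalRing.maximalIdeal C' := by
  rw [mem_maximalIdeal_iff, map_sub, AlgHom.commutes]
  exact sub_self _

variable (D' : AData C' B₀)

lemma alg_mul_eq_zero (hp : IsSemismallExt p) {x : C'} (hx : x ∈ RingHom.ker p.toAlgHom)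
    {r : D'.R} (hr : D'.π r = 0) : algebraMap C' D'.R x * r = 0 := by
  have hr' : r ∈ (IsLocalRing.maximalIdeal C').map (algebraMap C' D'.R) := by
    rw [← D'.h3]
    exact hr
  unfold Ideal.map at hr'
  refine Submodule.span_induction (p := fun r _ => algebraMap C' D'.R x * r = 0) ?_ ?_ ?_ ?_ hr'
  · rintro _ ⟨m, hm, rfl⟩
    rw [← map_mul, mul_comm, mul_eq_zero_of_mem hp hm hx, map_zero]
  · exact mul_zero _
  · intro a b _ _ ha hb
    rw [mul_add, ha, hb, add_zero]
  · intro a b _ hb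
    rw [smul_eq_mul, mul_left_comm, hb, mul_zero]

lemma alg_mul_eq_of_eq (hp : IsSemismallExt p) {x : C'} (hx : x ∈ RingHom.ker p.toAlgHom)
    {r r' : D'.R} (h : D'.π r = D'.π r') : algebraMap C' D'.R x * r = algebraMap C' D'.R x * r' := by
  have h0 : algebraMap C' D'.R x * (r - r') = 0 :=
    alg_mul_eq_zero D' hp hx (by rw [map_sub, h, sub_self])
  rw [mul_sub, sub_eq_zero] at h0
  exact h0

lemma π_lift (b : B₀) : D'.π (Function.surjInv D'.h2 b) = b := Function.surjInv_eq D'.h2 b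

lemma π_alg (c : C') : D'.π (algebraMap C' D'.R c) = algebraMap k B₀ (C'.res c) := D'.h1 c

lemma π_alg_of_mem {m : C'} (hm : m ∈ IsLocalRing.maximalIdeal C') :
    D'.π (algebraMap C' D'.R m) = 0 := by
  rw [π_alg, (mem_maximalIdeal_iff C' m).1 hm, map_zero]

/-- the canonical map `B₀ ⊗ J → D'.R` -/
noncomputable def uu (hp : IsSemismallExt p) : B₀ ⊗[k] ↥(RingHom.ker p.toAlgHom) →+ D'.R :=
  TensorProduct.liftAddHom
    (AddMonoidHom.mk' (fun b₀ : B₀ =>
      AddMonoidHom.mk' (fun x : ↥(RingHom.ker p.toAlgHom) =>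
        algebraMap C' D'.R x.1 * Function.surjInv D'.h2 b₀)
        (fun x y => by
          show algebraMap C' D'.R ((x + y : ↥(RingHom.ker p.toAlgHom)) : C') * _ = _
          rw [Submodule.coe_add, map_add, add_mul]))
      (fun b b' => by
        ext x
        show algebraMap C' D'.R x.1 * Function.surjInv D'.h2 (b + b') =
          algebraMap C' D'.R x.1 * Function.surjInv D'.h2 b +
            algebraMap C' D'.R x.1 * Function.surjInv D'.h2 b'
        rw [← mul_add]
        apply alg_mul_eq_of_eq D' hp x.2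
        rw [map_add, π_lift, π_lift, π_lift]))
    (fun c b x => by
      show algebraMap C' D'.R ((x : ↥(RingHom.ker p.toAlgHom)) : C') *
          Function.surjInv D'.h2 (c • b) =
        algebraMap C' D'.R ((c • x : ↥(RingHom.ker p.toAlgHom)) : C') * Function.surjInv D'.h2 b
      rw [Submodule.coe_smul_of_tower, Algebra.smul_def c (x : C'), map_mul,
        mul_comm (algebraMap C' D'.R (algebraMap k C' c)), mul_assoc]
      apply alg_mul_eq_of_eq D' hp x.2
      rw [map_mul, π_lift, π_lift, π_alg, AlgHom.commutes, Algebra.smul_def]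
      rfl)

lemma uu_tmul (hp : IsSemismallExt p) (r : D'.R) (x : ↥(RingHom.ker p.toAlgHom)) :
    uu D' hp (D'.π r ⊗ₜ[k] x) = algebraMap C' D'.R x.1 * r := by
  show algebraMap C' D'.R x.1 * Function.surjInv D'.h2 (D'.π r) = _
  apply alg_mul_eq_of_eq D' hp x.2
  rw [π_lift]

lemma π_uu (hp : IsSemismallExt p) (n : B₀ ⊗[k] ↥(RingHom.ker p.toAlgHom)) :
    D'.π (uu D' hp n) = 0 := by
  induction n using TensorProduct.induction_on with
  | zero => rw [map_zero, map_zero]
  | tmul b x =>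
    obtain ⟨r, rfl⟩ := D'.h2 b
    rw [uu_tmul, map_mul, π_alg_of_mem D' (mem_max_of_mem x.2), zero_mul]
  | add a b ha hb => rw [map_add, map_add, ha, hb, add_zero]

lemma mul_uu (hp : IsSemismallExt p) (r : D'.R) (n : B₀ ⊗[k] ↥(RingHom.ker p.toAlgHom)) :
    r * uu D' hp n = uu D' hp (D'.π r • n) := by
  induction n using TensorProduct.induction_on with
  | zero => rw [smul_zero, map_zero, mul_zero]
  | tmul b x =>
    obtain ⟨r', rfl⟩ := D'.h2 b
    rw [TensorProduct.smul_tmul', smul_eq_mul, ← map_mul, uu_tmul, uu_tmul]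
    ring
  | add a b ha hb => rw [smul_add, map_add, map_add, mul_add, ha, hb]

lemma alg_mul_uu (hp : IsSemismallExt p) {m : C'} (hm : m ∈ IsLocalRing.maximalIdeal C')
    (n : B₀ ⊗[k] ↥(RingHom.ker p.toAlgHom)) : algebraMap C' D'.R m * uu D' hp n = 0 := by
  rw [mul_uu, π_alg_of_mem D' hm, zero_smul, map_zero]

lemma exists_uu_eq (hp : IsSemismallExt p) {r : D'.R}
    (hr : r ∈ (RingHom.ker p.toAlgHom).map (algebraMap C' D'.R)) :
    ∃ n, uu D' hp n = r := by
  unfold Ideal.map at hr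
  refine Submodule.span_induction (p := fun r _ => ∃ n, uu D' hp n = r) ?_ ?_ ?_ ?_ hr
  · rintro _ ⟨x, hx, rfl⟩
    refine ⟨(1 : B₀) ⊗ₜ[k] ⟨x, hx⟩, ?_⟩
    have h := uu_tmul D' hp 1 ⟨x, hx⟩
    rw [map_one, mul_one] at h
    exact h
  · exact ⟨0, map_zero _⟩
  · rintro a b _ _ ⟨n, rfl⟩ ⟨n', rfl⟩
    exact ⟨n + n', map_add _ _ _⟩
  · rintro a b _ ⟨n, rfl⟩
    exact ⟨D'.π a • n, by rw [smul_eq_mul, mul_uu]⟩

lemma uu_mem (hp : IsSemismallExt p) (n : B₀ ⊗[k] ↥(RingHom.ker p.toAlgHom)) :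
    uu D' hp n ∈ (RingHom.ker p.toAlgHom).map (algebraMap C' D'.R) := by
  induction n using TensorProduct.induction_on with
  | zero =>
    rw [map_zero]
    exact Ideal.zero_mem _
  | tmul b x =>
    obtain ⟨r, rfl⟩ := D'.h2 b
    rw [uu_tmul]
    exact Ideal.mul_mem_right _ _ (Ideal.mem_map_of_mem _ x.2)
  | add a b ha hb =>
    rw [map_add]
    exact Ideal.add_mem _ ha hb

end Basic

section Inj

variable {p} (D' : AData C' B₀)

/-- `C'`-combinations of elements of `J` are `k`-combinations. -/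
lemma mem_span_k (hp : IsSemismallExt p) (S : Set ↥(RingHom.ker p.toAlgHom)) {y : C'}
    (hy : y ∈ Ideal.span ((fun x : ↥(RingHom.ker p.toAlgHom) => (x : C')) '' S)) :
    ∃ hy' : y ∈ RingHom.ker p.toAlgHom,
      (⟨y, hy'⟩ : ↥(RingHom.ker p.toAlgHom)) ∈ Submodule.span k S := by
  refine Submodule.span_induction (p := fun y _ => ∃ hy' : y ∈ RingHom.ker p.toAlgHom,
    (⟨y, hy'⟩ : ↥(RingHom.ker p.toAlgHom)) ∈ Submodule.span k S) ?_ ?_ ?_ ?_ hy
  · rintro _ ⟨x, hx, rfl⟩
    exact ⟨x.2, Submodule.subset_span hx⟩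
  · exact ⟨Ideal.zero_mem _, Submodule.zero_mem _⟩
  · rintro a b _ _ ⟨ha, ha'⟩ ⟨hb, hb'⟩
    exact ⟨Ideal.add_mem _ ha hb, Submodule.add_mem _ ha' hb'⟩
  · rintro a b _ ⟨hb, hb'⟩
    refine ⟨Ideal.mul_mem_left _ _ hb, ?_⟩
    have e : (⟨a • b, Ideal.mul_mem_left _ _ hb⟩ : ↥(RingHom.ker p.toAlgHom)) =
        C'.res a • (⟨b, hb⟩ : ↥(RingHom.ker p.toAlgHom)) := by
      apply Subtype.ext
      rw [Submodule.coe_smul_of_tower]
      show a * b = C'.res a • b
      rw [Algebra.smul_def, ← sub_eq_zero, ← sub_mul]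
      exact mul_eq_zero_of_mem hp (sub_res_mem a) hb
    rw [e]
    exact Submodule.smul_mem _ _ hb'

theorem uu_injective (hp : IsSemismallExt p) : Function.Injective (uu D' hp) := by
  classical
  rw [injective_iff_map_eq_zero]
  intro n hn
  obtain ⟨𝒞⟩ : Nonempty (Module.Basis (Module.Free.ChooseBasisIndex k ↥(RingHom.ker p.toAlgHom)) k
      ↥(RingHom.ker p.toAlgHom)) := ⟨Module.Free.chooseBasis k _⟩
  obtain ⟨m, hm⟩ : ∃ m, m = TensorProduct.equivFinsuppOfBasisRight (M := B₀) 𝒞 n := ⟨_, rfl⟩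
  have hn' : n = m.sum fun i b => b ⊗ₜ[k] 𝒞 i := by
    rw [← TensorProduct.equivFinsuppOfBasisRight_symm_apply, hm, LinearEquiv.symm_apply_apply]
  have hsum : ∑ i ∈ m.support,
      algebraMap C' D'.R (𝒞 i : C') * Function.surjInv D'.h2 (m i) = 0 := by
    rw [hn', Finsupp.sum, map_sum] at hn
    rw [← hn]
    refine Finset.sum_congr rfl fun i _ => ?_
    have h := uu_tmul D' hp (Function.surjInv D'.h2 (m i)) (𝒞 i)
    rw [π_lift] at h
    exact h.symm
  have hzero : ∀ β, m β = 0 := by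
    intro β
    by_cases hβ : β ∈ m.support
    · obtain ⟨T, hT⟩ : ∃ T : Finset _, T = m.support.erase β := ⟨_, rfl⟩
      obtain ⟨I', hI'⟩ : ∃ I' : Ideal C', I' = Ideal.span
          ((fun x : ↥(RingHom.ker p.toAlgHom) => (x : C')) '' (𝒞 '' (T : Set _))) := ⟨_, rfl⟩
      have h1 : algebraMap C' D'.R (𝒞 β : C') * Function.surjInv D'.h2 (m β) ∈
          I'.map (algebraMap C' D'.R) := by
        rw [← Finset.add_sum_erase _ _ hβ, ← hT, add_eq_zero_iff_eq_neg] at hsum
        rw [hsum]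
        apply neg_mem
        refine Ideal.sum_mem _ fun i hi => ?_
        apply Ideal.mul_mem_right
        apply Ideal.mem_map_of_mem
        rw [hI']
        exact Ideal.subset_span ⟨𝒞 i, ⟨i, hi, rfl⟩, rfl⟩
      have hC : ∀ a : C', a * (𝒞 β : C') ∈ I' → a ∈ IsLocalRing.maximalIdeal C' := by
        intro a ha
        by_contra hnot
        have hunit : IsUnit a := by
          by_contra hu
          exact hnot ((IsLocalRing.mem_maximalIdeal a).2 hu)
        obtain ⟨v, rfl⟩ := hunit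
        have h2 : (𝒞 β : C') ∈ I' := by
          have h3 := I'.mul_mem_left (↑v⁻¹ : C') ha
          rwa [← mul_assoc, Units.inv_mul, one_mul] at h3
        rw [hI'] at h2
        obtain ⟨hy', h4⟩ := mem_span_k hp _ h2
        have hβT : β ∉ (T : Set _) := by
          rw [hT]
          simp
        exact 𝒞.linearIndependent.notMem_span_image hβT h4
      have h5 := mem_map_of_mul_mem I' (IsLocalRing.maximalIdeal C') (𝒞 β : C') hC _ h1
      rw [← D'.h3, RingHom.mem_ker, π_lift] at h5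
      exact h5
    · exact Finsupp.notMem_support_iff.1 hβ
  have hm0 : m = 0 := Finsupp.ext hzero
  rw [hn', hm0, Finsupp.sum_zero_index]

end Inj

section XExt

variable (D : AData C B₀)

/-- an extension of the algebraic deformation datum `D` over `C'` -/
structure XExt where
  D' : AData C' B₀
  q : D'.R →+* D.R
  hq1 : ∀ c : C', q (algebraMap C' D'.R c) = algebraMap C D.R (p.toAlgHom c)
  hq2 : ∀ r, D.π (q r) = D'.π r
  hq3 : Function.Surjective q
  hq4 : RingHom.ker q = (RingHom.ker p.toAlgHom).map (algebraMap C' D'.R)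

variable {p D}

/-- equivalence of extensions -/
def XExt.Equiv (s₁ s₂ : XExt p D) : Prop :=
  ∃ θ : s₁.D'.R ≃+* s₂.D'.R,
    (∀ c : C', θ (algebraMap C' s₁.D'.R c) = algebraMap C' s₂.D'.R c) ∧ ∀ r, s₂.q (θ r) = s₁.q r

lemma XExt.q_uu (s : XExt p D) (hp : IsSemismallExt p)
    (n : B₀ ⊗[k] ↥(RingHom.ker p.toAlgHom)) : s.q (uu s.D' hp n) = 0 := by
  have h := uu_mem s.D' hp n
  rw [← s.hq4] at h
  exact h

lemma XExt.exists_uu (s : XExt p D) (hp : IsSemismallExt p) {r : s.D'.R} (hr : s.q r = 0) :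
    ∃ n, uu s.D' hp n = r := by
  apply exists_uu_eq
  rw [← s.hq4]
  exact hr

/-- a `C'`-linear ring map compatible with the projections to `B₀` commutes with `uu` -/
lemma map_uu (hp : IsSemismallExt p) (D₁ D₂ : AData C' B₀) (θ : D₁.R →+* D₂.R)
    (h1 : ∀ c : C', θ (algebraMap C' D₁.R c) = algebraMap C' D₂.R c)
    (h2 : ∀ r, D₂.π (θ r) = D₁.π r) (n : B₀ ⊗[k] ↥(RingHom.ker p.toAlgHom)) :
    θ (uu D₁ hp n) = uu D₂ hp n := by
  induction n using TensorProduct.induction_on with
  | zero => rw [map_zero, map_zero, map_zero]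
  | tmul b x =>
    obtain ⟨r, rfl⟩ := D₁.h2 b
    rw [uu_tmul, map_mul, h1, ← h2, uu_tmul]
  | add a b ha hb => rw [map_add, map_add, map_add, ha, hb]

end XExt

end Groth.Agent.Lib.Helper19.DefX
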