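import Mathlib
import Groth.Agent.Lib.Helper19.DefX1
import Groth.Agent.Lib.Helper9.ExalLib2

/-!
# Extensions of an affine deformation over a semismall extension, part 2 (helper19)

* `PP s₁ s₂`: the fibre product of two extensions over `D.R`;
* `Link hp s₁ s₂ E`: the `k`-extension `E` of `B₀` by `B₀ ⊗ J` is the difference of `s₂` and `s₁`:
  a ring map `PP s₁ s₂ → E.E` with the expected compatibilities;
* `Link.equiv_ext`: the difference is unique up to equivalence; invariance of `Link` under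
  equivalences.
-/

set_option autoImplicit false
set_option linter.style.haveILetI false
set_option linter.unusedSectionVars false
universe u
open TensorProduct

namespace Groth.Agent.Lib.Helper19.DefX

open ArtFun ArtFun.Art Groth.Agent.Lib.Helper19.AffDef

variable {k : Type u} [Field k] {C' C : Art k k} {p : C' ⟶ C} {B₀ : Type u} [CommRing B₀]
  [Algebra k B₀] {D : AData C B₀}

/-- the fibre product of two extensions over `D.R` -/
def PP (s₁ s₂ : XExt p D) : Subalgebra C' (s₁.D'.R × s₂.D'.R) where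
  carrier := {z | s₁.q z.1 = s₂.q z.2}
  mul_mem' := by
    intro a b ha hb
    show s₁.q (a * b).1 = s₂.q (a * b).2
    rw [Prod.fst_mul, Prod.snd_mul, map_mul, map_mul, ha, hb]
  add_mem' := by
    intro a b ha hb
    show s₁.q (a + b).1 = s₂.q (a + b).2
    rw [Prod.fst_add, Prod.snd_add, map_add, map_add, ha, hb]
  algebraMap_mem' := by
    intro c
    show s₁.q (algebraMap C' (s₁.D'.R × s₂.D'.R) c).1 = s₂.q (algebraMap C' (s₁.D'.R × s₂.D'.R) c).2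
    rw [Prod.algebraMap_apply, s₁.hq1, s₂.hq1]

section PP

variable (s₁ s₂ : XExt p D)

lemma PP.cond (z : ↥(PP s₁ s₂)) : s₁.q z.1.1 = s₂.q z.1.2 := z.2

lemma PP.algebraMap_fst (c : C') :
    (algebraMap C' ↥(PP s₁ s₂) c).1.1 = algebraMap C' s₁.D'.R c := rfl

lemma PP.algebraMap_snd (c : C') :
    (algebraMap C' ↥(PP s₁ s₂) c).1.2 = algebraMap C' s₂.D'.R c := rfl

lemma PP.exists_fst (b₁ : s₁.D'.R) : ∃ z : ↥(PP s₁ s₂), z.1.1 = b₁ := by
  obtain ⟨b₂, hb₂⟩ := s₂.hq3 (s₁.q b₁)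
  exact ⟨⟨(b₁, b₂), hb₂.symm⟩, rfl⟩

lemma PP.exists_snd (b₂ : s₂.D'.R) : ∃ z : ↥(PP s₁ s₂), z.1.2 = b₂ := by
  obtain ⟨b₁, hb₁⟩ := s₁.hq3 (s₂.q b₂)
  exact ⟨⟨(b₁, b₂), hb₁⟩, rfl⟩

lemma PP.π_eq (z : ↥(PP s₁ s₂)) : s₁.D'.π z.1.1 = s₂.D'.π z.1.2 := by
  rw [← s₁.hq2, ← s₂.hq2, PP.cond]

/-- elements of `𝔪' R₁` lift to `𝔪' P` -/
lemma PP.exists_mem_map_fst {b : s₁.D'.R}
    (hb : b ∈ (IsLocalRing.maximalIdeal C').map (algebraMap C' s₁.D'.R)) :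
    ∃ w ∈ (IsLocalRing.maximalIdeal C').map (algebraMap C' ↥(PP s₁ s₂)), w.1.1 = b := by
  unfold Ideal.map at hb
  refine Submodule.span_induction (p := fun b _ =>
    ∃ w ∈ (IsLocalRing.maximalIdeal C').map (algebraMap C' ↥(PP s₁ s₂)), w.1.1 = b) ?_ ?_ ?_ ?_ hb
  · rintro _ ⟨m, hm, rfl⟩
    exact ⟨algebraMap C' ↥(PP s₁ s₂) m, Ideal.mem_map_of_mem _ hm, rfl⟩
  · exact ⟨0, Ideal.zero_mem _, rfl⟩
  · rintro a b _ _ ⟨w, hw, rfl⟩ ⟨w', hw', rfl⟩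
    exact ⟨w + w', Ideal.add_mem _ hw hw', rfl⟩
  · rintro a b _ ⟨w, hw, rfl⟩
    obtain ⟨z, rfl⟩ := PP.exists_fst s₁ s₂ a
    exact ⟨z * w, Ideal.mul_mem_left _ _ hw, rfl⟩

variable (hp : IsSemismallExt p)

/-- the element `(0, u₂ n)` of the fibre product -/
noncomputable def zeroU (n : B₀ ⊗[k] ↥(RingHom.ker p.toAlgHom)) : ↥(PP s₁ s₂) :=
  ⟨(0, uu s₂.D' hp n), by
    show s₁.q 0 = s₂.q (uu s₂.D' hp n)
    rw [map_zero, s₂.q_uu hp]⟩

lemma zeroU_fst (n : B₀ ⊗[k] ↥(RingHom.ker p.toAlgHom)) : (zeroU s₁ s₂ hp n).1.1 = 0 := rfl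

lemma zeroU_snd (n : B₀ ⊗[k] ↥(RingHom.ker p.toAlgHom)) :
    (zeroU s₁ s₂ hp n).1.2 = uu s₂.D' hp n := rfl

lemma zeroU_zero : zeroU s₁ s₂ hp 0 = 0 := by
  apply Subtype.ext
  apply Prod.ext
  · rfl
  · exact map_zero _

lemma eq_zeroU_of_fst_eq_zero (y : ↥(PP s₁ s₂)) (hy : y.1.1 = 0) :
    ∃ n, y = zeroU s₁ s₂ hp n := by
  have h2 : s₂.q y.1.2 = 0 := by rw [← PP.cond, hy, map_zero]
  obtain ⟨n, hn⟩ := s₂.exists_uu hp h2
  refine ⟨n, ?_⟩
  apply Subtype.ext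
  apply Prod.ext
  · exact hy
  · exact hn.symm

end PP

/-- `E` is the difference of `s₂` and `s₁` -/
def Link (hp : IsSemismallExt p) (s₁ s₂ : XExt p D)
    (E : Exal.Ext k B₀ (B₀ ⊗[k] ↥(RingHom.ker p.toAlgHom))) : Prop :=
  ∃ τ : ↥(PP s₁ s₂) →+* E.E,
    (∀ c : C', τ (algebraMap C' ↥(PP s₁ s₂) c) = algebraMap k E.E (C'.res c)) ∧
    (∀ z, E.proj (τ z) = s₁.D'.π z.1.1) ∧
    ∀ n, τ (zeroU s₁ s₂ hp n) = E.incl n

section LinkA

variable (hp : IsSemismallExt p) {s₁ s₂ : XExt p D}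
  {E E' : Exal.Ext k B₀ (B₀ ⊗[k] ↥(RingHom.ker p.toAlgHom))}

lemma tau_map_le (τ : ↥(PP s₁ s₂) →+* E.E)
    (h0 : ∀ c : C', τ (algebraMap C' ↥(PP s₁ s₂) c) = algebraMap k E.E (C'.res c)) :
    (IsLocalRing.maximalIdeal C').map (algebraMap C' ↥(PP s₁ s₂)) ≤ RingHom.ker τ := by
  rw [Ideal.map_le_iff_le_comap]
  intro m hm
  rw [Ideal.mem_comap, RingHom.mem_ker, h0, (mem_maximalIdeal_iff C' m).1 hm, map_zero]

include hp in
lemma tau_ker_le (τ : ↥(PP s₁ s₂) →+* E.E)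
    (h0 : ∀ c : C', τ (algebraMap C' ↥(PP s₁ s₂) c) = algebraMap k E.E (C'.res c))
    (h1 : ∀ z, E.proj (τ z) = s₁.D'.π z.1.1)
    (h2 : ∀ n, τ (zeroU s₁ s₂ hp n) = E.incl n) :
    RingHom.ker τ ≤ (IsLocalRing.maximalIdeal C').map (algebraMap C' ↥(PP s₁ s₂)) := by
  intro z hz
  rw [RingHom.mem_ker] at hz
  have hπ : s₁.D'.π z.1.1 = 0 := by rw [← h1, hz, map_zero]
  have hmem : z.1.1 ∈ (IsLocalRing.maximalIdeal C').map (algebraMap C' s₁.D'.R) := by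
    rw [← s₁.D'.h3]
    exact hπ
  obtain ⟨w, hw, hw1⟩ := PP.exists_mem_map_fst s₁ s₂ hmem
  obtain ⟨n, hn⟩ := eq_zeroU_of_fst_eq_zero s₁ s₂ hp (z - w) (by
    show z.1.1 - w.1.1 = 0
    rw [hw1, sub_self])
  have hτw : τ w = 0 := tau_map_le τ h0 hw
  have h3 : E.incl n = 0 := by
    rw [← h2, ← hn, map_sub, hz, hτw, sub_zero]
  have hn0 : n = 0 := E.isExtension.incl_injective (by rw [h3, map_zero])
  rw [hn0, zeroU_zero, sub_eq_zero] at hn
  rw [hn]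
  exact hw

include hp in
lemma tau_surjective (τ : ↥(PP s₁ s₂) →+* E.E)
    (h1 : ∀ z, E.proj (τ z) = s₁.D'.π z.1.1)
    (h2 : ∀ n, τ (zeroU s₁ s₂ hp n) = E.incl n) : Function.Surjective τ := by
  intro e
  obtain ⟨b₁, hb₁⟩ := s₁.D'.h2 (E.proj e)
  obtain ⟨z, hz⟩ := PP.exists_fst s₁ s₂ b₁
  have h3 : E.proj (τ z - e) = 0 := by rw [map_sub, h1, hz, hb₁, sub_self]
  obtain ⟨n, hn⟩ := (E.isExtension.exact _).1 h3
  refine ⟨z - zeroU s₁ s₂ hp n, ?_⟩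
  rw [map_sub, h2, hn]
  ring

/-- the difference is unique up to equivalence -/
theorem Link.equiv_ext (h : Link hp s₁ s₂ E) (h' : Link hp s₁ s₂ E') : Nonempty (E.Equiv E') := by
  obtain ⟨τ, h0, h1, h2⟩ := h
  obtain ⟨τ', h0', h1', h2'⟩ := h'
  have hsurj := tau_surjective hp τ h1 h2
  have hker : RingHom.ker τ ≤ RingHom.ker τ' :=
    (tau_ker_le hp τ h0 h1 h2).trans (tau_map_le τ' h0')
  obtain ⟨φ₀, hφ₀⟩ : ∃ φ₀ : E.E →+* E'.E, ∀ z, φ₀ (τ z) = τ' z :=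
    ⟨τ.liftOfSurjective hsurj ⟨τ', hker⟩,
      fun z => RingHom.liftOfSurjective_comp_apply τ hsurj ⟨τ', hker⟩ z⟩
  have hcomm : ∀ c : k, φ₀ (algebraMap k E.E c) = algebraMap k E'.E c := by
    intro c
    have e1 := h0 (algebraMap k C' c)
    have e2 := h0' (algebraMap k C' c)
    rw [AlgHom.commutes] at e1 e2
    have e3 : algebraMap k k c = c := rfl
    rw [e3] at e1 e2
    rw [← e1, hφ₀, e2]
  obtain ⟨φ, hφ⟩ : ∃ φ : E.E →ₐ[k] E'.E, ∀ x, φ x = φ₀ x :=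
    ⟨{ φ₀ with commutes' := hcomm }, fun _ => rfl⟩
  refine ⟨Groth.Agent.Lib.Helper9.ExalLib.equivOfAlgHom E E' φ ?_ ?_⟩
  · intro x
    obtain ⟨z, rfl⟩ := hsurj x
    rw [hφ, hφ₀, h1, h1']
  · intro n
    rw [hφ, ← h2, hφ₀, h2']

/-- invariance under equivalence of the `k`-extension -/
theorem Link.of_equiv (h : Link hp s₁ s₂ E) (e : E.Equiv E') : Link hp s₁ s₂ E' := by
  obtain ⟨τ, h0, h1, h2⟩ := h
  refine ⟨(e.toAlgEquiv : E.E →+* E'.E).comp τ, ?_, ?_, ?_⟩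
  · intro c
    rw [RingHom.comp_apply, h0]
    exact e.toAlgEquiv.commutes _
  · intro z
    rw [RingHom.comp_apply]
    exact (e.proj_apply _).trans (h1 z)
  · intro n
    rw [RingHom.comp_apply, h2]
    exact e.apply_incl n

/-- invariance under equivalence of the second extension -/
theorem Link.of_xequiv {s₂' : XExt p D} (h : Link hp s₁ s₂ E) (e : XExt.Equiv s₂ s₂') :
    Link hp s₁ s₂' E := by
  obtain ⟨τ, h0, h1, h2⟩ := h
  obtain ⟨θ, hθ1, hθ2⟩ := e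
  have hsymm1 : ∀ c : C', θ.symm (algebraMap C' s₂'.D'.R c) = algebraMap C' s₂.D'.R c := by
    intro c
    rw [← hθ1, RingEquiv.symm_apply_apply]
  have hsymm2 : ∀ r, s₂.q (θ.symm r) = s₂'.q r := by
    intro r
    rw [← hθ2, RingEquiv.apply_symm_apply]
  have hsymmπ : ∀ r, s₂.D'.π (θ.symm r) = s₂'.D'.π r := by
    intro r
    rw [← s₂.hq2, hsymm2, s₂'.hq2]
  obtain ⟨g, hg⟩ : ∃ g : ↥(PP s₁ s₂') →+* ↥(PP s₁ s₂),
      ∀ z, (g z).1 = (z.1.1, θ.symm z.1.2) := by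
    refine ⟨{ toFun := fun z => ⟨(z.1.1, θ.symm z.1.2), ?_⟩
              map_one' := ?_, map_mul' := ?_, map_zero' := ?_, map_add' := ?_ }, fun _ => rfl⟩
    · show s₁.q z.1.1 = s₂.q (θ.symm z.1.2)
      rw [hsymm2]
      exact z.2
    · apply Subtype.ext
      apply Prod.ext
      · rfl
      · exact map_one θ.symm
    · intro a b
      apply Subtype.ext
      apply Prod.ext
      · rfl
      · exact map_mul θ.symm _ _
    · apply Subtype.ext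
      apply Prod.ext
      · rfl
      · exact map_zero θ.symm
    · intro a b
      apply Subtype.ext
      apply Prod.ext
      · rfl
      · exact map_add θ.symm _ _
  refine ⟨τ.comp g, ?_, ?_, ?_⟩
  · intro c
    rw [RingHom.comp_apply, ← h0]
    congr 1
    apply Subtype.ext
    rw [hg]
    apply Prod.ext
    · rfl
    · exact hsymm1 c
  · intro z
    rw [RingHom.comp_apply, h1, hg]
  · intro n
    rw [RingHom.comp_apply, ← h2]
    congr 1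
    apply Subtype.ext
    rw [hg]
    apply Prod.ext
    · rfl
    · exact map_uu hp s₂'.D' s₂.D' θ.symm.toRingHom hsymm1 hsymmπ n

end LinkA

end Groth.Agent.Lib.Helper19.DefX
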