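import Mathlib
import Groth.Agent.Lib.Helper19.DefX2

/-!
# Extensions of an affine deformation over a semismall extension, part 3 (helper19)

`exists_link`: for two extensions `s₁`, `s₂` the difference exists: it is the quotient of the
fibre product `PP s₁ s₂` by the maximal ideal of `C'`.
-/

set_option autoImplicit false
set_option linter.style.haveILetI false
set_option linter.unusedSectionVars false
universe u
open TensorProduct

namespace Groth.Agent.Lib.Helper19.DefX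

open ArtFun ArtFun.Art Groth.Agent.Lib.Helper19.AffDef Groth.Agent.Lib.Helper19.SmObs

variable {k : Type u} [Field k] {C' C : Art k k} {p : C' ⟶ C} {B₀ : Type u} [CommRing B₀]
  [Algebra k B₀] {D : AData C B₀}

section Diff

variable (hp : IsSemismallExt p) (s₁ s₂ : XExt p D)

/-- `𝔪' P` -/
abbrev KK : Ideal ↥(PP s₁ s₂) := (IsLocalRing.maximalIdeal C').map (algebraMap C' ↥(PP s₁ s₂))

/-- `P / 𝔪' P` -/
abbrev QQ : Type u := ↥(PP s₁ s₂) ⧸ KK s₁ s₂

/-- `zeroU` as an additive map -/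
noncomputable def zeroUHom : B₀ ⊗[k] ↥(RingHom.ker p.toAlgHom) →+ ↥(PP s₁ s₂) where
  toFun := zeroU s₁ s₂ hp
  map_zero' := zeroU_zero s₁ s₂ hp
  map_add' a b := by
    apply Subtype.ext
    apply Prod.ext
    · exact (add_zero (0 : s₁.D'.R)).symm
    · exact map_add (uu s₂.D' hp) a b

lemma zeroUHom_apply (n : B₀ ⊗[k] ↥(RingHom.ker p.toAlgHom)) :
    zeroUHom hp s₁ s₂ n = zeroU s₁ s₂ hp n := rfl

lemma mul_zeroU (z : ↥(PP s₁ s₂)) (n : B₀ ⊗[k] ↥(RingHom.ker p.toAlgHom)) :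
    z * zeroU s₁ s₂ hp n = zeroU s₁ s₂ hp (s₁.D'.π z.1.1 • n) := by
  apply Subtype.ext
  apply Prod.ext
  · show z.1.1 * 0 = 0
    exact mul_zero _
  · show z.1.2 * uu s₂.D' hp n = uu s₂.D' hp (s₁.D'.π z.1.1 • n)
    rw [mul_uu, PP.π_eq]

/-- the first projection as a `C'`-linear map -/
noncomputable def pr1L : ↥(PP s₁ s₂) →ₗ[C'] s₁.D'.R :=
  ((AlgHom.fst C' s₁.D'.R s₂.D'.R).comp (PP s₁ s₂).val).toLinearMap

lemma pr1L_apply (z : ↥(PP s₁ s₂)) : pr1L s₁ s₂ z = z.1.1 := rfl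

include hp in
lemma zeroU_eq_zero_of_mem (n : B₀ ⊗[k] ↥(RingHom.ker p.toAlgHom))
    (h : zeroU s₁ s₂ hp n ∈ KK s₁ s₂) : n = 0 := by
  have h1 : zeroU s₁ s₂ hp n ∈ LinearMap.ker (pr1L s₁ s₂) := by
    rw [LinearMap.mem_ker, pr1L_apply]
    rfl
  have h2 : zeroU s₁ s₂ hp n ∈
      (IsLocalRing.maximalIdeal C') • (⊤ : Submodule C' ↥(PP s₁ s₂)) := by
    rw [Ideal.smul_top_eq_map, Submodule.restrictScalars_mem]
    exact h
  have h3 := mem_smul_ker_of_flat (IsLocalRing.maximalIdeal C') (pr1L s₁ s₂)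
    (fun b => PP.exists_fst s₁ s₂ b) h1 h2
  have h4 : (IsLocalRing.maximalIdeal C') • LinearMap.ker (pr1L s₁ s₂) ≤ ⊥ := by
    rw [Submodule.smul_le]
    intro m hm v hv
    rw [LinearMap.mem_ker, pr1L_apply] at hv
    obtain ⟨n', rfl⟩ := eq_zeroU_of_fst_eq_zero s₁ s₂ hp v hv
    rw [Submodule.mem_bot, Algebra.smul_def, mul_zeroU]
    have hz : s₁.D'.π (algebraMap C' ↥(PP s₁ s₂) m).1.1 = 0 := π_alg_of_mem s₁.D' hm
    rw [hz, zero_smul, zeroU_zero]
  have h5 : zeroU s₁ s₂ hp n = 0 := (Submodule.mem_bot C').1 (h4 h3)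
  have h6 : uu s₂.D' hp n = 0 := congrArg (fun z : ↥(PP s₁ s₂) => z.1.2) h5
  exact uu_injective s₂.D' hp (by rw [h6, map_zero])

/-- the projection `P / 𝔪' P → B₀` -/
noncomputable def prQ : QQ s₁ s₂ →+* B₀ :=
  Ideal.Quotient.lift (KK s₁ s₂)
    (s₁.D'.π.comp (((AlgHom.fst C' s₁.D'.R s₂.D'.R).comp (PP s₁ s₂).val : ↥(PP s₁ s₂) →ₐ[C']
      s₁.D'.R) : ↥(PP s₁ s₂) →+* s₁.D'.R))
    (by
      intro w hw
      have hle : KK s₁ s₂ ≤ RingHom.ker (s₁.D'.π.comp
          (((AlgHom.fst C' s₁.D'.R s₂.D'.R).comp (PP s₁ s₂).val : ↥(PP s₁ s₂) →ₐ[C']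
            s₁.D'.R) : ↥(PP s₁ s₂) →+* s₁.D'.R)) := by
        rw [Ideal.map_le_iff_le_comap]
        intro m hm
        rw [Ideal.mem_comap, RingHom.mem_ker]
        show s₁.D'.π (algebraMap C' s₁.D'.R m) = 0
        exact π_alg_of_mem s₁.D' hm
      exact hle hw)

lemma prQ_mk (z : ↥(PP s₁ s₂)) :
    prQ s₁ s₂ (Ideal.Quotient.mk (KK s₁ s₂) z) = s₁.D'.π z.1.1 := rfl

/-- the structure map `k → P / 𝔪' P` -/
noncomputable def aQ : k →+* QQ s₁ s₂ :=
  (Ideal.Quotient.mk (KK s₁ s₂)).comp ((algebraMap C' ↥(PP s₁ s₂)).comp (algebraMap k C'))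

lemma mk_alg (c : C') : Ideal.Quotient.mk (KK s₁ s₂) (algebraMap C' ↥(PP s₁ s₂) c) =
    aQ s₁ s₂ (C'.res c) := by
  show _ = Ideal.Quotient.mk (KK s₁ s₂) (algebraMap C' ↥(PP s₁ s₂) (algebraMap k C' (C'.res c)))
  rw [← sub_eq_zero, ← map_sub, ← map_sub, Ideal.Quotient.eq_zero_iff_mem]
  exact Ideal.mem_map_of_mem _ (sub_res_mem c)

/-- the `k`-algebra structure on `P / 𝔪' P` -/
noncomputable def algQ : Algebra k (QQ s₁ s₂) := Algebra.compHom (QQ s₁ s₂) (algebraMap k C')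

/-- the difference extension `P / 𝔪' P` -/
noncomputable def diffExt : Exal.Ext k B₀ (B₀ ⊗[k] ↥(RingHom.ker p.toAlgHom)) :=
  letI : Algebra k (QQ s₁ s₂) := algQ s₁ s₂
  { E := QQ s₁ s₂
    proj :=
      { toRingHom := prQ s₁ s₂
        commutes' := by
          intro c
          change s₁.D'.π (algebraMap C' s₁.D'.R (algebraMap k C' c)) = algebraMap k B₀ c
          rw [π_alg, AlgHom.commutes]
          rfl }
    incl := (Ideal.Quotient.mk (KK s₁ s₂) : ↥(PP s₁ s₂) →+* QQ s₁ s₂).toAddMonoidHom.comp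
      (zeroUHom hp s₁ s₂)
    isExtension :=
      { proj_surjective := by
          intro b
          obtain ⟨b₁, hb₁⟩ := s₁.D'.h2 b
          obtain ⟨z, hz⟩ := PP.exists_fst s₁ s₂ b₁
          refine ⟨Ideal.Quotient.mk (KK s₁ s₂) z, ?_⟩
          show s₁.D'.π z.1.1 = b
          rw [hz, hb₁]
        incl_injective := by
          rw [injective_iff_map_eq_zero]
          intro n hn
          have hn' : Ideal.Quotient.mk (KK s₁ s₂) (zeroU s₁ s₂ hp n) = 0 := hn
          rw [Ideal.Quotient.eq_zero_iff_mem] at hn'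
          exact zeroU_eq_zero_of_mem hp s₁ s₂ n hn'
        exact := by
          intro x
          obtain ⟨z, rfl⟩ := Ideal.Quotient.mk_surjective x
          constructor
          · intro hx
            have hπ : s₁.D'.π z.1.1 = 0 := hx
            have hmem : z.1.1 ∈ (IsLocalRing.maximalIdeal C').map (algebraMap C' s₁.D'.R) := by
              rw [← s₁.D'.h3]
              exact hπ
            obtain ⟨w, hw, hw1⟩ := PP.exists_mem_map_fst s₁ s₂ hmem
            obtain ⟨n, hn⟩ := eq_zeroU_of_fst_eq_zero s₁ s₂ hp (z - w) (by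
              show z.1.1 - w.1.1 = 0
              rw [hw1, sub_self])
            refine ⟨n, ?_⟩
            show Ideal.Quotient.mk (KK s₁ s₂) (zeroU s₁ s₂ hp n) = _
            rw [← hn, map_sub, Ideal.Quotient.eq_zero_iff_mem.2 hw, sub_zero]
          · rintro ⟨n, hn⟩
            rw [← hn]
            show s₁.D'.π (zeroU s₁ s₂ hp n).1.1 = 0
            rw [zeroU_fst, map_zero]
        mul_incl := by
          intro x n
          obtain ⟨z, rfl⟩ := Ideal.Quotient.mk_surjective x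
          show Ideal.Quotient.mk (KK s₁ s₂) z * Ideal.Quotient.mk (KK s₁ s₂) (zeroU s₁ s₂ hp n) =
            Ideal.Quotient.mk (KK s₁ s₂) (zeroU s₁ s₂ hp (s₁.D'.π z.1.1 • n))
          rw [← map_mul, mul_zeroU] } }

/-- the difference of two extensions exists -/
theorem exists_link : ∃ E, Link hp s₁ s₂ E := by
  refine ⟨diffExt hp s₁ s₂, Ideal.Quotient.mk (KK s₁ s₂), ?_, ?_, ?_⟩
  · intro c
    exact mk_alg s₁ s₂ c
  · intro z
    rfl
  · intro n
    rfl

end Diff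

end Groth.Agent.Lib.Helper19.DefX
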