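import Mathlib
import Groth.Agent.Lib.Helper19.DefX3

/-!
# Extensions of an affine deformation over a semismall extension, part 4 (helper19)

`Link.xequiv`: two extensions with the same difference from `s₁` are equivalent.
-/

set_option autoImplicit false
set_option linter.style.haveILetI false
set_option linter.unusedSectionVars false
universe u
open TensorProduct

namespace Groth.Agent.Lib.Helper19.DefX

open ArtFun ArtFun.Art Groth.Agent.Lib.Helper19.AffDef Groth.Agent.Lib.Helper19.SmObs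

variable {k : Type u} [Field k] {C' C : Art k k} {p : C' ⟶ C} {B₀ : Type u} [CommRing B₀]
  [Algebra k B₀] {D : AData C B₀}

section Diag

variable (hp : IsSemismallExt p) (s₁ s₂ : XExt p D)

/-- the element `(u₁ n, u₂ n)` of the fibre product -/
noncomputable def diagU (n : B₀ ⊗[k] ↥(RingHom.ker p.toAlgHom)) : ↥(PP s₁ s₂) :=
  ⟨(uu s₁.D' hp n, uu s₂.D' hp n), by
    show s₁.q (uu s₁.D' hp n) = s₂.q (uu s₂.D' hp n)
    rw [s₁.q_uu hp, s₂.q_uu hp]⟩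

lemma diagU_mem (n : B₀ ⊗[k] ↥(RingHom.ker p.toAlgHom)) : diagU hp s₁ s₂ n ∈ KK s₁ s₂ := by
  induction n using TensorProduct.induction_on with
  | zero =>
    have h0 : diagU hp s₁ s₂ 0 = 0 := by
      apply Subtype.ext
      apply Prod.ext
      · exact map_zero (uu s₁.D' hp)
      · exact map_zero (uu s₂.D' hp)
    rw [h0]
    exact Ideal.zero_mem _
  | tmul b x =>
    obtain ⟨r₁, rfl⟩ := s₁.D'.h2 b
    obtain ⟨z, hz⟩ := PP.exists_fst s₁ s₂ r₁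
    have h0 : diagU hp s₁ s₂ (s₁.D'.π r₁ ⊗ₜ[k] x) = algebraMap C' ↥(PP s₁ s₂) x.1 * z := by
      apply Subtype.ext
      apply Prod.ext
      · show uu s₁.D' hp (s₁.D'.π r₁ ⊗ₜ[k] x) = algebraMap C' s₁.D'.R x.1 * z.1.1
        rw [uu_tmul, hz]
      · show uu s₂.D' hp (s₁.D'.π r₁ ⊗ₜ[k] x) = algebraMap C' s₂.D'.R x.1 * z.1.2
        rw [← hz, PP.π_eq, uu_tmul]
    rw [h0]
    exact Ideal.mul_mem_right _ _ (Ideal.mem_map_of_mem _ (mem_max_of_mem x.2))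
  | add a b ha hb =>
    have h0 : diagU hp s₁ s₂ (a + b) = diagU hp s₁ s₂ a + diagU hp s₁ s₂ b := by
      apply Subtype.ext
      apply Prod.ext
      · exact map_add (uu s₁.D' hp) a b
      · exact map_add (uu s₂.D' hp) a b
    rw [h0]
    exact Ideal.add_mem _ ha hb

variable {s₁ s₂} {E : Exal.Ext k B₀ (B₀ ⊗[k] ↥(RingHom.ker p.toAlgHom))}

lemma tau_of_uu (τ : ↥(PP s₁ s₂) →+* E.E)
    (h0 : ∀ c : C', τ (algebraMap C' ↥(PP s₁ s₂) c) = algebraMap k E.E (C'.res c))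
    (h2 : ∀ n, τ (zeroU s₁ s₂ hp n) = E.incl n)
    (z : ↥(PP s₁ s₂)) (n m : B₀ ⊗[k] ↥(RingHom.ker p.toAlgHom))
    (hz1 : z.1.1 = uu s₁.D' hp n) (hz2 : z.1.2 = uu s₂.D' hp m) : τ z = E.incl (m - n) := by
  have hz : z = diagU hp s₁ s₂ n + zeroU s₁ s₂ hp (m - n) := by
    apply Subtype.ext
    apply Prod.ext
    · show z.1.1 = uu s₁.D' hp n + 0
      rw [add_zero, hz1]
    · show z.1.2 = uu s₂.D' hp n + uu s₂.D' hp (m - n)
      rw [← map_add, add_sub_cancel, hz2]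
  have hd : τ (diagU hp s₁ s₂ n) = 0 :=
    RingHom.mem_ker.1 (tau_map_le τ h0 (diagU_mem hp s₁ s₂ n))
  rw [hz, map_add, hd, zero_add, h2]

lemma exists_partner {s₂' : XExt p D} (τ : ↥(PP s₁ s₂) →+* E.E) (τ' : ↥(PP s₁ s₂') →+* E.E)
    (h1 : ∀ z, E.proj (τ z) = s₁.D'.π z.1.1)
    (h1' : ∀ z, E.proj (τ' z) = s₁.D'.π z.1.1)
    (h2' : ∀ n, τ' (zeroU s₁ s₂' hp n) = E.incl n)
    (z : ↥(PP s₁ s₂)) : ∃ z' : ↥(PP s₁ s₂'), z.1.1 = z'.1.1 ∧ τ z = τ' z' := by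
  obtain ⟨z₀, hz₀⟩ := PP.exists_fst s₁ s₂' z.1.1
  have hker : E.proj (τ z - τ' z₀) = 0 := by
    rw [map_sub, h1, h1', hz₀, sub_self]
  obtain ⟨n, hn⟩ := (E.isExtension.exact _).1 hker
  refine ⟨z₀ + zeroU s₁ s₂' hp n, ?_, ?_⟩
  · show z.1.1 = z₀.1.1 + 0
    rw [add_zero, hz₀]
  · rw [map_add, h2', hn]
    exact (add_sub_cancel _ _).symm

lemma snd_eq_zero {s₂' : XExt p D} (τ : ↥(PP s₁ s₂) →+* E.E) (τ' : ↥(PP s₁ s₂') →+* E.E)
    (h0 : ∀ c : C', τ (algebraMap C' ↥(PP s₁ s₂) c) = algebraMap k E.E (C'.res c))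
    (h2 : ∀ n, τ (zeroU s₁ s₂ hp n) = E.incl n)
    (h0' : ∀ c : C', τ' (algebraMap C' ↥(PP s₁ s₂') c) = algebraMap k E.E (C'.res c))
    (h2' : ∀ n, τ' (zeroU s₁ s₂' hp n) = E.incl n)
    (z : ↥(PP s₁ s₂)) (z' : ↥(PP s₁ s₂')) (hzz : z.1.1 = z'.1.1) (hτ : τ z = τ' z')
    (hz : z.1.2 = 0) : z'.1.2 = 0 := by
  have hq : s₁.q z.1.1 = 0 := by rw [PP.cond s₁ s₂ z, hz, map_zero]
  obtain ⟨n, hn⟩ := s₁.exists_uu hp hq
  have hq' : s₂'.q z'.1.2 = 0 := by rw [← PP.cond s₁ s₂' z', ← hzz, hq]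
  obtain ⟨n', hn'⟩ := s₂'.exists_uu hp hq'
  have e1 := tau_of_uu hp τ h0 h2 z n 0 hn.symm (by rw [hz, map_zero])
  have e2 := tau_of_uu hp τ' h0' h2' z' n n' (by rw [← hzz, hn]) hn'.symm
  rw [e1, e2] at hτ
  have hn0 : n' = 0 := by
    have h := E.isExtension.incl_injective hτ
    rw [sub_left_inj] at h
    exact h.symm
  rw [← hn', hn0, map_zero]

end Diag

section ClaimB

variable (hp : IsSemismallExt p) {s₁ s₂ s₂' : XExt p D}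
  {E : Exal.Ext k B₀ (B₀ ⊗[k] ↥(RingHom.ker p.toAlgHom))}
  (τ : ↥(PP s₁ s₂) →+* E.E) (τ' : ↥(PP s₁ s₂') →+* E.E)

/-- triples `(b₁, b₂, b₂')` with equal differences -/
def WW : Subring (↥(PP s₁ s₂) × ↥(PP s₁ s₂')) where
  carrier := {w | w.1.1.1 = w.2.1.1 ∧ τ w.1 = τ' w.2}
  mul_mem' := by
    rintro a b ⟨ha1, ha2⟩ ⟨hb1, hb2⟩
    refine ⟨?_, ?_⟩
    · show a.1.1.1 * b.1.1.1 = a.2.1.1 * b.2.1.1
      rw [ha1, hb1]
    · show τ (a.1 * b.1) = τ' (a.2 * b.2)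
      rw [map_mul, map_mul, ha2, hb2]
  one_mem' := ⟨rfl, by
    show τ 1 = τ' 1
    rw [map_one, map_one]⟩
  add_mem' := by
    rintro a b ⟨ha1, ha2⟩ ⟨hb1, hb2⟩
    refine ⟨?_, ?_⟩
    · show a.1.1.1 + b.1.1.1 = a.2.1.1 + b.2.1.1
      rw [ha1, hb1]
    · show τ (a.1 + b.1) = τ' (a.2 + b.2)
      rw [map_add, map_add, ha2, hb2]
  zero_mem' := ⟨rfl, by
    show τ 0 = τ' 0
    rw [map_zero, map_zero]⟩
  neg_mem' := by
    rintro a ⟨ha1, ha2⟩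
    refine ⟨?_, ?_⟩
    · show -a.1.1.1 = -a.2.1.1
      rw [ha1]
    · show τ (-a.1) = τ' (-a.2)
      rw [map_neg, map_neg, ha2]

/-- projection to `R₂` -/
def gg : ↥(WW τ τ') →+* s₂.D'.R where
  toFun w := w.1.1.1.2
  map_one' := rfl
  map_mul' _ _ := rfl
  map_zero' := rfl
  map_add' _ _ := rfl

/-- projection to `R₂'` -/
def gg' : ↥(WW τ τ') →+* s₂'.D'.R where
  toFun w := w.1.2.1.2
  map_one' := rfl
  map_mul' _ _ := rfl
  map_zero' := rfl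
  map_add' _ _ := rfl

omit τ τ' in
/-- Claim B: two extensions with the same difference from `s₁` are equivalent. -/
theorem Link.xequiv (h : Link hp s₁ s₂ E) (h' : Link hp s₁ s₂' E) : XExt.Equiv s₂ s₂' := by
  obtain ⟨τ, h0, h1, h2⟩ := h
  obtain ⟨τ', h0', h1', h2'⟩ := h'
  have hsurj : Function.Surjective (gg τ τ') := by
    intro b₂
    obtain ⟨z, hz⟩ := PP.exists_snd s₁ s₂ b₂
    obtain ⟨z', hz1, hz2⟩ := exists_partner hp τ τ' h1 h1' h2' z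
    exact ⟨⟨(z, z'), ⟨hz1, hz2⟩⟩, hz⟩
  have hsurj' : Function.Surjective (gg' τ τ') := by
    intro b₂'
    obtain ⟨z', hz'⟩ := PP.exists_snd s₁ s₂' b₂'
    obtain ⟨z, hz1, hz2⟩ := exists_partner hp τ' τ h1' h1 h2 z'
    exact ⟨⟨(z, z'), ⟨hz1.symm, hz2.symm⟩⟩, hz'⟩
  have hker : RingHom.ker (gg τ τ') ≤ RingHom.ker (gg' τ τ') := by
    intro w hw
    rw [RingHom.mem_ker] at hw ⊢
    exact snd_eq_zero hp τ τ' h0 h2 h0' h2' w.1.1 w.1.2 w.2.1 w.2.2 hw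
  have hker' : RingHom.ker (gg' τ τ') ≤ RingHom.ker (gg τ τ') := by
    intro w hw
    rw [RingHom.mem_ker] at hw ⊢
    exact snd_eq_zero hp τ' τ h0' h2' h0 h2 w.1.2 w.1.1 w.2.1.symm w.2.2.symm hw
  let θ : s₂.D'.R →+* s₂'.D'.R := (gg τ τ').liftOfSurjective hsurj ⟨gg' τ τ', hker⟩
  let θ' : s₂'.D'.R →+* s₂.D'.R := (gg' τ τ').liftOfSurjective hsurj' ⟨gg τ τ', hker'⟩
  have hθ : ∀ w, θ (gg τ τ' w) = gg' τ τ' w := fun w =>
    RingHom.liftOfSurjective_comp_apply _ hsurj ⟨gg' τ τ', hker⟩ w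
  have hθ' : ∀ w, θ' (gg' τ τ' w) = gg τ τ' w := fun w =>
    RingHom.liftOfSurjective_comp_apply _ hsurj' ⟨gg τ τ', hker'⟩ w
  have c1 : θ.comp θ' = RingHom.id _ := by
    ext b
    obtain ⟨w, rfl⟩ := hsurj' b
    show θ (θ' (gg' τ τ' w)) = gg' τ τ' w
    rw [hθ', hθ]
  have c2 : θ'.comp θ = RingHom.id _ := by
    ext b
    obtain ⟨w, rfl⟩ := hsurj b
    show θ' (θ (gg τ τ' w)) = gg τ τ' w
    rw [hθ, hθ']
  refine ⟨RingEquiv.ofRingHom θ θ' c1 c2, ?_, ?_⟩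
  · intro c
    have hw : ((algebraMap C' ↥(PP s₁ s₂) c, algebraMap C' ↥(PP s₁ s₂') c) :
        ↥(PP s₁ s₂) × ↥(PP s₁ s₂')) ∈ WW τ τ' := by
      refine ⟨rfl, ?_⟩
      show τ (algebraMap C' ↥(PP s₁ s₂) c) = τ' (algebraMap C' ↥(PP s₁ s₂') c)
      rw [h0, h0']
    exact hθ ⟨_, hw⟩
  · intro r
    obtain ⟨w, rfl⟩ := hsurj r
    show s₂'.q (θ (gg τ τ' w)) = s₂.q (gg τ τ' w)
    rw [hθ]
    show s₂'.q w.1.2.1.2 = s₂.q w.1.1.1.2
    rw [← PP.cond s₁ s₂' w.1.2, ← PP.cond s₁ s₂ w.1.1, w.2.1]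

end ClaimB

end Groth.Agent.Lib.Helper19.DefX
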