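import Mathlib
import Groth.Agent.Lib.Helper19.DefX4

/-!
# Extensions of an affine deformation over a semismall extension, part 5 (helper19)

`exists_link_of_ext`: for an extension `s₁` and a `k`-extension `E` of `B₀` by `B₀ ⊗ J` there is an
extension `s₂` whose difference from `s₁` is `E`: `R₂ = (R₁ ×_{B₀} E) / {(u₁ n, -n)}`.
-/

set_option autoImplicit false
set_option linter.style.haveILetI false
set_option linter.unusedSectionVars false
universe u
open TensorProduct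

namespace Groth.Agent.Lib.Helper19.DefX

open ArtFun ArtFun.Art Groth.Agent.Lib.Helper19.AffDef Groth.Agent.Lib.Helper19.SmObs

variable {k : Type u} [Field k] {C' C : Art k k} {p : C' ⟶ C} {B₀ : Type u} [CommRing B₀]
  [Algebra k B₀] {D : AData C B₀}

section Build

variable (hp : IsSemismallExt p) (s₁ : XExt p D)
  (E : Exal.Ext k B₀ (B₀ ⊗[k] ↥(RingHom.ker p.toAlgHom)))

/-- pairs `(b, e)` over `B₀` -/
def PT : Subring (s₁.D'.R × E.E) where
  carrier := {z | s₁.D'.π z.1 = E.proj z.2}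
  mul_mem' := by
    intro a b ha hb
    show s₁.D'.π (a.1 * b.1) = E.proj (a.2 * b.2)
    rw [map_mul, map_mul, ha, hb]
  one_mem' := by
    show s₁.D'.π 1 = E.proj 1
    rw [map_one, map_one]
  add_mem' := by
    intro a b ha hb
    show s₁.D'.π (a.1 + b.1) = E.proj (a.2 + b.2)
    rw [map_add, map_add, ha, hb]
  zero_mem' := by
    show s₁.D'.π 0 = E.proj 0
    rw [map_zero, map_zero]
  neg_mem' := by
    intro a ha
    show s₁.D'.π (-a.1) = E.proj (-a.2)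
    rw [map_neg, map_neg, ha]

lemma PT.cond (z : ↥(PT s₁ E)) : s₁.D'.π z.1.1 = E.proj z.1.2 := z.2

lemma PT.exists_fst (b : s₁.D'.R) : ∃ z : ↥(PT s₁ E), z.1.1 = b := by
  obtain ⟨e, he⟩ := E.isExtension.proj_surjective (s₁.D'.π b)
  exact ⟨⟨(b, e), he.symm⟩, rfl⟩

/-- the structure map `C' → P̃` -/
noncomputable def a2 : C' →+* ↥(PT s₁ E) :=
  RingHom.codRestrict
    ((algebraMap C' s₁.D'.R).prod ((algebraMap k E.E).comp (C'.res : C' →+* k)))
    (PT s₁ E) (fun c => by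
      show s₁.D'.π (algebraMap C' s₁.D'.R c) = E.proj (algebraMap k E.E (C'.res c))
      rw [π_alg, AlgHom.commutes])

lemma a2_fst (c : C') : (a2 s₁ E c).1.1 = algebraMap C' s₁.D'.R c := rfl

lemma a2_snd (c : C') : (a2 s₁ E c).1.2 = algebraMap k E.E (C'.res c) := rfl

noncomputable instance algPT : Algebra C' ↥(PT s₁ E) :=
  (a2 s₁ E).toAlgebra' (fun _ _ => mul_comm _ _)

lemma algebraMap_PT (c : C') : algebraMap C' ↥(PT s₁ E) c = a2 s₁ E c := rfl

lemma PT.exists_mem_map_fst {b : s₁.D'.R}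
    (hb : b ∈ (IsLocalRing.maximalIdeal C').map (algebraMap C' s₁.D'.R)) :
    ∃ w ∈ (IsLocalRing.maximalIdeal C').map (algebraMap C' ↥(PT s₁ E)), w.1.1 = b := by
  unfold Ideal.map at hb
  refine Submodule.span_induction (p := fun b _ =>
    ∃ w ∈ (IsLocalRing.maximalIdeal C').map (algebraMap C' ↥(PT s₁ E)), w.1.1 = b) ?_ ?_ ?_ ?_ hb
  · rintro _ ⟨m, hm, rfl⟩
    exact ⟨algebraMap C' ↥(PT s₁ E) m, Ideal.mem_map_of_mem _ hm, rfl⟩
  · exact ⟨0, Ideal.zero_mem _, rfl⟩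
  · rintro a b _ _ ⟨w, hw, rfl⟩ ⟨w', hw', rfl⟩
    exact ⟨w + w', Ideal.add_mem _ hw hw', rfl⟩
  · rintro a b _ ⟨w, hw, rfl⟩
    obtain ⟨z, rfl⟩ := PT.exists_fst s₁ E a
    exact ⟨z * w, Ideal.mul_mem_left _ _ hw, rfl⟩

/-- the antidiagonal ideal `{(u₁ n, -n)}` -/
def Nab : Ideal ↥(PT s₁ E) where
  carrier := {z | ∃ n, z.1.1 = uu s₁.D' hp n ∧ z.1.2 = -E.incl n}
  add_mem' := by
    rintro a b ⟨n, h1, h2⟩ ⟨m, h3, h4⟩
    refine ⟨n + m, ?_, ?_⟩
    · show a.1.1 + b.1.1 = _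
      rw [h1, h3, map_add]
    · show a.1.2 + b.1.2 = _
      rw [h2, h4, map_add, neg_add]
  zero_mem' := ⟨0, by
    show (0 : s₁.D'.R) = _
    rw [map_zero], by
    show (0 : E.E) = _
    rw [map_zero, neg_zero]⟩
  smul_mem' := by
    rintro c a ⟨n, h1, h2⟩
    refine ⟨s₁.D'.π c.1.1 • n, ?_, ?_⟩
    · show c.1.1 * a.1.1 = _
      rw [h1, mul_uu]
    · show c.1.2 * a.1.2 = _
      rw [h2, mul_neg, E.isExtension.mul_incl, PT.cond]

/-- the new ring -/
abbrev R2 : Type u := ↥(PT s₁ E) ⧸ Nab hp s₁ E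

lemma algebraMap_R2 (c : C') :
    algebraMap C' (R2 hp s₁ E) c = Ideal.Quotient.mk (Nab hp s₁ E) (a2 s₁ E c) := rfl

/-- `(u₁ n, 0)` -/
noncomputable def uz (n : B₀ ⊗[k] ↥(RingHom.ker p.toAlgHom)) : ↥(PT s₁ E) :=
  ⟨(uu s₁.D' hp n, 0), by
    show s₁.D'.π (uu s₁.D' hp n) = E.proj 0
    rw [π_uu, map_zero]⟩

/-- `(0, n)` -/
def zi (n : B₀ ⊗[k] ↥(RingHom.ker p.toAlgHom)) : ↥(PT s₁ E) :=
  ⟨(0, E.incl n), by
    show s₁.D'.π 0 = E.proj (E.incl n)
    rw [map_zero, (E.isExtension.exact _).2 ⟨n, rfl⟩]⟩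

lemma mk_zi (n : B₀ ⊗[k] ↥(RingHom.ker p.toAlgHom)) :
    Ideal.Quotient.mk (Nab hp s₁ E) (zi s₁ E n) =
      Ideal.Quotient.mk (Nab hp s₁ E) (uz hp s₁ E n) := by
  rw [Ideal.Quotient.eq]
  refine ⟨-n, ?_, ?_⟩
  · show (0 : s₁.D'.R) - uu s₁.D' hp n = uu s₁.D' hp (-n)
    rw [map_neg, zero_sub]
  · show E.incl n - 0 = -E.incl (-n)
    rw [map_neg, neg_neg, sub_zero]

lemma uz_mem (n : B₀ ⊗[k] ↥(RingHom.ker p.toAlgHom)) :
    uz hp s₁ E n ∈ (RingHom.ker p.toAlgHom).map (algebraMap C' ↥(PT s₁ E)) := by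
  induction n using TensorProduct.induction_on with
  | zero =>
    have h0 : uz hp s₁ E 0 = 0 := by
      apply Subtype.ext
      apply Prod.ext
      · exact map_zero (uu s₁.D' hp)
      · rfl
    rw [h0]
    exact Ideal.zero_mem _
  | tmul b x =>
    obtain ⟨r, rfl⟩ := s₁.D'.h2 b
    obtain ⟨e, he⟩ := E.isExtension.proj_surjective (s₁.D'.π r)
    have h0 : uz hp s₁ E (s₁.D'.π r ⊗ₜ[k] x) =
        algebraMap C' ↥(PT s₁ E) x.1 * (⟨(r, e), he.symm⟩ : ↥(PT s₁ E)) := by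
      apply Subtype.ext
      apply Prod.ext
      · show uu s₁.D' hp (s₁.D'.π r ⊗ₜ[k] x) = algebraMap C' s₁.D'.R x.1 * r
        rw [uu_tmul]
      · show (0 : E.E) = algebraMap k E.E (C'.res x.1) * e
        rw [res_eq_zero_of_mem x.2, map_zero, zero_mul]
    rw [h0]
    exact Ideal.mul_mem_right _ _ (Ideal.mem_map_of_mem _ x.2)
  | add a b ha hb =>
    have h0 : uz hp s₁ E (a + b) = uz hp s₁ E a + uz hp s₁ E b := by
      apply Subtype.ext
      apply Prod.ext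
      · exact map_add (uu s₁.D' hp) a b
      · exact (add_zero (0 : E.E)).symm
    rw [h0]
    exact Ideal.add_mem _ ha hb

lemma mk_mem_map (I : Ideal C') {w : ↥(PT s₁ E)}
    (hw : w ∈ I.map (algebraMap C' ↥(PT s₁ E))) :
    Ideal.Quotient.mk (Nab hp s₁ E) w ∈ I.map (algebraMap C' (R2 hp s₁ E)) := by
  have h : I.map (algebraMap C' (R2 hp s₁ E)) =
      (I.map (algebraMap C' ↥(PT s₁ E))).map (Ideal.Quotient.mk (Nab hp s₁ E)) := by
    rw [Ideal.map_map]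
    rfl
  rw [h]
  exact Ideal.mem_map_of_mem _ hw

/-- the projection `R₂ → B₀` -/
noncomputable def π2 : R2 hp s₁ E →+* B₀ :=
  Ideal.Quotient.lift (Nab hp s₁ E) (s₁.D'.π.comp ((RingHom.fst _ _).comp (PT s₁ E).subtype))
    (by
      rintro z ⟨n, h1, h2⟩
      show s₁.D'.π z.1.1 = 0
      rw [h1, π_uu])

lemma π2_mk (z : ↥(PT s₁ E)) :
    π2 hp s₁ E (Ideal.Quotient.mk (Nab hp s₁ E) z) = s₁.D'.π z.1.1 := rfl

/-- the map `R₂ → D.R` -/
noncomputable def q2 : R2 hp s₁ E →+* D.R :=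
  Ideal.Quotient.lift (Nab hp s₁ E) (s₁.q.comp ((RingHom.fst _ _).comp (PT s₁ E).subtype))
    (by
      rintro z ⟨n, h1, h2⟩
      show s₁.q z.1.1 = 0
      rw [h1, s₁.q_uu hp])

lemma q2_mk (z : ↥(PT s₁ E)) :
    q2 hp s₁ E (Ideal.Quotient.mk (Nab hp s₁ E) z) = s₁.q z.1.1 := rfl

lemma ker_π2 : RingHom.ker (π2 hp s₁ E) =
    (IsLocalRing.maximalIdeal C').map (algebraMap C' (R2 hp s₁ E)) := by
  apply le_antisymm
  · intro r hr
    obtain ⟨z, rfl⟩ := Ideal.Quotient.mk_surjective r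
    have hz : s₁.D'.π z.1.1 = 0 := hr
    have hmem : z.1.1 ∈ (IsLocalRing.maximalIdeal C').map (algebraMap C' s₁.D'.R) := by
      rw [← s₁.D'.h3]
      exact hz
    obtain ⟨w, hw, hw1⟩ := PT.exists_mem_map_fst s₁ E hmem
    have hproj : E.proj (z.1.2 - w.1.2) = 0 := by
      rw [map_sub, ← PT.cond, ← PT.cond, hw1, sub_self]
    obtain ⟨n, hn⟩ := (E.isExtension.exact _).1 hproj
    have hzw : z = w + zi s₁ E n := by
      apply Subtype.ext
      apply Prod.ext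
      · show z.1.1 = w.1.1 + 0
        rw [add_zero, hw1]
      · show z.1.2 = w.1.2 + E.incl n
        rw [hn, add_sub_cancel]
    rw [hzw, map_add, mk_zi]
    apply Ideal.add_mem
    · exact mk_mem_map hp s₁ E _ hw
    · exact mk_mem_map hp s₁ E _
        (Ideal.map_mono (fun x hx => mem_max_of_mem hx) (uz_mem hp s₁ E n))
  · rw [Ideal.map_le_iff_le_comap]
    intro m hm
    rw [Ideal.mem_comap, RingHom.mem_ker]
    show s₁.D'.π (algebraMap C' s₁.D'.R m) = 0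
    exact π_alg_of_mem s₁.D' hm

lemma ker_q2 : RingHom.ker (q2 hp s₁ E) =
    (RingHom.ker p.toAlgHom).map (algebraMap C' (R2 hp s₁ E)) := by
  apply le_antisymm
  · intro r hr
    obtain ⟨z, rfl⟩ := Ideal.Quotient.mk_surjective r
    have hz : s₁.q z.1.1 = 0 := hr
    obtain ⟨n, hn⟩ := s₁.exists_uu hp hz
    have hproj : E.proj z.1.2 = 0 := by
      rw [← PT.cond, ← hn, π_uu]
    obtain ⟨n', hn'⟩ := (E.isExtension.exact _).1 hproj
    have hz' : z = uz hp s₁ E n + zi s₁ E n' := by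
      apply Subtype.ext
      apply Prod.ext
      · show z.1.1 = uu s₁.D' hp n + 0
        rw [add_zero, hn]
      · show z.1.2 = 0 + E.incl n'
        rw [zero_add, hn']
    rw [hz', map_add, mk_zi]
    exact Ideal.add_mem _ (mk_mem_map hp s₁ E _ (uz_mem hp s₁ E n))
      (mk_mem_map hp s₁ E _ (uz_mem hp s₁ E n'))
  · rw [Ideal.map_le_iff_le_comap]
    intro x hx
    rw [Ideal.mem_comap, RingHom.mem_ker]
    show s₁.q (algebraMap C' s₁.D'.R x) = 0
    rw [s₁.hq1]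
    have hx' : p.toAlgHom x = 0 := hx
    rw [hx', map_zero]

/-- a `k`-linear section of `E.proj` -/
noncomputable def sec0 : B₀ →ₗ[k] E.E :=
  Classical.choose (E.proj.toLinearMap.exists_rightInverse_of_surjective
    (LinearMap.range_eq_top.2 E.isExtension.proj_surjective))

lemma proj_sec0 (b : B₀) : E.proj (sec0 E b) = b :=
  LinearMap.congr_fun (Classical.choose_spec (E.proj.toLinearMap.exists_rightInverse_of_surjective
    (LinearMap.range_eq_top.2 E.isExtension.proj_surjective))) b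

/-- `b ↦ (b, s₀ (π b))` -/
noncomputable def lamFun (b : s₁.D'.R) : ↥(PT s₁ E) :=
  ⟨(b, sec0 E (s₁.D'.π b)), (proj_sec0 E _).symm⟩

lemma lamFun_add (a b : s₁.D'.R) : lamFun s₁ E (a + b) = lamFun s₁ E a + lamFun s₁ E b := by
  apply Subtype.ext
  apply Prod.ext
  · rfl
  · show sec0 E (s₁.D'.π (a + b)) = sec0 E (s₁.D'.π a) + sec0 E (s₁.D'.π b)
    rw [map_add, map_add]

lemma lamFun_smul (c : C') (b : s₁.D'.R) : lamFun s₁ E (c • b) = a2 s₁ E c * lamFun s₁ E b := by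
  apply Subtype.ext
  apply Prod.ext
  · show c • b = algebraMap C' s₁.D'.R c * b
    rw [Algebra.smul_def]
  · show sec0 E (s₁.D'.π (c • b)) = algebraMap k E.E (C'.res c) * sec0 E (s₁.D'.π b)
    rw [Algebra.smul_def, map_mul, π_alg, ← Algebra.smul_def, map_smul, Algebra.smul_def]

/-- the `C'`-linear bijection `R₁ → R₂` -/
noncomputable def lam : s₁.D'.R →ₗ[C'] R2 hp s₁ E where
  toFun b := Ideal.Quotient.mk (Nab hp s₁ E) (lamFun s₁ E b)
  map_add' a b := by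
    rw [lamFun_add, map_add]
  map_smul' c b := by
    rw [RingHom.id_apply, lamFun_smul, map_mul]
    exact (Algebra.smul_def c _).symm

lemma lam_apply (b : s₁.D'.R) :
    lam hp s₁ E b = Ideal.Quotient.mk (Nab hp s₁ E) (lamFun s₁ E b) := rfl

lemma lam_injective : Function.Injective (lam hp s₁ E) := by
  rw [← LinearMap.ker_eq_bot, LinearMap.ker_eq_bot']
  intro b hb
  rw [lam_apply, Ideal.Quotient.eq_zero_iff_mem] at hb
  obtain ⟨n, h1, h2⟩ := hb
  have h1' : b = uu s₁.D' hp n := h1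
  have h2' : sec0 E (s₁.D'.π b) = -E.incl n := h2
  rw [h1', π_uu, map_zero] at h2'
  have hn : n = 0 := by
    apply E.isExtension.incl_injective
    rw [map_zero, ← neg_eq_zero]
    exact h2'.symm
  rw [h1', hn, map_zero]

lemma lam_surjective : Function.Surjective (lam hp s₁ E) := by
  intro r
  obtain ⟨z, rfl⟩ := Ideal.Quotient.mk_surjective r
  have hker : E.proj (z.1.2 - sec0 E (s₁.D'.π z.1.1)) = 0 := by
    rw [map_sub, proj_sec0, PT.cond, sub_self]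
  obtain ⟨n, hn⟩ := (E.isExtension.exact _).1 hker
  refine ⟨z.1.1 + uu s₁.D' hp n, ?_⟩
  rw [lam_apply, Ideal.Quotient.eq]
  refine ⟨n, ?_, ?_⟩
  · show z.1.1 + uu s₁.D' hp n - z.1.1 = uu s₁.D' hp n
    rw [add_sub_cancel_left]
  · show sec0 E (s₁.D'.π (z.1.1 + uu s₁.D' hp n)) - z.1.2 = -E.incl n
    rw [map_add, π_uu, add_zero, hn, neg_sub]

instance flatR2 : Module.Flat C' (R2 hp s₁ E) :=
  Module.Flat.of_linearEquiv (LinearEquiv.ofBijective (lam hp s₁ E)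
    ⟨lam_injective hp s₁ E, lam_surjective hp s₁ E⟩).symm

/-- the new deformation datum -/
noncomputable def D2 : AData C' B₀ where
  R := R2 hp s₁ E
  π := π2 hp s₁ E
  h1 := by
    intro c
    show s₁.D'.π (algebraMap C' s₁.D'.R c) = _
    exact π_alg s₁.D' c
  h2 := by
    intro b
    obtain ⟨r, hr⟩ := s₁.D'.h2 b
    obtain ⟨z, hz⟩ := PT.exists_fst s₁ E r
    refine ⟨Ideal.Quotient.mk _ z, ?_⟩
    show s₁.D'.π z.1.1 = b
    rw [hz, hr]
  h3 := ker_π2 hp s₁ E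

/-- the new extension -/
noncomputable def X2 : XExt p D where
  D' := D2 hp s₁ E
  q := q2 hp s₁ E
  hq1 := by
    intro c
    show s₁.q (algebraMap C' s₁.D'.R c) = _
    exact s₁.hq1 c
  hq2 := by
    intro r
    obtain ⟨z, rfl⟩ := Ideal.Quotient.mk_surjective r
    show D.π (s₁.q z.1.1) = s₁.D'.π z.1.1
    exact s₁.hq2 _
  hq3 := by
    intro d
    obtain ⟨b, hb⟩ := s₁.hq3 d
    obtain ⟨z, hz⟩ := PT.exists_fst s₁ E b
    refine ⟨Ideal.Quotient.mk _ z, ?_⟩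
    show s₁.q z.1.1 = d
    rw [hz, hb]
  hq4 := ker_q2 hp s₁ E

lemma uu_D2 (n : B₀ ⊗[k] ↥(RingHom.ker p.toAlgHom)) :
    uu (D2 hp s₁ E) hp n = Ideal.Quotient.mk (Nab hp s₁ E) (zi s₁ E n) := by
  induction n using TensorProduct.induction_on with
  | zero =>
    have h0 : zi s₁ E 0 = 0 := by
      apply Subtype.ext
      apply Prod.ext
      · rfl
      · exact map_zero E.incl
    rw [map_zero, h0, map_zero]
    rfl
  | tmul b x =>
    obtain ⟨r, rfl⟩ := (D2 hp s₁ E).h2 b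
    obtain ⟨z, rfl⟩ := Ideal.Quotient.mk_surjective (I := Nab hp s₁ E) r
    rw [uu_tmul, mk_zi]
    show Ideal.Quotient.mk (Nab hp s₁ E) (a2 s₁ E x.1) * Ideal.Quotient.mk (Nab hp s₁ E) z =
      Ideal.Quotient.mk (Nab hp s₁ E) (uz hp s₁ E (s₁.D'.π z.1.1 ⊗ₜ[k] x))
    rw [← map_mul]
    congr 1
    apply Subtype.ext
    apply Prod.ext
    · show algebraMap C' s₁.D'.R x.1 * z.1.1 = uu s₁.D' hp (s₁.D'.π z.1.1 ⊗ₜ[k] x)
      rw [uu_tmul]
    · show algebraMap k E.E (C'.res x.1) * z.1.2 = 0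
      rw [res_eq_zero_of_mem x.2, map_zero, zero_mul]
  | add a b ha hb =>
    have h0 : zi s₁ E (a + b) = zi s₁ E a + zi s₁ E b := by
      apply Subtype.ext
      apply Prod.ext
      · exact (add_zero (0 : s₁.D'.R)).symm
      · exact map_add E.incl a b
    rw [map_add, ha, hb, h0, map_add]
    rfl

/-- `(b, e) ↦ (b, [(b, e)])` -/
noncomputable def gPT : ↥(PT s₁ E) →+* ↥(PP s₁ (X2 hp s₁ E)) :=
  RingHom.codRestrict
    ((((RingHom.fst _ _).comp (PT s₁ E).subtype : ↥(PT s₁ E) →+* s₁.D'.R)).prod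
      (Ideal.Quotient.mk (Nab hp s₁ E) : ↥(PT s₁ E) →+* (X2 hp s₁ E).D'.R))
    (PP s₁ (X2 hp s₁ E)) (fun z => rfl)

lemma gPT_fst (z : ↥(PT s₁ E)) : (gPT hp s₁ E z).1.1 = z.1.1 := rfl

lemma gPT_snd (z : ↥(PT s₁ E)) :
    (gPT hp s₁ E z).1.2 = Ideal.Quotient.mk (Nab hp s₁ E) z := rfl

lemma gPT_injective : Function.Injective (gPT hp s₁ E) := by
  rw [injective_iff_map_eq_zero]
  intro z hz
  have h1 : z.1.1 = 0 := congrArg (fun w : ↥(PP s₁ (X2 hp s₁ E)) => w.1.1) hz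
  have h2 : Ideal.Quotient.mk (Nab hp s₁ E) z = 0 :=
    congrArg (fun w : ↥(PP s₁ (X2 hp s₁ E)) => w.1.2) hz
  rw [Ideal.Quotient.eq_zero_iff_mem] at h2
  obtain ⟨n, h3, h4⟩ := h2
  have hn : n = 0 := by
    apply uu_injective s₁.D' hp
    rw [map_zero, ← h3, h1]
  apply Subtype.ext
  apply Prod.ext
  · exact h1
  · show z.1.2 = 0
    rw [h4, hn, map_zero, neg_zero]

lemma gPT_surjective : Function.Surjective (gPT hp s₁ E) := by
  intro y
  obtain ⟨z, hz⟩ := Ideal.Quotient.mk_surjective (I := Nab hp s₁ E) y.1.2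
  have hq : s₁.q (y.1.1 - z.1.1) = 0 := by
    rw [map_sub, PP.cond s₁ (X2 hp s₁ E) y, ← hz]
    exact sub_self _
  obtain ⟨n, hn⟩ := s₁.exists_uu hp hq
  have hy : y.1.1 = z.1.1 + uu s₁.D' hp n := by
    rw [hn, add_sub_cancel]
  have hmem : s₁.D'.π y.1.1 = E.proj (z.1.2 - E.incl n) := by
    rw [map_sub, (E.isExtension.exact _).2 ⟨n, rfl⟩, sub_zero, ← PT.cond, hy, map_add, π_uu,
      add_zero]
  refine ⟨⟨(y.1.1, z.1.2 - E.incl n), hmem⟩, ?_⟩
  apply Subtype.ext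
  apply Prod.ext
  · rfl
  · show Ideal.Quotient.mk (Nab hp s₁ E) _ = y.1.2
    rw [← hz, Ideal.Quotient.eq]
    refine ⟨n, ?_, ?_⟩
    · show y.1.1 - z.1.1 = uu s₁.D' hp n
      exact hn.symm
    · show z.1.2 - E.incl n - z.1.2 = -E.incl n
      exact sub_sub_cancel_left _ _

/-- Claim D: every extension class is the difference of some extension from `s₁`. -/
theorem exists_link_of_ext : ∃ s₂, Link hp s₁ s₂ E := by
  refine ⟨X2 hp s₁ E, ?_⟩
  let sndH : ↥(PT s₁ E) →+* E.E := (RingHom.snd _ _).comp (PT s₁ E).subtype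
  have hk : RingHom.ker (gPT hp s₁ E) ≤ RingHom.ker sndH := by
    intro z hz
    rw [RingHom.mem_ker] at hz
    have hz0 : z = 0 := gPT_injective hp s₁ E (by rw [hz, map_zero])
    rw [hz0]
    exact Ideal.zero_mem _
  let τ : ↥(PP s₁ (X2 hp s₁ E)) →+* E.E :=
    (gPT hp s₁ E).liftOfSurjective (gPT_surjective hp s₁ E) ⟨sndH, hk⟩
  have hτ : ∀ z, τ (gPT hp s₁ E z) = z.1.2 := fun z =>
    RingHom.liftOfSurjective_comp_apply _ (gPT_surjective hp s₁ E) ⟨sndH, hk⟩ z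
  refine ⟨τ, ?_, ?_, ?_⟩
  · intro c
    have hc : algebraMap C' ↥(PP s₁ (X2 hp s₁ E)) c = gPT hp s₁ E (a2 s₁ E c) := by
      apply Subtype.ext
      apply Prod.ext
      · rfl
      · rfl
    rw [hc, hτ]
    rfl
  · intro y
    obtain ⟨z, rfl⟩ := gPT_surjective hp s₁ E y
    rw [hτ]
    exact (PT.cond s₁ E z).symm
  · intro n
    have hn : zeroU s₁ (X2 hp s₁ E) hp n = gPT hp s₁ E (zi s₁ E n) := by
      apply Subtype.ext
      apply Prod.ext
      · rfl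
      · show uu (D2 hp s₁ E) hp n = Ideal.Quotient.mk _ (zi s₁ E n)
        exact uu_D2 hp s₁ E n
    rw [hn, hτ]
    rfl

end Build

end Groth.Agent.Lib.Helper19.DefX
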