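import Mathlib
import Groth.Agent.Lib.Helper19.DefX5
import Groth.Agent.Lib.Helper19.SmObsLift

/-!
# Extensions of an affine deformation over a semismall extension, part 6 (helper19)

The dictionary between extensions of a deformation `𝒳` of `Spec B₀` (pairs of a deformation over
`C'` and an isomorphism of its base change with `𝒳`) and the algebraic extensions `XExt p D`.
-/

set_option autoImplicit false
set_option linter.style.haveILetI false
set_option linter.unusedSectionVars false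
universe u
open TensorProduct CategoryTheory CategoryTheory.Limits AlgebraicGeometry

namespace Groth.Agent.Lib.Helper19.DefX

open ArtFun ArtFun.Art Groth.Agent.Lib.Helper19.AffDef Groth.Agent.Lib.Helper19.SmObs

section Alg

lemma isPushout_of_isPullback_SpecMap {A B C P : CommRingCat.{u}} (f : A ⟶ B) (g : A ⟶ C)
    (inl : B ⟶ P) (inr : C ⟶ P)
    (h : IsPullback (Spec.map inl) (Spec.map inr) (Spec.map f) (Spec.map g)) :
    IsPushout f g inl inr := by
  have h' : IsPullback (Scheme.Spec.map inl.op) (Scheme.Spec.map inr.op) (Scheme.Spec.map f.op)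
      (Scheme.Spec.map g.op) := h
  exact (IsPullback.of_map_of_faithful Scheme.Spec h').unop.flip

theorem surj_ker_of_isPushout {A' A R' R : Type u} [CommRing A'] [CommRing A] [CommRing R']
    [CommRing R] (p : A' →+* A) (hp : Function.Surjective p) (a1 : A' →+* R') (a2 : A →+* R)
    (β : R' →+* R)
    (hP : IsPushout (CommRingCat.ofHom a1) (CommRingCat.ofHom p) (CommRingCat.ofHom β)
      (CommRingCat.ofHom a2)) :
    Function.Surjective β ∧ RingHom.ker β = (RingHom.ker p).map a1 := by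
  let I : Ideal R' := (RingHom.ker p).map a1
  have hk : RingHom.ker p ≤ RingHom.ker ((Ideal.Quotient.mk I).comp a1) := by
    intro x hx
    rw [RingHom.mem_ker, RingHom.comp_apply, Ideal.Quotient.eq_zero_iff_mem]
    exact Ideal.mem_map_of_mem _ hx
  let a2' : A →+* R' ⧸ I := RingHom.liftOfSurjective p hp ⟨(Ideal.Quotient.mk I).comp a1, hk⟩
  have ha2' : ∀ a, a2' (p a) = Ideal.Quotient.mk I (a1 a) := fun a =>
    RingHom.liftOfSurjective_comp_apply p hp ⟨(Ideal.Quotient.mk I).comp a1, hk⟩ a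
  have hP2 := isPushout_of_surjective p hp a1 a2' (Ideal.Quotient.mk I)
    Ideal.Quotient.mk_surjective (fun a => (ha2' a).symm)
    (fun r hr => Ideal.Quotient.eq_zero_iff_mem.1 hr)
  let e := hP.isoIsPushout _ _ hP2
  have he : ∀ r, e.hom.hom (β r) = Ideal.Quotient.mk I r := fun r =>
    congrArg (fun f : CommRingCat.of R' ⟶ CommRingCat.of (R' ⧸ I) => f.hom r)
      (hP.inl_isoIsPushout_hom _ _ hP2)
  have hinj : Function.Injective e.hom.hom := by
    intro x y hxy
    have hx : e.inv.hom (e.hom.hom x) = x :=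
      congrArg (fun f : CommRingCat.of R ⟶ CommRingCat.of R => f.hom x) e.hom_inv_id
    have hy : e.inv.hom (e.hom.hom y) = y :=
      congrArg (fun f : CommRingCat.of R ⟶ CommRingCat.of R => f.hom y) e.hom_inv_id
    rw [← hx, ← hy, hxy]
  constructor
  · intro d
    obtain ⟨r, hr⟩ := Ideal.Quotient.mk_surjective (e.hom.hom d)
    exact ⟨r, hinj ((he r).trans hr)⟩
  · ext r
    rw [RingHom.mem_ker]
    constructor
    · intro hr
      have h0 : Ideal.Quotient.mk I r = 0 := by rw [← he, hr, map_zero]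
      exact Ideal.Quotient.eq_zero_iff_mem.1 h0
    · intro hr
      apply hinj
      rw [he, map_zero]
      exact Ideal.Quotient.eq_zero_iff_mem.2 hr

end Alg

variable {k : Type u} [Field k] {C' C : Art k k} {p : C' ⟶ C} {B₀ : Type u} [CommRing B₀]
  [Algebra k B₀]

variable (B₀) in
/-- deformations of `Spec B₀` -/
abbrev DS (A : Art k k) : Type (u + 1) :=
  DefSch (Spec (CommRingCat.of B₀)) (Spec.map (CommRingCat.ofHom (algebraMap k B₀))) A

variable (p) in
/-- extensions of `𝒳` over `C'` -/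
abbrev SX (𝒳 : DS B₀ C) : Type (u + 1) := Σ 𝒳' : DS B₀ C', (𝒳'.baseChange p).Iso 𝒳

variable {𝒳 : DS B₀ C}

/-- equivalence of extensions -/
def rr (a b : SX p 𝒳) : Prop :=
  ∃ ψ : a.1.Iso b.1, ((ψ.baseChange p).trans b.2).iso = a.2.iso

/-- the closed immersion `𝒳 → 𝒳'` of an extension -/
noncomputable def jmap (a : SX p 𝒳) : 𝒳.total ⟶ a.1.total :=
  a.2.iso.inv ≫ pullback.fst a.1.f (specMap p)

/-- isomorphism of deformations over `C'` under a scheme `T` -/
def PIso {T : Scheme.{u}} {ξ₁ ξ₂ : DS B₀ C'} (j₁ : T ⟶ ξ₁.total) (j₂ : T ⟶ ξ₂.total) : Prop :=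
  ∃ ψ : ξ₁.Iso ξ₂, j₁ ≫ ψ.iso.hom = j₂

lemma PIso.refl {T : Scheme.{u}} {ξ : DS B₀ C'} (j : T ⟶ ξ.total) : PIso j j :=
  ⟨DefSch.Iso.refl ξ, Category.comp_id j⟩

lemma PIso.symm {T : Scheme.{u}} {ξ₁ ξ₂ : DS B₀ C'} {j₁ : T ⟶ ξ₁.total} {j₂ : T ⟶ ξ₂.total}
    (h : PIso j₁ j₂) : PIso j₂ j₁ := by
  obtain ⟨ψ, hψ⟩ := h
  refine ⟨ψ.symm, ?_⟩
  show j₂ ≫ ψ.iso.inv = j₁
  rw [← hψ, Category.assoc, Iso.hom_inv_id, Category.comp_id]

lemma PIso.trans {T : Scheme.{u}} {ξ₁ ξ₂ ξ₃ : DS B₀ C'} {j₁ : T ⟶ ξ₁.total}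
    {j₂ : T ⟶ ξ₂.total} {j₃ : T ⟶ ξ₃.total}
    (h : PIso j₁ j₂) (h' : PIso j₂ j₃) : PIso j₁ j₃ := by
  obtain ⟨ψ, hψ⟩ := h
  obtain ⟨ψ', hψ'⟩ := h'
  refine ⟨ψ.trans ψ', ?_⟩
  show j₁ ≫ ψ.iso.hom ≫ ψ'.iso.hom = j₃
  rw [← Category.assoc, hψ, hψ']

lemma inv_snd (a : SX p 𝒳) : a.2.iso.inv ≫ pullback.snd a.1.f (specMap p) = 𝒳.f := by
  rw [Iso.inv_comp_eq]
  exact a.2.hom_f.symm

lemma jmap_f (a : SX p 𝒳) : jmap a ≫ a.1.f = 𝒳.f ≫ specMap p := by
  unfold jmap
  rw [Category.assoc, pullback.condition, ← Category.assoc, inv_snd]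

lemma i_jmap (a : SX p 𝒳) : 𝒳.i ≫ jmap a = a.1.i := by
  unfold jmap
  rw [← a.2.i_hom, Category.assoc, Iso.hom_inv_id_assoc]
  exact DefSch.baseChange_i_fst a.1 p

theorem rr_iff (a b : SX p 𝒳) : rr a b ↔ PIso (jmap a) (jmap b) := by
  constructor
  · rintro ⟨ψ, hψ⟩
    refine ⟨ψ, ?_⟩
    have h1 : DefSch.pullMap ψ.iso.hom ψ.hom_f p ≫ b.2.iso.hom = a.2.iso.hom :=
      congrArg Iso.hom hψ
    have h2 : DefSch.pullMap ψ.iso.hom ψ.hom_f p = a.2.iso.hom ≫ b.2.iso.inv := by
      rw [← h1, Category.assoc, Iso.hom_inv_id, Category.comp_id]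
    unfold jmap
    rw [Category.assoc, ← DefSch.pullMap_fst ψ.iso.hom ψ.hom_f p, h2, Category.assoc,
      Iso.inv_hom_id_assoc]
  · rintro ⟨ψ, hψ⟩
    refine ⟨ψ, ?_⟩
    apply Iso.ext
    show DefSch.pullMap ψ.iso.hom ψ.hom_f p ≫ b.2.iso.hom = a.2.iso.hom
    rw [← Iso.eq_comp_inv]
    apply pullback.hom_ext
    · rw [DefSch.pullMap_fst, Category.assoc]
      have hb : b.2.iso.inv ≫ pullback.fst b.1.f (specMap p) = jmap b := rfl
      rw [hb, ← hψ]
      unfold jmap
      rw [Category.assoc, Iso.hom_inv_id_assoc]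
    · rw [DefSch.pullMap_snd, Category.assoc, inv_snd b]
      exact a.2.hom_f.symm

variable {D : AData C B₀} (ι : D.toDefSch.Iso 𝒳)

/-- the closed immersion attached to an algebraic extension -/
noncomputable def jS (s : XExt p D) : 𝒳.total ⟶ s.D'.toDefSch.total :=
  ι.iso.inv ≫ Spec.map (CommRingCat.ofHom s.q)

theorem pIso_jS_iff (s s' : XExt p D) : PIso (jS ι s) (jS ι s') ↔ XExt.Equiv s s' := by
  constructor
  · rintro ⟨I, hI⟩
    let θ₂₁ : CommRingCat.of s'.D'.R ⟶ CommRingCat.of s.D'.R := Spec.preimage I.iso.hom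
    let θ₁₂ : CommRingCat.of s.D'.R ⟶ CommRingCat.of s'.D'.R := Spec.preimage I.iso.inv
    have h21 : Spec.map θ₂₁ = I.iso.hom := Spec.map_preimage _
    have h12 : Spec.map θ₁₂ = I.iso.inv := Spec.map_preimage _
    have c1 : θ₂₁ ≫ θ₁₂ = 𝟙 _ := by
      apply Spec.map_injective
      rw [Spec.map_comp, h21, h12, Iso.inv_hom_id, Spec.map_id]
    have c2 : θ₁₂ ≫ θ₂₁ = 𝟙 _ := by
      apply Spec.map_injective
      rw [Spec.map_comp, h21, h12, Iso.hom_inv_id, Spec.map_id]
    have hf : CommRingCat.ofHom (algebraMap C' s'.D'.R) ≫ θ₂₁ =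
        CommRingCat.ofHom (algebraMap C' s.D'.R) := by
      apply Spec.map_injective
      rw [Spec.map_comp, h21]
      exact I.hom_f
    have hq : θ₂₁ ≫ CommRingCat.ofHom s.q = CommRingCat.ofHom s'.q := by
      apply Spec.map_injective
      rw [Spec.map_comp, h21]
      have hI' : ι.iso.inv ≫ Spec.map (CommRingCat.ofHom s.q) ≫ I.iso.hom =
          ι.iso.inv ≫ Spec.map (CommRingCat.ofHom s'.q) := by
        rw [← Category.assoc]
        exact hI
      exact (cancel_epi ι.iso.inv).1 hI'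
    have e1 : ∀ r, θ₁₂.hom (θ₂₁.hom r) = r := fun r =>
      congrArg (fun f : CommRingCat.of s'.D'.R ⟶ CommRingCat.of s'.D'.R => f.hom r) c1
    have e2 : ∀ r, θ₂₁.hom (θ₁₂.hom r) = r := fun r =>
      congrArg (fun f : CommRingCat.of s.D'.R ⟶ CommRingCat.of s.D'.R => f.hom r) c2
    have e3 : ∀ a : C', θ₂₁.hom (algebraMap C' s'.D'.R a) = algebraMap C' s.D'.R a := fun a =>
      congrArg (fun f : CommRingCat.of C' ⟶ CommRingCat.of s.D'.R => f.hom a) hf
    have e4 : ∀ r, s.q (θ₂₁.hom r) = s'.q r := fun r =>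
      congrArg (fun f : CommRingCat.of s'.D'.R ⟶ CommRingCat.of D.R => f.hom r) hq
    refine ⟨RingEquiv.ofRingHom θ₁₂.hom θ₂₁.hom (RingHom.ext e1) (RingHom.ext e2), ?_, ?_⟩
    · intro a
      change θ₁₂.hom (algebraMap C' s.D'.R a) = _
      rw [← e3, e1]
    · intro r
      change s'.q (θ₁₂.hom r) = _
      rw [← e4, e2]
  · rintro ⟨θ, hθA, hθq⟩
    have hsymmA : ∀ a : C', θ.symm (algebraMap C' s'.D'.R a) = algebraMap C' s.D'.R a := by
      intro a
      rw [← hθA, RingEquiv.symm_apply_apply]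
    have hsymmq : ∀ r, s.q (θ.symm r) = s'.q r := by
      intro r
      rw [← hθq, RingEquiv.apply_symm_apply]
    have hsymmπ : ∀ r, s.D'.π (θ.symm r) = s'.D'.π r := by
      intro r
      rw [← s.hq2, hsymmq, s'.hq2]
    let γ : Spec (CommRingCat.of s.D'.R) ≅ Spec (CommRingCat.of s'.D'.R) :=
      ⟨Spec.map (CommRingCat.ofHom θ.symm.toRingHom), Spec.map (CommRingCat.ofHom θ.toRingHom),
        by
          rw [← Spec.map_comp, ← Spec.map_id]
          congr 1
          ext r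
          exact θ.symm_apply_apply r,
        by
          rw [← Spec.map_comp, ← Spec.map_id]
          congr 1
          ext r
          exact θ.apply_symm_apply r⟩
    refine ⟨{ iso := γ, hom_f := ?_, i_hom := ?_ }, ?_⟩
    · change Spec.map _ ≫ Spec.map _ = Spec.map _
      rw [← Spec.map_comp]
      congr 1
      ext a
      exact hsymmA a
    · change Spec.map _ ≫ Spec.map _ = Spec.map _
      rw [← Spec.map_comp]
      congr 1
      ext r
      exact hsymmπ r
    · change (ι.iso.inv ≫ Spec.map (CommRingCat.ofHom s.q)) ≫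
        Spec.map (CommRingCat.ofHom θ.symm.toRingHom) = ι.iso.inv ≫ Spec.map (CommRingCat.ofHom s'.q)
      have h : Spec.map (CommRingCat.ofHom s.q) ≫ Spec.map (CommRingCat.ofHom θ.symm.toRingHom) =
          Spec.map (CommRingCat.ofHom s'.q) := by
        rw [← Spec.map_comp]
        congr 1
        ext r
        exact hsymmq r
      exact (Category.assoc _ _ _).trans
        (congrArg (fun t : D.toDefSch.total ⟶ s'.D'.toDefSch.total => ι.iso.inv ≫ t) h)

end Groth.Agent.Lib.Helper19.DefX
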