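import Mathlib
import Groth.Agent.Lib.Helper19.DefX6

/-!
# Extensions of an affine deformation over a semismall extension, part 7 (helper19)

Every extension of `𝒳` comes from an algebraic extension (`exists_xext`), every algebraic extension
gives an extension of `𝒳` (`GG`), and the classification `main`: if an extension exists, classes of
extensions are in bijection with `Exalcom k B₀ (B₀ ⊗ J)`.
-/

set_option autoImplicit false
set_option linter.style.haveILetI false
set_option linter.unusedSectionVars false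
universe u
open TensorProduct CategoryTheory CategoryTheory.Limits AlgebraicGeometry

namespace Groth.Agent.Lib.Helper19.DefX

open ArtFun ArtFun.Art Groth.Agent.Lib.Helper19.AffDef Groth.Agent.Lib.Helper19.SmObs

variable {k : Type u} [Field k] {C' C : Art k k} {p : C' ⟶ C} {B₀ : Type u} [CommRing B₀]
  [Algebra k B₀] {𝒳 : DS B₀ C} {D : AData C B₀}

section G3

variable (hp : IsSemismallExt p)

include hp in
lemma isPushout_q (s : XExt p D) : IsPushout (CommRingCat.ofHom (algebraMap C' s.D'.R))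
    (CommRingCat.ofHom p.toAlgHom.toRingHom) (CommRingCat.ofHom s.q)
    (CommRingCat.ofHom (algebraMap C D.R)) := by
  refine isPushout_of_surjective p.toAlgHom.toRingHom hp.1 _ _ s.q s.hq3 s.hq1 ?_
  intro r hr
  have h : r ∈ (RingHom.ker p.toAlgHom).map (algebraMap C' s.D'.R) := by
    rw [← s.hq4]
    exact hr
  exact h

include hp in
lemma isPullback_q (s : XExt p D) : IsPullback (Spec.map (CommRingCat.ofHom s.q)) D.toDefSch.f
    s.D'.toDefSch.f (specMap p) :=
  isPullback_SpecMap_of_isPushout _ _ _ _ (isPushout_q hp s)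

/-- the base change of `Spec R'` is `Spec R` -/
noncomputable def bcIso (s : XExt p D) : (s.D'.toDefSch.baseChange p).Iso D.toDefSch where
  iso := (IsPullback.of_hasPullback s.D'.toDefSch.f (specMap p)).isoIsPullback _ _
    (isPullback_q hp s)
  hom_f := IsPullback.isoIsPullback_hom_snd _ _ _ _
  i_hom := by
    have hπ : D.π.comp s.q = s.D'.π := RingHom.ext s.hq2
    apply (isPullback_q hp s).hom_ext
    · refine (Category.assoc _ _ _).trans ?_
      refine (congrArg (fun t => (s.D'.toDefSch.baseChange p).i ≫ t)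
        (IsPullback.isoIsPullback_hom_fst _ _ (IsPullback.of_hasPullback _ _)
          (isPullback_q hp s))).trans ?_
      refine (DefSch.baseChange_i_fst s.D'.toDefSch p).trans ?_
      change Spec.map (CommRingCat.ofHom s.D'.π) =
        Spec.map (CommRingCat.ofHom D.π) ≫ Spec.map (CommRingCat.ofHom s.q)
      rw [← Spec.map_comp, ← CommRingCat.ofHom_comp, hπ]
    · refine (Category.assoc _ _ _).trans ?_
      refine (congrArg (fun t => (s.D'.toDefSch.baseChange p).i ≫ t)
        (IsPullback.isoIsPullback_hom_snd _ _ (IsPullback.of_hasPullback _ _)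
          (isPullback_q hp s))).trans ?_
      exact (DefSch.baseChange_i_f s.D'.toDefSch p).trans (DefSch.i_f D.toDefSch).symm

/-- the extension of `𝒳` attached to an algebraic extension -/
noncomputable def GG (ι : D.toDefSch.Iso 𝒳) (s : XExt p D) : SX p 𝒳 :=
  ⟨s.D'.toDefSch, (bcIso hp s).trans ι⟩

lemma jmap_GG (ι : D.toDefSch.Iso 𝒳) (s : XExt p D) : jmap (GG hp ι s) = jS ι s := by
  have h := IsPullback.isoIsPullback_inv_fst _ _
    (IsPullback.of_hasPullback s.D'.toDefSch.f (specMap p)) (isPullback_q hp s)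
  exact (Category.assoc _ _ _).trans
    (congrArg (fun t : D.toDefSch.total ⟶ s.D'.toDefSch.total => ι.iso.inv ≫ t) h)

lemma pIso_GG (ι : D.toDefSch.Iso 𝒳) (s : XExt p D) : PIso (jmap (GG hp ι s)) (jS ι s) := by
  rw [jmap_GG]
  exact PIso.refl _

end G3

section G2

variable (hp : IsSemismallExt p)

include hp in
theorem exists_xext (ι : D.toDefSch.Iso 𝒳) (a : SX p 𝒳) :
    ∃ s : XExt p D, PIso (jmap a) (jS ι s) := by
  obtain ⟨D', ⟨κ⟩⟩ := exists_adata a.1
  let φ : D.toDefSch.total ⟶ D'.toDefSch.total := ι.iso.hom ≫ jmap a ≫ κ.iso.inv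
  let qc : CommRingCat.of D'.R ⟶ CommRingCat.of D.R := Spec.preimage φ
  have hqc : Spec.map qc = φ := Spec.map_preimage _
  have hι : ι.iso.inv ≫ D.toDefSch.f = 𝒳.f := by
    rw [Iso.inv_comp_eq]
    exact ι.hom_f.symm
  have hκ : κ.iso.inv ≫ D'.toDefSch.f = a.1.f := by
    rw [Iso.inv_comp_eq]
    exact κ.hom_f.symm
  have hκi : a.1.i ≫ κ.iso.inv = D'.toDefSch.i := by
    rw [Iso.comp_inv_eq]
    exact κ.i_hom.symm
  have hφi : D.toDefSch.i ≫ φ = D'.toDefSch.i := by
    calc D.toDefSch.i ≫ φ = (D.toDefSch.i ≫ ι.iso.hom) ≫ jmap a ≫ κ.iso.inv :=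
          (Category.assoc _ _ _).symm
      _ = 𝒳.i ≫ jmap a ≫ κ.iso.inv := by rw [ι.i_hom]
      _ = (𝒳.i ≫ jmap a) ≫ κ.iso.inv := (Category.assoc _ _ _).symm
      _ = a.1.i ≫ κ.iso.inv := by rw [i_jmap]
      _ = D'.toDefSch.i := hκi
  have hPB : IsPullback φ D.toDefSch.f D'.toDefSch.f (specMap p) := by
    refine (IsPullback.of_hasPullback a.1.f (specMap p)).of_iso (a.2.iso ≪≫ ι.iso.symm)
      κ.iso.symm (Iso.refl _) (Iso.refl _) ?_ ?_ ?_ ?_
    · simp only [φ, jmap, Iso.trans_hom, Iso.symm_hom, Category.assoc, Iso.inv_hom_id_assoc,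
        Iso.hom_inv_id_assoc]
    · simp only [Iso.trans_hom, Iso.symm_hom, Iso.refl_hom, Category.comp_id, Category.assoc, hι]
      exact a.2.hom_f.symm
    · simp only [Iso.symm_hom, Iso.refl_hom, Category.comp_id, hκ]
    · simp only [Iso.refl_hom, Category.comp_id, Category.id_comp]
  have hPB' : IsPullback (Spec.map qc) (Spec.map (CommRingCat.ofHom (algebraMap C D.R)))
      (Spec.map (CommRingCat.ofHom (algebraMap C' D'.R)))
      (Spec.map (CommRingCat.ofHom p.toAlgHom.toRingHom)) := by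
    rw [hqc]
    exact hPB
  have hPO : IsPushout (CommRingCat.ofHom (algebraMap C' D'.R))
      (CommRingCat.ofHom p.toAlgHom.toRingHom) (CommRingCat.ofHom qc.hom)
      (CommRingCat.ofHom (algebraMap C D.R)) :=
    isPushout_of_isPullback_SpecMap _ _ _ _ hPB'
  obtain ⟨hsurj, hker⟩ := surj_ker_of_isPushout p.toAlgHom.toRingHom hp.1 (algebraMap C' D'.R)
    (algebraMap C D.R) qc.hom hPO
  have hq1 : ∀ c : C', qc.hom (algebraMap C' D'.R c) = algebraMap C D.R (p.toAlgHom c) := by
    intro c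
    exact congrArg (fun f : CommRingCat.of C' ⟶ CommRingCat.of D.R => f.hom c) hPO.w
  have hq2 : ∀ r, D.π (qc.hom r) = D'.π r := by
    have hcomm : qc ≫ CommRingCat.ofHom D.π = CommRingCat.ofHom D'.π := by
      apply Spec.map_injective
      rw [Spec.map_comp, hqc]
      exact hφi
    intro r
    exact congrArg (fun f : CommRingCat.of D'.R ⟶ CommRingCat.of B₀ => f.hom r) hcomm
  refine ⟨⟨D', qc.hom, hq1, hq2, hsurj, hker⟩, ⟨κ.symm, ?_⟩⟩
  have h1 : ι.iso.inv ≫ φ = jmap a ≫ κ.iso.inv := Iso.inv_hom_id_assoc ι.iso _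
  exact h1.symm.trans
    (congrArg (fun t : D.toDefSch.total ⟶ D'.toDefSch.total => ι.iso.inv ≫ t) hqc.symm)

end G2

section Assembly

theorem nonempty_equiv_of_rel {X Y : Type*} (ra : X → X → Prop) (sb : Setoid Y)
    (L : X → Y → Prop)
    (tot : ∀ x, ∃ y, L x y) (sur : ∀ y, ∃ x, L x y)
    (hA : ∀ x y y', L x y → L x y' → sb.r y y')
    (hB : ∀ x x' y, L x y → L x' y → ra x x')
    (hLa : ∀ x x' y, L x y → ra x x' → L x' y)
    (hLb : ∀ x y y', L x y → sb.r y y' → L x y') :
    Nonempty (Quot ra ≃ Quotient sb) := by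
  classical
  let F : Quot ra → Quotient sb :=
    Quot.lift (fun x => Quotient.mk sb (Classical.choose (tot x))) (by
      intro x x' hxx'
      apply Quotient.sound
      have h1 := Classical.choose_spec (tot x)
      have h2 := Classical.choose_spec (tot x')
      exact hA x' _ _ (hLa x x' _ h1 hxx') h2)
  let G : Quotient sb → Quot ra :=
    Quotient.lift (fun y => Quot.mk ra (Classical.choose (sur y))) (by
      intro y y' hyy'
      apply Quot.sound
      have h1 := Classical.choose_spec (sur y)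
      have h2 := Classical.choose_spec (sur y')
      exact hB _ _ y' (hLb _ y y' h1 hyy') h2)
  refine ⟨⟨F, G, ?_, ?_⟩⟩
  · intro qx
    induction qx using Quot.ind with
    | mk x =>
      show G (Quotient.mk sb (Classical.choose (tot x))) = Quot.mk ra x
      apply Quot.sound
      exact hB _ _ _ (Classical.choose_spec (sur _)) (Classical.choose_spec (tot x))
  · intro qy
    induction qy using Quotient.inductionOn with
    | h y =>
      show F (Quot.mk ra (Classical.choose (sur y))) = Quotient.mk sb y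
      apply Quotient.sound
      exact hA _ _ _ (Classical.choose_spec (tot _)) (Classical.choose_spec (sur y))

variable (hp : IsSemismallExt p)

include hp in
/-- If an extension of `𝒳` over `C'` exists, the classes of extensions are in bijection with
`Exalcom k B₀ (B₀ ⊗ J)`. -/
theorem main (𝒳 : DS B₀ C) (hne : ∃ 𝒳' : DS B₀ C', Nonempty ((𝒳'.baseChange p).Iso 𝒳)) :
    Nonempty (Quot (rr (p := p) (𝒳 := 𝒳)) ≃
      Exal.Exalcom k B₀ (B₀ ⊗[k] ↥(RingHom.ker p.toAlgHom))) := by
  obtain ⟨D, ⟨ι⟩⟩ := exists_adata 𝒳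
  obtain ⟨𝒳₁, ⟨α₁⟩⟩ := hne
  obtain ⟨s₁, -⟩ := exists_xext hp ι (⟨𝒳₁, α₁⟩ : SX p 𝒳)
  let L : SX p 𝒳 → Exal.Ext k B₀ (B₀ ⊗[k] ↥(RingHom.ker p.toAlgHom)) → Prop := fun a E =>
    ∃ s : XExt p D, PIso (jmap a) (jS ι s) ∧ Link hp s₁ s E
  refine nonempty_equiv_of_rel rr
    (Exal.Ext.setoid k B₀ (B₀ ⊗[k] ↥(RingHom.ker p.toAlgHom))) L ?_ ?_ ?_ ?_ ?_ ?_
  · intro a
    obtain ⟨s, hs⟩ := exists_xext hp ι a
    obtain ⟨E, hE⟩ := exists_link hp s₁ s
    exact ⟨E, s, hs, hE⟩
  · intro E
    obtain ⟨s, hs⟩ := exists_link_of_ext hp s₁ E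
    exact ⟨GG hp ι s, s, pIso_GG hp ι s, hs⟩
  · rintro a E E' ⟨s, hs, hE⟩ ⟨s', hs', hE'⟩
    have hss' : XExt.Equiv s s' := (pIso_jS_iff ι s s').1 (hs.symm.trans hs')
    exact Link.equiv_ext hp (Link.of_xequiv hp hE hss') hE'
  · rintro a a' E ⟨s, hs, hE⟩ ⟨s', hs', hE'⟩
    have hss' : XExt.Equiv s s' := Link.xequiv hp hE hE'
    rw [rr_iff]
    exact (hs.trans ((pIso_jS_iff ι s s').2 hss')).trans hs'.symm
  · rintro a a' E ⟨s, hs, hE⟩ haa'
    obtain ⟨s', hs'⟩ := exists_xext hp ι a'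
    have h1 : PIso (jS ι s) (jS ι s') := (hs.symm.trans ((rr_iff a a').1 haa')).trans hs'
    exact ⟨s', hs', Link.of_xequiv hp hE ((pIso_jS_iff ι s s').1 h1)⟩
  · rintro a E E' ⟨s, hs, hE⟩ ⟨e⟩
    exact ⟨s, hs, Link.of_equiv hp hE e⟩

end Assembly

end Groth.Agent.Lib.Helper19.DefX
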