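import Mathlib
import Groth.Agent.Lib.Helper19.ConvBC

/-!
# Deligne's theorem: a commutative finite free group scheme is killed by its order, I (helper19)

`R` a commutative ring, `A` a commutative and cocommutative Hopf algebra over `R`, free with basis
`b` indexed by `ι`.  `B = Hom_R(A, R)` is the (commutative) convolution algebra.

* `rtEquiv g`: translation by a point `g : A →ₐ[R] R`, an algebra automorphism of `A`.
* `mat b f`: for `f : A →ₗ[R] A`, the matrix over `B` of "convolution by `f`" on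
  `Hom_R(A, A) = B ⊗ A`; its entries are `a ↦ (leftMulMatrix b (f a)) i j`.
* `nrm b f = det (mat b f)`: Deligne's norm `Hom_R(A, A) → B`; it is multiplicative (`nrm_mul`),
  `nrm b (η ∘ φ) = φ ^ n` (`nrm_scalar`), and invariant under post-composition with algebra
  automorphisms (`nrm_conj`).
* `pow_card_eq_one_of_basis`: every point `u : A →ₐ[R] R` satisfies `u ^ n = 1`.
-/

set_option autoImplicit false
universe u v w

open TensorProduct

namespace Groth.Agent.Lib.Helper19.Deligne

open Groth.Agent.Lib.Helper19.ConvBC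

section Translate

variable {R : Type u} [CommRing R] {A : Type v} [CommRing A] [HopfAlgebra R A]

/-- an `R`-point, viewed as a point with values in `A` -/
noncomputable def cst (g : WithConv (A →ₐ[R] R)) : WithConv (A →ₐ[R] A) :=
  WithConv.toConv ((Algebra.ofId R A).comp g.ofConv)

lemma cst_mul (g h : WithConv (A →ₐ[R] R)) : cst (g * h) = cst g * cst h := by
  apply WithConv.ext
  exact AlgHom.comp_convMul_distrib (Algebra.ofId R A) g h

lemma cst_one : cst (1 : WithConv (A →ₐ[R] R)) = 1 := by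
  apply WithConv.ext
  apply AlgHom.ext
  intro a
  show algebraMap R A (Coalgebra.counit (R := R) a) = algebraMap R A (Coalgebra.counit (R := R) a)
  rfl

/-- right translation by an `R`-point -/
noncomputable def rt (g : WithConv (A →ₐ[R] R)) : A →ₐ[R] A :=
  (WithConv.toConv (AlgHom.id R A) * cst g).ofConv

lemma rt_comp (g h : WithConv (A →ₐ[R] R)) : (rt g).comp (rt h) = rt (g * h) := by
  have h1 : (rt g).comp (cst h).ofConv = (cst h).ofConv := by
    apply AlgHom.ext
    intro a
    show rt g (algebraMap R A (h.ofConv a)) = algebraMap R A (h.ofConv a)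
    exact (rt g).commutes _
  have h2 := AlgHom.comp_convMul_distrib (rt g) (WithConv.toConv (AlgHom.id R A)) (cst h)
  rw [h1, WithConv.ofConv_toConv, AlgHom.comp_id, WithConv.toConv_ofConv] at h2
  show (rt g).comp (WithConv.toConv (AlgHom.id R A) * cst h).ofConv =
    (WithConv.toConv (AlgHom.id R A) * cst (g * h)).ofConv
  rw [h2, cst_mul, ← mul_assoc]
  rfl

lemma rt_one : rt (1 : WithConv (A →ₐ[R] R)) = AlgHom.id R A := by
  unfold rt
  rw [cst_one, mul_one]

/-- right translation as an algebra automorphism -/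
noncomputable def rtEquiv (g : WithConv (A →ₐ[R] R)) : A ≃ₐ[R] A :=
  AlgEquiv.ofAlgHom (rt g) (rt g⁻¹)
    (by rw [rt_comp, mul_inv_cancel, rt_one]) (by rw [rt_comp, inv_mul_cancel, rt_one])

lemma rtEquiv_toLinearMap (g : WithConv (A →ₐ[R] R)) :
    (rtEquiv g).toLinearMap =
      (WithConv.toConv (LinearMap.id : A →ₗ[R] A) *
        WithConv.toConv (Algebra.linearMap R A ∘ₗ g.ofConv.toLinearMap)).ofConv := by
  apply LinearMap.ext
  intro a
  rfl

end Translate

section Mat

variable {R : Type u} [CommRing R] {A : Type v} [CommRing A] [HopfAlgebra R A]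
  [Coalgebra.IsCocomm R A] {ι : Type w} [Fintype ι] [DecidableEq ι] (b : Module.Basis ι R A)

/-- the matrix over `B = Hom_R(A, R)` of convolution by `f` on `Hom_R(A, A) = B ⊗ A` -/
noncomputable def mat (f : A →ₗ[R] A) : Matrix ι ι (WithConv (A →ₗ[R] R)) :=
  fun i j => WithConv.toConv
    ((Matrix.entryLinearMap R R i j) ∘ₗ (Algebra.leftMulMatrix b).toLinearMap ∘ₗ f)

lemma mat_apply (f : A →ₗ[R] A) (i j : ι) (a : A) :
    (mat b f i j).ofConv a = Algebra.leftMulMatrix b (f a) i j := rfl

lemma mat_mul_aux (f g : A →ₗ[R] A) (i j : ι) (t : A ⊗[R] A) :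
    Algebra.leftMulMatrix b (LinearMap.mul' R A (TensorProduct.map f g t)) i j =
      ∑ k, LinearMap.mul' R R
        (TensorProduct.map (mat b f i k).ofConv (mat b g k j).ofConv t) := by
  induction t using TensorProduct.induction_on with
  | zero => simp
  | tmul x y =>
    simp only [TensorProduct.map_tmul, LinearMap.mul'_apply, map_mul, Matrix.mul_apply, mat_apply]
  | add t₁ t₂ h₁ h₂ =>
    simp only [map_add, Matrix.add_apply, h₁, h₂, Finset.sum_add_distrib]

lemma mat_mul (f g : A →ₗ[R] A) :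
    mat b ((WithConv.toConv f * WithConv.toConv g).ofConv) = mat b f * mat b g := by
  apply Matrix.ext
  intro i j
  apply WithConv.ext
  apply LinearMap.ext
  intro a
  rw [mat_apply, Matrix.mul_apply, WithConv.ofConv_sum, LinearMap.sum_apply]
  have h1 : (WithConv.toConv f * WithConv.toConv g).ofConv a =
      LinearMap.mul' R A (TensorProduct.map f g (Coalgebra.comul (R := R) a)) := rfl
  rw [h1, mat_mul_aux]
  apply Finset.sum_congr rfl
  intro k _
  rfl

lemma mat_scalar (φ : WithConv (A →ₗ[R] R)) :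
    mat b ((Algebra.linearMap R A) ∘ₗ φ.ofConv) = Matrix.diagonal (fun _ => φ) := by
  apply Matrix.ext
  intro i j
  apply WithConv.ext
  apply LinearMap.ext
  intro a
  rw [mat_apply]
  show Algebra.leftMulMatrix b (algebraMap R A (φ.ofConv a)) i j =
    ((Matrix.diagonal fun _ => φ) i j).ofConv a
  rw [AlgHom.commutes, Matrix.algebraMap_matrix_apply]
  by_cases h : i = j
  · subst h
    rw [if_pos rfl, Matrix.diagonal_apply_eq]
    rfl
  · rw [if_neg h, Matrix.diagonal_apply_ne _ h]
    rfl

omit [Coalgebra.IsCocomm R A] in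
lemma leftMulMatrix_conj (σ : A ≃ₐ[R] A) (x : A) :
    Algebra.leftMulMatrix b (σ x) =
      LinearMap.toMatrix b b σ.toLinearMap * Algebra.leftMulMatrix b x *
        LinearMap.toMatrix b b σ.symm.toLinearMap := by
  rw [Algebra.leftMulMatrix_apply, Algebra.leftMulMatrix_apply, ← LinearMap.toMatrix_comp,
    ← LinearMap.toMatrix_comp]
  congr 1
  apply LinearMap.ext
  intro y
  show σ x * y = σ (x * σ.symm y)
  rw [map_mul, AlgEquiv.apply_symm_apply]

lemma ofConv_algebraMap_mul (r : R) (φ : WithConv (A →ₗ[R] R)) (a : A) :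
    (algebraMap R (WithConv (A →ₗ[R] R)) r * φ).ofConv a = r * φ.ofConv a := by
  rw [← Algebra.smul_def]
  rfl

lemma ofConv_mul_algebraMap (r : R) (φ : WithConv (A →ₗ[R] R)) (a : A) :
    (φ * algebraMap R (WithConv (A →ₗ[R] R)) r).ofConv a = φ.ofConv a * r := by
  rw [mul_comm, ofConv_algebraMap_mul, mul_comm]

lemma mapMatrix_mul_apply (P : Matrix ι ι R) (M : Matrix ι ι (WithConv (A →ₗ[R] R))) (i j : ι)
    (a : A) :
    (((algebraMap R (WithConv (A →ₗ[R] R))).mapMatrix P * M) i j).ofConv a =
      ∑ k, P i k * (M k j).ofConv a := by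
  rw [Matrix.mul_apply, WithConv.ofConv_sum, LinearMap.sum_apply]
  apply Finset.sum_congr rfl
  intro k _
  rw [RingHom.mapMatrix_apply, Matrix.map_apply, ofConv_algebraMap_mul]

lemma mul_mapMatrix_apply (M : Matrix ι ι (WithConv (A →ₗ[R] R))) (Q : Matrix ι ι R) (i j : ι)
    (a : A) :
    ((M * (algebraMap R (WithConv (A →ₗ[R] R))).mapMatrix Q) i j).ofConv a =
      ∑ k, (M i k).ofConv a * Q k j := by
  rw [Matrix.mul_apply, WithConv.ofConv_sum, LinearMap.sum_apply]
  apply Finset.sum_congr rfl
  intro k _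
  rw [RingHom.mapMatrix_apply, Matrix.map_apply, ofConv_mul_algebraMap]

lemma mat_conj (σ : A ≃ₐ[R] A) (f : A →ₗ[R] A) :
    mat b (σ.toLinearMap ∘ₗ f) =
      (algebraMap R (WithConv (A →ₗ[R] R))).mapMatrix (LinearMap.toMatrix b b σ.toLinearMap) *
        mat b f *
      (algebraMap R (WithConv (A →ₗ[R] R))).mapMatrix
        (LinearMap.toMatrix b b σ.symm.toLinearMap) := by
  apply Matrix.ext
  intro i j
  apply WithConv.ext
  apply LinearMap.ext
  intro a
  rw [mul_mapMatrix_apply, mat_apply]
  show Algebra.leftMulMatrix b (σ (f a)) i j = _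
  rw [leftMulMatrix_conj, Matrix.mul_apply]
  apply Finset.sum_congr rfl
  intro l _
  rw [mapMatrix_mul_apply, Matrix.mul_apply]
  rfl

/-- Deligne's norm -/
noncomputable def nrm (f : A →ₗ[R] A) : WithConv (A →ₗ[R] R) := (mat b f).det

lemma nrm_mul (f g : A →ₗ[R] A) :
    nrm b ((WithConv.toConv f * WithConv.toConv g).ofConv) = nrm b f * nrm b g := by
  unfold nrm
  rw [mat_mul, Matrix.det_mul]

lemma nrm_scalar (φ : WithConv (A →ₗ[R] R)) :
    nrm b ((Algebra.linearMap R A) ∘ₗ φ.ofConv) = φ ^ Fintype.card ι := by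
  unfold nrm
  rw [mat_scalar, Matrix.det_diagonal, Finset.prod_const, Finset.card_univ]

lemma nrm_one : nrm b (1 : WithConv (A →ₗ[R] A)).ofConv = 1 := by
  have h : (Algebra.linearMap R A) ∘ₗ (1 : WithConv (A →ₗ[R] R)).ofConv =
      (1 : WithConv (A →ₗ[R] A)).ofConv := LinearMap.ext fun a => rfl
  rw [← h, nrm_scalar, one_pow]

lemma nrm_conj (σ : A ≃ₐ[R] A) (f : A →ₗ[R] A) : nrm b (σ.toLinearMap ∘ₗ f) = nrm b f := by
  unfold nrm
  have h : σ.toLinearMap ∘ₗ σ.symm.toLinearMap = LinearMap.id := by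
    apply LinearMap.ext
    intro y
    exact σ.apply_symm_apply y
  rw [mat_conj, Matrix.det_mul_right_comm, Matrix.det_mul, ← map_mul, ← LinearMap.toMatrix_comp,
    h, LinearMap.toMatrix_id, map_one, Matrix.det_one, one_mul]

include b in
/-- **Deligne**: every point of a commutative finite free group scheme is killed by the order. -/
theorem pow_card_eq_one_of_basis (u : A →ₐ[R] R) :
    (WithConv.toConv u) ^ Fintype.card ι = 1 := by
  obtain ⟨n, hn⟩ : ∃ n : ℕ, n = Fintype.card ι := ⟨_, rfl⟩
  rw [← hn]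
  obtain ⟨ul, hul⟩ : ∃ ul : WithConv (A →ₗ[R] R), ul = WithConv.toConv u.toLinearMap := ⟨_, rfl⟩
  have hinv : nrm b LinearMap.id * nrm b (HopfAlgebra.antipode R) = 1 := by
    rw [← nrm_mul, LinearMap.id_mul_antipode, nrm_one]
  have key : nrm b LinearMap.id * ul ^ n = nrm b LinearMap.id := by
    have h1 : nrm b ((Algebra.linearMap R A) ∘ₗ ul.ofConv) = ul ^ n := by
      rw [hn]
      exact nrm_scalar b ul
    have h2 : nrm b (rtEquiv (WithConv.toConv u)).toLinearMap =
        nrm b LinearMap.id * nrm b ((Algebra.linearMap R A) ∘ₗ ul.ofConv) := by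
      rw [rtEquiv_toLinearMap, nrm_mul, hul]
    have h3 := nrm_conj b (rtEquiv (WithConv.toConv u)) LinearMap.id
    rw [LinearMap.comp_id] at h3
    rw [← h1, ← h2, h3]
  have hfin : ul ^ n = 1 := by
    calc ul ^ n = (nrm b (HopfAlgebra.antipode R) * nrm b LinearMap.id) * ul ^ n := by
          rw [mul_comm (nrm b (HopfAlgebra.antipode R)), hinv, one_mul]
      _ = nrm b (HopfAlgebra.antipode R) * (nrm b LinearMap.id * ul ^ n) := mul_assoc _ _ _
      _ = nrm b (HopfAlgebra.antipode R) * nrm b LinearMap.id := by rw [key]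
      _ = 1 := by rw [mul_comm, hinv]
  apply WithConv.ext
  apply AlgHom.toLinearMap_injective
  apply WithConv.toConv_injective
  rw [AlgHom.toLinearMap_convPow]
  rw [hul] at hfin
  exact hfin.trans AlgHom.toLinearMap_convOne.symm

end Mat

end Groth.Agent.Lib.Helper19.Deligne
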