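import Mathlib
import Groth.Agent.Lib.Helper19.Deligne1

/-!
# Deligne's theorem: a commutative finite locally free group scheme is killed by its order, II
(helper19)

* `id_pow_card_eq_one_of_basis`: the universal point (free case), by base change to `A`.
* `eq_zero_of_forall_localization`: an element of a projective module vanishing in all
  localizations at maximal ideals is zero.
* `id_pow_eq_one_of_rankAtStalk`: the locally free case of constant rank.
-/

set_option autoImplicit false
universe u v w

open TensorProduct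

namespace Groth.Agent.Lib.Helper19.Deligne

open Groth.Agent.Lib.Helper19.ConvBC

section Universal

variable {R : Type u} [CommRing R] {A : Type v} [CommRing A] [HopfAlgebra R A]
  [Coalgebra.IsCocomm R A] {ι : Type w} [Fintype ι] [DecidableEq ι] (b : Module.Basis ι R A)

include b in
theorem id_pow_card_eq_one_of_basis :
    (WithConv.toConv (AlgHom.id R A)) ^ Fintype.card ι = 1 := by
  obtain ⟨n, hn⟩ : ∃ n : ℕ, n = Fintype.card ι := ⟨_, rfl⟩
  rw [← hn]
  have h1 : (WithConv.toConv (Algebra.TensorProduct.lmul'' R : A ⊗[R] A →ₐ[A] A)) ^ n = 1 := by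
    rw [hn]
    exact pow_card_eq_one_of_basis (Algebra.TensorProduct.basis A b)
      (Algebra.TensorProduct.lmul'' R)
  have h2 := comp_pow (Algebra.TensorProduct.lmul'' R : A ⊗[R] A →ₐ[A] A)
    (WithConv.toConv (AlgHom.id A (A ⊗[R] A))) n
  rw [WithConv.ofConv_toConv, AlgHom.comp_id, h1] at h2
  apply WithConv.ext
  apply AlgHom.ext
  intro a
  have h4 : (Algebra.TensorProduct.lmul'' R : A ⊗[R] A →ₐ[A] A)
      (((WithConv.toConv (AlgHom.id A (A ⊗[R] A))) ^ n).ofConv ((1 : A) ⊗ₜ[R] a)) =
      (1 : WithConv (A ⊗[R] A →ₐ[A] A)).ofConv ((1 : A) ⊗ₜ[R] a) :=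
    congrArg (fun f : A ⊗[R] A →ₐ[A] A => f ((1 : A) ⊗ₜ[R] a)) h2
  rw [pow_id_one_tmul R A A n a] at h4
  have h5 : ∀ x : A, (Algebra.TensorProduct.lmul'' R : A ⊗[R] A →ₐ[A] A) ((1 : A) ⊗ₜ[R] x) = x := by
    intro x
    show (1 : A) * x = x
    rw [one_mul]
  have h6 : (1 : WithConv (A ⊗[R] A →ₐ[A] A)).ofConv ((1 : A) ⊗ₜ[R] a) =
      algebraMap R A (Coalgebra.counit (R := R) a) := by
    show algebraMap A A (Coalgebra.counit (R := A) ((1 : A) ⊗ₜ[R] a)) = _
    rw [counit_one_tmul]
    rfl
  rw [h5, h6] at h4
  exact h4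

end Universal

section Local

theorem eq_zero_of_forall_localization {R₀ : Type u} [CommRing R₀] {M : Type v}
    [AddCommGroup M] [Module R₀ M] [hM : Module.Projective R₀ M] (b : M)
    (h : ∀ (P : Ideal R₀) [P.IsMaximal], (1 : Localization.AtPrime P) ⊗ₜ[R₀] b = 0) : b = 0 := by
  obtain ⟨s, hs⟩ := Module.projective_def'.1 hM
  have hsb : s b = 0 := by
    apply Finsupp.ext
    intro i
    rw [Finsupp.zero_apply]
    apply eq_zero_of_localization
    intro P hP
    haveI := hP
    have h1 := h P
    have h2 := congrArg (fun t => TensorProduct.rid R₀ (Localization.AtPrime P)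
      (LinearMap.lTensor (Localization.AtPrime P) ((Finsupp.lapply i).comp s) t)) h1
    simp only [LinearMap.lTensor_tmul, LinearMap.comp_apply, Finsupp.lapply_apply,
      TensorProduct.rid_tmul, map_zero] at h2
    rw [← Algebra.algebraMap_eq_smul_one] at h2
    exact h2
  have h3 := congrArg (fun f : M →ₗ[R₀] M => f b) hs
  simp only [LinearMap.comp_apply, LinearMap.id_apply] at h3
  rw [← h3, hsb, map_zero]

/-- **Deligne's theorem**: a commutative finite locally free group scheme of constant rank `n`
is killed by `n`. -/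
theorem id_pow_eq_one_of_rankAtStalk (R : Type u) [CommRing R] (A : Type v) [CommRing A]
    [HopfAlgebra R A] [Coalgebra.IsCocomm R A] [Module.Finite R A] [Module.Projective R A] (n : ℕ)
    (hn : ∀ p : PrimeSpectrum R, Module.rankAtStalk A p = n) :
    (WithConv.toConv (AlgHom.id R A)) ^ n = 1 := by
  apply WithConv.ext
  apply AlgHom.ext
  intro a
  rw [← sub_eq_zero]
  apply eq_zero_of_forall_localization (R₀ := R)
  intro P hP
  rw [TensorProduct.tmul_sub, sub_eq_zero]
  haveI : Module.Free (Localization.AtPrime P) (Localization.AtPrime P ⊗[R] A) :=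
    Module.free_of_flat_of_isLocalRing
  have hrank : Module.finrank (Localization.AtPrime P) (Localization.AtPrime P ⊗[R] A) = n := by
    rw [← hn ⟨P, inferInstance⟩, Module.rankAtStalk_eq_finrank_tensorProduct]
  have h := id_pow_card_eq_one_of_basis (Module.finBasisOfFinrankEq (Localization.AtPrime P)
    (Localization.AtPrime P ⊗[R] A) hrank)
  rw [Fintype.card_fin] at h
  rw [← pow_id_one_tmul, h, ← pow_zero (WithConv.toConv (AlgHom.id R A)), ← pow_id_one_tmul,
    pow_zero]

end Local

end Groth.Agent.Lib.Helper19.Deligne
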