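import Mathlib
import Groth.Agent.Lib.Helper19.Deligne2

/-!
# Deligne's theorem for commutative finite locally free group schemes (helper19)

A commutative group scheme `G/S`, finite locally free of constant rank `r`, is killed by `r`.
Reduction to an affine base, then to Hopf algebras (`hopfSpec`, `Spec.mapMulEquiv`) and
`Deligne.id_pow_eq_one_of_rankAtStalk`.
-/

set_option autoImplicit false
set_option linter.style.haveILetI false
universe u
open CategoryTheory CategoryTheory.Limits MonoidalCategory CartesianMonoidalCategory MonObj GrpObj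
  AlgebraicGeometry TensorProduct

namespace Groth.Agent.Lib.Helper19.DeligneSch

section Alg

variable (R : Type u) [CommRing R] (A : Type u) [CommRing A] [Bialgebra R A]

lemma lift_incl (t : A ⊗[R] A) :
    Algebra.TensorProduct.lift (Algebra.TensorProduct.includeLeft : A →ₐ[R] A ⊗[R] A)
      Algebra.TensorProduct.includeRight (fun _ _ => Commute.all _ _) t = t := by
  induction t using TensorProduct.induction_on with
  | zero => simp
  | tmul x y => simp
  | add x y hx hy => rw [map_add, hx, hy]

lemma lift_incl' (t : A ⊗[R] A) :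
    Algebra.TensorProduct.lift (Algebra.TensorProduct.includeRight : A →ₐ[R] A ⊗[R] A)
      Algebra.TensorProduct.includeLeft (fun _ _ => Commute.all _ _) t =
      TensorProduct.comm R A A t := by
  induction t using TensorProduct.induction_on with
  | zero => simp
  | tmul x y => simp
  | add x y hx hy => rw [map_add, map_add, hx, hy]

theorem isCocomm_of_comm
    (h : (WithConv.toConv (Algebra.TensorProduct.includeLeft : A →ₐ[R] A ⊗[R] A)) *
        WithConv.toConv (Algebra.TensorProduct.includeRight : A →ₐ[R] A ⊗[R] A) =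
      WithConv.toConv (Algebra.TensorProduct.includeRight : A →ₐ[R] A ⊗[R] A) *
        WithConv.toConv (Algebra.TensorProduct.includeLeft : A →ₐ[R] A ⊗[R] A)) :
    Coalgebra.IsCocomm R A := by
  refine ⟨?_⟩
  ext a
  have h1 := congrArg (fun φ : WithConv (A →ₐ[R] A ⊗[R] A) => φ a) h
  simp only [AlgHom.convMul_apply, WithConv.ofConv_toConv] at h1
  rw [lift_incl, lift_incl'] at h1
  exact h1.symm

end Alg

section Cat

lemma hom_mul_comm_of_mono {C : Type*} [Category C] [CartesianMonoidalCategory C]
    [BraidedCategory C] {X G : C} [MonObj X] [MonObj G] [IsCommMonObj G] (f : X ⟶ G)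
    [IsMonHom f] [Mono f] {T : C} (a b : T ⟶ X) : a * b = b * a := by
  rw [← cancel_mono f, MonObj.mul_comp, MonObj.mul_comp]
  exact mul_comm (a ≫ f) (b ≫ f)

end Cat

section Affine

open Groth.Agent.Lib.Helper19

theorem aux2 (R : Type u) [CommRing R] (G : Over (Spec (CommRingCat.of R))) [GrpObj G]
    [IsCommMonObj G] [IsFinite G.hom] [Flat G.hom] [LocallyOfFinitePresentation G.hom]
    (r : ℕ) (hr : ∀ s : Spec (CommRingCat.of R), Scheme.Hom.finrank G.hom s = r)
    (A : Type u) [CommRing A] [HopfAlgebra R A]
    (f : (Spec (CommRingCat.of A)).asOver (Spec (CommRingCat.of R)) ⟶ G)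
    (g : G ⟶ (Spec (CommRingCat.of A)).asOver (Spec (CommRingCat.of R)))
    (hfg : g ≫ f = 𝟙 G) (hgf : f ≫ g = 𝟙 _) [IsMonHom f] :
    (𝟙 G : G ⟶ G) ^ r = 1 := by
  haveI : IsIso f := ⟨g, hgf, hfg⟩
  haveI : IsIso f.left := inferInstanceAs (IsIso ((Over.forget _).map f))
  have hw : f.left ≫ G.hom = Spec.map (CommRingCat.ofHom (algebraMap R A)) := Over.w f
  have hfin : IsFinite (Spec.map (CommRingCat.ofHom (algebraMap R A))) := by
    rw [← hw]
    exact (MorphismProperty.cancel_left_of_respectsIso (P := @IsFinite) f.left G.hom).mpr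
      inferInstance
  have hflat : Flat (Spec.map (CommRingCat.ofHom (algebraMap R A))) := by
    rw [← hw]
    exact (MorphismProperty.cancel_left_of_respectsIso (P := @Flat) f.left G.hom).mpr
      inferInstance
  have hlfp : LocallyOfFinitePresentation (Spec.map (CommRingCat.ofHom (algebraMap R A))) := by
    rw [← hw]
    exact (MorphismProperty.cancel_left_of_respectsIso (P := @LocallyOfFinitePresentation)
      f.left G.hom).mpr inferInstance
  haveI : Module.Finite R A := by
    have h1 := (IsFinite.SpecMap_iff _).mp hfin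
    rwa [CommRingCat.hom_ofHom, RingHom.finite_algebraMap] at h1
  haveI : Module.Flat R A := by
    have h1 := Flat.SpecMap_iff.mp hflat
    rwa [CommRingCat.hom_ofHom, RingHom.flat_algebraMap_iff] at h1
  haveI : Algebra.FinitePresentation R A := by
    have h1 := (HasRingHomProperty.Spec_iff (P := @LocallyOfFinitePresentation)).mp hlfp
    rwa [CommRingCat.hom_ofHom, RingHom.finitePresentation_algebraMap] at h1
  haveI : Module.FinitePresentation R A := Module.FinitePresentation.of_finite_of_finitePresentation R A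
  haveI : Module.Projective R A := Module.Flat.projective_of_finitePresentation
  have hrank : ∀ p : PrimeSpectrum R, Module.rankAtStalk A p = r := by
    intro p
    rw [← Scheme.Hom.finrank_SpecMap_algebraMap R A p]
    have h4 : (Spec.map (CommRingCat.ofHom (algebraMap R A))).finrank = G.hom.finrank := by
      rw [← hw]
      exact Scheme.Hom.finrank_comp_left_of_isIso f.left G.hom
    rw [h4]
    exact hr p
  haveI : Coalgebra.IsCocomm R A := by
    apply isCocomm_of_comm R A
    apply (Spec.mapMulEquiv (R := R) (S := A) (T := A ⊗[R] A)).injective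
    rw [map_mul, map_mul]
    exact hom_mul_comm_of_mono f _ _
  have hdel : (WithConv.toConv (AlgHom.id R A)) ^ r = 1 :=
    Deligne.id_pow_eq_one_of_rankAtStalk R A r hrank
  have key : (𝟙 ((Spec (CommRingCat.of A)).asOver (Spec (CommRingCat.of R)))) ^ r = 1 := by
    have h1 := congrArg (fun t => Spec.mapMulEquiv (R := R) (S := A) (T := A) t) hdel
    simp only [map_pow, map_one] at h1
    have h2 : Spec.mapMulEquiv (R := R) (S := A) (T := A) (WithConv.toConv (AlgHom.id R A)) =
        𝟙 _ := by
      ext1
      simp [Spec.mapMulEquiv]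
    rw [h2] at h1
    exact h1
  have h3 := MonObj.comp_pow f r g
  rw [hfg] at h3
  rw [← h3]
  have h4 := MonObj.pow_comp (𝟙 ((Spec (CommRingCat.of A)).asOver (Spec (CommRingCat.of R)))) r f
  rw [Category.id_comp] at h4
  rw [← h4, key, MonObj.one_comp, MonObj.comp_one]

set_option backward.isDefEq.respectTransparency false in
set_option backward.defeqAttrib.useBackward true in
theorem aux1 (R : Type u) [CommRing R] (G : Over (Spec (CommRingCat.of R))) [GrpObj G]
    [IsCommMonObj G] [IsFinite G.hom] [Flat G.hom] [LocallyOfFinitePresentation G.hom]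
    (r : ℕ) (hr : ∀ s : Spec (CommRingCat.of R), Scheme.Hom.finrank G.hom s = r)
    (A : Type u) [CommRing A] [HopfAlgebra R A]
    (e : (hopfSpec (CommRingCat.of R)).obj (Opposite.op (CommHopfAlgCat.of R A)) ≅ Grp.mk G) :
    (𝟙 G : G ⟶ G) ^ r = 1 := by
  have hfg : e.inv.hom.hom ≫ e.hom.hom.hom = 𝟙 G := by
    have := congrArg (fun t => t.hom.hom) e.inv_hom_id
    exact this
  have hgf : e.hom.hom.hom ≫ e.inv.hom.hom = 𝟙 _ := by
    have := congrArg (fun t => t.hom.hom) e.hom_inv_id
    exact this
  have : IsMonHom e.hom.hom.hom := e.hom.hom.isMonHom_hom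
  exact @aux2 R ‹CommRing R› G ‹GrpObj G› _ _ _ _ r hr A ‹CommRing A› ‹HopfAlgebra R A› e.hom.hom.hom e.inv.hom.hom hfg hgf this

theorem id_pow_eq_one_of_affine {R : CommRingCat.{u}} (G : Over (Spec R)) [GrpObj G]
    [IsCommMonObj G] [IsFinite G.hom] [Flat G.hom] [LocallyOfFinitePresentation G.hom]
    (r : ℕ) (hr : ∀ s : Spec R, Scheme.Hom.finrank G.hom s = r) :
    (𝟙 G : G ⟶ G) ^ r = 1 := by
  haveI : IsAffine G.left := isAffine_of_isAffineHom G.hom
  obtain ⟨H, ⟨e⟩⟩ := (essImage_hopfSpec (G := Grp.mk G)).mpr ‹_›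
  exact aux1 R G r hr H.unop.X e

end Affine

section General

open scoped CategoryTheory.Obj

theorem id_pow_eq_one {S : Scheme.{u}} (G : Over S) [GrpObj G] [IsCommMonObj G]
    [IsFinite G.hom] [Flat G.hom] [LocallyOfFinitePresentation G.hom]
    (r : ℕ) (hr : ∀ s : S, Scheme.Hom.finrank G.hom s = r) : (𝟙 G : G ⟶ G) ^ r = 1 := by
  apply Over.OverMorphism.ext
  refine Scheme.Cover.hom_ext (S.affineOpenCover.openCover.pullback₁ G.hom) _ _ ?_
  intro (i : S.affineOpenCover.I₀)
  haveI : IsFinite ((Over.pullback (S.affineOpenCover.f i)).obj G).hom :=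
    inferInstanceAs (IsFinite (pullback.snd G.hom (S.affineOpenCover.f i)))
  haveI : Flat ((Over.pullback (S.affineOpenCover.f i)).obj G).hom :=
    inferInstanceAs (Flat (pullback.snd G.hom (S.affineOpenCover.f i)))
  haveI : LocallyOfFinitePresentation ((Over.pullback (S.affineOpenCover.f i)).obj G).hom :=
    inferInstanceAs (LocallyOfFinitePresentation (pullback.snd G.hom (S.affineOpenCover.f i)))
  have haff : (𝟙 ((Over.pullback (S.affineOpenCover.f i)).obj G)) ^ r = 1 :=
    id_pow_eq_one_of_affine ((Over.pullback (S.affineOpenCover.f i)).obj G) r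
      (fun s => (Scheme.Hom.finrank_pullback_snd G.hom (S.affineOpenCover.f i) s).trans (hr _))
  have h1 : (Over.pullback (S.affineOpenCover.f i)).map ((𝟙 G : G ⟶ G) ^ r) =
      ((Over.pullback (S.affineOpenCover.f i)).map (𝟙 G)) ^ r :=
    map_pow (Functor.homMonoidHom (Over.pullback (S.affineOpenCover.f i)) (X := G) (M := G))
      (𝟙 G) r
  have hF : (Over.pullback (S.affineOpenCover.f i)).map ((𝟙 G : G ⟶ G) ^ r) =
      (Over.pullback (S.affineOpenCover.f i)).map (1 : G ⟶ G) := by
    rw [h1, CategoryTheory.Functor.map_id, haff]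
    exact (Functor.map_one (Over.pullback (S.affineOpenCover.f i))).symm
  have h2 := congrArg (fun t => t.left ≫ pullback.fst G.hom (S.affineOpenCover.f i)) hF
  simp only [Over.pullback_map_left, pullback.lift_fst] at h2
  exact h2

end General

end Groth.Agent.Lib.Helper19.DeligneSch
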