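import Groth.Agent.Lib.Helper19.Coalg1
import Groth.Agent.Lib.Helper19.CoalgDecomp
import Groth.Agent.Lib.Helper28.ComodIntegral
import Groth.Prelude.Def_ComodSub

/-!
# Diagonalizable Hopf algebras (helper19)

* `Eig V`: the span of the eigenvectors (`ρ v = v ⊗ a`) of a comodule; `isSubcomod_Eig`.
* `Eig_eq_top_of_isDiagonalizable`: if the group-likes span `A`, every comodule is spanned by eigenvectors.
* `isDiagonalizable_of_Eig`: conversely.
* `isLinearlyReductive_of_isDiagonalizable` (the coefficient of `1` is an integral).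
* `Eig_eq_top_of_isSemisimpleComod`: over an algebraically closed field, a finite-dimensional semisimple comodule
  of a cocommutative Hopf algebra is spanned by eigenvectors; `isDiagonalizable_of_isLinearlyReductive`.
-/

set_option autoImplicit false
set_option linter.unusedSectionVars false
universe u v w

open TensorProduct

namespace Groth.Agent.Lib.Helper19.Diag

open Groth.Agent.Lib.Helper19.Reynolds
open Groth.Agent.Lib.Helper19.Coalg
open Groth.Agent.Lib.Helper28.ComodHom
open Groth.Agent.Lib.Helper28.HopfIntegral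
open Groth.Agent.Lib.Helper28.ComodIntegral

variable {k : Type u} [Field k] {A : Type v} [CommRing A] [HopfAlgebra k A]

section Basic

variable (V : Type w) [AddCommGroup V] [Module k V] [HopfRep.Comod k A V]

variable (k A) in
/-- The span of the eigenvectors of a comodule. -/
def Eig : Submodule k V :=
  Submodule.span k {v : V | ∃ a : A, HopfRep.Comod.coact (k := k) (A := A) v = v ⊗ₜ[k] a}

variable {V}

lemma isSubcomod_Eig : HopfRep.IsSubcomod (k := k) (A := A) (Eig k A V) := by
  rw [isSubcomod_iff]
  intro f w hw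
  unfold Eig at hw
  induction hw using Submodule.span_induction with
  | mem x hx =>
    obtain ⟨a, ha⟩ := hx
    rw [opT_apply, ha, slice_tmul]
    exact Submodule.smul_mem _ _ (Submodule.subset_span ⟨a, ha⟩)
  | zero => rw [map_zero]; exact Submodule.zero_mem _
  | add x y _ _ hx hy => rw [map_add]; exact Submodule.add_mem _ hx hy
  | smul c x _ hx => rw [map_smul]; exact Submodule.smul_mem _ _ hx

lemma exists_tmul_of_mem_range (v : V) (t : V ⊗[k] A)
    (h : t ∈ LinearMap.range ((Submodule.span k {v}).subtype.rTensor A)) :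
    ∃ a : A, t = v ⊗ₜ[k] a := by
  obtain ⟨s, rfl⟩ := h
  induction s using TensorProduct.induction_on with
  | zero => exact ⟨0, by simp⟩
  | tmul x a =>
    obtain ⟨c, hc⟩ := Submodule.mem_span_singleton.mp x.2
    refine ⟨c • a, ?_⟩
    rw [LinearMap.rTensor_tmul, Submodule.subtype_apply, ← hc, TensorProduct.smul_tmul]
  | add x y hx hy =>
    obtain ⟨a, ha⟩ := hx
    obtain ⟨b, hb⟩ := hy
    exact ⟨a + b, by rw [map_add, ha, hb, TensorProduct.tmul_add]⟩

lemma eq_of_coact_eq_tmul (v v' : V) (g : A) (hg : Coalgebra.counit (R := k) g = 1)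
    (h : HopfRep.Comod.coact (k := k) (A := A) v = v' ⊗ₜ[k] g) : v' = v := by
  have hv := LinearMap.congr_fun (HopfRep.Comod.counit_comp (k := k) (A := A) (V := V)) v
  simp only [LinearMap.comp_apply, LinearMap.flip_apply, TensorProduct.mk_apply] at hv
  rw [h, LinearMap.lTensor_tmul, hg] at hv
  have := congrArg (TensorProduct.rid k V) hv
  simpa using this

end Basic

section DiagToEigen

variable {V : Type w} [AddCommGroup V] [Module k V] [HopfRep.Comod k A V]

variable (k A) in
/-- The line spanned by a group-like element. -/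
def Dg (g : GroupLike k A) : Submodule k A := Submodule.span k {g.val}

lemma iSupIndep_Dg : iSupIndep (Dg k A) :=
  (linearIndep_groupLikeVal (R := k) (A := A)).iSupIndep_span_singleton

lemma iSup_Dg (h : HopfRep.IsDiagonalizable k A) : iSup (Dg k A) = ⊤ := by
  have h' : Submodule.span k {a : A | IsGroupLikeElem k a} = ⊤ := h
  rw [eq_top_iff, ← h']
  apply Submodule.span_le.mpr
  intro a ha
  exact Submodule.mem_iSup_of_mem (⟨a, ha⟩ : GroupLike k A) (Submodule.mem_span_singleton_self a)

lemma comul_mem_Dg (g : GroupLike k A) (d : A) (hd : d ∈ Dg k A g) :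
    CoalgebraStruct.comul (R := k) d ∈
      LinearMap.range (TensorProduct.map (Dg k A g).subtype (Dg k A g).subtype) := by
  obtain ⟨c, rfl⟩ := Submodule.mem_span_singleton.mp hd
  let g' : Dg k A g := ⟨g.val, Submodule.mem_span_singleton_self _⟩
  refine ⟨c • (g' ⊗ₜ[k] g'), ?_⟩
  rw [map_smul, map_smul, TensorProduct.map_tmul]
  have := g.isGroupLikeElem_val.comul_eq_tmul_self
  rw [show CoalgebraStruct.comul (R := k) g.val = g.val ⊗ₜ[k] g.val from this]
  rfl

theorem Eig_eq_top_of_isDiagonalizable (h : HopfRep.IsDiagonalizable k A) : Eig k A V = ⊤ := by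
  rw [eq_top_iff, ← CoalgDecomp.iSup_Vi (V := V) (Dg k A) iSupIndep_Dg (iSup_Dg h) comul_mem_Dg]
  apply iSup_le
  intro g v hv
  obtain ⟨t, ht⟩ := hv
  have key : ∀ t : V ⊗[k] Dg k A g, ∃ v' : V,
      (LinearMap.lTensor V (Dg k A g).subtype) t = v' ⊗ₜ[k] g.val := by
    intro t
    induction t using TensorProduct.induction_on with
    | zero => exact ⟨0, by simp⟩
    | tmul x d =>
      obtain ⟨c, hc⟩ := Submodule.mem_span_singleton.mp d.2
      refine ⟨c • x, ?_⟩
      rw [LinearMap.lTensor_tmul, Submodule.subtype_apply, ← hc, TensorProduct.tmul_smul,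
        TensorProduct.smul_tmul']
    | add x y hx hy =>
      obtain ⟨a, ha⟩ := hx
      obtain ⟨b, hb⟩ := hy
      exact ⟨a + b, by rw [map_add, ha, hb, TensorProduct.add_tmul]⟩
  obtain ⟨v', hv'⟩ := key t
  rw [ht] at hv'
  have e := eq_of_coact_eq_tmul v v' g.val g.isGroupLikeElem_val.counit_eq_one hv'
  subst e
  exact Submodule.subset_span ⟨g.val, hv'⟩

end DiagToEigen

section EigenToDiag

theorem isDiagonalizable_of_Eig
    (H : ∀ (V : Type v) [AddCommGroup V] [Module k V] [HopfRep.Comod k A V], Module.Finite k V →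
      Submodule.span k {v : V | ∃ a : A, HopfRep.Comod.coact (k := k) (A := A) v = v ⊗ₜ[k] a} = ⊤) :
    HopfRep.IsDiagonalizable k A := by
  show Submodule.span k {a : A | IsGroupLikeElem k a} = ⊤
  rw [eq_top_iff]
  intro a _
  let W : Submodule k A := gen (K := k) (C := A) a
  have hW : HopfRep.IsSubcomod (k := k) (A := A) W := isSubcomod_gen a
  haveI : FiniteDimensional k W := finiteDimensional_gen a
  letI cW : HopfRep.Comod k A W := ComodSub.Comod.restr (HopfRep.Comod.regular k A) W hW
  have hspan := H W inferInstance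
  have hle : (⊤ : Submodule k W) ≤
      (Submodule.span k {x : A | IsGroupLikeElem k x}).comap W.subtype := by
    rw [← hspan]
    apply Submodule.span_le.mpr
    rintro w ⟨b, hb⟩
    show (w : A) ∈ Submodule.span k {x : A | IsGroupLikeElem k x}
    have h1 := ComodSub.restr_coact_coe (HopfRep.Comod.regular k A) W hW w
    have h2 : Coalgebra.comul (R := k) (w : A) = (w : A) ⊗ₜ[k] b := by
      have h1' : W.subtype.rTensor A (HopfRep.Comod.coact (k := k) (A := A) w) =
          Coalgebra.comul (R := k) (w : A) := h1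
      rw [hb, LinearMap.rTensor_tmul] at h1'
      exact h1'.symm
    by_cases hw0 : (w : A) = 0
    · rw [hw0]; exact Submodule.zero_mem _
    · have h3 : Coalgebra.counit (R := k) (w : A) • b = (w : A) := by
        have h := Coalgebra.rTensor_counit_comul (R := k) (w : A)
        rw [h2, LinearMap.rTensor_tmul] at h
        have h' := congrArg (TensorProduct.lid k A) h
        simpa using h'
      have h4 : Coalgebra.counit (R := k) b = 1 := by
        have h := Coalgebra.lTensor_counit_comul (R := k) (w : A)
        rw [h2, LinearMap.lTensor_tmul] at h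
        have h' := congrArg (TensorProduct.rid k A) h
        simp only [TensorProduct.rid_tmul, one_smul] at h'
        by_contra hne
        apply hw0
        have h5 : (Coalgebra.counit (R := k) b - 1) • (w : A) = 0 := by
          rw [sub_smul, h', one_smul, sub_self]
        exact (smul_eq_zero.mp h5).resolve_left (sub_ne_zero.mpr hne)
      generalize hc : Coalgebra.counit (R := k) (w : A) = c at h3
      have hε : c ≠ 0 := by
        intro h0; rw [h0, zero_smul] at h3; exact hw0 h3.symm
      have hb' : IsGroupLikeElem k b := by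
        refine ⟨h4, ?_⟩
        rw [← h3, map_smul, ← TensorProduct.smul_tmul'] at h2
        exact smul_right_injective _ hε h2
      rw [← h3]
      exact Submodule.smul_mem _ _ (Submodule.subset_span hb')
  exact hle (Submodule.mem_top : (⟨a, mem_gen a⟩ : W) ∈ ⊤)

end EigenToDiag

section Integral

theorem isLinearlyReductive_of_isDiagonalizable (h : HopfRep.IsDiagonalizable k A) :
    HopfRep.IsLinearlyReductive k A := by
  classical
  have hli : LinearIndependent k (GroupLike.val (R := k) (A := A)) := linearIndep_groupLikeVal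
  have h' : Submodule.span k {a : A | IsGroupLikeElem k a} = ⊤ := h
  have hsp : ⊤ ≤ Submodule.span k (Set.range (GroupLike.val (R := k) (A := A))) := by
    rw [← h']
    apply Submodule.span_mono
    intro a ha
    exact ⟨⟨a, ha⟩, rfl⟩
  let b : Module.Basis (GroupLike k A) k A := Module.Basis.mk hli hsp
  have hb : ∀ g : GroupLike k A, b g = g.val := fun g => Module.Basis.mk_apply hli hsp g
  let I : A →ₗ[k] k := b.coord 1
  have hIb : ∀ g : GroupLike k A, I g.val = if g = 1 then 1 else 0 := by
    intro g
    rw [← hb g]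
    simp only [I, Module.Basis.coord_apply, Module.Basis.repr_self, Finsupp.single_apply]
  have hI : IsIntegral I := by
    refine ⟨?_, ?_⟩
    · have := hIb 1
      rwa [if_pos rfl, GroupLike.val_one] at this
    · intro a
      have key : (TensorProduct.lid k A).toLinearMap ∘ₗ I.rTensor A ∘ₗ Coalgebra.comul =
          (LinearMap.toSpanSingleton k A 1) ∘ₗ I := by
        apply b.ext
        intro g
        simp only [LinearMap.comp_apply, LinearEquiv.coe_coe, LinearMap.toSpanSingleton_apply]
        rw [hb g, g.isGroupLikeElem_val.comul_eq_tmul_self, LinearMap.rTensor_tmul,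
          TensorProduct.lid_tmul, hIb g]
        by_cases hg : g = 1
        · subst hg; rfl
        · rw [if_neg hg, zero_smul, zero_smul]
      exact LinearMap.congr_fun key a
  exact isLinearlyReductive_of_isIntegral I hI

end Integral

section Cocomm

variable {V : Type w} [AddCommGroup V] [Module k V] [HopfRep.Comod k A V]

lemma conv_comm [Coalgebra.IsCocomm k A] (f g : A →ₗ[k] k) : conv f g = conv g f := by
  apply LinearMap.ext
  intro a
  unfold conv
  simp only [LinearMap.comp_apply]
  have h : ∀ t : A ⊗[k] A, LinearMap.mul' k k (TensorProduct.map g f (TensorProduct.comm k A A t)) =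
      LinearMap.mul' k k (TensorProduct.map f g t) := by
    intro t
    induction t using TensorProduct.induction_on with
    | zero => simp
    | tmul x y => simp [mul_comm]
    | add x y hx hy => simp only [map_add, hx, hy]
  rw [← h, Coalgebra.comm_comul]

lemma opT_commute [Coalgebra.IsCocomm k A] (f g : A →ₗ[k] k) (v : V) :
    opT k A V f (opT k A V g v) = opT k A V g (opT k A V f v) := by
  rw [opT_comp, opT_comp, conv_comm]

theorem exists_coact_eq_tmul_of_minimal [IsAlgClosed k] [Coalgebra.IsCocomm k A]
    (S : Submodule k V) [FiniteDimensional k S] (hS : HopfRep.IsSubcomod (k := k) (A := A) S)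
    (hmin : ∀ W : Submodule k V, HopfRep.IsSubcomod (k := k) (A := A) W → W ≤ S → W = ⊥ ∨ W = S)
    (v : V) (hv : v ∈ S) : ∃ a : A, HopfRep.Comod.coact (k := k) (A := A) v = v ⊗ₜ[k] a := by
  by_cases hne : S = ⊥
  · subst hne
    rw [Submodule.mem_bot] at hv
    subst hv
    exact ⟨0, by simp⟩
  haveI : Nontrivial S := Submodule.nontrivial_iff_ne_bot.mpr hne
  have hstab : ∀ (f : A →ₗ[k] k), ∀ w ∈ S, opT k A V f w ∈ S := (isSubcomod_iff S).mp hS
  have hscal : ∀ f : A →ₗ[k] k, ∃ μ : k, ∀ w ∈ S, opT k A V f w = μ • w := by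
    intro f
    let T : Module.End k S := (opT k A V f).restrict (hstab f)
    obtain ⟨μ, hμ⟩ := Module.End.exists_eigenvalue T
    obtain ⟨s, hs⟩ := hμ.exists_hasEigenvector
    refine ⟨μ, ?_⟩
    let W : Submodule k V := S ⊓ LinearMap.ker (opT k A V f - μ • LinearMap.id)
    have hmemW : ∀ w : V, w ∈ W ↔ w ∈ S ∧ opT k A V f w = μ • w := by
      intro w
      show w ∈ S ∧ w ∈ LinearMap.ker (opT k A V f - μ • LinearMap.id) ↔ _
      rw [LinearMap.mem_ker, LinearMap.sub_apply, LinearMap.smul_apply, LinearMap.id_apply,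
        sub_eq_zero]
    have hWsub : HopfRep.IsSubcomod (k := k) (A := A) W := by
      rw [isSubcomod_iff]
      intro g w hw
      rw [hmemW] at hw ⊢
      refine ⟨hstab g w hw.1, ?_⟩
      rw [opT_commute f g w, hw.2, map_smul]
    have hWle : W ≤ S := inf_le_left
    have hWne : W ≠ ⊥ := by
      intro h0
      have hsW : (s : V) ∈ W := by
        rw [hmemW]
        refine ⟨s.2, ?_⟩
        have h2 := congrArg Subtype.val hs.apply_eq_smul
        exact h2
      rw [h0, Submodule.mem_bot] at hsW
      exact hs.2 (Subtype.ext hsW)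
    rcases hmin W hWsub hWle with h | h
    · exact absurd h hWne
    · intro w hw
      have hwW : w ∈ W := by rw [h]; exact hw
      exact ((hmemW w).mp hwW).2
  have hsub : HopfRep.IsSubcomod (k := k) (A := A) (Submodule.span k {v}) := by
    rw [isSubcomod_iff]
    intro f w hw
    obtain ⟨c, rfl⟩ := Submodule.mem_span_singleton.mp hw
    obtain ⟨μ, hμ⟩ := hscal f
    rw [map_smul, hμ v hv]
    exact Submodule.smul_mem _ _ (Submodule.smul_mem _ _ (Submodule.mem_span_singleton_self v))
  exact exists_tmul_of_mem_range v _ (hsub v (Submodule.mem_span_singleton_self v))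

lemma exists_minimal_subcomod [FiniteDimensional k V] (E' : Submodule k V)
    (hE' : HopfRep.IsSubcomod (k := k) (A := A) E') (hne : E' ≠ ⊥) :
    ∃ S : Submodule k V, HopfRep.IsSubcomod (k := k) (A := A) S ∧ S ≠ ⊥ ∧ S ≤ E' ∧
      ∀ W : Submodule k V, HopfRep.IsSubcomod (k := k) (A := A) W → W ≤ S → W = ⊥ ∨ W = S := by
  have hwf : WellFounded ((· < ·) : Submodule k V → Submodule k V → Prop) := wellFounded_lt
  let P : Set (Submodule k V) := {S | HopfRep.IsSubcomod (k := k) (A := A) S ∧ S ≠ ⊥ ∧ S ≤ E'}
  have hP : P.Nonempty := ⟨E', hE', hne, le_rfl⟩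
  obtain ⟨S, hSP, hSmin⟩ := hwf.has_min P hP
  refine ⟨S, hSP.1, hSP.2.1, hSP.2.2, ?_⟩
  intro W hW hWS
  by_cases h0 : W = ⊥
  · exact Or.inl h0
  · right
    have hWP : W ∈ P := ⟨hW, h0, hWS.trans hSP.2.2⟩
    exact eq_of_le_of_not_lt hWS (hSmin W hWP)

theorem Eig_eq_top_of_isSemisimpleComod [IsAlgClosed k] [Coalgebra.IsCocomm k A]
    [FiniteDimensional k V] (hss : HopfRep.IsSemisimpleComod k A V) : Eig k A V = ⊤ := by
  obtain ⟨E', hE', hc⟩ := hss (Eig k A V) isSubcomod_Eig
  by_contra hne
  have hE'ne : E' ≠ ⊥ := by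
    intro h0
    apply hne
    have := hc.sup_eq_top
    rwa [h0, sup_bot_eq] at this
  obtain ⟨S, hS, hSne, hSle, hSmin⟩ := exists_minimal_subcomod E' hE' hE'ne
  obtain ⟨s, hsS, hs0⟩ := Submodule.exists_mem_ne_zero_of_ne_bot hSne
  obtain ⟨a, ha⟩ := exists_coact_eq_tmul_of_minimal S hS hSmin s hsS
  have h1 : s ∈ Eig k A V := Submodule.subset_span ⟨a, ha⟩
  have h2 : s ∈ E' := hSle hsS
  have h3 : s ∈ Eig k A V ⊓ E' := ⟨h1, h2⟩
  rw [hc.inf_eq_bot, Submodule.mem_bot] at h3
  exact hs0 h3

theorem isDiagonalizable_of_isLinearlyReductive [IsAlgClosed k] [Coalgebra.IsCocomm k A]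
    (h : HopfRep.IsLinearlyReductive k A) : HopfRep.IsDiagonalizable k A := by
  apply isDiagonalizable_of_Eig
  intro V _ _ _ hfin
  haveI : Module.Finite k V := hfin
  exact Eig_eq_top_of_isSemisimpleComod (h V hfin)

end Cocomm

end Groth.Agent.Lib.Helper19.Diag
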