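import Mathlib
import Groth.Prelude.Def_TwC
import Groth.Agent.Lib.Helper1.DiagGa
import Groth.Agent.Lib.Helper19.NilLim

/-!
# Actions of group schemes: generalities used for the rigidity of diagonalisable groups

* `act_one`, `act_mul`: the axioms of an action on points.
* `flat_ext`: two morphisms agreeing after a jointly surjective family of flat morphisms are equal.
* `exists_tau`, `surjective_of_nil`: a closed immersion with locally nilpotent ideal.
* `CharData`: an abstract description of the points of a group by characters.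
-/

set_option autoImplicit false
set_option linter.unusedSectionVars false
set_option linter.style.haveILetI false

universe u

open CategoryTheory MonoidalCategory CartesianMonoidalCategory MonObj GrpObj AlgebraicGeometry Limits

namespace Groth.Agent.Lib.Helper19.DiagAct

section Action

variable {S : Scheme.{u}} {G X : Over S} [GrpObj G] (a : AlgGrp.Action G X)

lemma act_one {Y : Over S} (x : Y ⟶ X) : lift (1 : Y ⟶ G) x ≫ a.act = x := by
  rw [Hom.one_def, ← lift_whiskerRight, Category.assoc, a.one_act, leftUnitor_hom, lift_snd]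

lemma act_mul {Y : Over S} (g h : Y ⟶ G) (x : Y ⟶ X) :
    lift (g * h) x ≫ a.act = lift g (lift h x ≫ a.act) ≫ a.act := by
  rw [Hom.mul_def, ← lift_whiskerRight, Category.assoc, a.mul_act, lift_lift_associator_hom_assoc,
    lift_whiskerLeft_assoc]

lemma act_comp {Y Y' : Over S} (k : Y' ⟶ Y) (g : Y ⟶ G) (x : Y ⟶ X) :
    lift (k ≫ g) (k ≫ x) ≫ a.act = k ≫ lift g x ≫ a.act := by
  rw [← comp_lift, Category.assoc]

variable {S₀ : Scheme.{u}} (i₀ : S₀ ⟶ S)
  (h0 : ∀ (Y : Over S) (_ : Y ⟶ Over.mk i₀) (g : Y ⟶ G) (x : Y ⟶ X), lift g x ≫ a.act = x)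

include h0 in
lemma act_eq_on_closed {Y : Over S} (g : Y ⟶ G) (x : Y ⟶ X) :
    pullback.fst Y.hom i₀ ≫ (lift g x ≫ a.act).left = pullback.fst Y.hom i₀ ≫ x.left := by
  let Y₀ : Over S := Over.mk (pullback.fst Y.hom i₀ ≫ Y.hom)
  let jj : Y₀ ⟶ Y := Over.homMk (pullback.fst Y.hom i₀) rfl
  let p : Y₀ ⟶ Over.mk i₀ := Over.homMk (pullback.snd Y.hom i₀) pullback.condition.symm
  have := h0 Y₀ p (jj ≫ g) (jj ≫ x)
  rw [act_comp] at this
  exact congrArg (fun k => k.left) this

end Action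

section Nil

variable {S S₀ : Scheme.{u}} (i₀ : S₀ ⟶ S) [IsClosedImmersion i₀]

lemma exists_tau (V : S.affineOpens) :
    ∃ τ : Spec (CommRingCat.of (Γ(S, V.1) ⧸ i₀.ker.ideal V)) ⟶ S₀,
      τ ≫ i₀ = Spec.map (CommRingCat.ofHom (Ideal.Quotient.mk (i₀.ker.ideal V))) ≫ V.2.fromSpec := by
  refine ⟨i₀.ker.subschemeCover.f V ≫ inv i₀.toImage, ?_⟩
  have h : inv i₀.toImage ≫ i₀ = i₀.imageι := by
    rw [IsIso.inv_comp_eq, Scheme.Hom.toImage_imageι]
  rw [Category.assoc, h]
  exact (i₀.ker.subschemeCover_map_subschemeι V).trans (i₀.ker.glueDataObjι_ι V)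

lemma surjective_of_nil
    (hnil : ∀ x : S, ∃ U : S.affineOpens, x ∈ (U : S.Opens) ∧ IsNilpotent (i₀.ker.ideal U)) :
    Surjective i₀ := by
  refine ⟨fun s => ?_⟩
  obtain ⟨V, hsV, hV⟩ := hnil s
  obtain ⟨τ, hτ⟩ := exists_tau i₀ V
  have hs : s ∈ Set.range V.2.fromSpec.base := by
    rw [V.2.range_fromSpec]; exact hsV
  obtain ⟨pt, rfl⟩ := hs
  have hsurj := NilLim.spec_surjective_of_nil (Ideal.Quotient.mk (i₀.ker.ideal V))
    Ideal.Quotient.mk_surjective (fun x hx => by
      rw [Ideal.mk_ker] at hx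
      obtain ⟨n, hn⟩ := hV
      refine ⟨n, ?_⟩
      have : x ^ n ∈ i₀.ker.ideal V ^ n := Ideal.pow_mem_pow hx n
      rwa [hn, Ideal.zero_eq_bot, Ideal.mem_bot] at this)
  obtain ⟨pt', rfl⟩ := hsurj pt
  refine ⟨τ.base pt', ?_⟩
  have := congr(($hτ).base pt')
  simpa using this

end Nil

section FlatExt

lemma flat_ext {Y X : Scheme.{u}} (a b : Y ⟶ X)
    (h : ∀ y : Y, ∃ (P : Scheme.{u}) (p : P ⟶ Y) (pt : P),
      Flat p ∧ p.base pt = y ∧ p ≫ a = p ≫ b) : a = b := by
  have hbase : ∀ y : Y, a.base y = b.base y := by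
    intro y
    obtain ⟨P, p, pt, _, rfl, e⟩ := h y
    have := congr(($e).base pt)
    simpa using this
  refine Scheme.hom_ext_of_forall a b fun y => ?_
  obtain ⟨U, hU, hyU, -⟩ := exists_isAffineOpen_mem_and_subset
    (x := a.base y) (U := ⊤) (by trivial)
  let W : Y.Opens := a ⁻¹ᵁ U
  have hWb : W ≤ b ⁻¹ᵁ U := by
    intro w hw
    change b.base w ∈ U
    rw [← hbase w]
    exact hw
  refine ⟨W, hyU, ?_⟩
  haveI : IsAffine (U : Scheme.{u}) := hU
  have key : a.resLE U W le_rfl = b.resLE U W hWb := by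
    apply ext_of_isAffine
    ext s
    rw [← sub_eq_zero]
    apply Groth.Agent.Lib.Helper1.DiagGa.eq_zero_of_flat_cover
    intro w
    obtain ⟨P, p, pt, hp, hpt, e⟩ := h w.1
    have hptW : pt ∈ p ⁻¹ᵁ W := by
      change p.base pt ∈ W
      rw [hpt]
      exact w.2
    refine ⟨(p ⁻¹ᵁ W : P.Opens), p ∣_ W, ⟨pt, hptW⟩, inferInstance, ?_, ?_⟩
    · apply Subtype.ext
      rw [morphismRestrict_base_coe]
      exact hpt
    · have e' : (p ∣_ W) ≫ a.resLE U W le_rfl = (p ∣_ W) ≫ b.resLE U W hWb := by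
        rw [← cancel_mono U.ι]
        simp only [Category.assoc, Scheme.Hom.resLE_comp_ι]
        rw [morphismRestrict_ι_assoc, morphismRestrict_ι_assoc, e]
      rw [map_sub, sub_eq_zero]
      have := congr(($e').appTop s)
      simpa using this
  rw [← Scheme.Hom.resLE_comp_ι a le_rfl, ← Scheme.Hom.resLE_comp_ι b hWb, key]

end FlatExt

end Groth.Agent.Lib.Helper19.DiagAct
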