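import Mathlib

/-!
# A coaction of a group algebra which is trivial modulo a nilpotent ideal is trivial

`ρ : A → A[H]` a ring homomorphism satisfying the counit and coassociativity axioms, linear over a
ring `R` with a nilpotent ideal `I`, and trivial modulo `I A`: then `ρ` is trivial.
-/

set_option autoImplicit false

namespace Groth.Agent.Lib.Helper19.DiagRing

open MonoidAlgebra

variable {R A : Type*} [CommRing R] [CommRing A] {H : Type*} [CommGroup H]

/-- the augmentation `A[H] → A`. -/
noncomputable def epsHom (A H : Type*) [CommRing A] [CommGroup H] : MonoidAlgebra A H →+* A :=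
  liftNCRingHom (RingHom.id A) (1 : H →* A) (fun _ _ => Commute.all _ _)

@[simp] lemma epsHom_single (h : H) (a : A) : epsHom A H (single h a) = a := by
  simp [epsHom]

/-- the group-like elements `h ↦ h ⊗ h` of `A[H][H]`. -/
noncomputable def diagMon (A H : Type*) [CommRing A] [CommGroup H] :
    H →* MonoidAlgebra (MonoidAlgebra A H) H where
  toFun h := single h (single h 1)
  map_one' := rfl
  map_mul' h k := by simp [single_mul_single]

/-- the diagonal (comultiplication) `A[H] → A[H][H]`, `a h ↦ a h ⊗ h`. -/
noncomputable def diagHom (A H : Type*) [CommRing A] [CommGroup H] :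
    MonoidAlgebra A H →+* MonoidAlgebra (MonoidAlgebra A H) H :=
  liftNCRingHom ((singleOneRingHom : MonoidAlgebra A H →+* _).comp singleOneRingHom)
    (diagMon A H) (fun _ _ => Commute.all _ _)

lemma diagHom_single (h : H) (a : A) : diagHom A H (single h a) = single h (single h a) := by
  simp [diagHom, diagMon, single_mul_single]

lemma sORH_apply (a : A) : (singleOneRingHom : A →+* MonoidAlgebra A H) a = single 1 a := rfl

open Classical in
lemma coeff_diagHom (x : MonoidAlgebra A H) (h k : H) :
    ((diagHom A H x).coeff k).coeff h = if h = k then x.coeff h else 0 := by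
  classical
  induction x using MonoidAlgebra.induction_linear with
  | zero => simp
  | add x y hx hy =>
    rw [map_add, coeff_add, Finsupp.add_apply, coeff_add, Finsupp.add_apply, hx, hy, coeff_add,
      Finsupp.add_apply]
    split_ifs <;> simp
  | single m a =>
    rw [diagHom_single, coeff_single, Finsupp.single_apply, coeff_single, Finsupp.single_apply]
    by_cases hmk : m = k
    · subst hmk
      rw [if_pos rfl, coeff_single, Finsupp.single_apply]
      by_cases hmh : m = h
      · subst hmh; simp
      · rw [if_neg hmh, if_neg (fun e => hmh e.symm)]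
    · rw [if_neg hmk]
      by_cases hhk : h = k
      · subst hhk; simp [hmk]
      · simp [hhk]

theorem rho_trivial (φ : R →+* A) (I : Ideal R) (hI : IsNilpotent I)
    (ρ : A →+* MonoidAlgebra A H)
    (hU : (epsHom A H).comp ρ = RingHom.id A)
    (hA : (diagHom A H).comp ρ = (mapRingHom H ρ).comp ρ)
    (hN : (mapRingHom H (Ideal.Quotient.mk (I.map φ))).comp ρ =
      (mapRingHom H (Ideal.Quotient.mk (I.map φ))).comp singleOneRingHom)
    (hL : ρ.comp φ = (singleOneRingHom : A →+* MonoidAlgebra A H).comp φ) :
    ρ = singleOneRingHom := by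
  classical
  obtain ⟨n, hn⟩ := hI
  have hlin : ∀ (r : R) (a : A) (h : H), (ρ (φ r * a)).coeff h = φ r * (ρ a).coeff h := by
    intro r a h
    have : ρ (φ r) = single 1 (φ r) := congr($hL r)
    rw [map_mul, this, coeff_single_one_mul]
  have hidem : ∀ (a : A) (h k : H),
      (ρ ((ρ a).coeff k)).coeff h = if h = k then (ρ a).coeff h else 0 := by
    intro a h k
    have := congr((($hA a).coeff k).coeff h)
    simp only [RingHom.comp_apply, coeff_mapRingHom, coeff_diagHom] at this
    exact this.symm
  have hmem : ∀ (a : A) (h : H), h ≠ 1 → (ρ a).coeff h ∈ I.map φ := by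
    intro a h hh
    have := congr(($hN a).coeff h)
    simp only [RingHom.comp_apply, coeff_mapRingHom, sORH_apply, coeff_single,
      Finsupp.single_apply] at this
    rw [if_neg (Ne.symm hh), map_zero] at this
    exact Ideal.Quotient.eq_zero_iff_mem.mp this
  have hpow : ∀ (m : ℕ) (h : H), h ≠ 1 → ∀ a, (ρ a).coeff h ∈ (I ^ m).map φ := by
    intro m h hh
    induction m with
    | zero => intro a; simp [Ideal.one_eq_top, Ideal.map_top]
    | succ m ih =>
      intro a
      have key : ∀ x ∈ (I ^ m).map φ, ∀ b : A, (ρ (b * x)).coeff h ∈ (I ^ (m + 1)).map φ := by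
        intro x hx
        refine Submodule.span_induction
          (p := fun x _ => ∀ b : A, (ρ (b * x)).coeff h ∈ (I ^ (m + 1)).map φ) ?_ ?_ ?_ ?_ hx
        · rintro _ ⟨r, hr, rfl⟩ b
          rw [mul_comm, hlin, pow_succ, Ideal.map_mul]
          exact Ideal.mul_mem_mul (Ideal.mem_map_of_mem φ hr) (hmem b h hh)
        · intro b; simp
        · intro x y _ _ hx hy b
          rw [mul_add, map_add, coeff_add, Finsupp.add_apply]
          exact add_mem (hx b) (hy b)
        · intro c x _ hx b
          rw [smul_eq_mul, ← mul_assoc]
          exact hx (b * c)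
      have := key _ (ih a) 1
      rw [one_mul, hidem, if_pos rfl] at this
      exact this
  refine RingHom.ext fun a => ?_
  have hz : ∀ h, h ≠ 1 → (ρ a).coeff h = 0 := fun h hh => by
    have := hpow n h hh a
    rwa [hn, Ideal.zero_eq_bot, Ideal.map_bot, Ideal.mem_bot] at this
  have h1 : ρ a = single 1 ((ρ a).coeff 1) := by
    apply coeff_injective
    ext h
    rw [coeff_single, Finsupp.single_apply]
    by_cases hh : h = 1
    · subst hh; simp
    · rw [if_neg (Ne.symm hh), hz h hh]
  have h2 : epsHom A H (ρ a) = a := congr($hU a)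
  rw [h1, epsHom_single] at h2
  rw [h1, h2]
  rfl

end Groth.Agent.Lib.Helper19.DiagRing
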