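import Mathlib
import Groth.Agent.Lib.Helper19.DiagRing
import Groth.Agent.Lib.Helper19.DiagAct

/-!
# Rigidity of actions of diagonalisable groups: the affine core

`CharData f G H`: the points of the `S`-group `G` with values in `T`-schemes (`f : T ⟶ S`) are the
characters of `H`.  Given such data, an action of `G` on `X` which is trivial on `S₀`-points
(`S₀ ⟶ S` a closed immersion with locally nilpotent ideal) is trivial on all points over `T`.
-/

set_option autoImplicit false
set_option linter.unusedSectionVars false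
set_option linter.style.haveILetI false

universe u

open CategoryTheory MonoidalCategory CartesianMonoidalCategory MonObj GrpObj AlgebraicGeometry Limits

namespace Groth.Agent.Lib.Helper19.DiagCore

open DiagAct DiagRing MonoidAlgebra

/-- The points of `G` over `T`-schemes are characters of `H`. -/
structure CharData {S T : Scheme.{u}} (f : T ⟶ S) (G : Over S) [GrpObj G] (H : Type) [CommGroup H] where
  chi : ∀ {Y : Over T}, ((Over.map f).obj Y ⟶ G) → (H →* Γ(Y.left, ⊤))
  chi_mul : ∀ {Y : Over T} (g h : (Over.map f).obj Y ⟶ G) (m : H),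
    chi (g * h) m = chi g m * chi h m
  chi_comp : ∀ {Y Y' : Over T} (k : Y' ⟶ Y) (g : (Over.map f).obj Y ⟶ G) (m : H),
    chi ((Over.map f).map k ≫ g) m = k.left.appTop (chi g m)
  chi_ext : ∀ {Y : Over T} (g h : (Over.map f).obj Y ⟶ G), (∀ m, chi g m = chi h m) → g = h
  chi_exists : ∀ {Y : Over T} (ψ : H →* Γ(Y.left, ⊤)),
    ∃ g : (Over.map f).obj Y ⟶ G, ∀ m, chi g m = ψ m

section

variable {S T : Scheme.{u}} {f : T ⟶ S} {G : Over S} [GrpObj G] {H : Type} [CommGroup H]
  (D : CharData f G H)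

lemma CharData.chi_one {Y : Over T} (m : H) : D.chi (1 : (Over.map f).obj Y ⟶ G) m = 1 := by
  obtain ⟨g, hg⟩ := D.chi_exists (Y := Y) 1
  have hgg : g * g = g := D.chi_ext _ _ fun m => by rw [D.chi_mul, hg]; simp
  have : g = 1 := by simpa using hgg
  rw [← this, hg]; rfl

end

section Core

variable {S S₀ : Scheme.{u}} (i₀ : S₀ ⟶ S) [IsClosedImmersion i₀]
  {G X : Over S} [GrpObj G] (a : AlgGrp.Action G X)
  {T : Scheme.{u}} (f : T ⟶ S) {H : Type} [CommGroup H] (D : CharData f G H)
  {A : Type u} [CommRing A] (e : Spec (CommRingCat.of A) ⟶ pullback X.hom f)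

/-- the point of `X_T` given by a ring homomorphism out of the coordinate ring of the chart `e`. -/
noncomputable abbrev pt {C : Type u} [CommRing C] (χ : A →+* C) :
    Spec (CommRingCat.of C) ⟶ pullback X.hom f :=
  Spec.map (CommRingCat.ofHom χ) ≫ e

lemma pt_comp {C C' : Type u} [CommRing C] [CommRing C'] (χ : A →+* C) (θ : C →+* C') :
    pt f e (θ.comp χ) = Spec.map (CommRingCat.ofHom θ) ≫ pt f e χ := by
  simp [pt, CommRingCat.ofHom_comp, Spec.map_comp]

lemma pt_injective [Mono e] {C : Type u} [CommRing C] (χ χ' : A →+* C)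
    (h : pt f e χ = pt f e χ') : χ = χ' := by
  have h1 := (cancel_mono e).mp h
  have h2 := Spec.map_injective h1
  exact congrArg CommRingCat.Hom.hom h2

lemma ringHom_eq_of_fst_snd [Mono e] {C : Type u} [CommRing C] (χ χ' : A →+* C)
    (h1 : pt f e χ ≫ pullback.fst X.hom f = pt f e χ' ≫ pullback.fst X.hom f)
    (h2 : pt f e χ ≫ pullback.snd X.hom f = pt f e χ' ≫ pullback.snd X.hom f) : χ = χ' :=
  pt_injective f e χ χ' (pullback.hom_ext h1 h2)

/-- the point of `X` over `S` attached to a point of `X_T`. -/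
noncomputable abbrev xOf {C : Type u} [CommRing C] (y : Spec (CommRingCat.of C) ⟶ T)
    (x₁ : Spec (CommRingCat.of C) ⟶ pullback X.hom f) (h : x₁ ≫ pullback.snd X.hom f = y) :
    (Over.map f).obj (Over.mk y) ⟶ X :=
  Over.homMk (x₁ ≫ pullback.fst X.hom f) (by
    subst h
    simp [pullback.condition])

variable (A H) in
/-- the universal test object `Spec A[H]` over `T`. -/
noncomputable abbrev YA : Over T :=
  Over.mk (pt f e (singleOneRingHom : A →+* MonoidAlgebra A H) ≫ pullback.snd X.hom f)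

variable (A H) in
/-- the universal point of `X`. -/
noncomputable abbrev xuniv : (Over.map f).obj (YA f H A e) ⟶ X :=
  xOf f _ (pt f e (singleOneRingHom : A →+* MonoidAlgebra A H)) rfl

variable (A H) in
/-- the universal character. -/
noncomputable def psiUniv : H →* Γ(Spec (CommRingCat.of (MonoidAlgebra A H)), ⊤) :=
  ((Scheme.ΓSpecIso (CommRingCat.of (MonoidAlgebra A H))).inv.hom :
    MonoidAlgebra A H →+* _).toMonoidHom.comp (MonoidAlgebra.of A H)

lemma psiUniv_apply (m : H) :
    psiUniv H A m = (Scheme.ΓSpecIso (CommRingCat.of (MonoidAlgebra A H))).inv (single m 1) := rfl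

section Univ

variable (gu : (Over.map f).obj (YA f H A e) ⟶ G)

/-- the structure morphism of a test object mapping to the universal one. -/
noncomputable abbrev kOf {C : Type u} [CommRing C] (y : Spec (CommRingCat.of C) ⟶ T)
    (θ : MonoidAlgebra A H →+* C)
    (hθ : Spec.map (CommRingCat.ofHom θ) ≫ (YA f H A e).hom = y) : Over.mk y ⟶ YA f H A e :=
  Over.homMk (Spec.map (CommRingCat.ofHom θ)) hθ

/-- the pulled back point of `G`. -/
noncomputable abbrev gOf {C : Type u} [CommRing C] (y : Spec (CommRingCat.of C) ⟶ T)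
    (θ : MonoidAlgebra A H →+* C)
    (hθ : Spec.map (CommRingCat.ofHom θ) ≫ (YA f H A e).hom = y) :
    (Over.map f).obj (Over.mk y) ⟶ G :=
  (Over.map f).map (kOf f e y θ hθ) ≫ gu

/-- the pulled back point of `X`. -/
noncomputable abbrev xOf' {C : Type u} [CommRing C] (y : Spec (CommRingCat.of C) ⟶ T)
    (θ : MonoidAlgebra A H →+* C)
    (hθ : Spec.map (CommRingCat.ofHom θ) ≫ (YA f H A e).hom = y) :
    (Over.map f).obj (Over.mk y) ⟶ X :=
  (Over.map f).map (kOf f e y θ hθ) ≫ xuniv f H A e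

variable (hgu : ∀ m, D.chi gu m = psiUniv H A m)

include hgu in
lemma chi_gOf {C : Type u} [CommRing C] (y : Spec (CommRingCat.of C) ⟶ T)
    (θ : MonoidAlgebra A H →+* C)
    (hθ : Spec.map (CommRingCat.ofHom θ) ≫ (YA f H A e).hom = y) (m : H) :
    D.chi (gOf f e gu y θ hθ) m = (Scheme.ΓSpecIso (CommRingCat.of C)).inv (θ (single m 1)) := by
  rw [gOf, D.chi_comp, hgu, psiUniv_apply]
  exact Groth.Agent.Lib.Helper13.specMap_appTop_ΓSpecIso_inv θ _

lemma xOf'_left {C : Type u} [CommRing C] (y : Spec (CommRingCat.of C) ⟶ T)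
    (θ : MonoidAlgebra A H →+* C)
    (hθ : Spec.map (CommRingCat.ofHom θ) ≫ (YA f H A e).hom = y) :
    (xOf' f e y θ hθ).left = pt f e (θ.comp singleOneRingHom) ≫ pullback.fst X.hom f := by
  rw [pt_comp]
  simp [xOf', xuniv, xOf, kOf]

lemma act_gOf {C : Type u} [CommRing C] (y : Spec (CommRingCat.of C) ⟶ T)
    (θ : MonoidAlgebra A H →+* C)
    (hθ : Spec.map (CommRingCat.ofHom θ) ≫ (YA f H A e).hom = y) :
    lift (gOf f e gu y θ hθ) (xOf' f e y θ hθ) ≫ a.act =
      (Over.map f).map (kOf f e y θ hθ) ≫ lift gu (xuniv f H A e) ≫ a.act :=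
  act_comp a _ _ _

variable (ρ : A →+* MonoidAlgebra A H)
  (hρ1 : pt f e ρ ≫ pullback.fst X.hom f = (lift gu (xuniv f H A e) ≫ a.act).left)
  (hρ2 : pt f e ρ ≫ pullback.snd X.hom f =
    pt f e (singleOneRingHom : A →+* MonoidAlgebra A H) ≫ pullback.snd X.hom f)

include hρ1 in
lemma act_gOf_left {C : Type u} [CommRing C] (y : Spec (CommRingCat.of C) ⟶ T)
    (θ : MonoidAlgebra A H →+* C)
    (hθ : Spec.map (CommRingCat.ofHom θ) ≫ (YA f H A e).hom = y) :
    (lift (gOf f e gu y θ hθ) (xOf' f e y θ hθ) ≫ a.act).left =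
      pt f e (θ.comp ρ) ≫ pullback.fst X.hom f := by
  rw [act_gOf, pt_comp, Category.assoc, hρ1]
  rfl

include hρ2 in
lemma snd_comp_rho {C : Type u} [CommRing C] (θ : MonoidAlgebra A H →+* C) :
    pt f e (θ.comp ρ) ≫ pullback.snd X.hom f =
      pt f e (θ.comp singleOneRingHom) ≫ pullback.snd X.hom f := by
  rw [pt_comp, pt_comp, Category.assoc, Category.assoc]
  exact congrArg (Spec.map (CommRingCat.ofHom θ) ≫ ·) hρ2

end Univ

lemma map_comp_YA_hom {C : Type u} [CommRing C] (θ : MonoidAlgebra A H →+* C) :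
    Spec.map (CommRingCat.ofHom θ) ≫ (YA f H A e).hom =
      pt f e (θ.comp singleOneRingHom) ≫ pullback.snd X.hom f := by
  rw [pt_comp, Category.assoc]
  rfl

end Core

end Groth.Agent.Lib.Helper19.DiagCore
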