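import Mathlib
import Groth.Agent.Lib.Helper19.DiagCore

/-!
# Rigidity of actions of diagonalisable groups: the coaction attached to a chart is trivial
-/

set_option autoImplicit false
set_option linter.unusedSectionVars false
set_option linter.style.haveILetI false
set_option maxHeartbeats 400000

universe u

open CategoryTheory MonoidalCategory CartesianMonoidalCategory MonObj GrpObj AlgebraicGeometry Limits

namespace Groth.Agent.Lib.Helper19.DiagCore

open DiagAct DiagRing MonoidAlgebra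

section Core

variable {S S₀ : Scheme.{u}} (i₀ : S₀ ⟶ S) [IsClosedImmersion i₀]
  {G X : Over S} [GrpObj G] (a : AlgGrp.Action G X)
  {T : Scheme.{u}} (f : T ⟶ S) {H : Type} [CommGroup H] (D : CharData f G H)
  {A : Type u} [CommRing A] (e : Spec (CommRingCat.of A) ⟶ pullback X.hom f)

section Univ

variable (gu : (Over.map f).obj (YA f H A e) ⟶ G)
  (hgu : ∀ m, D.chi gu m = psiUniv H A m)
  (ρ : A →+* MonoidAlgebra A H)
  (hρ1 : pt f e ρ ≫ pullback.fst X.hom f = (lift gu (xuniv f H A e) ≫ a.act).left)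
  (hρ2 : pt f e ρ ≫ pullback.snd X.hom f =
    pt f e (singleOneRingHom : A →+* MonoidAlgebra A H) ≫ pullback.snd X.hom f)

include hgu hρ1 hρ2 in
lemma rho_counit [Mono e] : (epsHom A H).comp ρ = RingHom.id A := by
  have hc : (epsHom A H).comp singleOneRingHom = RingHom.id A := by
    ext a; simp
  obtain ⟨y, hy⟩ : ∃ y, y = pt f e (RingHom.id A) ≫ pullback.snd X.hom f := ⟨_, rfl⟩
  have hθ : Spec.map (CommRingCat.ofHom (epsHom A H)) ≫ (YA f H A e).hom = y := by
    rw [hy, map_comp_YA_hom, hc]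
  have hg : gOf f e gu y (epsHom A H) hθ = 1 := by
    apply D.chi_ext
    intro m
    rw [chi_gOf f D e gu hgu, D.chi_one, epsHom_single, map_one]
  have h1 := act_gOf_left a f e gu ρ hρ1 y (epsHom A H) hθ
  rw [hg, act_one, xOf'_left, hc] at h1
  have h2 := snd_comp_rho f e ρ hρ2 (epsHom A H)
  rw [hc] at h2
  exact ringHom_eq_of_fst_snd f e _ _ h1.symm h2

include hgu hρ1 hρ2 in
lemma rho_coassoc [Mono e] : (diagHom A H).comp ρ = (mapRingHom H ρ).comp ρ := by
  let CB : MonoidAlgebra A H →+* MonoidAlgebra (MonoidAlgebra A H) H := singleOneRingHom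
  let c₂ : A →+* MonoidAlgebra (MonoidAlgebra A H) H := CB.comp singleOneRingHom
  obtain ⟨y, hy⟩ : ∃ y, y = pt f e c₂ ≫ pullback.snd X.hom f := ⟨_, rfl⟩
  have hc3 : (diagHom A H).comp singleOneRingHom = c₂ := by
    ext a; simp [c₂, CB, sORH_apply, diagHom_single]
  have hc4 : (mapRingHom H ρ).comp singleOneRingHom = CB.comp ρ := by
    ext a; simp [CB, sORH_apply]
  have hθ2 : Spec.map (CommRingCat.ofHom CB) ≫ (YA f H A e).hom = y := by
    rw [hy, map_comp_YA_hom]
  have hθ3 : Spec.map (CommRingCat.ofHom (diagHom A H)) ≫ (YA f H A e).hom = y := by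
    rw [hy, map_comp_YA_hom, hc3]
  have hθ4 : Spec.map (CommRingCat.ofHom (mapRingHom H ρ)) ≫ (YA f H A e).hom = y := by
    rw [hy, map_comp_YA_hom, hc4]
    exact snd_comp_rho f e ρ hρ2 CB
  have hG : gOf f e gu y (diagHom A H) hθ3 =
      gOf f e gu y (mapRingHom H ρ) hθ4 * gOf f e gu y CB hθ2 := by
    apply D.chi_ext
    intro m
    rw [D.chi_mul, chi_gOf f D e gu hgu, chi_gOf f D e gu hgu, chi_gOf f D e gu hgu, ← map_mul]
    congr 1
    simp [CB, sORH_apply, diagHom_single, single_mul_single]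
  have hX32 : xOf' f e y (diagHom A H) hθ3 = xOf' f e y CB hθ2 := by
    apply Over.OverMorphism.ext
    rw [xOf'_left, xOf'_left, hc3]
  have hX4 : xOf' f e y (mapRingHom H ρ) hθ4 =
      lift (gOf f e gu y CB hθ2) (xOf' f e y CB hθ2) ≫ a.act := by
    apply Over.OverMorphism.ext
    rw [xOf'_left, act_gOf_left a f e gu ρ hρ1, hc4]
  have h3 := act_gOf_left a f e gu ρ hρ1 y (diagHom A H) hθ3
  have h4 := act_gOf_left a f e gu ρ hρ1 y (mapRingHom H ρ) hθ4
  have hm := act_mul a (gOf f e gu y (mapRingHom H ρ) hθ4) (gOf f e gu y CB hθ2)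
    (xOf' f e y CB hθ2)
  rw [hG, hX32, hm, ← hX4, h4] at h3
  refine ringHom_eq_of_fst_snd f e _ _ h3.symm ?_
  rw [snd_comp_rho f e ρ hρ2, snd_comp_rho f e ρ hρ2, hc3, hc4]
  exact (snd_comp_rho f e ρ hρ2 CB).symm

section Base

variable {R : Type u} [CommRing R] (φ : R →+* A) (I : Ideal R)
  (v : Spec (CommRingCat.of R) ⟶ S)
  (hcompat : e ≫ pullback.snd X.hom f ≫ f = Spec.map (CommRingCat.ofHom φ) ≫ v)

include hρ2 hcompat in
lemma rho_lin [Mono v] :
    ρ.comp φ = (singleOneRingHom : A →+* MonoidAlgebra A H).comp φ := by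
  have h := congrArg (· ≫ f) hρ2
  simp only [pt, Category.assoc, hcompat] at h
  rw [← Category.assoc, ← Category.assoc, cancel_mono, ← Spec.map_comp, ← Spec.map_comp,
    ← CommRingCat.ofHom_comp, ← CommRingCat.ofHom_comp] at h
  exact congrArg CommRingCat.Hom.hom (Spec.map_injective h)

variable (τ : Spec (CommRingCat.of (R ⧸ I)) ⟶ S₀)
  (hτ : τ ≫ i₀ = Spec.map (CommRingCat.ofHom (Ideal.Quotient.mk I)) ≫ v)
  (h0 : ∀ (Y : Over S) (_ : Y ⟶ Over.mk i₀) (g : Y ⟶ G) (x : Y ⟶ X), lift g x ≫ a.act = x)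

include hρ1 hρ2 hcompat hτ h0 in
lemma rho_mod [Mono e] :
    (mapRingHom H (Ideal.Quotient.mk (I.map φ))).comp ρ =
      (mapRingHom H (Ideal.Quotient.mk (I.map φ))).comp singleOneRingHom := by
  set θ := mapRingHom H (Ideal.Quotient.mk (I.map φ)) with hθdef
  let y := Spec.map (CommRingCat.ofHom θ) ≫ (YA f H A e).hom
  have hθ : Spec.map (CommRingCat.ofHom θ) ≫ (YA f H A e).hom = y := rfl
  let φ₀ : R ⧸ I →+* A ⧸ I.map φ := Ideal.quotientMap (I.map φ) φ Ideal.le_comap_map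
  let c₀ : R ⧸ I →+* MonoidAlgebra (A ⧸ I.map φ) H := singleOneRingHom.comp φ₀
  let q : Spec (CommRingCat.of (MonoidAlgebra (A ⧸ I.map φ) H)) ⟶ S₀ :=
    Spec.map (CommRingCat.ofHom c₀) ≫ τ
  have hr : c₀.comp (Ideal.Quotient.mk I) = (θ.comp singleOneRingHom).comp φ := by
    ext r; simp [c₀, φ₀, θ, sORH_apply]
  have e1 : q ≫ i₀ = Spec.map (CommRingCat.ofHom (c₀.comp (Ideal.Quotient.mk I))) ≫ v := by
    rw [CommRingCat.ofHom_comp, Spec.map_comp]
    simp only [q, Category.assoc]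
    rw [hτ]
  have e2 : y ≫ f = Spec.map (CommRingCat.ofHom ((θ.comp singleOneRingHom).comp φ)) ≫ v := by
    rw [CommRingCat.ofHom_comp, CommRingCat.ofHom_comp, Spec.map_comp, Spec.map_comp,
      Category.assoc, Category.assoc, ← hcompat]
    rfl
  have hq : q ≫ i₀ = y ≫ f := by rw [e1, e2, hr]
  let p : (Over.map f).obj (Over.mk y) ⟶ Over.mk i₀ := Over.homMk q hq
  have h := h0 _ p (gOf f e gu y θ hθ) (xOf' f e y θ hθ)
  have h1 := act_gOf_left a f e gu ρ hρ1 y θ hθ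
  rw [h, xOf'_left] at h1
  exact ringHom_eq_of_fst_snd f e _ _ h1.symm (snd_comp_rho f e ρ hρ2 θ)

include hgu hρ1 hρ2 hcompat hτ h0 in
lemma rho_eq [Mono e] [Mono v] (hI : IsNilpotent I) : ρ = singleOneRingHom :=
  rho_trivial φ I hI ρ (rho_counit a f D e gu hgu ρ hρ1 hρ2) (rho_coassoc a f D e gu hgu ρ hρ1 hρ2)
    (rho_mod i₀ a f e gu ρ hρ1 hρ2 φ I v hcompat τ hτ h0) (rho_lin f e ρ hρ2 φ v hcompat)

include hgu hρ1 hρ2 hcompat hτ h0 in
lemma univ_trivial [Mono e] [Mono v] (hI : IsNilpotent I) :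
    lift gu (xuniv f H A e) ≫ a.act = xuniv f H A e := by
  apply Over.OverMorphism.ext
  rw [← hρ1, rho_eq i₀ a f D e gu hgu ρ hρ1 hρ2 φ I v hcompat τ hτ h0 hI]
  rfl

end Base

end Univ

end Core

end Groth.Agent.Lib.Helper19.DiagCore
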