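import Mathlib
import Groth.Agent.Lib.Helper19.DiagCore2

/-!
# Rigidity of actions of diagonalisable groups: points over `T`
-/

set_option autoImplicit false
set_option linter.unusedSectionVars false
set_option linter.style.haveILetI false
set_option maxHeartbeats 400000

universe u

open CategoryTheory MonoidalCategory CartesianMonoidalCategory MonObj GrpObj AlgebraicGeometry Limits

namespace Groth.Agent.Lib.Helper19.DiagCore

open DiagAct DiagRing MonoidAlgebra

section Core

variable {S S₀ : Scheme.{u}} (i₀ : S₀ ⟶ S) [IsClosedImmersion i₀]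
  {G X : Over S} [GrpObj G] (a : AlgGrp.Action G X)
  {T : Scheme.{u}} (f : T ⟶ S) {H : Type} [CommGroup H] (D : CharData f G H)
  {A : Type u} [CommRing A] (e : Spec (CommRingCat.of A) ⟶ pullback X.hom f)
  (h0 : ∀ (Y : Over S) (_ : Y ⟶ Over.mk i₀) (g : Y ⟶ G) (x : Y ⟶ X), lift g x ≫ a.act = x)

include h0 in
lemma exists_rho [IsOpenImmersion e] [Surjective i₀] (gu : (Over.map f).obj (YA f H A e) ⟶ G) :
    ∃ ρ : A →+* MonoidAlgebra A H,
      pt f e ρ ≫ pullback.fst X.hom f = (lift gu (xuniv f H A e) ≫ a.act).left ∧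
      pt f e ρ ≫ pullback.snd X.hom f =
        pt f e (singleOneRingHom : A →+* MonoidAlgebra A H) ≫ pullback.snd X.hom f := by
  obtain ⟨z, hz⟩ : ∃ z, z = lift gu (xuniv f H A e) ≫ a.act := ⟨_, rfl⟩
  rw [← hz]
  have hw : z.left ≫ X.hom = (YA f H A e).hom ≫ f := Over.w z
  let z' : Spec (CommRingCat.of (MonoidAlgebra A H)) ⟶ pullback X.hom f :=
    pullback.lift z.left (YA f H A e).hom hw
  have hrange : Set.range z'.base ⊆ Set.range e.base := by
    rintro _ ⟨b, rfl⟩
    have hsurj : Surjective (pullback.fst ((Over.map f).obj (YA f H A e)).hom i₀) :=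
      MorphismProperty.pullback_fst _ _ inferInstance
    obtain ⟨p, rfl⟩ := hsurj.surj b
    have hj : pullback.fst ((Over.map f).obj (YA f H A e)).hom i₀ ≫ z' =
        pullback.fst ((Over.map f).obj (YA f H A e)).hom i₀ ≫
          pt f e (singleOneRingHom : A →+* MonoidAlgebra A H) := by
      apply pullback.hom_ext
      · rw [Category.assoc, Category.assoc, pullback.lift_fst, hz]
        exact act_eq_on_closed a i₀ h0 gu (xuniv f H A e)
      · rw [Category.assoc, Category.assoc, pullback.lift_snd]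
        rfl
    have := congr(($hj).base p)
    refine ⟨(Spec.map (CommRingCat.ofHom (singleOneRingHom : A →+* MonoidAlgebra A H))).base
      ((pullback.fst ((Over.map f).obj (YA f H A e)).hom i₀).base p), ?_⟩
    simpa using this.symm
  let l := IsOpenImmersion.lift e z' hrange
  have hl : l ≫ e = z' := IsOpenImmersion.lift_fac _ _ _
  have hpt : pt f e (Spec.preimage l).hom = z' := by
    change Spec.map (CommRingCat.ofHom (Spec.preimage l).hom) ≫ e = z'
    rw [CommRingCat.ofHom_hom, Spec.map_preimage, hl]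
  refine ⟨(Spec.preimage l).hom, ?_, ?_⟩
  · rw [hpt]; exact pullback.lift_fst _ _ _
  · rw [hpt]; exact pullback.lift_snd _ _ _

variable {R : Type u} [CommRing R] (φ : R →+* A) (I : Ideal R) (hI : IsNilpotent I)
  (v : Spec (CommRingCat.of R) ⟶ S)
  (hcompat : e ≫ pullback.snd X.hom f ≫ f = Spec.map (CommRingCat.ofHom φ) ≫ v)
  (τ : Spec (CommRingCat.of (R ⧸ I)) ⟶ S₀)
  (hτ : τ ≫ i₀ = Spec.map (CommRingCat.ofHom (Ideal.Quotient.mk I)) ≫ v)

include D h0 hI hcompat hτ in
theorem core_chart [IsOpenImmersion e] [Surjective i₀] [Mono v]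
    {C : Type u} [CommRing C] (ξ : A →+* C) (y : Spec (CommRingCat.of C) ⟶ T)
    (hy : pt f e ξ ≫ pullback.snd X.hom f = y)
    (g : (Over.map f).obj (Over.mk y) ⟶ G) (x : (Over.map f).obj (Over.mk y) ⟶ X)
    (hx : x.left = pt f e ξ ≫ pullback.fst X.hom f) : lift g x ≫ a.act = x := by
  obtain ⟨gu, hgu⟩ := D.chi_exists (Y := YA f H A e) (psiUniv H A)
  obtain ⟨ρ, hρ1, hρ2⟩ := exists_rho i₀ a f e h0 gu
  have huniv := univ_trivial i₀ a f D e gu hgu ρ hρ1 hρ2 φ I v hcompat τ hτ h0 hI
  let ψ : H →* C :=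
    ((Scheme.ΓSpecIso (CommRingCat.of C)).hom.hom : _ →+* C).toMonoidHom.comp (D.chi g)
  let θ : MonoidAlgebra A H →+* C := liftNCRingHom ξ ψ (fun _ _ => Commute.all _ _)
  have hc : θ.comp singleOneRingHom = ξ := by
    ext b; simp [θ]
  have hθ : Spec.map (CommRingCat.ofHom θ) ≫ (YA f H A e).hom = y := by
    rw [map_comp_YA_hom, hc, hy]
  have hg : g = gOf f e gu y θ hθ := by
    apply D.chi_ext
    intro m
    rw [chi_gOf f D e gu hgu]
    have : θ (single m 1) = ψ m := by simp [θ]
    rw [this]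
    simp [ψ]
  have hx' : x = xOf' f e y θ hθ := by
    apply Over.OverMorphism.ext
    rw [xOf'_left, hc, hx]
  rw [hg, hx', act_gOf, huniv]

end Core

end Groth.Agent.Lib.Helper19.DiagCore
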