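import Mathlib
import Groth.Agent.Lib.Helper19.DiagCore3

/-!
# Rigidity of actions of diagonalisable groups: all points over `T`
-/

set_option autoImplicit false
set_option linter.unusedSectionVars false
set_option linter.style.haveILetI false
set_option maxHeartbeats 400000

universe u

open CategoryTheory MonoidalCategory CartesianMonoidalCategory MonObj GrpObj AlgebraicGeometry Limits

namespace Groth.Agent.Lib.Helper19.DiagCore

open DiagAct DiagRing MonoidAlgebra

variable {S S₀ : Scheme.{u}} (i₀ : S₀ ⟶ S) [IsClosedImmersion i₀]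
  {G X : Over S} [GrpObj G] (a : AlgGrp.Action G X)
  {T : Scheme.{u}} (f : T ⟶ S) {H : Type} [CommGroup H] (D : CharData f G H)

include D in
theorem core
    (hnil : ∀ x : S, ∃ U : S.affineOpens, x ∈ (U : S.Opens) ∧ IsNilpotent (i₀.ker.ideal U))
    (h0 : ∀ (Y : Over S) (_ : Y ⟶ Over.mk i₀) (g : Y ⟶ G) (x : Y ⟶ X), lift g x ≫ a.act = x)
    (Y : Over T) (g : (Over.map f).obj Y ⟶ G) (x : (Over.map f).obj Y ⟶ X) :
    lift g x ≫ a.act = x := by
  haveI : Surjective i₀ := surjective_of_nil i₀ hnil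
  apply Over.OverMorphism.ext
  have hw : x.left ≫ X.hom = Y.hom ≫ f := Over.w x
  let x' : Y.left ⟶ pullback X.hom f := pullback.lift x.left Y.hom hw
  refine Scheme.hom_ext_of_forall _ _ fun y => ?_
  obtain ⟨V, hsV, hV⟩ := hnil ((pullback.snd X.hom f ≫ f).base (x'.base y))
  obtain ⟨U, hU, hyU, hUV⟩ := exists_isAffineOpen_mem_and_subset
    (x := x'.base y) (U := (pullback.snd X.hom f ≫ f) ⁻¹ᵁ V.1) hsV
  have hUV' : U ≤ (pullback.snd X.hom f ≫ f) ⁻¹ᵁ V.1 := hUV
  obtain ⟨W, hW, hyW, hWU⟩ := exists_isAffineOpen_mem_and_subset (x := y) (U := x' ⁻¹ᵁ U) hyU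
  refine ⟨W, hyW, ?_⟩
  obtain ⟨τ, hτ⟩ := exists_tau i₀ V
  let e : Spec (CommRingCat.of Γ(pullback X.hom f, U)) ⟶ pullback X.hom f := hU.fromSpec
  haveI : IsOpenImmersion e := inferInstanceAs (IsOpenImmersion hU.fromSpec)
  let v : Spec (CommRingCat.of Γ(S, V.1)) ⟶ S := V.2.fromSpec
  haveI : Mono v := inferInstanceAs (Mono V.2.fromSpec)
  let φ : Γ(S, V.1) →+* Γ(pullback X.hom f, U) :=
    ((pullback.snd X.hom f ≫ f).appLE V.1 U hUV').hom
  have hcompat : e ≫ pullback.snd X.hom f ≫ f = Spec.map (CommRingCat.ofHom φ) ≫ v :=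
    (IsAffineOpen.SpecMap_appLE_fromSpec (pullback.snd X.hom f ≫ f) V.2 hU hUV').symm
  let jj : Spec (CommRingCat.of Γ(Y.left, W)) ⟶ Y.left := hW.fromSpec
  have hr : Set.range (jj ≫ x').base ⊆ Set.range e.base := by
    rintro _ ⟨c, rfl⟩
    have hc : jj.base c ∈ W := by
      have h2 : jj.base c ∈ Set.range hW.fromSpec.base := Set.mem_range_self c
      rwa [hW.range_fromSpec] at h2
    have h3 : x'.base (jj.base c) ∈ Set.range hU.fromSpec.base := by
      rw [hU.range_fromSpec]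
      exact hWU hc
    obtain ⟨z, hz⟩ := h3
    exact ⟨z, hz.trans rfl⟩
  let l := IsOpenImmersion.lift e (jj ≫ x') hr
  have hl : l ≫ e = jj ≫ x' := IsOpenImmersion.lift_fac _ _ _
  let ξ : Γ(pullback X.hom f, U) →+* Γ(Y.left, W) := (Spec.preimage l).hom
  have hpt : pt f e ξ = jj ≫ x' := by
    change Spec.map (CommRingCat.ofHom (Spec.preimage l).hom) ≫ e = _
    rw [CommRingCat.ofHom_hom, Spec.map_preimage, hl]
  let jj' : Over.mk (jj ≫ Y.hom) ⟶ Y := Over.homMk jj rfl
  have key := core_chart i₀ a f D e h0 φ (i₀.ker.ideal V) hV v hcompat τ hτ ξ (jj ≫ Y.hom)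
    (by rw [hpt, Category.assoc, pullback.lift_snd]) ((Over.map f).map jj' ≫ g)
    ((Over.map f).map jj' ≫ x) (by rw [hpt, Category.assoc, pullback.lift_fst]; rfl)
  rw [act_comp] at key
  have key' := congrArg (fun k => k.left) key
  change hW.fromSpec ≫ (lift g x ≫ a.act).left = hW.fromSpec ≫ x.left at key'
  rw [← hW.isoSpec_inv_ι, Category.assoc, Category.assoc, cancel_epi] at key'
  exact key'

end Groth.Agent.Lib.Helper19.DiagCore
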