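import Mathlib
import Groth.Agent.Lib.Helper1.DiagGa
import Groth.Agent.Lib.Helper19.DiagCore4

/-!
# Points of a group which becomes diagonalisable over `T` are characters
-/

set_option autoImplicit false
set_option linter.unusedSectionVars false
set_option linter.style.haveILetI false
set_option maxHeartbeats 400000

universe u

open CategoryTheory MonoidalCategory CartesianMonoidalCategory MonObj GrpObj AlgebraicGeometry Limits

namespace Groth.Agent.Lib.Helper19.DiagCore

open Groth.Agent.Lib.Helper1.DiagGa

open scoped Obj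

variable {S T : Scheme.{u}} (f : T ⟶ S) (G : Over S) [GrpObj G]

/-- the adjunction bijection between points of `G` and points of its base change. -/
noncomputable abbrev adjE {Y : Over T} : ((Over.map f).obj Y ⟶ G) ≃ (Y ⟶ Red.bc f G) :=
  (Over.mapPullbackAdj f).homEquiv Y G

lemma adjE_mul {Y : Over T} (g h : (Over.map f).obj Y ⟶ G) :
    adjE f G (g * h) = adjE f G g * adjE f G h := by
  simp only [adjE, Adjunction.homEquiv_unit]
  rw [Functor.map_mul, MonObj.comp_mul]

lemma adjE_comp {Y Y' : Over T} (k : Y' ⟶ Y) (g : (Over.map f).obj Y ⟶ G) :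
    adjE f G ((Over.map f).map k ≫ g) = k ≫ adjE f G g :=
  Adjunction.homEquiv_naturality_left _ _ _

variable (M : Type) [AddCommGroup M] (φ : Grp.mk (Red.bc f G) ≅ Grp.mk (Red.DS T M))

/-- the trivialisation, as a morphism. -/
noncomputable def phiHom : Red.bc f G ⟶ Red.DS T M := φ.hom.hom.hom

/-- the inverse trivialisation, as a morphism. -/
noncomputable def phiInv : Red.DS T M ⟶ Red.bc f G := φ.inv.hom.hom

instance : IsMonHom (phiHom f G M φ) := by
  unfold phiHom
  infer_instance

lemma phiHom_inv : phiHom f G M φ ≫ phiInv f G M φ = 𝟙 (Red.bc f G) :=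
  congrArg (fun k => k.hom.hom) φ.hom_inv_id

lemma phiInv_hom : phiInv f G M φ ≫ phiHom f G M φ = 𝟙 (Red.DS T M) :=
  congrArg (fun k => k.hom.hom) φ.inv_hom_id

/-- the characters of a point. -/
noncomputable def chiOf {Y : Over T} (g : (Over.map f).obj Y ⟶ G) :
    Multiplicative M →* Γ(Y.left, ⊤) where
  toFun := chiFn (adjE f G g ≫ phiHom f G M φ)
  map_one' := chiFn_one _
  map_mul' := chiFn_mul_elt _

lemma chiOf_apply {Y : Over T} (g : (Over.map f).obj Y ⟶ G) (m : Multiplicative M) :
    chiOf f G M φ g m = chiFn (adjE f G g ≫ phiHom f G M φ) m := rfl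

/-- character data from a trivialisation of the base change. -/
noncomputable def charDataOfIso : CharData f G (Multiplicative M) where
  chi {Y} g := chiOf f G M φ g
  chi_mul g h m := by
    rw [chiOf_apply, chiOf_apply, chiOf_apply, adjE_mul, MonObj.mul_comp, chiFn_mul]
  chi_comp k g m := by
    rw [chiOf_apply, chiOf_apply, adjE_comp, Category.assoc, chiFn_comp]
  chi_ext g h hgh := by
    apply (adjE f G).injective
    have h2 : adjE f G g ≫ phiHom f G M φ = adjE f G h ≫ phiHom f G M φ := pt_ext' _ _ hgh
    calc adjE f G g = (adjE f G g ≫ phiHom f G M φ) ≫ phiInv f G M φ := by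
          rw [Category.assoc, phiHom_inv, Category.comp_id]
      _ = (adjE f G h ≫ phiHom f G M φ) ≫ phiInv f G M φ := by rw [h2]
      _ = adjE f G h := by rw [Category.assoc, phiHom_inv, Category.comp_id]
  chi_exists ψ := by
    obtain ⟨x, hx⟩ := exists_pt (U := T) (M := M) ψ
    refine ⟨(adjE f G).symm (x ≫ phiInv f G M φ), fun m => ?_⟩
    rw [chiOf_apply, Equiv.apply_symm_apply, Category.assoc, phiInv_hom, Category.comp_id, hx]

end Groth.Agent.Lib.Helper19.DiagCore
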