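import Mathlib
import Groth.Agent.Lib.Helper19.DiagChar

/-!
# Rigidity of actions of groups of multiplicative type (SGA3 IX 3.x)

An action of a group of multiplicative type which is trivial modulo a locally nilpotent ideal of
the base is trivial; a homomorphism from a group of multiplicative type which is central modulo a
locally nilpotent ideal is central.
-/

set_option autoImplicit false
set_option linter.unusedSectionVars false
set_option linter.style.haveILetI false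
set_option maxHeartbeats 400000

universe u

open CategoryTheory MonoidalCategory CartesianMonoidalCategory MonObj GrpObj AlgebraicGeometry Limits

namespace Groth.Agent.Lib.Helper19.DiagMain

open DiagAct DiagCore

theorem act_trivial {S S₀ : Scheme.{u}} (i₀ : S₀ ⟶ S) [IsClosedImmersion i₀]
    (hnil : ∀ x : S, ∃ U : S.affineOpens, x ∈ (U : S.Opens) ∧ IsNilpotent (i₀.ker.ideal U))
    (G X : Over S) [GrpObj G]
    (hG : TwC.Locally S TwC.Topology.fpqc (fun S' f => ∃ (M : Type) (_ : AddCommGroup M),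
      Nonempty (Grp.mk (Red.bc f G) ≅ Grp.mk (Red.DS S' M))))
    (a : AlgGrp.Action G X)
    (h0 : ∀ (Y : Over S) (_ : Y ⟶ Over.mk i₀) (g : Y ⟶ G) (x : Y ⟶ X), lift g x ≫ a.act = x) :
    ∀ (Y : Over S) (g : Y ⟶ G) (x : Y ⟶ X), lift g x ≫ a.act = x := by
  intro Y g x
  obtain ⟨S', f₀, hflat, hsurj, _, hloc⟩ := hG
  apply Over.OverMorphism.ext
  apply flat_ext
  intro y
  obtain ⟨s', hs'⟩ := hsurj.surj (Y.hom.base y)
  obtain ⟨U', hsU', M, _, ⟨φ⟩⟩ := hloc s'
  haveI := hflat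
  obtain ⟨pt, hpt, _⟩ := Scheme.Pullback.exists_preimage_pullback (f := Y.hom) (g := U'.ι ≫ f₀) y
    (⟨s', hsU'⟩ : U') (by
      rw [Scheme.Hom.comp_base]
      exact hs'.symm)
  refine ⟨pullback Y.hom (U'.ι ≫ f₀), pullback.fst Y.hom (U'.ι ≫ f₀), pt, inferInstance, hpt, ?_⟩
  let YT : Over (U' : Scheme.{u}) := Over.mk (pullback.snd Y.hom (U'.ι ≫ f₀))
  let q : (Over.map (U'.ι ≫ f₀)).obj YT ⟶ Y :=
    Over.homMk (pullback.fst Y.hom (U'.ι ≫ f₀)) pullback.condition
  have key := core i₀ a (U'.ι ≫ f₀) (charDataOfIso (U'.ι ≫ f₀) G M φ) hnil h0 YT (q ≫ g) (q ≫ x)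
  rw [act_comp] at key
  exact congrArg (fun k => k.left) key

section Conj

variable {S : Scheme.{u}} {G H : Over S} [GrpObj G] [GrpObj H] (u : G ⟶ H) [IsMonHom u]

/-- the conjugation morphism `(g, h) ↦ u(g) h u(g)⁻¹`. -/
noncomputable def conjMor : G ⊗ H ⟶ H := (fst G H ≫ u) * snd G H * (fst G H ≫ u)⁻¹

lemma lift_conjMor {Z : Over S} (g : Z ⟶ G) (h : Z ⟶ H) :
    lift g h ≫ conjMor u = (g ≫ u) * h * (g ≫ u)⁻¹ := by
  rw [conjMor, MonObj.comp_mul, MonObj.comp_mul, GrpObj.comp_inv, lift_fst_assoc, lift_snd]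

/-- the action of `G` on `H` by conjugation through `u`. -/
noncomputable def conjAct : AlgGrp.Action G H where
  act := conjMor u
  one_act := by
    have e1 : (η[G] ▷ H) = lift (fst _ _ ≫ η[G]) (snd _ _) := by ext <;> simp
    rw [e1, lift_conjMor, leftUnitor_hom]
    have e2 : (fst (𝟙_ (Over S)) H ≫ η[G]) = 1 := by
      rw [Hom.one_def]
      congr 1
    rw [e2, MonObj.one_comp, inv_one, _root_.mul_one, _root_.one_mul]
  mul_act := by
    have e1 : (μ[G] ▷ H) = lift (fst _ _ ≫ μ[G]) (snd _ _) := by ext <;> simp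
    have e2 : (α_ G G H).hom = lift (fst _ _ ≫ fst _ _) (lift (fst _ _ ≫ snd _ _) (snd _ _)) := by
      ext <;> simp
    rw [e1, e2, lift_conjMor, lift_whiskerLeft_assoc, lift_conjMor, lift_conjMor]
    have e3 : fst (G ⊗ G) H ≫ μ[G] = (fst _ _ ≫ fst _ _) * (fst _ _ ≫ snd _ _) := by
      rw [MonObj.mul_eq_mul, MonObj.comp_mul]
    rw [e3, MonObj.mul_comp]
    simp only [_root_.mul_inv_rev, _root_.mul_assoc]

@[simp] lemma conjAct_act : (conjAct u).act = conjMor u := rfl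

end Conj

theorem central_of_central_mod {S S₀ : Scheme.{u}} (i₀ : S₀ ⟶ S) [IsClosedImmersion i₀]
    (hnil : ∀ x : S, ∃ U : S.affineOpens, x ∈ (U : S.Opens) ∧ IsNilpotent (i₀.ker.ideal U))
    (G H : Over S) [GrpObj G] [GrpObj H]
    (hG : TwC.Locally S TwC.Topology.fpqc (fun S' f => ∃ (M : Type) (_ : AddCommGroup M),
      Nonempty (Grp.mk (Red.bc f G) ≅ Grp.mk (Red.DS S' M))))
    (u : G ⟶ H) [IsMonHom u]
    (h0 : ∀ (Y : Over S) (_ : Y ⟶ Over.mk i₀) (g : Y ⟶ G) (h : Y ⟶ H),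
      (g ≫ u) * h = h * (g ≫ u)) :
    ∀ (Y : Over S) (g : Y ⟶ G) (h : Y ⟶ H), (g ≫ u) * h = h * (g ≫ u) := by
  intro Y g h
  have key := act_trivial i₀ hnil G H hG (conjAct u) (fun Y p g h => by
    rw [conjAct_act, lift_conjMor, h0 Y p g h, mul_inv_cancel_right]) Y g h
  rw [conjAct_act, lift_conjMor] at key
  exact mul_inv_eq_iff_eq_mul.mp key

end Groth.Agent.Lib.Helper19.DiagMain
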