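import Mathlib
import Groth.Agent.Lib.Helper13.GaGm
import Groth.Agent.Lib.Helper19.DiagMain

/-!
# Homomorphisms from a diagonalisable group over an affine base: rigidity modulo a nilpotent ideal
-/

set_option autoImplicit false
set_option linter.unusedSectionVars false
set_option linter.style.haveILetI false
set_option maxHeartbeats 400000

universe u

open CategoryTheory MonoidalCategory CartesianMonoidalCategory MonObj GrpObj AlgebraicGeometry Limits

namespace Groth.Agent.Lib.Helper19.DiagSpec

open Groth.Agent.Lib.Helper13 DiagAct DiagCore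

section General

variable {R : Type u} [CommRing R] {A : Type u} [CommRing A] [HopfAlgebra R A]
variable {S : Scheme.{u}} (f : S ⟶ Spec (CommRingCat.of R))

lemma ptHom_comp_structure {X : Over S}
    (x : X ⟶ Red.bc f ((Spec (CommRingCat.of A)).asOver (Spec (CommRingCat.of R)))) :
    ptHom f x ≫ Spec.map (CommRingCat.ofHom (algebraMap R A)) = X.hom ≫ f := by
  have h1 : x.left ≫ pullback.snd _ _ = X.hom := Over.w x
  rw [← h1, Category.assoc, ← pullback.condition]
  rfl

lemma ptFn_algebraMap {X : Over S}
    (x : X ⟶ Red.bc f ((Spec (CommRingCat.of A)).asOver (Spec (CommRingCat.of R)))) (r : R) :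
    ptFn f x (algebraMap R A r) =
      (X.hom ≫ f).appTop ((Scheme.ΓSpecIso (CommRingCat.of R)).inv r) := by
  unfold ptFn
  rw [← specMap_appTop_ΓSpecIso_inv (algebraMap R A) r, ← ptHom_comp_structure f x,
    Scheme.Hom.comp_appTop]
  rfl

end General

section Diag

variable {R : Type u} [CommRing R] (M : Type) [AddCommGroup M] {T : Scheme.{u}}
  (f : T ⟶ Spec (CommRingCat.of R))

/-- the characters of a point of `D_R(M)` over a `T`-scheme. -/
noncomputable def chiDiag {Y : Over T} (g : (Over.map f).obj Y ⟶ Red.diag R M) :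
    Multiplicative M →* Γ(Y.left, ⊤) where
  toFun m := ptFn f (adjE f (Red.diag R M) g) (MonoidAlgebra.single m 1)
  map_one' := by
    rw [← MonoidAlgebra.one_def]
    exact ptFn_one_elt f _
  map_mul' m m' := by
    rw [← ptFn_mul_elt, MonoidAlgebra.single_mul_single, _root_.mul_one]

lemma chiDiag_apply {Y : Over T} (g : (Over.map f).obj Y ⟶ Red.diag R M) (m : Multiplicative M) :
    chiDiag M f g m = ptFn f (adjE f (Red.diag R M) g) (MonoidAlgebra.single m 1) := rfl

/-- character data for the diagonalisable group `D_R(M)`. -/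
noncomputable def charDataDiag : CharData f (Red.diag R M) (Multiplicative M) where
  chi {Y} g := chiDiag M f g
  chi_mul g h m := by
    rw [chiDiag_apply, chiDiag_apply, chiDiag_apply, adjE_mul]
    refine ptFn_mul_one_term f _ _ _ _ _ ?_
    simp
  chi_comp k g m := by
    rw [chiDiag_apply, chiDiag_apply, adjE_comp, ptFn_comp]
  chi_ext g h hgh := by
    apply (adjE f (Red.diag R M)).injective
    apply pt_ext
    intro a
    rw [← ptRingHom_apply, ← ptRingHom_apply]
    have key : ptRingHom f (adjE f (Red.diag R M) g) = ptRingHom f (adjE f (Red.diag R M) h) := by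
      apply MonoidAlgebra.ringHom_ext
      · intro r
        have hr : (MonoidAlgebra.single 1 r : MonoidAlgebra R (Multiplicative M)) =
            algebraMap R (MonoidAlgebra R (Multiplicative M)) r := rfl
        rw [ptRingHom_apply, ptRingHom_apply, hr, ptFn_algebraMap, ptFn_algebraMap]
      · intro m
        exact hgh m
    exact congr($key a)
  chi_exists := fun {Y} ψ => by
    let ζ : R →+* Γ(Y.left, ⊤) :=
      ((Scheme.ΓSpecIso (CommRingCat.of R)).inv ≫ (Y.hom ≫ f).appTop).hom
    let φ : MonoidAlgebra R (Multiplicative M) →+* Γ(Y.left, ⊤) :=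
      MonoidAlgebra.liftNCRingHom ζ ψ (fun _ _ => Commute.all _ _)
    have hφ : φ.comp (algebraMap R (MonoidAlgebra R (Multiplicative M))) = ζ := by
      ext r
      simp [φ, MonoidAlgebra.coe_algebraMap]
    have h : (Y.left.toSpecΓ ≫ Spec.map (CommRingCat.ofHom φ)) ≫
        ((Spec (CommRingCat.of (MonoidAlgebra R (Multiplicative M)))).asOver
          (Spec (CommRingCat.of R))).hom = Y.hom ≫ f := by
      change (Y.left.toSpecΓ ≫ Spec.map (CommRingCat.ofHom φ)) ≫
        Spec.map (CommRingCat.ofHom (algebraMap R (MonoidAlgebra R (Multiplicative M)))) = _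
      rw [Category.assoc, ← Spec.map_comp, ← CommRingCat.ofHom_comp, hφ]
      change Y.left.toSpecΓ ≫
        Spec.map ((Scheme.ΓSpecIso (CommRingCat.of R)).inv ≫ (Y.hom ≫ f).appTop) = _
      rw [Spec.map_comp, ← Scheme.toSpecΓ_naturality_assoc, toSpecΓ_SpecMap_ΓSpecIso_inv,
        Category.comp_id]
    refine ⟨(adjE f (Red.diag R M)).symm (mkPt f φ h), fun m => ?_⟩
    rw [chiDiag_apply, Equiv.apply_symm_apply, ptFn_mkPt]
    simp [φ]

end Diag

end Groth.Agent.Lib.Helper19.DiagSpec
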