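import Mathlib
import Groth.Agent.Lib.Helper19.DiagSpec

/-!
# A homomorphism from a diagonalisable group which is trivial modulo a nilpotent ideal is trivial
-/

set_option autoImplicit false
set_option linter.unusedSectionVars false
set_option linter.style.haveILetI false
set_option maxHeartbeats 400000

universe u

open CategoryTheory MonoidalCategory CartesianMonoidalCategory MonObj GrpObj AlgebraicGeometry Limits

namespace Groth.Agent.Lib.Helper19.DiagSpec

open DiagAct DiagCore

lemma adjE_one {S T : Scheme.{u}} (f : T ⟶ S) (G : Over S) [GrpObj G] {Y : Over T} :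
    adjE f G (1 : (Over.map f).obj Y ⟶ G) = 1 := by
  have h := adjE_mul f G (1 : (Over.map f).obj Y ⟶ G) 1
  rw [_root_.one_mul] at h
  exact (mul_left_cancel (a := adjE f G (1 : (Over.map f).obj Y ⟶ G))
    (by rw [_root_.mul_one]; exact h)).symm

lemma hnil_spec {R : Type u} [CommRing R] (I : Ideal R) (hI : IsNilpotent I) :
    ∀ x : Spec (CommRingCat.of R), ∃ U : (Spec (CommRingCat.of R)).affineOpens,
      x ∈ (U : (Spec (CommRingCat.of R)).Opens) ∧
        IsNilpotent ((Spec.map (CommRingCat.ofHom (Ideal.Quotient.mk I))).ker.ideal U) := by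
  intro x
  refine ⟨⟨⊤, isAffineOpen_top _⟩, trivial, ?_⟩
  obtain ⟨n, hn⟩ := hI
  refine ⟨n, ?_⟩
  rw [Ideal.zero_eq_bot, eq_bot_iff]
  have hle : (Spec.map (CommRingCat.ofHom (Ideal.Quotient.mk I))).ker.ideal
      ⟨⊤, isAffineOpen_top _⟩ ≤
      Ideal.comap (Scheme.ΓSpecIso (CommRingCat.of R)).hom.hom I := by
    intro s hs
    have hs' := Scheme.Hom.ideal_ker_le _ _ hs
    rw [RingHom.mem_ker] at hs'
    have nat := Scheme.ΓSpecIso_naturality (CommRingCat.ofHom (Ideal.Quotient.mk I))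
    have h2 := congr($nat s)
    rw [Ideal.mem_comap]
    apply Ideal.Quotient.eq_zero_iff_mem.mp
    refine Eq.trans h2.symm ?_
    change (Scheme.ΓSpecIso _).hom ((Spec.map _).appTop s) = 0
    change (Spec.map (CommRingCat.ofHom (Ideal.Quotient.mk I))).appTop s = 0 at hs'
    rw [hs', map_zero]
  have hinj : Function.Injective (Scheme.ΓSpecIso (CommRingCat.of R)).hom.hom :=
    (ConcreteCategory.bijective_of_isIso (Scheme.ΓSpecIso (CommRingCat.of R)).hom).1
  calc _ ≤ (Ideal.comap (Scheme.ΓSpecIso (CommRingCat.of R)).hom.hom I) ^ n :=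
        Ideal.pow_right_mono hle n
    _ ≤ Ideal.comap (Scheme.ΓSpecIso (CommRingCat.of R)).hom.hom (I ^ n) :=
        Ideal.le_comap_pow _ n
    _ = ⊥ := by
        rw [hn, Ideal.zero_eq_bot, ← RingHom.ker_eq_comap_bot]
        exact (RingHom.injective_iff_ker_eq_bot _).mp hinj

section Trans

variable {S : Scheme.{u}} {G X : Over S} [GrpObj G] [GrpObj X] (u : G ⟶ X) [IsMonHom u]

/-- the translation morphism `(g, x) ↦ u(g) x`. -/
noncomputable def transMor : G ⊗ X ⟶ X := (fst G X ≫ u) * snd G X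

lemma lift_transMor {Z : Over S} (g : Z ⟶ G) (x : Z ⟶ X) :
    lift g x ≫ transMor u = (g ≫ u) * x := by
  rw [transMor, MonObj.comp_mul, lift_fst_assoc, lift_snd]

/-- the action of `G` on `X` by left translation through `u`. -/
noncomputable def transAct : AlgGrp.Action G X where
  act := transMor u
  one_act := by
    have e1 : (η[G] ▷ X) = lift (fst _ _ ≫ η[G]) (snd _ _) := by ext <;> simp
    rw [e1, lift_transMor, leftUnitor_hom]
    have e2 : (fst (𝟙_ (Over S)) X ≫ η[G]) = 1 := by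
      rw [Hom.one_def]
      congr 1
    rw [e2, MonObj.one_comp, _root_.one_mul]
  mul_act := by
    have e1 : (μ[G] ▷ X) = lift (fst _ _ ≫ μ[G]) (snd _ _) := by ext <;> simp
    have e2 : (α_ G G X).hom = lift (fst _ _ ≫ fst _ _) (lift (fst _ _ ≫ snd _ _) (snd _ _)) := by
      ext <;> simp
    rw [e1, e2, lift_transMor, lift_whiskerLeft_assoc, lift_transMor, lift_transMor]
    have e3 : fst (G ⊗ G) X ≫ μ[G] = (fst _ _ ≫ fst _ _) * (fst _ _ ≫ snd _ _) := by
      rw [MonObj.mul_eq_mul, MonObj.comp_mul]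
    rw [e3, MonObj.mul_comp, _root_.mul_assoc]

@[simp] lemma transAct_act : (transAct u).act = transMor u := rfl

end Trans

theorem hom_trivial (R : Type u) [CommRing R] (I : Ideal R) (hI : IsNilpotent I)
    (M : Type) [AddCommGroup M] (X : Over (Spec (CommRingCat.of R))) [GrpObj X]
    (f : Red.diag R M ⟶ X) [IsMonHom f]
    (h : (Over.pullback (Spec.map (CommRingCat.ofHom (Ideal.Quotient.mk I)))).map f = 1) :
    f = 1 := by
  haveI hf' : @IsMonHom _ _ _ (Red.diag R M) X (GrpObj.toMonObj) (GrpObj.toMonObj) f := by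
    exact ‹IsMonHom f›
  obtain ⟨i₀, hi₀⟩ : ∃ i₀, i₀ = Spec.map (CommRingCat.ofHom (Ideal.Quotient.mk I)) := ⟨_, rfl⟩
  haveI : IsClosedImmersion i₀ := by
    rw [hi₀]
    exact IsClosedImmersion.spec_of_surjective _ Ideal.Quotient.mk_surjective
  rw [← hi₀] at h
  have hlift : ∀ {Z : Over (Spec (CommRingCat.of R))} (g : Z ⟶ Red.diag R M) (x : Z ⟶ X),
      lift g x ≫ (@transAct _ _ _ _ _ f hf').act = (g ≫ f) * x :=
    fun g x => @lift_transMor _ _ _ _ _ f hf' _ g x
  have h0 : ∀ (Y : Over (Spec (CommRingCat.of R))) (_ : Y ⟶ Over.mk i₀) (g : Y ⟶ Red.diag R M)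
      (x : Y ⟶ X), lift g x ≫ (@transAct _ _ _ _ _ f hf').act = x := by
    intro Y p g x
    rw [hlift]
    let Y₀ : Over (Spec (CommRingCat.of (R ⧸ I))) := Over.mk p.left
    let e' : (Over.map i₀).obj Y₀ ≅ Y := Over.isoMk (Iso.refl _) (by
      rw [Iso.refl_hom, Category.id_comp]
      exact (Over.w p).symm)
    have h1 : adjE i₀ X (e'.hom ≫ g ≫ f) = 1 := by
      rw [← Category.assoc]
      have := Adjunction.homEquiv_naturality_right (Over.mapPullbackAdj i₀) (e'.hom ≫ g) f
      rw [adjE, this, h, MonObj.comp_one]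
    have h2 : e'.hom ≫ g ≫ f = 1 := by
      apply (adjE i₀ X).injective
      rw [h1, adjE_one]
    have hg : g ≫ f = 1 := by
      rw [← cancel_epi e'.hom, h2, MonObj.comp_one]
    rw [hg, _root_.one_mul]
  have key := core i₀ (@transAct _ _ _ _ _ f hf') (𝟙 _) (charDataDiag M (𝟙 _))
    (by rw [hi₀]; exact hnil_spec I hI) h0
  let e : (Over.map (𝟙 (Spec (CommRingCat.of R)))).obj (Red.diag R M) ≅ Red.diag R M :=
    Over.isoMk (Iso.refl _) (by simp)
  have k1 := key (Red.diag R M) e.hom 1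
  rw [hlift, _root_.mul_one] at k1
  rw [← cancel_epi e.hom, k1, MonObj.comp_one]

end Groth.Agent.Lib.Helper19.DiagSpec
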