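import Mathlib

/-!
# p-linear endomorphisms over an algebraically closed field (helper19)

`G : W →+ W` additive with `G (a • v) = a ^ p • G v`.

* `exists_fixed`: an injective `p`-linear endomorphism of a nonzero finite-dimensional space over an
  algebraically closed field has a nonzero fixed vector.
* `isCompl_fix_nil`: `V = span (fixed vectors) ⊕ span (vectors killed by an iterate)`.
* `linearIndepOn_of_int`: fixed vectors independent over `ℤ/p` are independent over `k`.
-/

set_option autoImplicit false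
universe u v

namespace Groth.Agent.Lib.Helper19.SemiLin

open Polynomial

section Basic

variable {k : Type u} [Field k] (p : ℕ) {W : Type v} [AddCommGroup W] [Module k W]
  (G : W →+ W) (hG : ∀ (a : k) (v : W), G (a • v) = a ^ p • G v)

include hG in
lemma iter_smul (m : ℕ) (a : k) (v : W) : (⇑G)^[m] (a • v) = a ^ p ^ m • (⇑G)^[m] v := by
  induction m with
  | zero => simp
  | succ m ih =>
    rw [Function.iterate_succ_apply', ih, hG, Function.iterate_succ_apply', ← pow_mul, ← pow_succ]

lemma iter_sum {ι : Type*} (m : ℕ) (s : Finset ι) (f : ι → W) :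
    (⇑G)^[m] (∑ i ∈ s, f i) = ∑ i ∈ s, (⇑G)^[m] (f i) := by
  induction m with
  | zero => simp
  | succ m ih =>
    rw [Function.iterate_succ_apply', ih, map_sum]
    refine Finset.sum_congr rfl fun i _ => ?_
    rw [Function.iterate_succ_apply']

lemma abel (c : ℕ → k) (y : ℕ → W) (n : ℕ) :
    ∑ j ∈ Finset.range n, (∑ i ∈ Finset.range (j + 1), c i) • (y (j + 1) - y j) =
      (∑ i ∈ Finset.range n, c i) • y n - ∑ i ∈ Finset.range n, c i • y i := by
  induction n with
  | zero => simp
  | succ n ih =>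
    rw [Finset.sum_range_succ
      (fun j => (∑ i ∈ Finset.range (j + 1), c i) • (y (j + 1) - y j)) n, ih,
      Finset.sum_range_succ c n, Finset.sum_range_succ (fun i => c i • y i) n]
    module

variable [IsAlgClosed k] [Fact p.Prime]

include hG in
theorem exists_fixed_of_relation (r : ℕ) : ∀ (w : W) (c : ℕ → k), w ≠ 0 → c 0 ≠ 0 →
    ∑ i ∈ Finset.range (r + 1), c i • (⇑G)^[i] w = 0 → ∃ v : W, v ≠ 0 ∧ G v = v := by
  have hp : p.Prime := Fact.out
  induction r with
  | zero =>
    intro w c hw hc h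
    rw [Finset.sum_range_one, Function.iterate_zero, id_eq] at h
    exact absurd h (smul_ne_zero hc hw)
  | succ r ih =>
    intro w c hw hc h
    by_cases hlast : c (r + 1) = 0
    · rw [Finset.sum_range_succ, hlast, zero_smul, add_zero] at h
      exact ih w c hw hc h
    · obtain ⟨B, hB⟩ : ∃ B : k[X], B = ∑ i ∈ Finset.range (r + 2), C (c i) * X ^ (p ^ i - 1) :=
        ⟨_, rfl⟩
      have hcoeff : B.coeff (p ^ (r + 1) - 1) = c (r + 1) := by
        rw [hB, Polynomial.finset_sum_coeff, Finset.sum_eq_single (r + 1)]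
        · rw [Polynomial.coeff_C_mul, Polynomial.coeff_X_pow, if_pos rfl, mul_one]
        · intro i hi hne
          rw [Polynomial.coeff_C_mul, Polynomial.coeff_X_pow, if_neg, mul_zero]
          intro heq
          have h1 : 1 ≤ p ^ i := Nat.one_le_pow _ _ hp.pos
          have h2 : 1 ≤ p ^ (r + 1) := Nat.one_le_pow _ _ hp.pos
          have h3 : p ^ (r + 1) = p ^ i := by omega
          exact hne (Nat.pow_right_injective hp.two_le h3).symm
        · intro h'
          exact absurd (Finset.mem_range.2 (by omega)) h'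
      have h2le : ∀ i, i ≠ 0 → 2 ≤ p ^ i := fun i hi =>
        hp.two_le.trans (Nat.le_self_pow hi p)
      have hdeg : B.degree ≠ 0 := by
        intro h0
        have hnat : B.natDegree = 0 := by
          rw [Polynomial.natDegree_eq_zero_iff_degree_le_zero]
          exact h0.le
        have hlt : B.natDegree < p ^ (r + 1) - 1 := by
          rw [hnat]
          have := h2le (r + 1) (by omega)
          omega
        exact hlast (hcoeff ▸ Polynomial.coeff_eq_zero_of_natDegree_lt hlt)
      obtain ⟨μ, hμ⟩ := IsAlgClosed.exists_root B hdeg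
      have heval : ∑ i ∈ Finset.range (r + 2), c i * μ ^ (p ^ i - 1) = 0 := by
        have h' := hμ
        rw [Polynomial.IsRoot.def, hB, Polynomial.eval_finset_sum] at h'
        simpa [Polynomial.eval_mul, Polynomial.eval_C, Polynomial.eval_pow,
          Polynomial.eval_X] using h'
      have hμ0 : μ ≠ 0 := by
        rintro rfl
        rw [Finset.sum_eq_single 0] at heval
        · rw [pow_zero, Nat.sub_self, pow_zero, mul_one] at heval
          exact hc heval
        · intro i _ hi
          have h3 : p ^ i - 1 ≠ 0 := by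
            have := h2le i hi
            omega
          rw [zero_pow h3, mul_zero]
        · intro h'
          exact absurd (Finset.mem_range.2 (by omega)) h'
      have hA : ∑ i ∈ Finset.range (r + 2), c i * μ ^ (p ^ i) = 0 := by
        have h' : ∑ i ∈ Finset.range (r + 2), c i * μ ^ (p ^ i) =
            μ * ∑ i ∈ Finset.range (r + 2), c i * μ ^ (p ^ i - 1) := by
          rw [Finset.mul_sum]
          refine Finset.sum_congr rfl fun i _ => ?_
          have h1 : 1 ≤ p ^ i := Nat.one_le_pow _ _ hp.pos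
          conv_lhs => rw [← Nat.sub_add_cancel h1, pow_succ]
          ring
        rw [h', heval, mul_zero]
      obtain ⟨w₁, hw₁⟩ : ∃ w₁ : W, w₁ = μ⁻¹ • w := ⟨_, rfl⟩
      obtain ⟨c₁, hc₁⟩ : ∃ c₁ : ℕ → k, ∀ i, c₁ i = c i * μ ^ (p ^ i) := ⟨_, fun _ => rfl⟩
      have hw₁0 : w₁ ≠ 0 := by
        rw [hw₁]
        exact smul_ne_zero (inv_ne_zero hμ0) hw
      have hc₁0 : c₁ 0 ≠ 0 := by
        rw [hc₁, pow_zero, pow_one]
        exact mul_ne_zero hc hμ0
      have hterm : ∀ i, c₁ i • (⇑G)^[i] w₁ = c i • (⇑G)^[i] w := by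
        intro i
        rw [hw₁, iter_smul p G hG, smul_smul, hc₁, mul_assoc, ← mul_pow,
          mul_inv_cancel₀ hμ0, one_pow, mul_one]
      have hrel₁ : ∑ i ∈ Finset.range (r + 2), c₁ i • (⇑G)^[i] w₁ = 0 := by
        rw [← h]
        exact Finset.sum_congr rfl fun i _ => hterm i
      have hsum₁ : ∑ i ∈ Finset.range (r + 2), c₁ i = 0 := by
        rw [← hA]
        exact Finset.sum_congr rfl fun i _ => hc₁ i
      by_cases hfix : G w₁ = w₁
      · exact ⟨w₁, hw₁0, hfix⟩
      · have hw' : G w₁ - w₁ ≠ 0 := sub_ne_zero.2 hfix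
        refine ih (G w₁ - w₁) (fun j => ∑ i ∈ Finset.range (j + 1), c₁ i) hw' ?_ ?_
        · show ∑ i ∈ Finset.range (0 + 1), c₁ i ≠ 0
          rw [zero_add, Finset.sum_range_one]
          exact hc₁0
        · have hiter : ∀ j, (⇑G)^[j] (G w₁ - w₁) = (⇑G)^[j + 1] w₁ - (⇑G)^[j] w₁ := by
            intro j
            rw [iterate_map_sub, ← Function.iterate_succ_apply]
          have hab := abel c₁ (fun i => (⇑G)^[i] w₁) (r + 1)
          have e0 : ∑ j ∈ Finset.range (r + 1),
              (∑ i ∈ Finset.range (j + 1), c₁ i) • (⇑G)^[j] (G w₁ - w₁) =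
              ∑ j ∈ Finset.range (r + 1), (∑ i ∈ Finset.range (j + 1), c₁ i) •
                ((⇑G)^[j + 1] w₁ - (⇑G)^[j] w₁) :=
            Finset.sum_congr rfl fun j _ => by rw [hiter]
          rw [e0]
          refine hab.trans ?_
          rw [Finset.sum_range_succ] at hrel₁ hsum₁
          have e1 : ∑ i ∈ Finset.range (r + 1), c₁ i = - c₁ (r + 1) :=
            eq_neg_of_add_eq_zero_left hsum₁
          have e2 : ∑ i ∈ Finset.range (r + 1), c₁ i • (⇑G)^[i] w₁ =
              - (c₁ (r + 1) • (⇑G)^[r + 1] w₁) := eq_neg_of_add_eq_zero_left hrel₁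
          rw [e1, e2, neg_smul, sub_neg_eq_add, neg_add_cancel]

include hG in
lemma reduce_relation (hinj : Function.Injective G) (w : W) :
    ∀ (n : ℕ) (c : ℕ → k), (∃ i, i ≤ n ∧ c i ≠ 0) →
      ∑ i ∈ Finset.range (n + 1), c i • (⇑G)^[i] w = 0 →
      ∃ (r : ℕ) (c' : ℕ → k), c' 0 ≠ 0 ∧
        ∑ i ∈ Finset.range (r + 1), c' i • (⇑G)^[i] w = 0 := by
  have hp : p.Prime := Fact.out
  intro n
  induction n with
  | zero =>
    rintro c ⟨i, hi, hci⟩ h
    obtain rfl : i = 0 := by omega
    exact ⟨0, c, hci, h⟩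
  | succ n ih =>
    rintro c ⟨i, hi, hci⟩ h
    by_cases h0 : c 0 = 0
    · choose b hb using fun j => IsAlgClosed.exists_pow_nat_eq (c (j + 1)) hp.pos
      have hG0 : G (∑ j ∈ Finset.range (n + 1), b j • (⇑G)^[j] w) = 0 := by
        rw [map_sum]
        rw [Finset.sum_range_succ', h0, zero_smul, add_zero] at h
        rw [← h]
        refine Finset.sum_congr rfl fun j _ => ?_
        rw [hG, hb, Function.iterate_succ_apply']
      have hz := hinj (hG0.trans (map_zero G).symm)
      have hi0 : i ≠ 0 := fun h' => hci (h' ▸ h0)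
      refine ih b ⟨i - 1, by omega, ?_⟩ hz
      intro hbz
      apply hci
      have h3 := hb (i - 1)
      rw [hbz, zero_pow hp.ne_zero] at h3
      rw [show i = i - 1 + 1 by omega]
      exact h3.symm
    · exact ⟨n + 1, c, h0, h⟩

variable [FiniteDimensional k W]

include hG in
theorem exists_relation (hinj : Function.Injective G) (w : W) :
    ∃ (r : ℕ) (c : ℕ → k), c 0 ≠ 0 ∧ ∑ i ∈ Finset.range (r + 1), c i • (⇑G)^[i] w = 0 := by
  classical
  obtain ⟨n, hn⟩ : ∃ n, n = Module.finrank k W := ⟨_, rfl⟩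
  have hnot : ¬ LinearIndependent k (fun i : Fin (n + 1) => (⇑G)^[(i : ℕ)] w) := by
    intro hli
    have h1 := hli.fintype_card_le_finrank
    rw [Fintype.card_fin, ← hn] at h1
    omega
  rw [Fintype.not_linearIndependent_iff] at hnot
  obtain ⟨g, hg, i, hi⟩ := hnot
  obtain ⟨c, hc⟩ : ∃ c : ℕ → k, ∀ j : Fin (n + 1), c j = g j :=
    ⟨fun j => if h : j < n + 1 then g ⟨j, h⟩ else 0, fun j => by simp [j.2]⟩
  have hsum : ∑ j ∈ Finset.range (n + 1), c j • (⇑G)^[j] w = 0 := by
    rw [← hg, ← Fin.sum_univ_eq_sum_range (fun j => c j • (⇑G)^[j] w) (n + 1)]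
    refine Finset.sum_congr rfl fun j _ => ?_
    rw [hc]
  exact reduce_relation p G hG hinj w n c
    ⟨i, Nat.lt_succ_iff.1 i.2, by rw [hc]; exact hi⟩ hsum

include hG in
theorem exists_fixed (hinj : Function.Injective G) [Nontrivial W] :
    ∃ v : W, v ≠ 0 ∧ G v = v := by
  obtain ⟨w, hw⟩ := exists_ne (0 : W)
  obtain ⟨r, c, hc, h⟩ := exists_relation p G hG hinj w
  exact exists_fixed_of_relation p G hG r w c hw hc h

end Basic

section Decomp

variable {k : Type u} [Field k] [IsAlgClosed k] (p : ℕ) [Fact p.Prime]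
  {V : Type v} [AddCommGroup V] [Module k V]
  (F : V →+ V) (hF : ∀ (a : k) (v : V), F (a • v) = a ^ p • F v)

lemma exists_AS (a : k) : ∃ b : k, b ^ p - b = a := by
  have hp : p.Prime := Fact.out
  have hdeg : (X ^ p - (X + C a) : k[X]).degree = p := by
    rw [Polynomial.degree_sub_eq_left_of_degree_lt]
    · exact Polynomial.degree_X_pow p
    · rw [Polynomial.degree_X_add_C, Polynomial.degree_X_pow]
      exact_mod_cast hp.one_lt
  obtain ⟨b, hb⟩ := IsAlgClosed.exists_root (X ^ p - (X + C a) : k[X])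
    (by rw [hdeg]; exact_mod_cast hp.ne_zero)
  refine ⟨b, ?_⟩
  have h1 : b ^ p - (b + a) = 0 := by
    simpa [Polynomial.IsRoot.def] using hb
  linear_combination h1

include hF in
lemma exists_iter_eq_zero {x : V}
    (hx : x ∈ Submodule.span k {v : V | ∃ m : ℕ, (⇑F)^[m] v = 0}) :
    ∃ m : ℕ, (⇑F)^[m] x = 0 := by
  induction hx using Submodule.span_induction with
  | mem x h => exact h
  | zero => exact ⟨0, rfl⟩
  | add x y _ _ hx hy =>
    obtain ⟨m₁, h₁⟩ := hx
    obtain ⟨m₂, h₂⟩ := hy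
    refine ⟨m₂ + m₁, ?_⟩
    rw [iterate_map_add, Function.iterate_add_apply, h₁, iterate_map_zero, add_comm m₂ m₁,
      Function.iterate_add_apply, h₂, iterate_map_zero, add_zero]
  | smul a x _ hx =>
    obtain ⟨m, h⟩ := hx
    exact ⟨m, by rw [iter_smul p F hF, h, smul_zero]⟩

include hF in
lemma exists_sub_eq_of_mem_nil {y : V}
    (hy : y ∈ Submodule.span k {v : V | ∃ m : ℕ, (⇑F)^[m] v = 0}) :
    ∃ s ∈ Submodule.span k {v : V | ∃ m : ℕ, (⇑F)^[m] v = 0}, F s - s = y := by
  obtain ⟨m, hm⟩ := exists_iter_eq_zero p F hF hy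
  refine ⟨-∑ i ∈ Finset.range m, (⇑F)^[i] y, ?_, ?_⟩
  · apply Submodule.neg_mem
    apply Submodule.sum_mem
    intro i _
    apply Submodule.subset_span
    refine ⟨m, ?_⟩
    rw [← Function.iterate_add_apply, add_comm, Function.iterate_add_apply, hm, iterate_map_zero]
  · rw [map_neg, map_sum, neg_sub_neg, ← Finset.sum_sub_distrib]
    have h1 : ∀ i, (⇑F)^[i] y - F ((⇑F)^[i] y) = -((⇑F)^[i + 1] y - (⇑F)^[i] y) := by
      intro i
      rw [Function.iterate_succ_apply']
      abel
    rw [Finset.sum_congr rfl fun i _ => h1 i, Finset.sum_neg_distrib,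
      Finset.sum_range_sub (fun i => (⇑F)^[i] y) m, hm,
      Function.iterate_zero, id_eq, zero_sub, neg_neg]

include hF in
lemma fix_surj_sub {x : V} (hx : x ∈ Submodule.span k {v : V | F v = v}) :
    ∀ a : k, ∃ s ∈ Submodule.span k {v : V | F v = v}, F s - s = a • x := by
  induction hx using Submodule.span_induction with
  | mem v hv =>
    intro a
    obtain ⟨b, hb⟩ := exists_AS p a
    refine ⟨b • v, Submodule.smul_mem _ _ (Submodule.subset_span hv), ?_⟩
    rw [hF, (hv : F v = v), ← sub_smul, hb]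
  | zero =>
    intro a
    exact ⟨0, Submodule.zero_mem _, by simp⟩
  | add x y _ _ hx hy =>
    intro a
    obtain ⟨s₁, hs₁, e₁⟩ := hx a
    obtain ⟨s₂, hs₂, e₂⟩ := hy a
    refine ⟨s₁ + s₂, Submodule.add_mem _ hs₁ hs₂, ?_⟩
    rw [map_add, smul_add, ← e₁, ← e₂]
    abel
  | smul c x _ hx =>
    intro a
    obtain ⟨s, hs, e⟩ := hx (a * c)
    exact ⟨s, hs, by rw [e, mul_smul]⟩

include hF in
lemma fix_surj {x : V} (hx : x ∈ Submodule.span k {v : V | F v = v}) :
    ∀ a : k, ∃ s ∈ Submodule.span k {v : V | F v = v}, F s = a • x := by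
  have hp : p.Prime := Fact.out
  induction hx using Submodule.span_induction with
  | mem v hv =>
    intro a
    obtain ⟨b, hb⟩ := IsAlgClosed.exists_pow_nat_eq a hp.pos
    refine ⟨b • v, Submodule.smul_mem _ _ (Submodule.subset_span hv), ?_⟩
    rw [hF, (hv : F v = v), hb]
  | zero =>
    intro a
    exact ⟨0, Submodule.zero_mem _, by simp⟩
  | add x y _ _ hx hy =>
    intro a
    obtain ⟨s₁, hs₁, e₁⟩ := hx a
    obtain ⟨s₂, hs₂, e₂⟩ := hy a
    refine ⟨s₁ + s₂, Submodule.add_mem _ hs₁ hs₂, ?_⟩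
    rw [map_add, smul_add, ← e₁, ← e₂]
  | smul c x _ hx =>
    intro a
    obtain ⟨s, hs, e⟩ := hx (a * c)
    exact ⟨s, hs, by rw [e, mul_smul]⟩

include hF in
lemma eq_zero_of_mem_fix_of_iter {x : V} (hx : x ∈ Submodule.span k {v : V | F v = v}) (m : ℕ)
    (hm : (⇑F)^[m] x = 0) : x = 0 := by
  classical
  have hp : p.Prime := Fact.out
  obtain ⟨b, hbFix, hbspan, hbli⟩ := exists_linearIndependent k {v : V | F v = v}
  rw [← hbspan] at hx
  obtain ⟨l, rfl⟩ := (Finsupp.mem_span_iff_linearCombination k b x).1 hx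
  rw [Finsupp.linearCombination_apply, Finsupp.sum] at hm ⊢
  rw [iter_sum] at hm
  have h1 : ∀ v ∈ l.support, (⇑F)^[m] (l v • (v : V)) = (l v) ^ p ^ m • (v : V) := by
    intro v _
    rw [iter_smul p F hF, Function.iterate_fixed (hbFix v.2)]
  rw [Finset.sum_congr rfl h1] at hm
  have h2 := linearIndependent_iff'.1 hbli l.support (fun v => (l v) ^ p ^ m) hm
  refine Finset.sum_eq_zero fun v hv => ?_
  have h3 := h2 v hv
  rw [pow_eq_zero_iff (pow_ne_zero _ hp.ne_zero)] at h3
  rw [h3, zero_smul]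

include hF in
theorem disjoint_fix_nil :
    Disjoint (Submodule.span k {v : V | F v = v})
      (Submodule.span k {v : V | ∃ m : ℕ, (⇑F)^[m] v = 0}) := by
  rw [Submodule.disjoint_def]
  intro x hx0 hxn
  obtain ⟨m, hm⟩ := exists_iter_eq_zero p F hF hxn
  exact eq_zero_of_mem_fix_of_iter p F hF hx0 m hm

variable [FiniteDimensional k V]

include hF in
theorem sup_fix_nil_eq_top :
    Submodule.span k {v : V | F v = v} ⊔
      Submodule.span k {v : V | ∃ m : ℕ, (⇑F)^[m] v = 0} = ⊤ := by
  obtain ⟨S, hS⟩ : ∃ S : Submodule k V, S = Submodule.span k {v : V | F v = v} ⊔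
      Submodule.span k {v : V | ∃ m : ℕ, (⇑F)^[m] v = 0} := ⟨_, rfl⟩
  rw [← hS]
  obtain ⟨Cc, hC⟩ := Submodule.exists_isCompl S
  have hCS : IsCompl Cc S := hC.symm
  obtain ⟨π, hker, hleft⟩ : ∃ π : V →ₗ[k] Cc, (∀ x : V, π x = 0 ↔ x ∈ S) ∧
      (∀ c : Cc, π (c : V) = c) :=
    ⟨Submodule.projectionOnto Cc S hCS,
      fun x => Submodule.projectionOnto_apply_eq_zero_iff hCS,
      fun c => Submodule.projectionOnto_apply_left hCS c⟩
  obtain ⟨G, hGdef⟩ : ∃ G : Cc →+ Cc, ∀ c : Cc, G c = π (F (c : V)) :=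
    ⟨{ toFun := fun c => π (F (c : V))
       map_zero' := by simp
       map_add' := by
         intro a b
         simp only [Submodule.coe_add, map_add] }, fun c => rfl⟩
  have hG : ∀ (a : k) (c : Cc), G (a • c) = a ^ p • G c := by
    intro a c
    rw [hGdef, hGdef, Submodule.coe_smul, hF, map_smul]
  have hmemS : ∀ c : Cc, (c : V) ∈ S → c = 0 := by
    intro c hc
    have h1 : (c : V) ∈ Cc ⊓ S := ⟨c.2, hc⟩
    rw [hCS.inf_eq_bot] at h1
    exact Subtype.ext ((Submodule.mem_bot k).1 h1)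
  have hinj : Function.Injective G := by
    rw [injective_iff_map_eq_zero]
    intro c hc
    rw [hGdef, hker, hS] at hc
    obtain ⟨x, hx, y, hy, hxy⟩ := Submodule.mem_sup.1 hc
    obtain ⟨x', hx', ex⟩ := fix_surj p F hF hx 1
    rw [one_smul] at ex
    obtain ⟨m, hm⟩ := exists_iter_eq_zero p F hF hy
    apply hmemS
    have hcx : (c : V) - x' ∈ Submodule.span k {v : V | ∃ m : ℕ, (⇑F)^[m] v = 0} := by
      apply Submodule.subset_span
      refine ⟨m + 1, ?_⟩
      rw [Function.iterate_succ_apply, map_sub, ex, ← hxy, add_sub_cancel_left, hm]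
    have h2 : (c : V) = x' + ((c : V) - x') := by abel
    rw [h2, hS]
    exact Submodule.add_mem _ (Submodule.mem_sup_left hx') (Submodule.mem_sup_right hcx)
  by_contra hne
  have hCne : Cc ≠ ⊥ := by
    intro hbot
    apply hne
    have h1 := hC.sup_eq_top
    rw [hbot, sup_bot_eq] at h1
    exact h1
  haveI : Nontrivial Cc := Submodule.nontrivial_iff_ne_bot.2 hCne
  obtain ⟨v, hv0, hv⟩ := exists_fixed p G hG hinj
  apply hv0
  apply hmemS
  have h1 : F (v : V) - v ∈ S := by
    rw [← hker, map_sub, ← hGdef, hv, hleft, sub_self]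
  rw [hS] at h1
  obtain ⟨x, hx, y, hy, hxy⟩ := Submodule.mem_sup.1 h1
  obtain ⟨s₁, hs₁, e₁⟩ := fix_surj_sub p F hF hx 1
  rw [one_smul] at e₁
  obtain ⟨s₂, hs₂, e₂⟩ := exists_sub_eq_of_mem_nil p F hF hy
  have hfix : F ((v : V) - s₁ - s₂) = (v : V) - s₁ - s₂ := by
    rw [map_sub, map_sub]
    have h3 : F (v : V) - v = (F s₁ - s₁) + (F s₂ - s₂) := by rw [e₁, e₂, hxy]
    have h4 : F (v : V) - F s₁ - F s₂ - ((v : V) - s₁ - s₂) =
        (F (v : V) - v) - ((F s₁ - s₁) + (F s₂ - s₂)) := by abel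
    rw [h3, sub_self] at h4
    exact sub_eq_zero.1 h4
  have hu : (v : V) - s₁ - s₂ ∈ Submodule.span k {v : V | F v = v} :=
    Submodule.subset_span hfix
  have h5 : (v : V) = ((v : V) - s₁ - s₂) + s₁ + s₂ := by abel
  rw [h5, hS]
  exact Submodule.add_mem _ (Submodule.add_mem _ (Submodule.mem_sup_left hu)
    (Submodule.mem_sup_left hs₁)) (Submodule.mem_sup_right hs₂)

include hF in
theorem isCompl_fix_nil :
    IsCompl (Submodule.span k {v : V | F v = v})
      (Submodule.span k {v : V | ∃ m : ℕ, (⇑F)^[m] v = 0}) :=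
  ⟨disjoint_fix_nil p F hF, codisjoint_iff.2 (sup_fix_nil_eq_top p F hF)⟩

end Decomp

section Indep

variable {k : Type u} [Field k] (p : ℕ) [Fact p.Prime] [CharP k p]
  {V : Type v} [AddCommGroup V] [Module k V]
  (F : V →+ V) (hF : ∀ (a : k) (v : V), F (a • v) = a ^ p • F v)

lemma exists_int_of_pow_eq {a : k} (h : a ^ p = a) : ∃ n : ℤ, (n : k) = a :=
  (mem_bot_iff_intCast p k).1 ((Subfield.mem_bot_iff_pow_eq_self k p).2 h)

include hF in
theorem linearIndepOn_of_int : ∀ (s : Finset V), (∀ v ∈ s, F v = v) →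
    (∀ c : V → ℤ, ∑ v ∈ s, c v • v = 0 → ∀ v ∈ s, (p : ℤ) ∣ c v) →
    LinearIndepOn k id (s : Set V) := by
  classical
  have hp : p.Prime := Fact.out
  intro s
  induction s using Finset.induction_on with
  | empty =>
    intro _ _
    rw [Finset.coe_empty]
    exact linearIndepOn_empty k id
  | insert w t hw ih =>
    intro hfix hZ
    have hfixt : ∀ v ∈ t, F v = v := fun v hv => hfix v (Finset.mem_insert_of_mem hv)
    have hZt : ∀ c : V → ℤ, ∑ v ∈ t, c v • v = 0 → ∀ v ∈ t, (p : ℤ) ∣ c v := by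
      intro c hc v hv
      have hvw : v ≠ w := fun h => hw (h ▸ hv)
      have h1 := hZ (fun u => if u = w then 0 else c u) (by
        rw [Finset.sum_insert hw, if_pos rfl, zero_smul, zero_add, ← hc]
        refine Finset.sum_congr rfl fun u hu => ?_
        rw [if_neg (ne_of_mem_of_not_mem hu hw)]) v (Finset.mem_insert_of_mem hv)
      rw [if_neg hvw] at h1
      exact h1
    have hli := ih hfixt hZt
    rw [Finset.coe_insert, linearIndepOn_id_insert (by simpa using hw)]
    refine ⟨hli, fun hmem => ?_⟩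
    obtain ⟨a, -, ha⟩ := Submodule.mem_span_finset.1 hmem
    have hFw : ∑ v ∈ t, (a v) ^ p • v = w := by
      have h1 := congrArg F ha
      rw [map_sum, hfix w (Finset.mem_insert_self w t)] at h1
      rw [← h1]
      refine Finset.sum_congr rfl fun v hv => ?_
      rw [hF, hfixt v hv]
    have hdiff : ∑ v ∈ t, ((a v) ^ p - a v) • id v = 0 := by
      simp only [sub_smul, Finset.sum_sub_distrib, id]
      rw [hFw, ha, sub_self]
    have hall := linearIndepOn_finset_iff.1 hli _ hdiff
    have hint : ∀ v, ∃ n : ℤ, v ∈ t → (n : k) = a v := by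
      intro v
      by_cases hv : v ∈ t
      · obtain ⟨n, hn⟩ := exists_int_of_pow_eq p (sub_eq_zero.1 (hall v hv))
        exact ⟨n, fun _ => hn⟩
      · exact ⟨0, fun h => absurd h hv⟩
    choose n hn using hint
    have hrel : ∑ v ∈ insert w t, (fun u => if u = w then (1 : ℤ) else - n u) v • v = 0 := by
      rw [Finset.sum_insert hw]
      have h1 : ∑ v ∈ t, (fun u => if u = w then (1 : ℤ) else - n u) v • v =
          - ∑ v ∈ t, a v • v := by
        rw [← Finset.sum_neg_distrib]
        refine Finset.sum_congr rfl fun v hv => ?_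
        show (if v = w then (1 : ℤ) else - n v) • v = -(a v • v)
        rw [if_neg (ne_of_mem_of_not_mem hv hw), neg_smul, ← hn v hv, Int.cast_smul_eq_zsmul]
      rw [h1, ha]
      show (if w = w then (1 : ℤ) else - n w) • w + -w = 0
      rw [if_pos rfl, one_smul, add_neg_cancel]
    have hdvd : (p : ℤ) ∣ 1 := by
      simpa using hZ _ hrel w (Finset.mem_insert_self w t)
    have h1 : (p : ℤ) = 1 ∨ (p : ℤ) = -1 := Int.isUnit_iff.1 (isUnit_of_dvd_one hdvd)
    rcases h1 with h | h
    · exact hp.one_lt.ne' (by exact_mod_cast h)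
    · have h2 : (0 : ℤ) ≤ p := Int.natCast_nonneg p
      omega

end Indep

end Groth.Agent.Lib.Helper19.SemiLin
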