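import Mathlib

/-!
# Homotopies between maps of two-term complexes (helper19)

`homotopyOfDouble`: a homotopy between two chain maps `double f ⟶ double f'` (cochain complexes,
degrees `-1, 0`) from a single map `s : X₁ ⟶ Y₀`.
-/

set_option autoImplicit false

open CategoryTheory CategoryTheory.Limits HomologicalComplex

namespace Groth.Agent.Lib.Helper19.DoubleHtpy

variable {C : Type*} [Category C] [Preadditive C] [HasZeroObject C]
variable {X₀ X₁ Y₀ Y₁ : C} {f : X₀ ⟶ X₁} {f' : Y₀ ⟶ Y₁}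

theorem rel : (ComplexShape.up ℤ).Rel (-1) 0 := by simp

theorem ne : (-1 : ℤ) ≠ 0 := by decide

noncomputable def homotopyOfDouble (φ φ' : double f rel ⟶ double f' rel) (s : X₁ ⟶ Y₀)
    (h₀ : φ.f (-1) = (doubleXIso₀ f rel).hom ≫ f ≫ s ≫ (doubleXIso₀ f' rel).inv + φ'.f (-1))
    (h₁ : φ.f 0 = (doubleXIso₁ f rel ne).hom ≫ s ≫ f' ≫ (doubleXIso₁ f' rel ne).inv + φ'.f 0) :
    Homotopy φ φ' where
  hom i j := if h : i = 0 ∧ j = -1 then
      eqToHom (by rw [h.1]) ≫ (doubleXIso₁ f rel ne).hom ≫ s ≫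
        (doubleXIso₀ f' rel).inv ≫ eqToHom (by rw [h.2])
    else 0
  zero i j hij := dif_neg (fun h => hij (by rw [h.1, h.2]; simp))
  comm i := by
    by_cases hi : i = -1
    · subst hi
      rw [dNext_eq _ rel, prevD_eq _ (show (ComplexShape.up ℤ).Rel (-2) (-1) by simp)]

      rw [dif_pos ⟨rfl, rfl⟩, dif_neg (by decide)]
      rw [double_d f rel ne, h₀]
      simp
    · by_cases hi0 : i = 0
      · subst hi0
        rw [dNext_eq _ (show (ComplexShape.up ℤ).Rel 0 1 by simp), prevD_eq _ rel]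

        rw [dif_neg (by decide), dif_pos ⟨rfl, rfl⟩]
        rw [double_d f' rel ne, h₁]
        simp
      · exact (isZero_double_X f rel i hi hi0).eq_of_src _ _

end Groth.Agent.Lib.Helper19.DoubleHtpy
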