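import Mathlib

/-!
# Homomorphisms of affine groups with trivial kernel (helper19)

* `linv`, `rinv`: in the convolution monoid of algebra maps from a commutative Hopf algebra to a
  commutative algebra, `φ ∘ S` is a two-sided inverse of `φ`.
* `eq_of_eq_on`: if `f : B → A` is a bialgebra map of commutative Hopf algebras with `B⁺ A = A⁺`
  (trivial kernel), two algebra maps `A → T` which agree on `f(B)` are equal (so `f` is an
  epimorphism of rings).
* `surjective_of_finite`: hence `f` is surjective if `A` is finite over `B`.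
-/

set_option autoImplicit false
universe u v w w'

open TensorProduct WithConv

namespace Groth.Agent.Lib.Helper19.EpiHopf

section

variable {k : Type u} [CommRing k]
variable {A : Type v} [CommRing A] [HopfAlgebra k A] {T : Type w} [CommRing T] [Algebra k T]

lemma id_antipode_cancel :
    toConv (AlgHom.id k A) * toConv (HopfAlgebra.antipodeAlgHom k A) = 1 := by
  apply WithConv.ofConv_injective
  apply AlgHom.toLinearMap_injective
  apply WithConv.toConv_injective
  rw [AlgHom.toLinearMap_convMul, AlgHom.toLinearMap_convOne]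
  simp [LinearMap.id_mul_antipode]

lemma comp_one (φ : A →ₐ[k] T) :
    φ.comp (1 : WithConv (A →ₐ[k] A)).ofConv = (1 : WithConv (A →ₐ[k] T)).ofConv := by
  ext a
  show φ (algebraMap k A (Coalgebra.counit a)) = algebraMap k T (Coalgebra.counit a)
  exact φ.commutes _

lemma linv (φ : A →ₐ[k] T) :
    toConv (φ.comp (HopfAlgebra.antipodeAlgHom k A)) * toConv φ = 1 := by
  have h := AlgHom.comp_convMul_distrib φ (toConv (HopfAlgebra.antipodeAlgHom k A))
    (toConv (AlgHom.id k A))
  rw [AlgHom.antipode_id_cancel, comp_one] at h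
  simp only [WithConv.ofConv_toConv, AlgHom.comp_id] at h
  exact WithConv.ofConv_injective h.symm

lemma rinv (φ : A →ₐ[k] T) :
    toConv φ * toConv (φ.comp (HopfAlgebra.antipodeAlgHom k A)) = 1 := by
  have h := AlgHom.comp_convMul_distrib φ (toConv (AlgHom.id k A))
    (toConv (HopfAlgebra.antipodeAlgHom k A))
  rw [id_antipode_cancel, comp_one] at h
  simp only [WithConv.ofConv_toConv, AlgHom.comp_id] at h
  exact WithConv.ofConv_injective h.symm

variable {B : Type w'} [CommRing B] [HopfAlgebra k B]

/-- A homomorphism with trivial kernel is an epimorphism. -/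
theorem eq_of_eq_on (f : B →ₐc[k] A)
    (hker : Ideal.map f (RingHom.ker (Bialgebra.counitAlgHom k B)) =
      RingHom.ker (Bialgebra.counitAlgHom k A))
    (u w : A →ₐ[k] T) (huw : ∀ b, u (f b) = w (f b)) : u = w := by
  set v : WithConv (A →ₐ[k] T) := toConv (u.comp (HopfAlgebra.antipodeAlgHom k A)) with hv
  set U : WithConv (A →ₐ[k] T) := toConv u with hU
  set W : WithConv (A →ₐ[k] T) := toConv w with hW
  have hvU : v * U = 1 := linv u
  have hUv : U * v = 1 := rinv u
  have hres : ∀ φ ψ : WithConv (A →ₐ[k] T), (φ * ψ).ofConv.comp (f : B →ₐ[k] A) =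
      ofConv (toConv (φ.ofConv.comp (f : B →ₐ[k] A)) * toConv (ψ.ofConv.comp (f : B →ₐ[k] A))) :=
    fun φ ψ => AlgHom.convMul_comp_bialgHom_distrib φ ψ f
  have h1 : (v * W).ofConv.comp (f : B →ₐ[k] A) = (1 : WithConv (B →ₐ[k] T)).ofConv := by
    rw [hres v W]
    have e : W.ofConv.comp (f : B →ₐ[k] A) = U.ofConv.comp (f : B →ₐ[k] A) :=
      AlgHom.ext (fun b => (huw b).symm)
    rw [e, ← hres v U, hvU]
    ext b
    show algebraMap k T (Coalgebra.counit (f b)) = algebraMap k T (Coalgebra.counit b)
    rw [CoalgHomClass.counit_comp_apply]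
  have h2 : ∀ b, (v * W).ofConv (f b) = algebraMap k T (Coalgebra.counit b) :=
    fun b => AlgHom.congr_fun h1 b
  have h3 : RingHom.ker (Bialgebra.counitAlgHom k A) ≤ RingHom.ker ((v * W).ofConv : A →ₐ[k] T) := by
    rw [← hker, Ideal.map_le_iff_le_comap]
    intro b hb
    rw [Ideal.mem_comap, RingHom.mem_ker, h2 b]
    rw [RingHom.mem_ker] at hb
    have hb' : Coalgebra.counit (R := k) b = 0 := hb
    rw [hb', map_zero]
  have h4 : v * W = 1 := by
    apply WithConv.ofConv_injective
    ext a
    have ha : a - algebraMap k A (Coalgebra.counit a) ∈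
        RingHom.ker (Bialgebra.counitAlgHom k A) := by
      rw [RingHom.mem_ker, map_sub, AlgHom.commutes]
      show Coalgebra.counit a - algebraMap k k (Coalgebra.counit a) = 0
      rw [Algebra.algebraMap_self_apply, sub_self]
    have h5 := RingHom.mem_ker.1 (h3 ha)
    rw [map_sub, AlgHom.commutes, sub_eq_zero] at h5
    exact h5
  have h6 : W = U := by
    calc W = (U * v) * W := by rw [hUv, one_mul]
      _ = U * (v * W) := mul_assoc _ _ _
      _ = U := by rw [h4, mul_one]
  exact (WithConv.toConv_injective h6).symm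

end

section Finite

variable {k : Type u} [Field k] {A : Type v} {B : Type w}
  [CommRing A] [HopfAlgebra k A] [Module.Finite k A]
  [CommRing B] [HopfAlgebra k B]

theorem surjective_of_finite (f : B →ₐc[k] A)
    (hker : Ideal.map f (RingHom.ker (Bialgebra.counitAlgHom k B)) =
      RingHom.ker (Bialgebra.counitAlgHom k A)) : Function.Surjective f := by
  letI algBA : Algebra B A := RingHom.toAlgebra (f : B →ₐ[k] A).toRingHom
  have halg : ∀ b : B, algebraMap B A b = f b := fun b => rfl
  haveI tower : IsScalarTower k B A := IsScalarTower.of_algebraMap_eq (fun c => by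
    rw [halg]
    exact (AlgHomClass.commutes f c).symm)
  haveI : Module.Finite B A := Module.Finite.of_restrictScalars_finite k B A
  have hepi : Algebra.IsEpi B A := by
    rw [Algebra.isEpi_iff_forall_one_tmul_eq]
    intro a
    let u : A →ₐ[k] A ⊗[B] A := Algebra.TensorProduct.includeLeft
    let w : A →ₐ[k] A ⊗[B] A :=
      (Algebra.TensorProduct.includeRight (R := B) (A := A) (B := A)).restrictScalars k
    have huw : ∀ b, u (f b) = w (f b) := by
      intro b
      show f b ⊗ₜ[B] (1 : A) = (1 : A) ⊗ₜ[B] f b
      rw [← halg, Algebra.algebraMap_eq_smul_one, TensorProduct.smul_tmul]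
    have h := eq_of_eq_on f hker u w huw
    exact (AlgHom.congr_fun h a).symm
  exact (Algebra.isEpi_iff_surjective_algebraMap_of_finite).1 hepi

end Finite

end Groth.Agent.Lib.Helper19.EpiHopf
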