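import Mathlib
import Groth.Agent.Lib.Helper19.EtInv

/-!
# Functoriality of the invariants of the unit component (helper19)

* `qMap`: the map `B ⧸ I → A ⧸ J` induced by a bialgebra map `ψ : B → A` with `I ≤ J.comap ψ`.
* `invariant_map`: a bialgebra map `T : A' → B'` carries elements invariant under the unit component
  idempotent `fA` to elements invariant under `fB`.
-/

set_option autoImplicit false
universe u v w

open TensorProduct

namespace Groth.Agent.Lib.Helper19.EtInv

section QMap

variable {R : Type u} [CommRing R] {A : Type v} [CommRing A] [HopfAlgebra R A]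
  {B : Type w} [CommRing B] [HopfAlgebra R B]

/-- The map between quotients by Hopf ideals induced by a bialgebra map. -/
noncomputable def qMap (ψ : B →ₐc[R] A) (I : Ideal B) (J : Ideal A) [I.IsHopfIdeal R]
    [J.IsHopfIdeal R] (h : ∀ b ∈ I, ψ b ∈ J) :
    (B ⧸ I) →ₐc[R] (A ⧸ J) :=
  BialgHom.ofAlgHom
    (Ideal.Quotient.liftₐ I ((Ideal.Quotient.mkₐ R J).comp (ψ : B →ₐ[R] A))
      (fun b hb => by
        rw [AlgHom.comp_apply]
        exact Ideal.Quotient.eq_zero_iff_mem.2 (h b hb)))
    (Ideal.Quotient.algHom_ext R (AlgHom.ext fun b => by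
      show Coalgebra.counit (R := R) (ψ b) = Coalgebra.counit (R := R) b
      exact CoalgHomClass.counit_comp_apply ψ b))
    (Ideal.Quotient.algHom_ext R (AlgHom.ext fun b => by
      show Algebra.TensorProduct.map _ _
        (TensorProduct.map (Ideal.Quotient.mkₐ R I).toLinearMap
          (Ideal.Quotient.mkₐ R I).toLinearMap (Coalgebra.comul (R := R) b)) =
        TensorProduct.map (Ideal.Quotient.mkₐ R J).toLinearMap
          (Ideal.Quotient.mkₐ R J).toLinearMap (Coalgebra.comul (R := R) (ψ b))
      rw [← CoalgHomClass.map_comp_comul_apply ψ b]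
      generalize Coalgebra.comul (R := R) b = z
      induction z using TensorProduct.induction_on with
      | zero => simp
      | tmul x y => rfl
      | add x y hx hy => simp only [map_add, hx, hy]))

@[simp] lemma qMap_mk (ψ : B →ₐc[R] A) (I : Ideal B) (J : Ideal A) [I.IsHopfIdeal R]
    [J.IsHopfIdeal R] (h : ∀ b ∈ I, ψ b ∈ J) (b : B) :
    qMap ψ I J h (Ideal.Quotient.mk I b) = Ideal.Quotient.mk J (ψ b) := rfl

end QMap

section UnitComp

variable {R : Type u} [CommRing R] [Nontrivial R]
  {A : Type v} [CommRing A] [HopfAlgebra R A]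
  {B : Type w} [CommRing B] [HopfAlgebra R B]

/-- A bialgebra map sends an idempotent with counit `1` to `1` modulo the unit component ideal. -/
theorem map_idem_sub_one_mem (ψ : B →ₐc[R] A) (eB : B) (heB : IsIdempotentElem eB)
    (heBε : Bialgebra.counitAlgHom R B eB = 1)
    (eA : A) (heAε : Bialgebra.counitAlgHom R A eA = 1)
    [IsLocalRing (A ⧸ Ideal.span ({1 - eA} : Set A))] :
    ψ eB - 1 ∈ Ideal.span ({1 - eA} : Set A) := by
  rw [← Ideal.Quotient.eq_zero_iff_mem, map_sub, map_one, sub_eq_zero]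
  rcases idem_eq_zero_or_one
    ((heB.map ψ).map (Ideal.Quotient.mk (Ideal.span ({1 - eA} : Set A)))) with h | h
  · exfalso
    have h1 := counitBar_mk A eA heAε (ψ eB)
    rw [h, map_zero] at h1
    have h2 : Bialgebra.counitAlgHom R A (ψ eB) = 1 := by
      have := CoalgHomClass.counit_comp_apply ψ eB
      rw [← heBε]
      exact this
    rw [h2] at h1
    exact zero_ne_one h1
  · exact h

/-- Hence `eA * ψ eB = eA`. -/
theorem mul_map_idem (ψ : B →ₐc[R] A) (eB : B) (heB : IsIdempotentElem eB)
    (heBε : Bialgebra.counitAlgHom R B eB = 1)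
    (eA : A) (heA : IsIdempotentElem eA) (heAε : Bialgebra.counitAlgHom R A eA = 1)
    [IsLocalRing (A ⧸ Ideal.span ({1 - eA} : Set A))] :
    eA * ψ eB = eA := by
  obtain ⟨c, hc⟩ := Ideal.mem_span_singleton'.1 (map_idem_sub_one_mem ψ eB heB heBε eA heAε)
  have h3 : eA * (ψ eB - 1) = 0 := by
    rw [← hc]
    calc eA * (c * (1 - eA)) = c * (eA - eA * eA) := by ring
      _ = 0 := by rw [heA.eq, sub_self, mul_zero]
  rw [mul_sub, mul_one, sub_eq_zero] at h3
  exact h3

/-- `ψ` maps the unit component ideal of `B` into that of `A`. -/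
theorem map_mem_span (ψ : B →ₐc[R] A) (eB : B) (heB : IsIdempotentElem eB)
    (heBε : Bialgebra.counitAlgHom R B eB = 1)
    (eA : A) (heAε : Bialgebra.counitAlgHom R A eA = 1)
    [IsLocalRing (A ⧸ Ideal.span ({1 - eA} : Set A))] :
    ∀ b ∈ Ideal.span ({1 - eB} : Set B), ψ b ∈ Ideal.span ({1 - eA} : Set A) := by
  intro b hb
  obtain ⟨c, rfl⟩ := Ideal.mem_span_singleton'.1 hb
  rw [map_mul, map_sub, map_one]
  have h1 := map_idem_sub_one_mem ψ eB heB heBε eA heAε
  have h2 : (1 : A) - ψ eB = -(ψ eB - 1) := by ring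
  rw [h2]
  exact Ideal.mul_mem_left _ _ (Ideal.neg_mem_iff _ |>.2 h1)

/-- **Functoriality of invariants.** -/
theorem invariant_map (T : B →ₐc[R] A) (fB : B) (hfB : IsIdempotentElem fB)
    (hfBε : Bialgebra.counitAlgHom R B fB = 1)
    (fA : A) (hfA : IsIdempotentElem fA) (hfAε : Bialgebra.counitAlgHom R A fA = 1)
    [IsLocalRing (A ⧸ Ideal.span ({1 - fA} : Set A))]
    (x : B) (hx : LinearMap.lTensor B (LinearMap.mulLeft R fB) (Coalgebra.comul (R := R) x) =
      x ⊗ₜ[R] fB) :
    LinearMap.lTensor A (LinearMap.mulLeft R fA) (Coalgebra.comul (R := R) (T x)) =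
      T x ⊗ₜ[R] fA := by
  have hf := mul_map_idem T fB hfB hfBε fA hfA hfAε
  have hT : ∀ z : B, fA * T z = fA * T (fB * z) := by
    intro z
    rw [map_mul, ← mul_assoc, hf]
  have key : ∀ w : B ⊗[R] B,
      LinearMap.lTensor A (LinearMap.mulLeft R fA)
        (TensorProduct.map (T : B →ₗ[R] A) (T : B →ₗ[R] A) w) =
      LinearMap.lTensor A (LinearMap.mulLeft R fA)
        (TensorProduct.map (T : B →ₗ[R] A) (T : B →ₗ[R] A)
          (LinearMap.lTensor B (LinearMap.mulLeft R fB) w)) := by
    intro w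
    induction w using TensorProduct.induction_on with
    | zero => simp
    | tmul a b =>
      simp only [LinearMap.lTensor_tmul, TensorProduct.map_tmul, LinearMap.mulLeft_apply]
      congr 1
      exact hT b
    | add a b ha hb => simp only [map_add, ha, hb]
  have h1 := CoalgHomClass.map_comp_comul_apply T x
  rw [← h1]
  have h2 := key (Coalgebra.comul (R := R) x)
  rw [hx] at h2
  rw [h2, TensorProduct.map_tmul, LinearMap.lTensor_tmul, LinearMap.mulLeft_apply]
  congr 1

end UnitComp

end Groth.Agent.Lib.Helper19.EtInv
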