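import Mathlib
import Groth.Prelude.Def_CartDual
import Groth.Agent.Lib.Helper19.TraceInt2
import Groth.Agent.Lib.Helper28.HopfEtale

/-!
# A finite commutative group scheme with étale algebra and étale dual has order prime to `p`
(helper19)

* `exists_idem_integral`: if the augmentation ideal `J` of a finite Hopf algebra satisfies
  `J ^ 2 = J`, there is an idempotent integral `e` (`ε e = 1`, `x * e = ε x • e`).
* `tr_mul`: the trace `A → k` is an integral in the dual.
* `finrank_ne_zero_of_etale`: if `A` and its dual are étale then `dim A ≠ 0` in `k`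
  (`tr = n • e_D` and `tr e_A = 1`).
-/

set_option autoImplicit false
universe u v

open TensorProduct

namespace Groth.Agent.Lib.Helper19.EtaleEtale

section Idem

variable {k : Type u} [Field k] {H : Type v} [CommRing H] [HopfAlgebra k H] [Module.Finite k H]

theorem exists_idem_integral
    (h : RingHom.ker (Bialgebra.counitAlgHom k H) ^ 2 = RingHom.ker (Bialgebra.counitAlgHom k H)) :
    ∃ e : H, Coalgebra.counit (R := k) e = 1 ∧
      ∀ x : H, x * e = Coalgebra.counit (R := k) x • e := by
  obtain ⟨J, hJ⟩ : ∃ J : Ideal H, J = RingHom.ker (Bialgebra.counitAlgHom k H) := ⟨_, rfl⟩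
  rw [← hJ] at h
  have hfg : J.FG := by
    rw [hJ]
    exact Groth.Agent.Lib.Helper28.HopfEtale.augIdeal_fg
  have hidem : IsIdempotentElem J := by
    show J * J = J
    rw [← pow_two, h]
  obtain ⟨e', he', hJe⟩ := (Ideal.isIdempotentElem_iff_of_fg J hfg).1 hidem
  have hmem : ∀ x : H, x ∈ J ↔ Coalgebra.counit (R := k) x = 0 := by
    intro x
    rw [hJ]
    exact RingHom.mem_ker
  have he'J : e' ∈ J := by
    rw [hJe]
    exact Ideal.mem_span_singleton_self e'
  refine ⟨1 - e', ?_, ?_⟩
  · rw [map_sub, Bialgebra.counit_one, (hmem e').1 he'J, sub_zero]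
  · intro x
    have hx : x - algebraMap k H (Coalgebra.counit (R := k) x) ∈ J := by
      rw [hmem, map_sub, Bialgebra.counit_algebraMap, sub_self]
    rw [hJe] at hx
    obtain ⟨r, hr⟩ := Ideal.mem_span_singleton'.1 hx
    have h0 : (x - algebraMap k H (Coalgebra.counit (R := k) x)) * (1 - e') = 0 := by
      rw [← hr, mul_assoc, mul_sub, mul_one, he'.eq, sub_self, mul_zero]
    rw [sub_mul, sub_eq_zero] at h0
    rw [h0, Algebra.smul_def]

end Idem

section Main

variable (k : Type u) [Field k] (A : Type v) [CommRing A] [HopfAlgebra k A]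
  [Coalgebra.IsCocomm k A] [Module.Finite k A]

/-- the trace, as an element of the dual -/
noncomputable def tr : CartDual.D k A := WithConv.toConv (Algebra.trace k A)

lemma tr_mul (ψ : CartDual.D k A) : tr k A * ψ = ψ.ofConv 1 • tr k A := by
  apply WithConv.ext
  apply LinearMap.ext
  intro a
  have h1 : (tr k A * ψ).ofConv a = LinearMap.mul' k k
      (TensorProduct.map (Algebra.trace k A) ψ.ofConv (Coalgebra.comul (R := k) a)) := rfl
  have h2 : ∀ t : A ⊗[k] A, LinearMap.mul' k k (TensorProduct.map (Algebra.trace k A) ψ.ofConv t) =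
      ψ.ofConv (TensorProduct.lid k A ((Algebra.trace k A).rTensor A t)) := by
    intro t
    induction t using TensorProduct.induction_on with
    | zero => simp
    | tmul x y =>
      rw [TensorProduct.map_tmul, LinearMap.mul'_apply, LinearMap.rTensor_tmul,
        TensorProduct.lid_tmul, map_smul, smul_eq_mul]
    | add t₁ t₂ h₁ h₂ => simp only [map_add, h₁, h₂]
  rw [h1, h2, Groth.Agent.Lib.Helper19.TraceInt2.trace_comul, map_smul]
  show _ = ψ.ofConv 1 • Algebra.trace k A a
  rw [smul_eq_mul, smul_eq_mul, mul_comm]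

theorem finrank_ne_zero_of_etale (hA : Algebra.Etale k A)
    (hD : Algebra.Etale k (CartDual.D k A)) : (Module.finrank k A : k) ≠ 0 := by
  obtain ⟨eA, heA1, heA⟩ := exists_idem_integral (k := k) (H := A)
    (Groth.Agent.Lib.Helper28.HopfEtale.etale_iff.1 hA)
  obtain ⟨eD, heD1, heD⟩ := exists_idem_integral (k := k) (H := CartDual.D k A)
    (Groth.Agent.Lib.Helper28.HopfEtale.etale_iff.1 hD)
  have h1 : tr k A * eD = tr k A := by
    rw [tr_mul]
    have h : eD.ofConv 1 = 1 := heD1
    rw [h, one_smul]
  have htr1 : Algebra.trace k A 1 = (Module.finrank k A : k) := by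
    have h1 := Algebra.trace_algebraMap (R := k) (S := A) (1 : k)
    rw [map_one, nsmul_eq_mul, mul_one] at h1
    exact h1
  have h2 : tr k A * eD = (Module.finrank k A : k) • eD := by
    rw [heD (tr k A)]
    congr 1
  have h3 : tr k A = (Module.finrank k A : k) • eD := h1.symm.trans h2
  have h4 : Algebra.trace k A eA = 1 := by
    have e : Algebra.lmul k A eA =
        dualTensorHom k A A ((Coalgebra.counit (R := k) (A := A)) ⊗ₜ[k] eA) := by
      apply LinearMap.ext
      intro x
      rw [dualTensorHom_apply]
      show eA * x = _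
      rw [mul_comm]
      exact heA x
    rw [Algebra.trace_apply, e, LinearMap.trace_eq_contract_apply, contractLeft_apply, heA1]
  intro h0
  have h5 : (tr k A).ofConv eA = ((Module.finrank k A : k) • eD).ofConv eA := by rw [← h3]
  rw [h0, zero_smul] at h5
  have h6 : (tr k A).ofConv eA = Algebra.trace k A eA := rfl
  rw [h6, h4] at h5
  exact one_ne_zero h5

end Main

end Groth.Agent.Lib.Helper19.EtaleEtale
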