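import Mathlib
import Groth.Prelude.Def_CGrpSh
import Groth.Agent.Lib.Helper19.DeligneSch

/-!
# Integers killing a commutative group scheme kill its Ext groups (helper19)

If the `m`-th power map of a commutative group scheme `G/S` is trivial then `m` kills
`Ext^n(G, H)` (Ext of abelian sheaves of points on a big site).
-/

set_option autoImplicit false
universe u
open CategoryTheory CategoryTheory.Limits AlgebraicGeometry Opposite MonObj MonoidalCategory
  CartesianMonoidalCategory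

namespace Groth.Agent.Lib.Helper19.ExtKill

variable {S : Scheme.{u}} (K : Precoverage Scheme.{u}) [(QuotSh.J K S).Subcanonical]

theorem nsmul_id_pts_eq_zero (G : Over S) [GrpObj G] [IsCommMonObj G] (m : ℕ)
    (hG : (𝟙 G : G ⟶ G) ^ m = 1) : m • 𝟙 (CGrpSh.pts K G) = 0 := by
  apply Sheaf.hom_ext
  apply NatTrans.ext
  funext T
  apply AddCommGrpCat.ext
  intro y
  apply ULift.ext
  have hy : (y.down.toMul) ^ m = 1 := by
    have h := MonObj.comp_pow (𝟙 G) m y.down.toMul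
    rw [Category.comp_id, hG, MonObj.comp_one] at h
    exact h.symm
  change Additive.ofMul (y.down.toMul ^ m) = 0
  rw [hy]
  rfl

theorem nsmul_ext_eq_zero (G H : Over S) [GrpObj G] [IsCommMonObj G] [GrpObj H] [IsCommMonObj H]
    (m : ℕ) (hG : (𝟙 G : G ⟶ G) ^ m = 1) (n : ℕ) (x : CGrpSh.ExtS K G H n) : m • x = 0 := by
  have h1 : (Abelian.Ext.mk₀ (𝟙 (CGrpSh.pts K G))).comp x (zero_add n) = x :=
    Abelian.Ext.mk₀_id_comp x
  have h2 : (m • Abelian.Ext.mk₀ (𝟙 (CGrpSh.pts K G))).comp x (zero_add n) =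
      m • (Abelian.Ext.mk₀ (𝟙 (CGrpSh.pts K G))).comp x (zero_add n) :=
    map_nsmul (Abelian.Ext.postcomp x (CGrpSh.pts K G) (zero_add n)) m
      (Abelian.Ext.mk₀ (𝟙 (CGrpSh.pts K G)))
  have h3 : m • Abelian.Ext.mk₀ (𝟙 (CGrpSh.pts K G)) =
      Abelian.Ext.mk₀ (m • 𝟙 (CGrpSh.pts K G)) :=
    (map_nsmul (Abelian.Ext.addEquiv₀ (X := CGrpSh.pts K G) (Y := CGrpSh.pts K G)).symm m
      (𝟙 (CGrpSh.pts K G))).symm
  rw [← h1, ← h2, h3, nsmul_id_pts_eq_zero K G m hG, Abelian.Ext.mk₀_zero, Abelian.Ext.zero_comp]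

end Groth.Agent.Lib.Helper19.ExtKill
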