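import Mathlib

/-!
# Split filtrations are determined by their tensor powers

Helper library for S19157.  No localisation: for every maximal ideal `𝔪` we use linear
functionals `M → R` that are "units at `𝔪`".
-/

set_option autoImplicit false
universe u v w

namespace Groth.Agent.Lib.Helper19.FiltTens

open scoped TensorProduct
open DirectSum

section Basic

variable {Γ : Type w} [LinearOrder Γ] {R : Type u} [CommRing R] {M : Type v} [AddCommGroup M]
  [Module R M]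

/-- the filtration attached to a grading -/
def fil (G : Γ → Submodule R M) (γ : Γ) : Submodule R M := ⨆ η ∈ Set.Ici γ, G η

lemma le_fil (G : Γ → Submodule R M) {γ η : Γ} (h : γ ≤ η) : G η ≤ fil G γ :=
  le_iSup₂_of_le η (Set.mem_Ici.mpr h) le_rfl

variable (G : Γ → Submodule R M) [DirectSum.Decomposition G]

/-- projection to the `η`-component as an endomorphism of `M` -/
noncomputable def proj (η : Γ) : M →ₗ[R] M :=
  (G η).subtype ∘ₗ (DirectSum.component R Γ (fun i => ↥(G i)) η) ∘ₗ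
    (DirectSum.decomposeLinearEquiv G).toLinearMap

lemma proj_apply (η : Γ) (x : M) : proj G η x = ((DirectSum.decompose G x) η : M) := rfl

lemma proj_mem (η : Γ) (x : M) : proj G η x ∈ G η := (DirectSum.decompose G x η).2

lemma proj_of_mem_same {η : Γ} {x : M} (hx : x ∈ G η) : proj G η x = x :=
  DirectSum.decompose_of_mem_same G hx

lemma proj_of_mem_ne {η η' : Γ} {x : M} (hx : x ∈ G η) (h : η ≠ η') : proj G η' x = 0 :=
  DirectSum.decompose_of_mem_ne G hx h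

lemma proj_eq_zero_of_mem_fil {γ η : Γ} (h : η < γ) {x : M} (hx : x ∈ fil G γ) :
    proj G η x = 0 := by
  have hle : fil G γ ≤ LinearMap.ker (proj G η) := by
    refine iSup₂_le fun η' hη' g hg => ?_
    rw [LinearMap.mem_ker]
    exact proj_of_mem_ne G hg (lt_of_lt_of_le h (Set.mem_Ici.mp hη')).ne'
  exact hle hx

lemma mem_fil_of_proj_eq_zero {γ : Γ} {x : M} (hx : ∀ η, η < γ → proj G η x = 0) :
    x ∈ fil G γ := by
  classical
  have hsum := DirectSum.sum_support_decompose G x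
  rw [← hsum]
  refine Submodule.sum_mem _ fun i _ => ?_
  by_cases hlt : i < γ
  · have h0 := hx i hlt
    rw [proj_apply] at h0
    rw [h0]; exact Submodule.zero_mem _
  · exact le_fil G (not_lt.mp hlt) (DirectSum.decompose G x i).2

lemma exists_kill [Module.Finite R M] (𝔪 : Ideal R) {η : Γ}
    (h : G η ≤ 𝔪 • (⊤ : Submodule R M)) :
    ∃ s : R, s - 1 ∈ 𝔪 ∧ ∀ g ∈ G η, s • g = 0 := by
  have hmap : G η = Submodule.map (proj G η) ⊤ := by
    apply le_antisymm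
    · intro g hg
      exact ⟨g, Submodule.mem_top, proj_of_mem_same G hg⟩
    · rintro _ ⟨x, -, rfl⟩
      exact proj_mem G η x
  have hfg : (G η).FG := by
    rw [hmap]
    exact Submodule.FG.map _ Module.Finite.fg_top
  have hle : G η ≤ 𝔪 • G η := by
    intro g hg
    have h1 : proj G η g ∈ Submodule.map (proj G η) (𝔪 • (⊤ : Submodule R M)) :=
      Submodule.mem_map_of_mem (h hg)
    rw [Submodule.map_smul'', ← hmap, proj_of_mem_same G hg] at h1
    exact h1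
  exact Submodule.exists_sub_one_mem_and_smul_eq_zero_of_fg_of_le_smul 𝔪 (G η) hfg hle

lemma finite_ne_bot [Module.Finite R M] : {η : Γ | G η ≠ ⊥}.Finite := by
  classical
  obtain ⟨s, hs⟩ := (Module.Finite.fg_top : (⊤ : Submodule R M).FG)
  refine Set.Finite.subset
    (s.biUnion fun m => (DirectSum.decompose G m).support).finite_toSet ?_
  intro η hη
  by_contra hnot
  apply hη
  have hker : (⊤ : Submodule R M) ≤ LinearMap.ker (proj G η) := by
    rw [← hs, Submodule.span_le]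
    intro m hm
    rw [SetLike.mem_coe, LinearMap.mem_ker, proj_apply]
    have hns : η ∉ (DirectSum.decompose G m).support := by
      intro hmem
      exact hnot (Finset.mem_coe.mpr (Finset.mem_biUnion.mpr ⟨m, Finset.mem_coe.mp hm, hmem⟩))
    rw [DFinsupp.notMem_support_iff] at hns
    rw [hns, Submodule.coe_zero]
  rw [eq_bot_iff]
  intro g hg
  have h0 := hker (Submodule.mem_top : g ∈ ⊤)
  rw [LinearMap.mem_ker, proj_of_mem_same G hg] at h0
  rw [h0]; exact Submodule.zero_mem _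

lemma exists_lowest [Module.Finite R M] (𝔪 : Ideal R)
    (hne : ∃ η, ¬ G η ≤ 𝔪 • (⊤ : Submodule R M)) :
    ∃ μ, ¬ G μ ≤ 𝔪 • (⊤ : Submodule R M) ∧
      ∀ η, η < μ → G η ≤ 𝔪 • (⊤ : Submodule R M) := by
  have hfin : {η : Γ | ¬ G η ≤ 𝔪 • (⊤ : Submodule R M)}.Finite := by
    refine (finite_ne_bot G).subset ?_
    intro η hη hbot
    apply hη
    rw [hbot]; exact bot_le
  obtain ⟨μ, hμ, hmin⟩ := Set.exists_min_image _ id hfin hne
  refine ⟨μ, hμ, fun η hη => ?_⟩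
  by_contra hcon
  exact absurd (hmin η hcon) (not_le.mpr hη)

lemma exists_smul_mem_fil [Module.Finite R M] (𝔪 : Ideal R) [h𝔪 : 𝔪.IsPrime] {μ : Γ}
    (hμ : ∀ η, η < μ → G η ≤ 𝔪 • (⊤ : Submodule R M)) (m : M) :
    ∃ s : R, s ∉ 𝔪 ∧ s • m ∈ fil G μ := by
  have hone : (1 : R) ∉ 𝔪 := fun h1 => h𝔪.ne_top ((Ideal.eq_top_iff_one _).mpr h1)
  have htop : m ∈ ⨆ η, G η := by
    rw [(DirectSum.Decomposition.isInternal G).submodule_iSup_eq_top]; exact Submodule.mem_top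
  refine Submodule.iSup_induction G
    (motive := fun m => ∃ s : R, s ∉ 𝔪 ∧ s • m ∈ fil G μ) htop ?_ ?_ ?_
  · intro η g hg
    by_cases hlt : η < μ
    · obtain ⟨s, hs1, hs⟩ := exists_kill G 𝔪 (hμ η hlt)
      refine ⟨s, ?_, ?_⟩
      · intro hs𝔪
        apply hone
        have := 𝔪.sub_mem hs𝔪 hs1
        simpa using this
      · rw [hs g hg]; exact Submodule.zero_mem _
    · exact ⟨1, hone, by rw [one_smul]; exact le_fil G (not_lt.mp hlt) hg⟩
  · exact ⟨1, hone, by rw [smul_zero]; exact Submodule.zero_mem _⟩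
  · rintro x y ⟨s, hs, hsx⟩ ⟨t, ht, hty⟩
    refine ⟨s * t, fun hst => ?_, ?_⟩
    · rcases h𝔪.mem_or_mem hst with h | h
      · exact hs h
      · exact ht h
    · rw [smul_add]
      refine Submodule.add_mem _ ?_ ?_
      · rw [mul_comm, mul_smul]; exact Submodule.smul_mem _ _ hsx
      · rw [mul_smul]; exact Submodule.smul_mem _ _ hty

end Basic

section Dual

variable {R : Type u} [CommRing R] {M : Type v} [AddCommGroup M] [Module R M]
  [Module.Finite R M] [Module.Projective R M]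

lemma exists_dual_not_mem (𝔪 : Ideal R) {p : M}
    (hp : p ∉ 𝔪 • (⊤ : Submodule R M)) : ∃ φ : M →ₗ[R] R, φ p ∉ 𝔪 := by
  classical
  obtain ⟨n, f, g, -, -, hfg⟩ := Module.Finite.exists_comp_eq_id_of_projective R M
  by_contra hcon
  push Not at hcon
  apply hp
  have hpe : f (g p) = p := by
    have := LinearMap.congr_fun hfg p
    simpa using this
  rw [← hpe, LinearMap.pi_apply_eq_sum_univ f (g p)]
  refine Submodule.sum_mem _ fun j _ => ?_
  have hj : g p j ∈ 𝔪 := hcon ((LinearMap.proj j).comp g)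
  exact Submodule.smul_mem_smul hj Submodule.mem_top

lemma eq_zero_of_forall_dual {y : M} (h : ∀ ψ : M →ₗ[R] R, ψ y = 0) : y = 0 := by
  obtain ⟨n, f, g, -, hginj, -⟩ := Module.Finite.exists_comp_eq_id_of_projective R M
  apply hginj
  rw [map_zero]
  funext j
  exact h ((LinearMap.proj j).comp g)

end Dual

section Tens

variable {Γ : Type w} [AddCommMonoid Γ] {R : Type u} [CommRing R] {M : Type v} [AddCommGroup M]
  [Module R M] {k : ℕ}

/-- the `γ`-th step of the tensor-power filtration -/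
def T (F : Γ → Submodule R M) (k : ℕ) (γ : Γ) :
    Submodule R (PiTensorProduct R (fun _ : Fin k => M)) :=
  ⨆ c : {c : Fin k → Γ // ∑ i, c i = γ},
    LinearMap.range (PiTensorProduct.map (R := R) (fun i => (F (c.1 i)).subtype))

/-- the functional `ℓ₁ ⊗ ⋯ ⊗ ℓ_k` -/
noncomputable def Lam (ℓ : Fin k → (M →ₗ[R] R)) :
    (PiTensorProduct R (fun _ : Fin k => M)) →ₗ[R] R :=
  PiTensorProduct.lift ((MultilinearMap.mkPiAlgebra R (Fin k) R).compLinearMap ℓ)

lemma Lam_tprod (ℓ : Fin k → (M →ₗ[R] R)) (v : Fin k → M) :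
    Lam ℓ (PiTensorProduct.tprod R v) = ∏ i, ℓ i (v i) := by
  rw [Lam, PiTensorProduct.lift.tprod, MultilinearMap.compLinearMap_apply,
    MultilinearMap.mkPiAlgebra_apply]

lemma tprod_mem_T (F : Γ → Submodule R M) {γ : Γ} (c : Fin k → Γ) (hc : ∑ i, c i = γ)
    (v : Fin k → M) (hv : ∀ i, v i ∈ F (c i)) :
    PiTensorProduct.tprod R v ∈ T F k γ := by
  refine Submodule.mem_iSup_of_mem ⟨c, hc⟩ ?_
  refine ⟨PiTensorProduct.tprod R (fun i => (⟨v i, hv i⟩ : F (c i))), ?_⟩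
  exact (PiTensorProduct.map_tprod _ _).trans rfl

lemma Lam_eq_zero_of_mem_T (F : Γ → Submodule R M) {γ : Γ} (ℓ : Fin k → (M →ₗ[R] R))
    (hℓ : ∀ c : Fin k → Γ, ∑ i, c i = γ → ∃ j, ∀ x ∈ F (c j), ℓ j x = 0)
    {z : PiTensorProduct R (fun _ : Fin k => M)} (hz : z ∈ T F k γ) : Lam ℓ z = 0 := by
  have hle : T F k γ ≤ LinearMap.ker (Lam ℓ) := by
    refine iSup_le fun c => ?_
    rintro _ ⟨w, rfl⟩
    rw [LinearMap.mem_ker]
    obtain ⟨j, hj⟩ := hℓ c.1 c.2
    induction w using PiTensorProduct.induction_on with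
    | smul_tprod r v =>
      have h1 : PiTensorProduct.map (R := R) (fun i => (F (c.1 i)).subtype)
          (r • PiTensorProduct.tprod R v)
          = r • PiTensorProduct.tprod R (fun i => ((v i : F (c.1 i)) : M)) := by
        rw [map_smul, PiTensorProduct.map_tprod]; rfl
      rw [h1, map_smul, Lam_tprod]
      have h2 : ∏ i, ℓ i ((v i : F (c.1 i)) : M) = 0 :=
        Finset.prod_eq_zero (Finset.mem_univ j) (hj _ (v j).2)
      rw [h2, smul_zero]
    | add x y hx hy => rw [map_add, map_add, hx, hy, add_zero]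
  exact hle hz

end Tens

section Main

variable {Γ : Type w} [AddCommGroup Γ] [LinearOrder Γ] [IsOrderedAddMonoid Γ]
  {R : Type u} [CommRing R] {M : Type v} [AddCommGroup M] [Module R M]
  [Module.Finite R M] [Module.Projective R M]

lemma not_lt_lowest (G₁ G₂ : Γ → Submodule R M) [DirectSum.Decomposition G₁]
    [DirectSum.Decomposition G₂] (k : ℕ) (hk : 1 ≤ k)
    (h : ∀ γ, T (fil G₁) k γ = T (fil G₂) k γ)
    (𝔪 : Ideal R) [h𝔪 : 𝔪.IsPrime] {μ₁ μ₂ : Γ}
    (h1 : ¬ G₁ μ₁ ≤ 𝔪 • (⊤ : Submodule R M))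
    (h2 : ∀ η, η < μ₂ → G₂ η ≤ 𝔪 • (⊤ : Submodule R M)) : ¬ μ₁ < μ₂ := by
  intro hlt
  obtain ⟨p₁, hp₁, hp₁'⟩ := SetLike.not_le_iff_exists.mp h1
  obtain ⟨φ, hφ⟩ := exists_dual_not_mem 𝔪 hp₁'
  obtain ⟨s, hs, hsp⟩ := exists_smul_mem_fil G₂ 𝔪 h2 p₁
  have hz : PiTensorProduct.tprod R (fun _ : Fin k => s • p₁)
      ∈ T (fil G₁) k (∑ _i : Fin k, μ₂) := by
    rw [h]
    exact tprod_mem_T (fil G₂) (fun _ => μ₂) rfl _ (fun _ => hsp)
  have hkill : ∀ c : Fin k → Γ, ∑ i, c i = ∑ _i : Fin k, μ₂ →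
      ∃ j, ∀ x ∈ fil G₁ (c j), (φ ∘ₗ proj G₁ μ₁) x = 0 := by
    intro c hc
    have hex : ∃ j, μ₁ < c j := by
      by_contra hcon
      push Not at hcon
      have hle : ∑ i, c i ≤ ∑ _i : Fin k, μ₁ := Finset.sum_le_sum fun i _ => hcon i
      have hlt' : ∑ _i : Fin k, μ₁ < ∑ _i : Fin k, μ₂ :=
        Finset.sum_lt_sum_of_nonempty ⟨⟨0, by omega⟩, Finset.mem_univ _⟩ fun _ _ => hlt
      rw [hc] at hle
      exact absurd hle (not_le.mpr hlt')
    obtain ⟨j, hj⟩ := hex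
    refine ⟨j, fun x hx => ?_⟩
    rw [LinearMap.comp_apply, proj_eq_zero_of_mem_fil G₁ hj hx, map_zero]
  have hval : Lam (fun _ : Fin k => φ ∘ₗ proj G₁ μ₁)
      (PiTensorProduct.tprod R (fun _ : Fin k => s • p₁))
      = (s * φ p₁) ^ (Finset.univ : Finset (Fin k)).card := by
    rw [Lam_tprod, ← Finset.prod_const]
    refine Finset.prod_congr rfl fun i _ => ?_
    show (φ ∘ₗ proj G₁ μ₁) (s • p₁) = s * φ p₁
    rw [LinearMap.comp_apply, map_smul, proj_of_mem_same G₁ hp₁, map_smul, smul_eq_mul]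
  have hzero := Lam_eq_zero_of_mem_T (fil G₁) (fun _ : Fin k => φ ∘ₗ proj G₁ μ₁) hkill hz
  rw [hval] at hzero
  have hmem : (s * φ p₁) ^ (Finset.univ : Finset (Fin k)).card ∈ 𝔪 := by
    rw [hzero]; exact 𝔪.zero_mem
  rcases h𝔪.mem_or_mem (h𝔪.mem_of_pow_mem _ hmem) with h' | h'
  · exact hs h'
  · exact hφ h'

lemma exists_smul_mem_of_lowest (G₁ G₂ : Γ → Submodule R M) [DirectSum.Decomposition G₁]
    [DirectSum.Decomposition G₂] (k : ℕ) (hk : 1 ≤ k)
    (h : ∀ γ, T (fil G₁) k γ = T (fil G₂) k γ)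
    (𝔪 : Ideal R) [h𝔪 : 𝔪.IsPrime] {μ : Γ}
    (h1 : ∀ η, η < μ → G₁ η ≤ 𝔪 • (⊤ : Submodule R M))
    (h2 : ¬ G₂ μ ≤ 𝔪 • (⊤ : Submodule R M)) {γ : Γ} {x : M} (hx : x ∈ fil G₁ γ) :
    ∃ t : R, t ∉ 𝔪 ∧ t • x ∈ fil G₂ γ := by
  classical
  obtain ⟨p₂, hp₂, hp₂'⟩ := SetLike.not_le_iff_exists.mp h2
  obtain ⟨φ, hφ⟩ := exists_dual_not_mem 𝔪 hp₂'
  obtain ⟨s, hs, hsp⟩ := exists_smul_mem_fil G₁ 𝔪 h1 p₂
  obtain ⟨i₀, -⟩ : ∃ i₀ : Fin k, i₀ = ⟨0, by omega⟩ := ⟨_, rfl⟩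
  obtain ⟨u, hu⟩ : ∃ u : R, u = s * φ p₂ := ⟨_, rfl⟩
  have hu𝔪 : u ∉ 𝔪 := by
    rw [hu]; intro hmem
    rcases h𝔪.mem_or_mem hmem with h' | h'
    · exact hs h'
    · exact hφ h'
  obtain ⟨N, hN⟩ : ∃ N : ℕ, N = ((Finset.univ : Finset (Fin k)).erase i₀).card := ⟨_, rfl⟩
  refine ⟨u ^ N, fun hmem => hu𝔪 (h𝔪.mem_of_pow_mem _ hmem), ?_⟩
  apply mem_fil_of_proj_eq_zero G₂
  intro η hη
  apply eq_zero_of_forall_dual (R := R)
  intro ψ
  obtain ⟨c, hc⟩ : ∃ c : Fin k → Γ, c = Function.update (fun _ => μ) i₀ γ := ⟨_, rfl⟩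
  obtain ⟨v, hv⟩ : ∃ v : Fin k → M, v = Function.update (fun _ => s • p₂) i₀ x := ⟨_, rfl⟩
  obtain ⟨ℓ, hℓ⟩ : ∃ ℓ : Fin k → (M →ₗ[R] R),
      ℓ = Function.update (fun _ => φ ∘ₗ proj G₂ μ) i₀ (ψ ∘ₗ proj G₂ η) := ⟨_, rfl⟩
  have hvmem : ∀ i, v i ∈ fil G₁ (c i) := by
    intro i
    by_cases hi : i = i₀
    · rw [hi, hv, hc, Function.update_self, Function.update_self]; exact hx
    · rw [hv, hc, Function.update_of_ne hi, Function.update_of_ne hi]; exact hsp
  have hz : PiTensorProduct.tprod R v ∈ T (fil G₂) k (∑ i, c i) := by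
    rw [← h]
    exact tprod_mem_T (fil G₁) c rfl v hvmem
  have hkill : ∀ c' : Fin k → Γ, ∑ i, c' i = ∑ i, c i →
      ∃ j, ∀ y ∈ fil G₂ (c' j), ℓ j y = 0 := by
    intro c' hc'
    by_cases hex : ∃ j, j ≠ i₀ ∧ μ < c' j
    · obtain ⟨j, hj, hjμ⟩ := hex
      refine ⟨j, fun y hy => ?_⟩
      rw [hℓ, Function.update_of_ne hj, LinearMap.comp_apply,
        proj_eq_zero_of_mem_fil G₂ hjμ hy, map_zero]
    · push Not at hex
      refine ⟨i₀, fun y hy => ?_⟩
      have hγ : γ ≤ c' i₀ := by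
        have e1 : c' i₀ + ∑ j ∈ Finset.univ.erase i₀, c' j = ∑ i, c' i :=
          Finset.add_sum_erase _ _ (Finset.mem_univ i₀)
        have e2 : c i₀ + ∑ j ∈ Finset.univ.erase i₀, c j = ∑ i, c i :=
          Finset.add_sum_erase _ _ (Finset.mem_univ i₀)
        have e3 : ∑ j ∈ Finset.univ.erase i₀, c' j ≤ ∑ j ∈ Finset.univ.erase i₀, c j := by
          refine Finset.sum_le_sum fun j hj => ?_
          have hne := Finset.ne_of_mem_erase hj
          rw [hc, Function.update_of_ne hne]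
          exact hex j hne
        have e4 : c i₀ = γ := by rw [hc, Function.update_self]
        rw [e4] at e2
        have e5 : γ + ∑ j ∈ Finset.univ.erase i₀, c j
            ≤ c' i₀ + ∑ j ∈ Finset.univ.erase i₀, c j := by
          rw [e2, ← hc', ← e1]
          exact add_le_add le_rfl e3
        exact le_of_add_le_add_right e5
      rw [hℓ, Function.update_self, LinearMap.comp_apply,
        proj_eq_zero_of_mem_fil G₂ (lt_of_lt_of_le hη hγ) hy, map_zero]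
  have hzero := Lam_eq_zero_of_mem_T (fil G₂) ℓ hkill hz
  rw [Lam_tprod] at hzero
  have hprod : ∏ i, ℓ i (v i) = ℓ i₀ (v i₀) * ∏ j ∈ Finset.univ.erase i₀, ℓ j (v j) :=
    (Finset.mul_prod_erase _ _ (Finset.mem_univ i₀)).symm
  have h1' : ℓ i₀ (v i₀) = ψ (proj G₂ η x) := by
    rw [hℓ, hv, Function.update_self, Function.update_self, LinearMap.comp_apply]
  have h2' : ∏ j ∈ Finset.univ.erase i₀, ℓ j (v j) = u ^ N := by
    rw [hN, ← Finset.prod_const]
    refine Finset.prod_congr rfl fun j hj => ?_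
    have hne := Finset.ne_of_mem_erase hj
    rw [hℓ, hv, Function.update_of_ne hne, Function.update_of_ne hne, hu]
    show (φ ∘ₗ proj G₂ μ) (s • p₂) = s * φ p₂
    rw [LinearMap.comp_apply, map_smul, proj_of_mem_same G₂ hp₂, map_smul, smul_eq_mul]
  rw [hprod, h1', h2'] at hzero
  rw [map_smul, map_smul, smul_eq_mul, mul_comm]
  exact hzero

theorem fil_le_of_T_eq (G₁ G₂ : Γ → Submodule R M) (hG₁ : DirectSum.IsInternal G₁)
    (hG₂ : DirectSum.IsInternal G₂) (k : ℕ) (hk : 1 ≤ k)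
    (h : ∀ γ, T (fil G₁) k γ = T (fil G₂) k γ) (γ : Γ) : fil G₁ γ ≤ fil G₂ γ := by
  haveI := hG₁.chooseDecomposition
  haveI := hG₂.chooseDecomposition
  intro x hx
  by_contra hxn
  obtain ⟨J, hJ⟩ : ∃ J : Ideal R,
      J = Submodule.comap (LinearMap.toSpanSingleton R M x) (fil G₂ γ) := ⟨_, rfl⟩
  have hJmem : ∀ r : R, r ∈ J ↔ r • x ∈ fil G₂ γ := by
    intro r; rw [hJ, Submodule.mem_comap, LinearMap.toSpanSingleton_apply]
  have hJne : J ≠ ⊤ := by
    intro htop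
    have h1 : (1 : R) ∈ J := by rw [htop]; exact Submodule.mem_top
    rw [hJmem, one_smul] at h1
    exact hxn h1
  obtain ⟨𝔪, h𝔪, hJ𝔪⟩ := Ideal.exists_le_maximal J hJne
  haveI : 𝔪.IsPrime := h𝔪.isPrime
  have hkey : ∃ t : R, t ∉ 𝔪 ∧ t • x ∈ fil G₂ γ := by
    by_cases hne : ∃ η, ¬ G₂ η ≤ 𝔪 • (⊤ : Submodule R M)
    · obtain ⟨μ₂, hμ₂, hμ₂'⟩ := exists_lowest G₂ 𝔪 hne
      have hne₁ : ∃ η, ¬ G₁ η ≤ 𝔪 • (⊤ : Submodule R M) := by
        by_contra hcon
        push Not at hcon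
        have htop : (⊤ : Submodule R M) ≤ 𝔪 • (⊤ : Submodule R M) :=
          le_of_eq_of_le hG₁.submodule_iSup_eq_top.symm (iSup_le hcon)
        exact hμ₂ (le_trans le_top htop)
      obtain ⟨μ₁, hμ₁, hμ₁'⟩ := exists_lowest G₁ 𝔪 hne₁
      have hA := not_lt_lowest G₁ G₂ k hk h 𝔪 hμ₁ hμ₂'
      have hB := not_lt_lowest G₂ G₁ k hk (fun γ => (h γ).symm) 𝔪 hμ₂ hμ₁'
      have hμ : μ₁ = μ₂ := le_antisymm (not_lt.mp hB) (not_lt.mp hA)
      subst hμ
      exact exists_smul_mem_of_lowest G₁ G₂ k hk h 𝔪 hμ₁' hμ₂ hx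
    · push Not at hne
      exact exists_smul_mem_fil G₂ 𝔪 (fun η _ => hne η) x
  obtain ⟨t, ht, htx⟩ := hkey
  exact ht (hJ𝔪 ((hJmem t).mpr htx))

end Main

end Groth.Agent.Lib.Helper19.FiltTens
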