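import Groth.Agent.S16211
import Mathlib

/-!
# Fixed points of a finite group of invertible order acting on a smooth separated scheme

(helper19) `isClosedImmersion_of_fixed`: the fixed-point scheme of a family of endomorphisms of a
separated `S`-scheme is a closed subscheme.  `smooth_fixed_aux`: if moreover the family is a finite
group of order invertible on `S` and `X` is smooth over `S`, the fixed point scheme is smooth
(reduction to the affine statement S16211 through a `G`-stable affine neighbourhood of a fixed point).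
-/

set_option autoImplicit false
universe u v
open AlgebraicGeometry CategoryTheory Limits

namespace Groth.Agent.Lib.Helper19.FixSm

/-- closed subscheme of points fixed by a finite set of endomorphisms -/
theorem exists_fixed_closed {S : Scheme.{u}} (X : Over S) [IsSeparated X.hom]
    {G : Type v} (r : G → (X ⟶ X)) (s : Finset G) :
    ∃ (E : Over S) (e : E ⟶ X), IsClosedImmersion e.left ∧
      (∀ g ∈ s, e ≫ r g = e) ∧
      ∀ (T : Over S) (t : T ⟶ X), (∀ g ∈ s, t ≫ r g = t) → ∃ t' : T ⟶ E, t' ≫ e = t := by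
  classical
  induction s using Finset.induction_on with
  | empty =>
    refine ⟨X, 𝟙 X, ?_, by simp, fun T t _ => ⟨t, by simp⟩⟩
    rw [Over.id_left]; infer_instance
  | insert g s hg ih =>
    obtain ⟨E, e, he1, he2, he3⟩ := ih
    haveI := he1
    refine ⟨equalizer (e ≫ r g) e, equalizer.ι (e ≫ r g) e ≫ e, ?_, ?_, ?_⟩
    · rw [Over.comp_left]; infer_instance
    · intro h hh
      rcases Finset.mem_insert.mp hh with rfl | hh
      · rw [Category.assoc, equalizer.condition]
      · rw [Category.assoc, he2 h hh]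
    · intro T t ht
      obtain ⟨t', ht'⟩ := he3 T t (fun h hh => ht h (Finset.mem_insert_of_mem hh))
      refine ⟨equalizer.lift t' ?_, by rw [← Category.assoc, equalizer.lift_ι, ht']⟩
      rw [← Category.assoc, ht', ht g (Finset.mem_insert_self g s)]

theorem isClosedImmersion_of_fixed {S : Scheme.{u}} (X : Over S) [IsSeparated X.hom]
    {G : Type v} [Finite G] (r : G → (X ⟶ X)) (Z : Over S) (ι : Z ⟶ X)
    (hι : ∀ g : G, ι ≫ r g = ι)
    (hZ : ∀ (T : Over S) (t : T ⟶ X), (∀ g : G, t ≫ r g = t) ↔ ∃! t' : T ⟶ Z, t' ≫ ι = t) :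
    IsClosedImmersion ι.left := by
  classical
  haveI := Fintype.ofFinite G
  obtain ⟨E, e, he1, he2, he3⟩ := exists_fixed_closed X r Finset.univ
  haveI := he1
  haveI : Mono e.left := inferInstance
  haveI : Mono e := Over.mono_of_mono_left e
  obtain ⟨a, ha⟩ := he3 Z ι (fun g _ => hι g)
  obtain ⟨b, hb, -⟩ := (hZ E e).mp (fun g => he2 g (Finset.mem_univ g))
  have hba : b ≫ a = 𝟙 E := by
    rw [← cancel_mono e, Category.assoc, ha, hb, Category.id_comp]
  have hab : a ≫ b = 𝟙 Z := by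
    obtain ⟨c, -, hc⟩ := (hZ Z ι).mp hι
    rw [hc (a ≫ b) (by show (a ≫ b) ≫ ι = ι; rw [Category.assoc, hb, ha]),
      hc (𝟙 Z) (by show 𝟙 Z ≫ ι = ι; exact Category.id_comp _)]
  haveI : IsIso a := ⟨b, hab, hba⟩
  haveI : IsIso a.left := inferInstanceAs (IsIso ((Over.forget S).map a))
  rw [← ha, Over.comp_left]
  infer_instance

set_option maxHeartbeats 1600000 in
theorem smooth_fixed_aux {S X Z : Scheme.{u}} (f : X ⟶ S) [Smooth f] [IsSeparated f]
    (ι : Z ⟶ X) [IsClosedImmersion ι]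
    (G : Type v) [Group G] [Finite G] (r : G → (X ⟶ X))
    (hr1 : r 1 = 𝟙 X) (hrmul : ∀ g h, r (g * h) = r h ≫ r g)
    (hrf : ∀ g, r g ≫ f = f)
    (hG : IsUnit (Nat.card G : Γ(S, ⊤)))
    (hι : ∀ g, ι ≫ r g = ι)
    (hZ : ∀ (T : Scheme.{u}) (t : T ⟶ X), (∀ g, t ≫ r g = t) → ∃ t' : T ⟶ Z, t' ≫ ι = t) :
    Smooth (ι ≫ f) := by
  have hQ : RingHom.StableUnderCompositionWithLocalizationAwaySource RingHom.Smooth :=
    (RingHom.Smooth.stableUnderComposition.stableUnderCompositionWithLocalizationAway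
      RingHom.Smooth.holdsForLocalizationAway).left
  rw [HasRingHomProperty.iff_exists_appLE (P := @Smooth) hQ]
  intro z
  have hiso : ∀ g, IsIso (r g) := fun g =>
    ⟨r g⁻¹, by rw [← hrmul, inv_mul_cancel, hr1], by rw [← hrmul, mul_inv_cancel, hr1]⟩
  obtain ⟨V, hV, hzV, -⟩ := TopologicalSpace.Opens.isBasis_iff_nbhd.mp S.isBasis_affineOpens
    (TopologicalSpace.Opens.mem_top (f (ι z)))
  obtain ⟨U₀, hU₀, hzU₀, hU₀V⟩ := TopologicalSpace.Opens.isBasis_iff_nbhd.mp X.isBasis_affineOpens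
    (show ι z ∈ f ⁻¹ᵁ V from hzV)
  have hfix : ∀ g, (r g) (ι z) = ι z := fun g => by
    rw [← Scheme.Hom.comp_apply, hι]
  let F : G → X.Opens := fun g => (r g) ⁻¹ᵁ U₀
  have hFmem : ∀ g, F g ∈ {W : X.Opens | IsAffineOpen W ∧ W ≤ f ⁻¹ᵁ V} := fun g => by
    haveI := hiso g
    refine ⟨hU₀.preimage_of_isIso (r g), ?_⟩
    intro y hy
    have h1 : (r g) y ∈ f ⁻¹ᵁ V := hU₀V hy
    have h2 : f ((r g) y) ∈ V := h1
    rw [← Scheme.Hom.comp_apply, hrf] at h2
    exact h2
  have hdiag := isAffineHom_diagonal_iff.mp (inferInstance : IsAffineHom (pullback.diagonal f)) V hV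
  have hclosed : InfClosed {W : X.Opens | IsAffineOpen W ∧ W ≤ f ⁻¹ᵁ V} := by
    intro a ha b hb
    exact ⟨hdiag a ha.2 b hb.2 ha.1 hb.1, inf_le_left.trans ha.2⟩
  obtain ⟨hU, hUV⟩ := hclosed.iInf_mem_of_nonempty hFmem
  set U : X.Opens := ⨅ g, F g with hUdef
  have hmemU : ∀ y : X, y ∈ U ↔ ∀ g, (r g) y ∈ U₀ := by
    intro y
    rw [← SetLike.mem_coe, hUdef, TopologicalSpace.Opens.coe_iInf, Set.mem_iInter]
    exact Iff.rfl
  have hzU : ι z ∈ U := (hmemU _).mpr (fun g => by rw [hfix]; exact hzU₀)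
  have hst : ∀ g, U ≤ (r g) ⁻¹ᵁ U := by
    intro g y hy
    show (r g) y ∈ U
    rw [hmemU]
    intro h
    rw [← Scheme.Hom.comp_apply, ← hrmul]
    exact (hmemU y).mp hy (h * g)
  -- rings
  let αc := f.appLE V U hUV
  let σc : G → (Γ(X, U) ⟶ Γ(X, U)) := fun g => (r g).appLE U U (hst g)
  have hF1 : ∀ g, Spec.map (σc g) ≫ hU.fromSpec = hU.fromSpec ≫ r g := fun g =>
    hU.SpecMap_appLE_fromSpec (r g) hU (hst g)
  have hFα : Spec.map αc ≫ hV.fromSpec = hU.fromSpec ≫ f := hV.SpecMap_appLE_fromSpec f hU hUV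
  have cancelU : ∀ {A : CommRingCat.{u}} (a b : Γ(X, U) ⟶ A),
      Spec.map a ≫ hU.fromSpec = Spec.map b ≫ hU.fromSpec → a = b := by
    intro A a b h
    haveI : Mono hU.fromSpec := inferInstance
    exact Spec.map_injective ((cancel_mono hU.fromSpec).mp h)
  have hσ1 : σc 1 = 𝟙 _ := by
    apply cancelU
    rw [hF1, hr1, Category.comp_id, Spec.map_id, Category.id_comp]
  have hσmul : ∀ g h, σc (g * h) = σc g ≫ σc h := by
    intro g h
    apply cancelU
    calc Spec.map (σc (g * h)) ≫ hU.fromSpec = hU.fromSpec ≫ r h ≫ r g := by rw [hF1, hrmul]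
      _ = (Spec.map (σc h) ≫ hU.fromSpec) ≫ r g := by rw [hF1, Category.assoc]
      _ = Spec.map (σc h) ≫ (Spec.map (σc g) ≫ hU.fromSpec) := by rw [Category.assoc, hF1]
      _ = Spec.map (σc g ≫ σc h) ≫ hU.fromSpec := by rw [Spec.map_comp, Category.assoc]
  have hσα : ∀ g, αc ≫ σc g = αc := by
    intro g
    haveI : Mono hV.fromSpec := inferInstance
    apply Spec.map_injective
    rw [← cancel_mono hV.fromSpec]
    calc Spec.map (αc ≫ σc g) ≫ hV.fromSpec
        = Spec.map (σc g) ≫ (Spec.map αc ≫ hV.fromSpec) := by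
          rw [Spec.map_comp, Category.assoc]
      _ = (Spec.map (σc g) ≫ hU.fromSpec) ≫ f := by rw [hFα, Category.assoc]
      _ = hU.fromSpec ≫ f := by rw [hF1, Category.assoc, hrf]
      _ = Spec.map αc ≫ hV.fromSpec := hFα.symm
  let σ : G → (Γ(X, U) →+* Γ(X, U)) := fun g => (σc g).hom
  have hσ1' : ∀ a, σ 1 a = a := fun a => by
    show (σc 1).hom a = a
    rw [hσ1]; rfl
  have hσmul' : ∀ g h a, σ (g * h) a = σ h (σ g a) := fun g h a => by
    show (σc (g * h)).hom a = (σc h).hom ((σc g).hom a)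
    rw [hσmul]; rfl
  have hσα' : ∀ g b, σ g (αc.hom b) = αc.hom b := fun g b =>
    congrArg (fun m => m.hom b) (hσα g)
  letI : Algebra Γ(S, V) Γ(X, U) := αc.hom.toAlgebra
  letI act : MulSemiringAction G Γ(X, U) :=
    { smul := fun g a => σ g⁻¹ a
      one_smul := fun a => by show σ (1 : G)⁻¹ a = a; rw [inv_one]; exact hσ1' a
      mul_smul := fun g h a => by
        show σ (g * h)⁻¹ a = σ g⁻¹ (σ h⁻¹ a); rw [mul_inv_rev]; exact hσmul' _ _ a
      smul_zero := fun g => map_zero (σ g⁻¹)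
      smul_add := fun g a b => map_add (σ g⁻¹) a b
      smul_one := fun g => map_one (σ g⁻¹)
      smul_mul := fun g a b => map_mul (σ g⁻¹) a b }
  have hsmul : ∀ (g : G) (a : Γ(X, U)), g • a = σ g⁻¹ a := fun _ _ => rfl
  haveI : SMulCommClass G Γ(S, V) Γ(X, U) := ⟨fun g b a => by
    rw [hsmul, hsmul, Algebra.smul_def, Algebra.smul_def, map_mul]
    congr 1
    exact hσα' g⁻¹ b⟩
  have hsm : Algebra.Smooth Γ(S, V) Γ(X, U) := Smooth.smooth_appLE f hV hU hUV
  haveI : Algebra.FormallySmooth Γ(S, V) Γ(X, U) := hsm.formallySmooth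
  haveI : Algebra.FinitePresentation Γ(S, V) Γ(X, U) := hsm.finitePresentation
  have hGR : IsUnit ((Nat.card G : ℕ) : Γ(S, V)) := by
    have := hG.map (S.presheaf.map (homOfLE (le_top : V ≤ ⊤)).op).hom
    simpa using this
  have key := Groth.Agent.S16211.result Γ(S, V) Γ(X, U) G hGR
  set I : Ideal Γ(X, U) := Ideal.span {x | ∃ (g : G) (a : Γ(X, U)), x = g • a - a} with hI
  have hIfg : I.FG := by
    obtain ⟨t, ht⟩ := (Algebra.FiniteType.out : (⊤ : Subalgebra Γ(S, V) Γ(X, U)).FG)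
    let T : Set Γ(X, U) := ⋃ g : G, (fun a => g • a - a) '' (t : Set Γ(X, U))
    have hTfin : T.Finite := Set.finite_iUnion (fun g => (t.finite_toSet).image _)
    have hTI : Ideal.span T ≤ I := by
      rw [Ideal.span_le]
      intro x hx
      obtain ⟨g, hx⟩ := Set.mem_iUnion.mp hx
      obtain ⟨a, -, rfl⟩ := hx
      exact Ideal.subset_span ⟨g, a, rfl⟩
    have hIT : I ≤ Ideal.span T := by
      let B : Subalgebra Γ(S, V) Γ(X, U) :=
        { carrier := {a | ∀ g : G, g • a - a ∈ Ideal.span T}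
          mul_mem' := fun {a b} ha hb g => by
            have : g • (a * b) - a * b = g • a * (g • b - b) + (g • a - a) * b := by
              rw [smul_mul']; ring
            rw [this]
            exact add_mem (Ideal.mul_mem_left _ _ (hb g)) (Ideal.mul_mem_right _ _ (ha g))
          add_mem' := fun {a b} ha hb g => by
            have : g • (a + b) - (a + b) = (g • a - a) + (g • b - b) := by
              rw [smul_add]; ring
            rw [this]; exact add_mem (ha g) (hb g)
          algebraMap_mem' := fun b g => by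
            rw [smul_algebraMap, sub_self]; exact zero_mem _ }
      have hB : B = ⊤ := by
        rw [eq_top_iff, ← ht, Algebra.adjoin_le_iff]
        intro a ha g
        exact Ideal.subset_span (Set.mem_iUnion.mpr ⟨g, a, ha, rfl⟩)
      rw [hI, Ideal.span_le]
      rintro x ⟨g, a, rfl⟩
      have : a ∈ B := hB ▸ Algebra.mem_top
      exact this g
    have : I = Ideal.span T := le_antisymm hIT hTI
    rw [this]
    exact Submodule.fg_span hTfin
  haveI : Algebra.FinitePresentation Γ(S, V) (Γ(X, U) ⧸ I) :=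
    Algebra.FinitePresentation.quotient hIfg
  have hsmQ : Algebra.Smooth Γ(S, V) (Γ(X, U) ⧸ I) := ⟨key, inferInstance⟩
  -- the fixed locus over U
  let W : Z.Opens := ι ⁻¹ᵁ U
  have hW : IsAffineOpen W := hU.preimage ι
  let φc := ι.appLE U W le_rfl
  have hφsurj : Function.Surjective φc.hom := by
    have h0 := ι.app_surjective U hU
    rw [Scheme.Hom.app_eq_appLE] at h0
    exact h0
  have hF5 : Spec.map φc ≫ hU.fromSpec = hW.fromSpec ≫ ι :=
    hU.SpecMap_appLE_fromSpec ι hW le_rfl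
  have hσφ : ∀ g, σc g ≫ φc = φc := by
    intro g
    apply cancelU
    calc Spec.map (σc g ≫ φc) ≫ hU.fromSpec
        = Spec.map φc ≫ (Spec.map (σc g) ≫ hU.fromSpec) := by
          rw [Spec.map_comp, Category.assoc]
      _ = (Spec.map φc ≫ hU.fromSpec) ≫ r g := by rw [hF1, Category.assoc]
      _ = Spec.map φc ≫ hU.fromSpec := by rw [hF5, Category.assoc, hι]
  have hIker : ∀ a ∈ I, φc.hom a = 0 := by
    have : I ≤ RingHom.ker φc.hom := by
      rw [hI, Ideal.span_le]
      rintro x ⟨g, a, rfl⟩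
      rw [SetLike.mem_coe, RingHom.mem_ker, map_sub, sub_eq_zero, hsmul]
      exact congrArg (fun m => m.hom a) (hσφ g⁻¹)
    intro a ha
    exact RingHom.mem_ker.mp (this ha)
  let qc : Γ(X, U) ⟶ CommRingCat.of (Γ(X, U) ⧸ I) := CommRingCat.ofHom (Ideal.Quotient.mk I)
  have hσq : ∀ g, σc g ≫ qc = qc := by
    intro g
    ext a
    show Ideal.Quotient.mk I (σ g a) = Ideal.Quotient.mk I a
    rw [Ideal.Quotient.eq, hI]
    refine Ideal.subset_span ⟨g⁻¹, a, ?_⟩
    rw [hsmul, inv_inv]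
  let j : Spec (CommRingCat.of (Γ(X, U) ⧸ I)) ⟶ X := Spec.map qc ≫ hU.fromSpec
  have hjfix : ∀ g, j ≫ r g = j := by
    intro g
    show (Spec.map qc ≫ hU.fromSpec) ≫ r g = Spec.map qc ≫ hU.fromSpec
    rw [Category.assoc, ← hF1, ← Category.assoc, ← Spec.map_comp, hσq]
  obtain ⟨t', ht'⟩ := hZ _ j hjfix
  have hrange : Set.range t' ⊆ Set.range hW.fromSpec := by
    rw [hW.range_fromSpec]
    rintro _ ⟨p, rfl⟩
    show ι (t' p) ∈ U
    rw [← Scheme.Hom.comp_apply, ht']
    have h3 : j p ∈ Set.range hU.fromSpec := ⟨(Spec.map qc) p, by rw [← Scheme.Hom.comp_apply]⟩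
    rw [hU.range_fromSpec] at h3
    exact h3
  let l := IsOpenImmersion.lift hW.fromSpec t' hrange
  have hl : l ≫ hW.fromSpec = t' := IsOpenImmersion.lift_fac _ _ _
  let ψc := Spec.preimage l
  have hψ : φc ≫ ψc = qc := by
    apply cancelU
    calc Spec.map (φc ≫ ψc) ≫ hU.fromSpec
        = Spec.map ψc ≫ (Spec.map φc ≫ hU.fromSpec) := by
          rw [Spec.map_comp, Category.assoc]
      _ = (l ≫ hW.fromSpec) ≫ ι := by rw [hF5, Spec.map_preimage, Category.assoc]
      _ = Spec.map qc ≫ hU.fromSpec := by rw [hl, ht']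
  have hkerI : ∀ a, φc.hom a = 0 → a ∈ I := by
    intro a ha
    have h := congrArg (fun m => m.hom a) hψ
    have h2 : ψc.hom (φc.hom a) = Ideal.Quotient.mk I a := h
    rw [ha, map_zero] at h2
    exact Ideal.Quotient.eq_zero_iff_mem.mp h2.symm
  refine ⟨⟨V, hV⟩, ⟨W, hW⟩, hzU, fun y hy => hUV hy, ?_⟩
  rw [← Scheme.Hom.appLE_comp_appLE ι f V U W hUV le_rfl]
  let ψ' : (Γ(X, U) ⧸ I) →+* Γ(Z, W) := Ideal.Quotient.lift I φc.hom hIker
  have hψ'bij : Function.Bijective ψ' := by
    constructor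
    · rw [injective_iff_map_eq_zero]
      intro x hx
      obtain ⟨a, rfl⟩ := Ideal.Quotient.mk_surjective x
      rw [Ideal.Quotient.lift_mk] at hx
      exact Ideal.Quotient.eq_zero_iff_mem.mpr (hkerI a hx)
    · exact Ideal.Quotient.lift_surjective_of_surjective I hIker hφsurj
  have heq : φc.hom.comp αc.hom = ψ'.comp (algebraMap Γ(S, V) (Γ(X, U) ⧸ I)) := by
    ext b
    rfl
  rw [CommRingCat.hom_comp, heq]
  exact (RingHom.smooth_algebraMap.mpr hsmQ).comp (RingHom.Smooth.of_bijective hψ'bij)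

end Groth.Agent.Lib.Helper19.FixSm
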