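import Mathlib
import Groth.Agent.Lib.Helper28.ComodHom
import Groth.Prelude.Def_ComodSub

/-!
# Flags of subcomodules over a trigonalizable group (helper19)

* `exists_minimal_subcomod`: a nonzero finite-dimensional comodule has a minimal nonzero
  subcomodule.
* `isSimpleComod_restr`: such a minimal subcomodule is simple for the restricted structure.
* `finrank_comap_mkQ`.
* `exists_flag`: over a trigonalizable coalgebra every finite-dimensional comodule has a full flag of
  subcomodules.
-/

set_option autoImplicit false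
universe u v w

open TensorProduct

namespace Groth.Agent.Lib.Helper19.Flag

open Groth.Agent.Lib.Helper28.ComodHom

section

variable {k : Type u} [Field k] {A : Type v} [AddCommGroup A] [Module k A] [Coalgebra k A]

theorem exists_minimal_subcomod {V : Type w} [AddCommGroup V] [Module k V]
    [c : HopfRep.Comod k A V] [Module.Finite k V] [Nontrivial V] :
    ∃ L : Submodule k V, HopfRep.IsSubcomod (k := k) (A := A) L ∧ L ≠ ⊥ ∧
      ∀ W : Submodule k V, HopfRep.IsSubcomod (k := k) (A := A) W → W ≤ L → W = ⊥ ∨ W = L := by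
  let S : Set (Submodule k V) := {W | HopfRep.IsSubcomod (k := k) (A := A) W ∧ W ≠ ⊥}
  have hS : S.Nonempty := ⟨⊤, isSubcomod_top, top_ne_bot⟩
  obtain ⟨L, hL, hmin⟩ := WellFounded.has_min (wellFounded_lt (α := Submodule k V)) S hS
  refine ⟨L, hL.1, hL.2, fun W hW hWL => ?_⟩
  by_cases h0 : W = ⊥
  · exact Or.inl h0
  · right
    by_contra hne
    exact hmin W ⟨hW, h0⟩ (lt_of_le_of_ne hWL hne)

theorem isSimpleComod_restr {V : Type w} [AddCommGroup V] [Module k V]
    (c : HopfRep.Comod k A V) (L : Submodule k V)
    (hL : @HopfRep.IsSubcomod k A _ _ _ _ V _ _ c L) (hL0 : L ≠ ⊥)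
    (hLmin : ∀ W : Submodule k V, @HopfRep.IsSubcomod k A _ _ _ _ V _ _ c W → W ≤ L →
      W = ⊥ ∨ W = L) :
    @HopfRep.IsSimpleComod k A _ _ _ _ L _ _ (ComodSub.Comod.restr c L hL) := by
  letI cL : HopfRep.Comod k A L := ComodSub.Comod.restr c L hL
  have hsub : Hoch.IsComodHom A L.subtype := ComodSub.isComodHom_subtype c L hL
  refine ⟨Submodule.nontrivial_iff_ne_bot.2 hL0, fun W hW => ?_⟩
  have h1 := isSubcomod_map L.subtype hsub W hW
  rcases hLmin (W.map L.subtype) h1 (Submodule.map_subtype_le L W) with h | h
  · left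
    rw [eq_bot_iff]
    intro w hw
    have h2 : L.subtype w ∈ W.map L.subtype := Submodule.mem_map_of_mem hw
    rw [h, Submodule.mem_bot] at h2
    exact (Submodule.mem_bot k).2 (Subtype.ext h2)
  · right
    rw [eq_top_iff]
    intro w _
    have h2 : (w : V) ∈ W.map L.subtype := by
      rw [h]
      exact w.2
    obtain ⟨w', hw', e⟩ := h2
    have h3 : w' = w := Subtype.ext e
    rw [← h3]
    exact hw'

omit [Coalgebra k A] in
lemma finrank_comap_mkQ {V : Type w} [AddCommGroup V] [Module k V] [Module.Finite k V]
    (L : Submodule k V) (U : Submodule k (V ⧸ L)) :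
    Module.finrank k (U.comap L.mkQ) = Module.finrank k U + Module.finrank k L := by
  obtain ⟨P, hP⟩ : ∃ P : Submodule k V, P = U.comap L.mkQ := ⟨_, rfl⟩
  rw [← hP]
  have hLP : L ≤ P := by
    intro x hx
    rw [hP, Submodule.mem_comap, Submodule.mkQ_apply, (Submodule.Quotient.mk_eq_zero L).2 hx]
    exact U.zero_mem
  have hrange : LinearMap.range (L.mkQ.comp P.subtype) = U := by
    rw [LinearMap.range_comp, Submodule.range_subtype, hP,
      Submodule.map_comap_eq_of_surjective L.mkQ_surjective]
  have hker : LinearMap.ker (L.mkQ.comp P.subtype) = L.comap P.subtype := by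
    rw [LinearMap.ker_comp, Submodule.ker_mkQ]
  have h1 := LinearMap.finrank_range_add_finrank_ker (L.mkQ.comp P.subtype)
  rw [hrange, hker, LinearEquiv.finrank_eq (Submodule.comapSubtypeEquivOfLe hLP)] at h1
  exact h1.symm

end

section

variable {k : Type u} [Field k] {A : Type v} [CommRing A] [Bialgebra k A]

theorem exists_flag (hT : HopfRep.IsTrigonalizable k A) :
    ∀ (n : ℕ) (V : Type v) [AddCommGroup V] [Module k V] [c : HopfRep.Comod k A V]
      [Module.Finite k V], Module.finrank k V = n →
      ∃ F : ℕ → Submodule k V, Monotone F ∧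
        (∀ i, HopfRep.IsSubcomod (k := k) (A := A) (F i)) ∧
        ∀ i, i ≤ n → Module.finrank k (F i) = i := by
  intro n
  induction n with
  | zero =>
    intro V _ _ c _ hn
    refine ⟨fun _ => ⊥, monotone_const, fun _ => isSubcomod_bot, fun i hi => ?_⟩
    have h0 : i = 0 := by omega
    subst h0
    exact finrank_bot k V
  | succ n ih =>
    intro V _ _ c _ hn
    have hnt : Nontrivial V := Module.nontrivial_of_finrank_pos (R := k) (by omega)
    obtain ⟨L, hL, hL0, hLmin⟩ := exists_minimal_subcomod (k := k) (A := A) (V := V)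
    have hL1 : Module.finrank k L = 1 :=
      @hT L _ _ (ComodSub.Comod.restr c L hL) inferInstance (isSimpleComod_restr c L hL hL0 hLmin)
    letI cq : HopfRep.Comod k A (V ⧸ L) := ComodSub.Comod.quot c L hL
    have hmk : Hoch.IsComodHom A L.mkQ := ComodSub.isComodHom_mkQ c L hL
    have hrank : Module.finrank k (V ⧸ L) = n := by
      have h1 := Submodule.finrank_quotient_add_finrank L
      omega
    obtain ⟨F', hmono, hsubc, hdim⟩ := ih (V ⧸ L) hrank
    refine ⟨fun i => Nat.casesOn i ⊥ (fun j => (F' j).comap L.mkQ), ?_, ?_, ?_⟩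
    · apply monotone_nat_of_le_succ
      intro i
      cases i with
      | zero => exact bot_le
      | succ j => exact Submodule.comap_mono (hmono (Nat.le_succ j))
    · intro i
      cases i with
      | zero => exact isSubcomod_bot
      | succ j => exact isSubcomod_comap L.mkQ hmk (F' j) (hsubc j)
    · intro i hi
      cases i with
      | zero => exact finrank_bot k V
      | succ j =>
        show Module.finrank k ((F' j).comap L.mkQ) = j + 1
        rw [finrank_comap_mkQ, hdim j (by omega), hL1]

end

end Groth.Agent.Lib.Helper19.Flag
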