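import Mathlib
import Groth.Prelude.Def_SGA3b
import Groth.Agent.Lib.Helper19.FlatDef3
import Groth.Agent.S2969

/-!
# Flat groups over Artinian local rings with closed fibre of multiplicative type (helper19)
-/

set_option autoImplicit false
universe u
open TensorProduct

namespace Groth.Agent.Lib.Helper19.FlatDef

open Groth.Agent.Lib.Helper19.EtLift Groth.Agent.Lib.Helper19.KerMT

theorem finite_of_nil_ker {L L₀ T T₀ : Type u} [CommRing L] [CommRing L₀] [CommRing T]
    [CommRing T₀] [Algebra L L₀] [Algebra L T] [Algebra L T₀] [Algebra L₀ T₀]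
    [IsScalarTower L L₀ T₀]
    (hsurj : Function.Surjective (algebraMap L L₀)) [Algebra.FiniteType L T]
    (φ : T →ₐ[L] T₀) (hker : ∀ x ∈ RingHom.ker φ, IsNilpotent x) [Module.Finite L₀ T₀] :
    Module.Finite L T := by
  haveI : Module.Finite L L₀ := Module.Finite.of_surjective (Algebra.linearMap L L₀) hsurj
  haveI : Module.Finite L T₀ := Module.Finite.trans L₀ T₀
  haveI : Algebra.IsIntegral L T := by
    refine ⟨fun t => ?_⟩
    obtain ⟨p, hp, hp0⟩ := Algebra.IsIntegral.isIntegral (R := L) (φ t)
    have h1 : Polynomial.aeval t p ∈ RingHom.ker φ := by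
      rw [RingHom.mem_ker, ← Polynomial.aeval_algHom_apply, Polynomial.aeval_def]
      exact hp0
    obtain ⟨n, hn⟩ := hker _ h1
    refine ⟨p ^ n, hp.pow n, ?_⟩
    rw [← Polynomial.aeval_def, map_pow, hn]
  exact Algebra.IsIntegral.finite

theorem isMultType_isIsotrivial_of_artinian (A : Type u) [CommRing A] [IsArtinianRing A]
    [IsLocalRing A] (C : Type u) [CommRing C] [HopfAlgebra A C] [Module.Flat A C]
    (hft : Algebra.FiniteType A C)
    (h0 : SGA3b.IsMultType (IsLocalRing.ResidueField A) (IsLocalRing.ResidueField A ⊗[A] C)) :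
    SGA3b.IsMultType A C ∧ SGA3b.IsIsotrivial A C := by
  haveI := hft
  have hftk : Algebra.FiniteType (IsLocalRing.ResidueField A)
      (IsLocalRing.ResidueField A ⊗[A] C) := inferInstance
  obtain ⟨k', _, _, hfin, hsep, hdft⟩ := Groth.Agent.S2969.result (IsLocalRing.ResidueField A)
    (IsLocalRing.ResidueField A ⊗[A] C) hftk h0
  have hdiag : SGA3b.IsDiag k'
      (k' ⊗[IsLocalRing.ResidueField A] (IsLocalRing.ResidueField A ⊗[A] C)) := by
    obtain ⟨M, _, -, ⟨e⟩⟩ := hdft
    exact ⟨M, inferInstance, ⟨e⟩⟩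
  haveI := hfin
  haveI := hsep
  haveI : Algebra.FormallyEtale (IsLocalRing.ResidueField A) k' :=
    Algebra.FormallyEtale.of_isSeparable _ _
  haveI : Algebra.FinitePresentation (IsLocalRing.ResidueField A) k' :=
    Algebra.FinitePresentation.of_finiteType.1 inferInstance
  haveI het : Algebra.Etale (IsLocalRing.ResidueField A) k' := {}
  haveI hff : Module.FaithfullyFlat (IsLocalRing.ResidueField A) k' := inferInstance
  letI : Algebra A k' := ((algebraMap (IsLocalRing.ResidueField A) k').comp
    (algebraMap A (IsLocalRing.ResidueField A))).toAlgebra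
  haveI : IsScalarTower A (IsLocalRing.ResidueField A) k' :=
    IsScalarTower.of_algebraMap_eq (fun _ => rfl)
  have hd1 : SGA3b.IsDiag k' (k' ⊗[A] C) :=
    (isDiag_cancel_iff (IsLocalRing.ResidueField A) k').1 hdiag
  have hsurj : Function.Surjective (algebraMap A (IsLocalRing.ResidueField A)) :=
    IsLocalRing.residue_surjective
  have hnilp : IsNilpotent (RingHom.ker (algebraMap A (IsLocalRing.ResidueField A))) := by
    have h1 : RingHom.ker (algebraMap A (IsLocalRing.ResidueField A)) =
        IsLocalRing.maximalIdeal A := IsLocalRing.ker_residue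
    rw [h1, ← IsLocalRing.jacobson_eq_maximalIdeal (⊥ : Ideal A) bot_ne_top]
    exact IsArtinianRing.isNilpotent_jacobson_bot
  obtain ⟨T, _, _, φ, hTet, hφs, hφn, hTff⟩ := exists_etale_lift_nilp hsurj hnilp k'
  haveI := hTet
  haveI : Algebra.FiniteType A T := inferInstance
  have hTfin : Module.Finite A T := finite_of_nil_ker hsurj φ (isNilpotent_of_mem hφn)
  have hTdiag : SGA3b.IsDiag T (T ⊗[A] C) := isDiag_of_surjective_nilp_flat φ hφs hφn hd1
  have hTff' := hTff hff
  refine ⟨?_, ⟨T, inferInstance, inferInstance, hTet, hTfin, hTff', hTdiag⟩⟩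
  haveI := hTff'
  have hconst : SGA3b.IsMultTypeConst (Localization.Away (1 : A))
      (Localization.Away (1 : A) ⊗[A] C) := by
    apply isMultTypeConst_away (1 : A) T
    · rw [map_one]
      exact isUnit_one
    · intro q hq _
      obtain ⟨Q, hQ⟩ := PrimeSpectrum.comap_surjective_of_faithfullyFlat
        (A := A) (B := T) ⟨q, hq⟩
      exact ⟨Q.asIdeal, Q.isPrime, congrArg PrimeSpectrum.asIdeal hQ⟩
    · exact hTdiag
  refine ⟨{1}, ?_, ?_⟩
  · rw [Ideal.span_singleton_one]
  · intro f hf
    rw [Set.mem_singleton_iff] at hf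
    subst hf
    exact hconst

end Groth.Agent.Lib.Helper19.FlatDef
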