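import Mathlib
import Groth.Prelude.Def_AlgGrp
import Groth.Prelude.Def_NonAbH2
import Groth.Agent.Lib.Helper6.CartierReduced

/-!
# Torsors under a finite connected group scheme over a field become trivial after a power of
Frobenius
-/

set_option autoImplicit false
universe u
open CategoryTheory CategoryTheory.Limits MonoidalCategory CartesianMonoidalCategory MonObj
  AlgebraicGeometry
open scoped TensorProduct

namespace Groth.Agent.Lib.Helper19.FrobTors

/-- Over a field `K`, the equalizer of the two maps `B ⇉ B ⊗[K] B` is `K`. -/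
theorem mem_range_of_tmul_eq (K : Type u) [Field K] (B : Type u) [CommRing B] [Algebra K B]
    (β : B) (h : β ⊗ₜ[K] (1 : B) = (1 : B) ⊗ₜ[K] β) : β ∈ (algebraMap K B).range := by
  by_contra hβ
  have hβ' : β ∉ Submodule.span K {(1 : B)} := by
    intro hmem
    obtain ⟨c, rfl⟩ := Submodule.mem_span_singleton.mp hmem
    exact hβ ⟨c, by rw [Algebra.algebraMap_eq_smul_one]⟩
  obtain ⟨f, hf1, hf2⟩ := Submodule.exists_dual_map_eq_bot_of_notMem hβ' inferInstance
  have hf0 : f 1 = 0 := by
    have h1 : f 1 ∈ (Submodule.span K {(1 : B)}).map f :=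
      Submodule.mem_map_of_mem (Submodule.mem_span_singleton_self _)
    rw [hf2] at h1
    simpa using h1
  have h2 := congrArg (fun t => TensorProduct.lid K B (LinearMap.rTensor B f t)) h
  simp only [LinearMap.rTensor_tmul, TensorProduct.lid_tmul, hf0, zero_smul] at h2
  have h1 : (1 : B) = 0 := by
    have h3 := congrArg (fun t => (f β)⁻¹ • t) h2
    simpa [smul_smul, inv_mul_cancel₀ hf1] using h3
  haveI : Subsingleton B := subsingleton_of_zero_eq_one h1.symm
  exact hβ ⟨0, Subsingleton.elim _ _⟩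

/-- The structure of a finite connected group scheme over a field: some power of Frobenius kills
the augmentation ideal. -/
theorem exists_frob_pow_eq (K : Type u) [Field K] (p : ℕ) [hK : ExpChar K p]
    (G : Over (Spec (CommRingCat.of K))) [GrpObj G] [IsFinite G.hom] [ConnectedSpace G.left]
    (u : Spec (CommRingCat.of K) ⟶ G.left) (hu : u ≫ G.hom = 𝟙 _) :
    ∃ n : ℕ, ∀ a : Γ(G.left, ⊤),
      a ^ p ^ n = (G.hom.appTop.hom (u.appTop.hom a)) ^ p ^ n := by
  classical
  obtain ⟨haff, hfin⟩ := (HasAffineProperty.iff_of_isAffine (P := @IsFinite)).mp ‹IsFinite G.hom›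
  haveI : IsAffine G.left := haff
  let e' : Γ(Spec (CommRingCat.of K), ⊤) ≃+* K :=
    (Scheme.ΓSpecIso (CommRingCat.of K)).commRingCatIsoToRingEquiv
  let σ : Γ(Spec (CommRingCat.of K), ⊤) →+* Γ(G.left, ⊤) := G.hom.appTop.hom
  let π : Γ(G.left, ⊤) →+* Γ(Spec (CommRingCat.of K), ⊤) := u.appTop.hom
  have hπσ : ∀ x, π (σ x) = x := by
    intro x
    have h1 : G.hom.appTop ≫ u.appTop = 𝟙 _ := by
      rw [← Scheme.Hom.comp_appTop, hu, Scheme.Hom.id_appTop]
    have h2 := congrArg (fun f => f.hom x) h1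
    simpa using h2
  let σ' : K →+* Γ(G.left, ⊤) := σ.comp e'.symm.toRingHom
  let π' : Γ(G.left, ⊤) →+* K := e'.toRingHom.comp π
  have hπσ' : ∀ c, π' (σ' c) = c := by
    intro c
    simp [σ', π', hπσ]
  have hσπ : ∀ a, σ' (π' a) = σ (π a) := by
    intro a
    simp [σ', π']
  letI : Algebra K Γ(G.left, ⊤) := σ'.toAlgebra
  haveI : Module.Finite K Γ(G.left, ⊤) := by
    have h1 : σ'.Finite :=
      RingHom.Finite.comp hfin (RingHom.Finite.of_surjective _ e'.symm.surjective)
    exact h1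
  haveI : IsArtinianRing Γ(G.left, ⊤) := IsArtinianRing.of_finite K Γ(G.left, ⊤)
  haveI : Nontrivial Γ(G.left, ⊤) := π'.domain_nontrivial
  have hinj : Function.Injective σ' := σ'.injective
  haveI hA : ExpChar Γ(G.left, ⊤) p := expChar_of_injective_ringHom hinj p
  haveI : ConnectedSpace (PrimeSpectrum Γ(G.left, ⊤)) := by
    have hs : Function.Surjective (Scheme.homeoOfIso G.left.isoSpec) :=
      (Scheme.homeoOfIso G.left.isoSpec).surjective
    exact hs.connectedSpace (Scheme.homeoOfIso G.left.isoSpec).continuous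
  haveI : Subsingleton (PrimeSpectrum Γ(G.left, ⊤)) := PreconnectedSpace.trivial_of_discrete
  have hnil : ∀ x ∈ RingHom.ker π', IsNilpotent x := by
    intro x hx
    rw [nilpotent_iff_mem_prime]
    intro J hJ
    have h1 : (⟨J, hJ⟩ : PrimeSpectrum Γ(G.left, ⊤)) =
        ⟨RingHom.ker π', RingHom.ker_isPrime π'⟩ := Subsingleton.elim _ _
    have hJ' : J = RingHom.ker π' := congrArg PrimeSpectrum.asIdeal h1
    rw [hJ']
    exact hx
  have hN : ∃ n : ℕ, ∀ x ∈ RingHom.ker π', x ^ p ^ n = 0 := by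
    rcases hK with _ | hp
    · refine ⟨0, fun x hx => ?_⟩
      haveI : LocallyOfFiniteType G.hom := inferInstance
      haveI : GrpObj (Over.mk G.hom) := inferInstanceAs (GrpObj G)
      haveI : IsReduced G.left :=
        Groth.Agent.Lib.Helper6.CartierReduced.isReduced_of_charZero G.hom
      haveI : _root_.IsReduced Γ(G.left, ⊤) := inferInstance
      simpa using (hnil x hx).eq_zero
    · obtain ⟨N, hN⟩ := IsNoetherianRing.isNilpotent_nilradical Γ(G.left, ⊤)
      refine ⟨N, fun x hx => ?_⟩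
      have hx' : x ∈ nilradical Γ(G.left, ⊤) := mem_nilradical.mpr (hnil x hx)
      have h1 : x ^ N ∈ (nilradical Γ(G.left, ⊤)) ^ N := Ideal.pow_mem_pow hx' N
      rw [hN] at h1
      have h2 : x ^ N = 0 := by simpa using h1
      exact pow_eq_zero_of_le (Nat.lt_pow_self hp.one_lt).le h2
  obtain ⟨n, hn⟩ := hN
  refine ⟨n, fun a => ?_⟩
  have hmem : a - σ' (π' a) ∈ RingHom.ker π' := by
    rw [RingHom.mem_ker, map_sub, hπσ', sub_self]
  have h1 := hn _ hmem
  rw [sub_pow_expChar_pow, sub_eq_zero] at h1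
  rw [h1, hσπ]


/-- The core: given the Frobenius exponent `n` of `G` and a nonempty affine open `Spec B` of a
pseudo-torsor `X`, the `p^n`-th power map of `B` factors through `K`, which gives the section. -/
theorem hasSectionOver_of_mono (K : Type u) [Field K] (p : ℕ) [ExpChar K p]
    (G : Over (Spec (CommRingCat.of K))) [GrpObj G] [IsAffine G.left] (n : ℕ)
    (hn : ∀ a : Γ(G.left, ⊤),
      a ^ p ^ n = (G.hom.appTop.hom ((η[G]).left.appTop.hom a)) ^ p ^ n)
    (X : Over (Spec (CommRingCat.of K))) (a : AlgGrp.Action G X)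
    (hpt : NonAbH1.IsPseudoTorsorSch a)
    (B : CommRingCat.{u}) [Nontrivial B] (j : Spec B ⟶ X.left) [Mono j] :
    NonAbH1.HasSectionOver X (Spec.map (CommRingCat.ofHom (iterateFrobenius K p n))) := by
  classical
  let algHom : CommRingCat.of K ⟶ B := Spec.preimage (j ≫ X.hom)
  have halg : Spec.map algHom = j ≫ X.hom := Spec.map_preimage _
  letI : Algebra K B := algHom.hom.toAlgebra
  have hinjB : Function.Injective (algebraMap K B) := (algebraMap K B).injective
  haveI : ExpChar B p := expChar_of_injective_ringHom hinjB p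
  let i₁ : B ⟶ CommRingCat.of (B ⊗[K] B) :=
    CommRingCat.ofHom (Algebra.TensorProduct.includeLeft (R := K) (S := K) (A := B) (B := B)).toRingHom
  let i₂ : B ⟶ CommRingCat.of (B ⊗[K] B) :=
    CommRingCat.ofHom (Algebra.TensorProduct.includeRight (R := K) (A := B) (B := B)).toRingHom
  have hi : algHom ≫ i₁ = algHom ≫ i₂ := by
    apply CommRingCat.hom_ext
    apply RingHom.ext
    intro c
    show (algebraMap K B c) ⊗ₜ[K] (1 : B) = (1 : B) ⊗ₜ[K] (algebraMap K B c)
    rw [Algebra.algebraMap_eq_smul_one, TensorProduct.smul_tmul]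
  have hT : (Spec.map i₂ ≫ j) ≫ X.hom = (Spec.map i₁ ≫ j) ≫ X.hom := by
    rw [Category.assoc, Category.assoc, ← halg, ← Spec.map_comp, ← Spec.map_comp, hi]
  let T : Over (Spec (CommRingCat.of K)) := Over.mk ((Spec.map i₁ ≫ j) ≫ X.hom)
  let x₁ : T ⟶ X := Over.homMk (Spec.map i₁ ≫ j) rfl
  let x₂ : T ⟶ X := Over.homMk (Spec.map i₂ ≫ j) hT
  haveI : IsIso (lift a.act (snd G X)) := hpt
  let w : T ⟶ G ⊗ X := lift x₁ x₂ ≫ inv (lift a.act (snd G X))
  have hw : w ≫ lift a.act (snd G X) = lift x₁ x₂ := by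
    show (lift x₁ x₂ ≫ inv (lift a.act (snd G X))) ≫ lift a.act (snd G X) = lift x₁ x₂
    rw [Category.assoc, IsIso.inv_hom_id, Category.comp_id]
  have hw1 : w ≫ a.act = x₁ := by
    have h1 := congrArg (fun t => t ≫ fst X X) hw
    simpa using h1
  have hw2 : w ≫ snd G X = x₂ := by
    have h1 := congrArg (fun t => t ≫ snd X X) hw
    simpa using h1
  let g : T ⟶ G := w ≫ fst G X
  have hwg : w = lift g x₂ := by
    apply CartesianMonoidalCategory.hom_ext
    · simp [g]
    · simp [hw2]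
  have hact : lift g x₂ ≫ a.act = x₁ := by
    rw [← hwg]
    exact hw1
  -- Frobenius
  haveI : Nontrivial (B ⊗[K] B) :=
    (Algebra.TensorProduct.lmul' K (S := B)).toRingHom.domain_nontrivial
  have hinjR : Function.Injective (algebraMap K (B ⊗[K] B)) := (algebraMap K (B ⊗[K] B)).injective
  haveI : ExpChar (B ⊗[K] B) p := expChar_of_injective_ringHom hinjR p
  let F : CommRingCat.of (B ⊗[K] B) ⟶ CommRingCat.of (B ⊗[K] B) :=
    CommRingCat.ofHom (iterateFrobenius (B ⊗[K] B) p n)
  let T' : Over (Spec (CommRingCat.of K)) := Over.mk (Spec.map F ≫ T.hom)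
  let Ft : T' ⟶ T := Over.homMk (Spec.map F) rfl
  have hF : ∀ r : Γ(Spec (CommRingCat.of (B ⊗[K] B)), ⊤),
      (Spec.map F).appTop.hom r = r ^ p ^ n := by
    intro r
    have h1 := Scheme.ΓSpecIso_naturality F
    have h2 := congrArg (fun f => f.hom r) h1
    have h3 : (Scheme.ΓSpecIso (CommRingCat.of (B ⊗[K] B))).hom.hom ((Spec.map F).appTop.hom r) =
        (Scheme.ΓSpecIso (CommRingCat.of (B ⊗[K] B))).hom.hom (r ^ p ^ n) := by
      rw [map_pow]
      exact h2
    exact (Scheme.ΓSpecIso (CommRingCat.of (B ⊗[K] B))).commRingCatIsoToRingEquiv.injective h3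
  have hkey : Ft ≫ g = toUnit T' ≫ η[G] := by
    apply Over.OverMorphism.ext
    apply ext_of_isAffine
    have e1 : (Ft ≫ g).left = Spec.map F ≫ g.left := rfl
    have e2 : (toUnit T' ≫ η[G]).left = (Spec.map F ≫ g.left ≫ G.hom) ≫ (η[G]).left := by
      rw [Over.comp_left, Over.toUnit_left]
      show (Spec.map F ≫ T.hom) ≫ _ = _
      rw [← Over.w g]
    rw [e1, e2]
    simp only [Scheme.Hom.comp_appTop]
    apply CommRingCat.hom_ext
    apply RingHom.ext
    intro a'
    simp only [CommRingCat.hom_comp, RingHom.comp_apply]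
    rw [hF, hF, ← map_pow, ← map_pow, hn a']
  have h12 : Ft ≫ x₁ = Ft ≫ x₂ := by
    rw [← hact, ← Category.assoc, comp_lift, hkey,
      ← lift_whiskerRight (toUnit T') (Ft ≫ x₂) η[G], Category.assoc, a.one_act, leftUnitor_hom,
      lift_snd]
  have h12' : Spec.map F ≫ Spec.map i₁ ≫ j = Spec.map F ≫ Spec.map i₂ ≫ j :=
    congrArg (fun t => t.left) h12
  have h13 : i₁ ≫ F = i₂ ≫ F := by
    apply Spec.map_injective
    rw [Spec.map_comp, Spec.map_comp, ← cancel_mono j]
    simpa [Category.assoc] using h12'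
  have hb : ∀ b : B, (b ^ p ^ n) ⊗ₜ[K] (1 : B) = (1 : B) ⊗ₜ[K] (b ^ p ^ n) := by
    intro b
    have h1 := congrArg (fun f => f.hom b) h13
    have h2 : (b ⊗ₜ[K] (1 : B)) ^ p ^ n = ((1 : B) ⊗ₜ[K] b) ^ p ^ n := by
      simpa [F, i₁, i₂, iterateFrobenius_def] using h1
    simpa [Algebra.TensorProduct.tmul_pow] using h2
  have hrange : ∀ b : B, ∃ c : K, algebraMap K B c = b ^ p ^ n := fun b =>
    mem_range_of_tmul_eq K B _ (hb b)
  choose ψf hψ using hrange
  have hpn : p ^ n ≠ 0 := pow_ne_zero n (expChar_pos K p).ne'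
  let ψ : B →+* K :=
    { toFun := ψf
      map_one' := hinjB (by rw [hψ, one_pow, map_one])
      map_mul' := fun x y => hinjB (by rw [hψ, map_mul, hψ, hψ, mul_pow])
      map_zero' := hinjB (by rw [hψ, map_zero, zero_pow hpn])
      map_add' := fun x y => hinjB (by rw [hψ, map_add, hψ, hψ, add_pow_expChar_pow]) }
  have hψalg : ψ.comp (algebraMap K B) = iterateFrobenius K p n := by
    apply RingHom.ext
    intro c
    apply hinjB
    show algebraMap K B (ψf (algebraMap K B c)) = algebraMap K B (iterateFrobenius K p n c)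
    rw [hψ, iterateFrobenius_def, map_pow]
  refine ⟨Spec.map (CommRingCat.ofHom ψ) ≫ j, ?_⟩
  rw [Category.assoc, ← halg, ← Spec.map_comp]
  congr 1
  apply CommRingCat.hom_ext
  rw [CommRingCat.hom_comp, CommRingCat.hom_ofHom, CommRingCat.hom_ofHom]
  exact hψalg

/-- Torsors under a finite connected group scheme over a field of exponential characteristic `p`
are trivialised by a uniform power of Frobenius. -/
theorem main (K : Type u) [Field K] (p : ℕ) [ExpChar K p]
    (G : Over (Spec (CommRingCat.of K))) [GrpObj G] [IsFinite G.hom] [ConnectedSpace G.left] :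
    ∃ n : ℕ, ∀ (X : Over (Spec (CommRingCat.of K))) (a : AlgGrp.Action G X),
      NonAbH1.IsTorsorFor Scheme.fppfPrecoverage a →
      NonAbH1.HasSectionOver X (Spec.map (CommRingCat.ofHom (iterateFrobenius K p n))) := by
  classical
  have hu : (η[G]).left ≫ G.hom = 𝟙 (Spec (CommRingCat.of K)) := Over.w η[G]
  obtain ⟨n, hn⟩ := exists_frob_pow_eq K p G (η[G]).left hu
  refine ⟨n, ?_⟩
  rintro X a ⟨hpt, R, hR, hsec⟩
  haveI : IsAffine G.left := isAffine_of_isAffineHom G.hom
  obtain ⟨x₀⟩ : Nonempty X.left := by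
    obtain ⟨h1, h2⟩ := hR
    rw [Precoverage.mem_comap_iff] at h1
    rw [Types.mem_jointlySurjectivePrecoverage_iff] at h1
    obtain ⟨Z, g, hg, y, hy⟩ := h1 (default : Spec (CommRingCat.of K))
    obtain ⟨hf⟩ := hg
    obtain ⟨s, hs⟩ := hsec _ hf
    exact ⟨s y⟩
  obtain ⟨U, hU, hxU, -⟩ := exists_isAffineOpen_mem_and_subset (x := x₀) (U := ⊤) trivial
  haveI : Nonempty U := ⟨⟨x₀, hxU⟩⟩
  haveI : Nontrivial Γ(X.left, U) := Scheme.component_nontrivial X.left U
  exact hasSectionOver_of_mono K p G n hn X a hpt Γ(X.left, U) hU.fromSpec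

end Groth.Agent.Lib.Helper19.FrobTors
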