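import Mathlib
import Groth.Agent.Lib.Helper19.FrobTors

/-!
# Torsors under infinitesimal group schemes over a field: the coordinate ring of an affine open
is purely inseparable of bounded exponent; consequently such a torsor with a point in a separable
extension has a rational point.
-/

set_option autoImplicit false
universe u
open CategoryTheory CategoryTheory.Limits MonoidalCategory CartesianMonoidalCategory MonObj
  AlgebraicGeometry
open scoped TensorProduct

namespace Groth.Agent.Lib.Helper19.FrobTors2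

open Groth.Agent.Lib.Helper19.FrobTors

/-- Given the Frobenius exponent `n` of `G` and an affine open `Spec B` of a pseudo-torsor `X`, every
`p^n`-th power in `B` comes from `K`. -/
theorem pow_mem_range (K : Type u) [Field K] (p : ℕ) [ExpChar K p]
    (G : Over (Spec (CommRingCat.of K))) [GrpObj G] [IsAffine G.left] (n : ℕ)
    (hn : ∀ a : Γ(G.left, ⊤),
      a ^ p ^ n = (G.hom.appTop.hom ((η[G]).left.appTop.hom a)) ^ p ^ n)
    (X : Over (Spec (CommRingCat.of K))) (a : AlgGrp.Action G X)
    (hpt : NonAbH1.IsPseudoTorsorSch a)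
    (B : CommRingCat.{u}) [Nontrivial B] (j : Spec B ⟶ X.left) [Mono j] :
    ∀ b : B, ∃ c : K, (Spec.preimage (j ≫ X.hom)).hom c = b ^ p ^ n := by
  classical
  let algHom : CommRingCat.of K ⟶ B := Spec.preimage (j ≫ X.hom)
  have halg : Spec.map algHom = j ≫ X.hom := Spec.map_preimage _
  letI : Algebra K B := algHom.hom.toAlgebra
  have hinjB : Function.Injective (algebraMap K B) := (algebraMap K B).injective
  haveI : ExpChar B p := expChar_of_injective_ringHom hinjB p
  let i₁ : B ⟶ CommRingCat.of (B ⊗[K] B) :=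
    CommRingCat.ofHom (Algebra.TensorProduct.includeLeft (R := K) (S := K) (A := B) (B := B)).toRingHom
  let i₂ : B ⟶ CommRingCat.of (B ⊗[K] B) :=
    CommRingCat.ofHom (Algebra.TensorProduct.includeRight (R := K) (A := B) (B := B)).toRingHom
  have hi : algHom ≫ i₁ = algHom ≫ i₂ := by
    apply CommRingCat.hom_ext
    apply RingHom.ext
    intro c
    show (algebraMap K B c) ⊗ₜ[K] (1 : B) = (1 : B) ⊗ₜ[K] (algebraMap K B c)
    rw [Algebra.algebraMap_eq_smul_one, TensorProduct.smul_tmul]
  have hT : (Spec.map i₂ ≫ j) ≫ X.hom = (Spec.map i₁ ≫ j) ≫ X.hom := by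
    rw [Category.assoc, Category.assoc, ← halg, ← Spec.map_comp, ← Spec.map_comp, hi]
  let T : Over (Spec (CommRingCat.of K)) := Over.mk ((Spec.map i₁ ≫ j) ≫ X.hom)
  let x₁ : T ⟶ X := Over.homMk (Spec.map i₁ ≫ j) rfl
  let x₂ : T ⟶ X := Over.homMk (Spec.map i₂ ≫ j) hT
  haveI : IsIso (lift a.act (snd G X)) := hpt
  let w : T ⟶ G ⊗ X := lift x₁ x₂ ≫ inv (lift a.act (snd G X))
  have hw : w ≫ lift a.act (snd G X) = lift x₁ x₂ := by
    show (lift x₁ x₂ ≫ inv (lift a.act (snd G X))) ≫ lift a.act (snd G X) = lift x₁ x₂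
    rw [Category.assoc, IsIso.inv_hom_id, Category.comp_id]
  have hw1 : w ≫ a.act = x₁ := by
    have h1 := congrArg (fun t => t ≫ fst X X) hw
    simpa using h1
  have hw2 : w ≫ snd G X = x₂ := by
    have h1 := congrArg (fun t => t ≫ snd X X) hw
    simpa using h1
  let g : T ⟶ G := w ≫ fst G X
  have hwg : w = lift g x₂ := by
    apply CartesianMonoidalCategory.hom_ext
    · simp [g]
    · simp [hw2]
  have hact : lift g x₂ ≫ a.act = x₁ := by
    rw [← hwg]
    exact hw1
  -- Frobenius
  haveI : Nontrivial (B ⊗[K] B) :=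
    (Algebra.TensorProduct.lmul' K (S := B)).toRingHom.domain_nontrivial
  have hinjR : Function.Injective (algebraMap K (B ⊗[K] B)) := (algebraMap K (B ⊗[K] B)).injective
  haveI : ExpChar (B ⊗[K] B) p := expChar_of_injective_ringHom hinjR p
  let F : CommRingCat.of (B ⊗[K] B) ⟶ CommRingCat.of (B ⊗[K] B) :=
    CommRingCat.ofHom (iterateFrobenius (B ⊗[K] B) p n)
  let T' : Over (Spec (CommRingCat.of K)) := Over.mk (Spec.map F ≫ T.hom)
  let Ft : T' ⟶ T := Over.homMk (Spec.map F) rfl
  have hF : ∀ r : Γ(Spec (CommRingCat.of (B ⊗[K] B)), ⊤),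
      (Spec.map F).appTop.hom r = r ^ p ^ n := by
    intro r
    have h1 := Scheme.ΓSpecIso_naturality F
    have h2 := congrArg (fun f => f.hom r) h1
    have h3 : (Scheme.ΓSpecIso (CommRingCat.of (B ⊗[K] B))).hom.hom ((Spec.map F).appTop.hom r) =
        (Scheme.ΓSpecIso (CommRingCat.of (B ⊗[K] B))).hom.hom (r ^ p ^ n) := by
      rw [map_pow]
      exact h2
    exact (Scheme.ΓSpecIso (CommRingCat.of (B ⊗[K] B))).commRingCatIsoToRingEquiv.injective h3
  have hkey : Ft ≫ g = toUnit T' ≫ η[G] := by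
    apply Over.OverMorphism.ext
    apply ext_of_isAffine
    have e1 : (Ft ≫ g).left = Spec.map F ≫ g.left := rfl
    have e2 : (toUnit T' ≫ η[G]).left = (Spec.map F ≫ g.left ≫ G.hom) ≫ (η[G]).left := by
      rw [Over.comp_left, Over.toUnit_left]
      show (Spec.map F ≫ T.hom) ≫ _ = _
      rw [← Over.w g]
    rw [e1, e2]
    simp only [Scheme.Hom.comp_appTop]
    apply CommRingCat.hom_ext
    apply RingHom.ext
    intro a'
    simp only [CommRingCat.hom_comp, RingHom.comp_apply]
    rw [hF, hF, ← map_pow, ← map_pow, hn a']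
  have h12 : Ft ≫ x₁ = Ft ≫ x₂ := by
    rw [← hact, ← Category.assoc, comp_lift, hkey,
      ← lift_whiskerRight (toUnit T') (Ft ≫ x₂) η[G], Category.assoc, a.one_act, leftUnitor_hom,
      lift_snd]
  have h12' : Spec.map F ≫ Spec.map i₁ ≫ j = Spec.map F ≫ Spec.map i₂ ≫ j :=
    congrArg (fun t => t.left) h12
  have h13 : i₁ ≫ F = i₂ ≫ F := by
    apply Spec.map_injective
    rw [Spec.map_comp, Spec.map_comp, ← cancel_mono j]
    simpa [Category.assoc] using h12'
  have hb : ∀ b : B, (b ^ p ^ n) ⊗ₜ[K] (1 : B) = (1 : B) ⊗ₜ[K] (b ^ p ^ n) := by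
    intro b
    have h1 := congrArg (fun f => f.hom b) h13
    have h2 : (b ⊗ₜ[K] (1 : B)) ^ p ^ n = ((1 : B) ⊗ₜ[K] b) ^ p ^ n := by
      simpa [F, i₁, i₂, iterateFrobenius_def] using h1
    simpa [Algebra.TensorProduct.tmul_pow] using h2
  have hrange : ∀ b : B, ∃ c : K, algebraMap K B c = b ^ p ^ n := fun b =>
    mem_range_of_tmul_eq K B _ (hb b)
  intro b
  obtain ⟨c, hc⟩ := hrange b
  exact ⟨c, hc⟩

/-- A torsor under an infinitesimal group scheme which has a point in a separable extension has a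
rational point. -/
theorem hasSection_of_separable (k : Type u) [Field k] (L : Type u) [Field L] [Algebra k L]
    [IsReduced (TensorProduct k L L)] (I E : Over (Spec (CommRingCat.of k))) [GrpObj I]
    [IsFinite I.hom] [Subsingleton ↥(I.left)] (a : AlgGrp.Action I E)
    (hE : NonAbH1.IsTorsorFor Scheme.fppfPrecoverage a)
    (hL : NonAbH1.HasSectionOver E (Spec.map (CommRingCat.ofHom (algebraMap k L)))) :
    NonAbH1.HasSectionOver E (𝟙 (Spec (CommRingCat.of k))) := by
  classical
  obtain ⟨p, hp⟩ := ExpChar.exists k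
  haveI := hp
  haveI : Nonempty I.left := ⟨(η[I]).left (default : Spec (CommRingCat.of k))⟩
  haveI : ConnectedSpace I.left :=
    { toPreconnectedSpace := inferInstance, toNonempty := inferInstance }
  have hu : (η[I]).left ≫ I.hom = 𝟙 (Spec (CommRingCat.of k)) := Over.w η[I]
  obtain ⟨n, hn⟩ := exists_frob_pow_eq k p I (η[I]).left hu
  haveI : IsAffine I.left := isAffine_of_isAffineHom I.hom
  obtain ⟨s, hs⟩ := hL
  obtain ⟨U, hU, hxU, -⟩ := exists_isAffineOpen_mem_and_subset
    (x := s (default : Spec (CommRingCat.of L))) (U := ⊤) trivial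
  haveI : Nonempty U := ⟨⟨_, hxU⟩⟩
  haveI : Nontrivial Γ(E.left, U) := Scheme.component_nontrivial E.left U
  have hrange := pow_mem_range k p I n hn E a hE.1 Γ(E.left, U) hU.fromSpec
  have hsub : Set.range s ⊆ Set.range hU.fromSpec := by
    rw [hU.range_fromSpec]
    rintro _ ⟨y, rfl⟩
    rw [Subsingleton.elim y default]
    exact hxU
  let t : Spec (CommRingCat.of L) ⟶ Spec Γ(E.left, U) := IsOpenImmersion.lift hU.fromSpec s hsub
  have ht : t ≫ hU.fromSpec = s := IsOpenImmersion.lift_fac _ _ _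
  let φ : Γ(E.left, U) ⟶ CommRingCat.of L := Spec.preimage t
  have hφ : Spec.map φ = t := Spec.map_preimage t
  let algHom : CommRingCat.of k ⟶ Γ(E.left, U) := Spec.preimage (hU.fromSpec ≫ E.hom)
  have halg : Spec.map algHom = hU.fromSpec ≫ E.hom := Spec.map_preimage _
  have hcomp : algHom ≫ φ = CommRingCat.ofHom (algebraMap k L) := by
    apply Spec.map_injective
    rw [Spec.map_comp, hφ, halg, ← Category.assoc, ht, hs]
  have hcomp' : ∀ c : k, φ.hom (algHom.hom c) = algebraMap k L c := fun c => by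
    have h1 := congrArg (fun f => f.hom c) hcomp
    exact h1
  have hinjL : Function.Injective (algebraMap k L) := (algebraMap k L).injective
  haveI : Nontrivial (L ⊗[k] L) :=
    (Algebra.TensorProduct.lmul' k (S := L)).toRingHom.domain_nontrivial
  have hinjLL : Function.Injective (algebraMap k (L ⊗[k] L)) :=
    (algebraMap k (L ⊗[k] L)).injective
  haveI : ExpChar (L ⊗[k] L) p := expChar_of_injective_ringHom hinjLL p
  have hmem : ∀ b : Γ(E.left, U), ∃ c : k, algebraMap k L c = φ.hom b := by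
    intro b
    obtain ⟨c, hc⟩ := hrange b
    have h1 : (φ.hom b) ^ p ^ n = algebraMap k L c := by
      rw [← map_pow, ← hc, hcomp']
    have h2 : ((φ.hom b) ⊗ₜ[k] (1 : L) - (1 : L) ⊗ₜ[k] (φ.hom b)) ^ p ^ n = 0 := by
      rw [sub_pow_expChar_pow, Algebra.TensorProduct.tmul_pow, Algebra.TensorProduct.tmul_pow,
        one_pow, h1, Algebra.algebraMap_eq_smul_one, TensorProduct.smul_tmul, sub_self]
    have h3 : (φ.hom b) ⊗ₜ[k] (1 : L) - (1 : L) ⊗ₜ[k] (φ.hom b) = 0 :=
      IsNilpotent.eq_zero ⟨_, h2⟩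
    obtain ⟨c', hc'⟩ := mem_range_of_tmul_eq k L (φ.hom b) (sub_eq_zero.mp h3)
    exact ⟨c', hc'⟩
  choose ψf hψ using hmem
  let ψ : Γ(E.left, U) →+* k :=
    { toFun := ψf
      map_one' := hinjL (by rw [hψ, map_one, map_one])
      map_mul' := fun x y => hinjL (by rw [hψ, map_mul, map_mul, hψ, hψ])
      map_zero' := hinjL (by rw [hψ, map_zero, map_zero])
      map_add' := fun x y => hinjL (by rw [hψ, map_add, map_add, hψ, hψ]) }
  have hψalg : ψ.comp algHom.hom = RingHom.id k := by
    apply RingHom.ext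
    intro c
    apply hinjL
    show algebraMap k L (ψf (algHom.hom c)) = algebraMap k L c
    rw [hψ, hcomp']
  refine ⟨Spec.map (CommRingCat.ofHom ψ) ≫ hU.fromSpec, ?_⟩
  rw [Category.assoc, ← halg, ← Spec.map_comp]
  have h5 : algHom ≫ CommRingCat.ofHom ψ = 𝟙 _ := by
    apply CommRingCat.hom_ext
    rw [CommRingCat.hom_comp, CommRingCat.hom_ofHom]
    exact hψalg
  rw [h5, Spec.map_id]

end Groth.Agent.Lib.Helper19.FrobTors2
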