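import Groth.Prelude.Def_GLin
import Mathlib

open TensorProduct LaurentPolynomial Polynomial

universe u v w

namespace Groth.Agent.Lib.Helper19.GLinMu

section Laurent
variable {k : Type u} [CommRing k]

theorem coeff_toLaurent_natCast (p : k[X]) (n : ℕ) : (toLaurent p).coeff (n : ℤ) = p.coeff n := by
  rw [LaurentPolynomial.coeff_toLaurent]
  exact Finsupp.mapDomain_apply Nat.cast_injective _ _

theorem coeff_toLaurent_zero (p : k[X]) : (toLaurent p).coeff 0 = p.coeff 0 :=
  coeff_toLaurent_natCast p 0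

theorem coeff_toLaurent_neg (p : k[X]) (n : ℤ) (hn : n < 0) : (toLaurent p).coeff n = 0 := by
  rw [LaurentPolynomial.coeff_toLaurent]
  apply Finsupp.mapDomain_of_notMem_range
  rintro ⟨j, hj⟩
  have : (j : ℤ) = n := hj
  omega

theorem coeff_trunc (w : k[T;T⁻¹]) (n : ℕ) : (LaurentPolynomial.trunc w).coeff n = w.coeff (n : ℤ) := by
  rfl

theorem toLaurent_trunc (w : k[T;T⁻¹]) (hw : ∀ n : ℤ, n < 0 → w.coeff n = 0) :
    toLaurent (LaurentPolynomial.trunc w) = w := by
  ext n
  rcases lt_or_ge n 0 with hn | hn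
  · rw [coeff_toLaurent_neg _ _ hn, hw n hn]
  · lift n to ℕ using hn
    rw [coeff_toLaurent_natCast, coeff_trunc]

theorem exists_toLaurent_eq_iff (w : k[T;T⁻¹]) :
    (∃ p : k[X], toLaurent p = w) ↔ ∀ n : ℤ, n < 0 → w.coeff n = 0 := by
  constructor
  · rintro ⟨p, rfl⟩ n hn
    exact coeff_toLaurent_neg p n hn
  · intro h
    exact ⟨_, toLaurent_trunc w h⟩

theorem coeff_T_mul (m : ℤ) (w : k[T;T⁻¹]) (n : ℤ) : (T m * w).coeff n = w.coeff (n - m) := by
  unfold LaurentPolynomial.T
  rw [AddMonoidAlgebra.coeff_single_mul_apply, one_mul]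
  congr 1
  ring

end Laurent

section General
variable {k : Type u} [CommRing k] {A : Type v} [CommRing A] [Bialgebra k A]
  {R : Type w} [CommRing R] [Algebra k R] [HopfRep.Comod k A R] [GLin.IsCoactAlg k A R]

/-- `counit ∘ orbitHom x = x`. -/
theorem counit_orbitHom (x : R →ₐ[k] k) (f : R) :
    Coalgebra.counit (R := k) (GLin.orbitHom k A x f) = x f := by
  have key : ∀ t : R ⊗[k] A,
      Coalgebra.counit (R := k)
          ((Algebra.TensorProduct.lid k A) ((Algebra.TensorProduct.map x (AlgHom.id k A)) t))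
        = x ((TensorProduct.rid k R) ((Coalgebra.counit (R := k) (A := A)).lTensor R t)) := by
    intro t
    induction t using TensorProduct.induction_on with
    | zero => simp
    | tmul r a => simp [mul_comm]
    | add s t hs ht => simp only [map_add, hs, ht]
  have h2 := LinearMap.congr_fun (HopfRep.Comod.counit_comp (k := k) (A := A) (V := R)) f
  simp only [LinearMap.comp_apply] at h2
  change Coalgebra.counit (R := k) ((Algebra.TensorProduct.lid k A)
    ((Algebra.TensorProduct.map x (AlgHom.id k A)) (GLin.coactAlgHom k A R f))) = _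
  rw [GLin.coactAlgHom_apply, key, h2]
  simp

end General

section Linear
set_option linter.unusedSectionVars false
variable {k : Type u} [Field k] {A : Type v} [CommRing A] [Bialgebra k A]
  {ι : Type w} [Fintype ι] [HopfRep.Comod k A (MvPolynomial ι k)]
  [GLin.IsCoactAlg k A (MvPolynomial ι k)]

/-- The `i`-th coordinate of the orbit of `v` under `lam`, a Laurent polynomial. -/
noncomputable def wt (lam : A →ₐc[k] k[T;T⁻¹]) (v : ι → k) (i : ι) : k[T;T⁻¹] :=
  GLin.lamOrbit k A lam (GLin.vecPt k ι v) (MvPolynomial.X i)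

/-- The set of exponents occurring in some coordinate of the orbit. -/
def supp (lam : A →ₐc[k] k[T;T⁻¹]) (v : ι → k) : Set ℤ := {n | ∃ i, (wt lam v i).coeff n ≠ 0}

theorem shiftedOrbit_X (lam : A →ₐc[k] k[T;T⁻¹]) (v : ι → k) (m : ℤ) (i : ι) :
    GLin.shiftedOrbit k A lam v m (MvPolynomial.X i) = T m * wt lam v i := by
  simp [GLin.shiftedOrbit, wt]

theorem isMu_iff_exists (lam : A →ₐc[k] k[T;T⁻¹]) (v : ι → k) (m : ℤ) :
    GLin.IsMu k A lam v m ↔ ∃ p : ι → k[X], (∀ i, toLaurent (p i) = T m * wt lam v i) ∧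
      ∃ i, (p i).coeff 0 ≠ 0 := by
  constructor
  · rintro ⟨h, h1, h2⟩
    refine ⟨fun i => h (MvPolynomial.X i), fun i => ?_, ?_⟩
    · have := congrArg (fun φ : MvPolynomial ι k →ₐ[k] k[T;T⁻¹] => φ (MvPolynomial.X i)) h1
      simpa [shiftedOrbit_X] using this
    · by_contra hcon
      push Not at hcon
      apply h2
      apply MvPolynomial.algHom_ext
      intro i
      have := hcon i
      rw [Polynomial.coeff_zero_eq_aeval_zero] at this
      simpa using this
  · rintro ⟨p, hp, i, hi⟩
    refine ⟨MvPolynomial.aeval p, ?_, ?_⟩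
    · apply MvPolynomial.algHom_ext
      intro j
      simp [shiftedOrbit_X, hp]
    · intro hcon
      apply hi
      have := congrArg (fun φ : MvPolynomial ι k →ₐ[k] k => φ (MvPolynomial.X i)) hcon
      rw [Polynomial.coeff_zero_eq_aeval_zero]
      simpa using this

theorem isMu_iff (lam : A →ₐc[k] k[T;T⁻¹]) (v : ι → k) (m : ℤ) :
    GLin.IsMu k A lam v m ↔ IsLeast (supp lam v) (-m) := by
  rw [isMu_iff_exists]
  constructor
  · rintro ⟨p, hp, i, hi⟩
    constructor
    · refine ⟨i, ?_⟩
      have : (wt lam v i).coeff (-m) = (p i).coeff 0 := by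
        rw [← coeff_toLaurent_zero, hp i, coeff_T_mul]; simp
      rwa [this]
    · rintro n ⟨j, hj⟩
      by_contra hlt
      push Not at hlt
      apply hj
      have : (wt lam v j).coeff n = (toLaurent (p j)).coeff (n + m) := by
        rw [hp j, coeff_T_mul]; simp
      rw [this]
      exact coeff_toLaurent_neg _ _ (by omega)
  · rintro ⟨⟨i, hi⟩, hlow⟩
    have hex : ∀ j, ∃ p : k[X], toLaurent p = T m * wt lam v j := by
      intro j
      rw [exists_toLaurent_eq_iff]
      intro n hn
      rw [coeff_T_mul]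
      by_contra hne
      have : -m ≤ n - m := hlow ⟨j, hne⟩
      omega
    choose p hp using hex
    refine ⟨p, hp, i, ?_⟩
    have : (wt lam v i).coeff (-m) = (p i).coeff 0 := by
      rw [← coeff_toLaurent_zero, hp i, coeff_T_mul]; simp
    rwa [← this]

theorem hasLimit_iff (lam : A →ₐc[k] k[T;T⁻¹]) (v : ι → k) :
    GLin.HasLimit k A lam (GLin.vecPt k ι v) ↔ ∀ n ∈ supp lam v, 0 ≤ n := by
  constructor
  · rintro ⟨h, hh⟩ n ⟨i, hi⟩
    by_contra hn
    push Not at hn
    apply hi
    have := congrArg (fun φ : MvPolynomial ι k →ₐ[k] k[T;T⁻¹] => φ (MvPolynomial.X i)) hh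
    have h3 : toLaurent (h (MvPolynomial.X i)) = wt lam v i := by simpa [wt] using this
    rw [← h3]
    exact coeff_toLaurent_neg _ _ hn
  · intro hS
    have hex : ∀ j, ∃ p : k[X], toLaurent p = wt lam v j := by
      intro j
      rw [exists_toLaurent_eq_iff]
      intro n hn
      by_contra hne
      have := hS n ⟨j, hne⟩
      omega
    choose p hp using hex
    refine ⟨MvPolynomial.aeval p, ?_⟩
    apply MvPolynomial.algHom_ext
    intro j
    simp [hp, wt]

theorem isLimit_zero_iff (lam : A →ₐc[k] k[T;T⁻¹]) (v : ι → k) :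
    GLin.IsLimit k A lam (GLin.vecPt k ι v) (GLin.vecPt k ι (fun _ => (0 : k))) ↔
      ∀ n ∈ supp lam v, 0 < n := by
  constructor
  · rintro ⟨h, hh, h0⟩ n ⟨i, hi⟩
    have := congrArg (fun φ : MvPolynomial ι k →ₐ[k] k[T;T⁻¹] => φ (MvPolynomial.X i)) hh
    have h3 : toLaurent (h (MvPolynomial.X i)) = wt lam v i := by simpa [wt] using this
    by_contra hn
    push Not at hn
    apply hi
    rcases hn.lt_or_eq with hn | rfl
    · rw [← h3]
      exact coeff_toLaurent_neg _ _ hn
    · rw [← h3, coeff_toLaurent_zero, Polynomial.coeff_zero_eq_aeval_zero]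
      have := congrArg (fun φ : MvPolynomial ι k →ₐ[k] k => φ (MvPolynomial.X i)) h0
      simpa using this
  · intro hS
    have hex : ∀ j, ∃ p : k[X], toLaurent p = wt lam v j := by
      intro j
      rw [exists_toLaurent_eq_iff]
      intro n hn
      by_contra hne
      have := hS n ⟨j, hne⟩
      omega
    choose p hp using hex
    refine ⟨MvPolynomial.aeval p, ?_, ?_⟩
    · apply MvPolynomial.algHom_ext
      intro j
      simp [hp, wt]
    · apply MvPolynomial.algHom_ext
      intro j
      have : (p j).coeff 0 = 0 := by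
        rw [← coeff_toLaurent_zero, hp j]
        by_contra hne
        have := hS 0 ⟨j, hne⟩
        omega
      rw [Polynomial.coeff_zero_eq_aeval_zero] at this
      simpa using this

theorem supp_finite (lam : A →ₐc[k] k[T;T⁻¹]) (v : ι → k) : (supp lam v).Finite := by
  have : supp lam v = ⋃ i, ((wt lam v i).coeff.support : Set ℤ) := by
    ext n
    simp [supp]
  rw [this]
  exact Set.finite_iUnion (fun i => Finset.finite_toSet _)


theorem counit_wt (lam : A →ₐc[k] k[T;T⁻¹]) (v : ι → k) (i : ι) :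
    Coalgebra.counit (R := k) (wt lam v i) = v i := by
  have h1 : wt lam v i = lam (GLin.orbitHom k A (GLin.vecPt k ι v) (MvPolynomial.X i)) := rfl
  rw [h1, CoalgHomClass.counit_comp_apply, counit_orbitHom]
  simp

theorem supp_nonempty (lam : A →ₐc[k] k[T;T⁻¹]) (v : ι → k) (hv : v ≠ 0) :
    (supp lam v).Nonempty := by
  obtain ⟨i, hi⟩ := Function.ne_iff.mp hv
  have hne : wt lam v i ≠ 0 := by
    intro h
    apply hi
    rw [← counit_wt lam v i, h, map_zero]
    rfl
  obtain ⟨n, hn⟩ : ∃ n, (wt lam v i).coeff n ≠ 0 := by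
    by_contra hcon
    push Not at hcon
    exact hne (LaurentPolynomial.ext (by simpa using hcon))
  exact ⟨n, i, hn⟩

/-- For `v ≠ 0` the set of exponents has a least element. -/
theorem exists_isLeast_supp (lam : A →ₐc[k] k[T;T⁻¹]) (v : ι → k) (hv : v ≠ 0) :
    ∃ n, IsLeast (supp lam v) n :=
  Set.exists_min_image (supp lam v) id (supp_finite lam v) (supp_nonempty lam v hv) |>.imp
    fun n hn => ⟨hn.1, fun b hb => hn.2 b hb⟩

theorem existsUnique_isMu (lam : A →ₐc[k] k[T;T⁻¹]) (v : ι → k) (hv : v ≠ 0) :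
    ∃! m : ℤ, GLin.IsMu k A lam v m := by
  obtain ⟨n, hn⟩ := exists_isLeast_supp lam v hv
  refine ⟨-n, ?_, ?_⟩
  · show GLin.IsMu k A lam v (-n)
    rw [isMu_iff, neg_neg]
    exact hn
  · intro m hm
    rw [isMu_iff] at hm
    have := hm.unique hn
    omega

end Linear
section Diag
variable {k : Type u} [Field k] {A : Type v} [CommRing A] [Bialgebra k A]
  {ι : Type w} [Fintype ι] [HopfRep.Comod k A (MvPolynomial ι k)]
  [GLin.IsCoactAlg k A (MvPolynomial ι k)]

theorem orbitHom_X (mm : ι → ι → A)
    (hm : ∀ i, HopfRep.Comod.coact (k := k) (A := A) (MvPolynomial.X i : MvPolynomial ι k) =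
      ∑ j, (MvPolynomial.X j : MvPolynomial ι k) ⊗ₜ[k] mm i j) (v : ι → k) (i : ι) :
    GLin.orbitHom k A (GLin.vecPt k ι v) (MvPolynomial.X i) = ∑ j, v j • mm i j := by
  unfold GLin.orbitHom
  simp [GLin.coactAlgHom_apply, hm i]

omit [GLin.IsCoactAlg k A (MvPolynomial ι k)] in
theorem comul_u (mm : ι → ι → A)
    (hm : ∀ i, HopfRep.Comod.coact (k := k) (A := A) (MvPolynomial.X i : MvPolynomial ι k) =
      ∑ j, (MvPolynomial.X j : MvPolynomial ι k) ⊗ₜ[k] mm i j) (v : ι → k) (i : ι) :
    Coalgebra.comul (R := k) (∑ j, v j • mm i j) = ∑ j, (∑ l, v l • mm j l) ⊗ₜ[k] mm i j := by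
  have h := LinearMap.congr_fun
    (HopfRep.Comod.coassoc (k := k) (A := A) (V := MvPolynomial ι k)) (MvPolynomial.X i)
  simp only [LinearMap.comp_apply, LinearEquiv.coe_coe] at h
  rw [hm i] at h
  simp only [map_sum, LinearMap.rTensor_tmul, LinearMap.lTensor_tmul, hm, TensorProduct.sum_tmul,
    TensorProduct.assoc_tmul] at h
  let Φ : MvPolynomial ι k ⊗[k] (A ⊗[k] A) →ₗ[k] A ⊗[k] A :=
    (TensorProduct.lid k (A ⊗[k] A)).toLinearMap ∘ₗ
      ((MvPolynomial.aeval v : MvPolynomial ι k →ₐ[k] k).toLinearMap).rTensor (A ⊗[k] A)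
  have h' := congrArg Φ h
  simp only [Φ, map_sum, LinearMap.comp_apply, LinearMap.rTensor_tmul, AlgHom.toLinearMap_apply,
    MvPolynomial.aeval_X, LinearEquiv.coe_coe, TensorProduct.lid_tmul] at h'
  rw [map_sum]
  simp_rw [map_smul]
  rw [← h']
  simp [TensorProduct.sum_tmul, TensorProduct.smul_tmul']

theorem gl_linearIndependent :
    LinearIndependent k (fun g : {a : A | IsGroupLikeElem k a} => (g : A)) :=
  linearIndepOn_isGroupLikeElem (R := k) (A := A)

/-- The basis of group-like elements of a diagonalizable bialgebra. -/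
noncomputable def glBasis (hdiag : HopfRep.IsDiagonalizable k A) :
    Module.Basis {a : A | IsGroupLikeElem k a} k A :=
  Module.Basis.mk (v := fun g : {a : A | IsGroupLikeElem k a} => (g : A))
    gl_linearIndependent
    (by
      have : Set.range (fun g : {a : A | IsGroupLikeElem k a} => (g : A)) =
          {a : A | IsGroupLikeElem k a} := Subtype.range_coe
      rw [this]
      exact hdiag.ge)

theorem glBasis_apply (hdiag : HopfRep.IsDiagonalizable k A) (g : {a : A | IsGroupLikeElem k a}) :
    glBasis hdiag g = (g : A) := by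
  unfold glBasis
  rw [Module.Basis.mk_apply]

open Classical in
theorem glBasis_coord (hdiag : HopfRep.IsDiagonalizable k A)
    (g h : {a : A | IsGroupLikeElem k a}) :
    (glBasis hdiag).coord g (h : A) = if h = g then 1 else 0 := by
  rw [← glBasis_apply hdiag h, Module.Basis.coord_apply, Module.Basis.repr_self,
    Finsupp.single_apply]

open Classical in
theorem proj_comul (hdiag : HopfRep.IsDiagonalizable k A) (g : {a : A | IsGroupLikeElem k a})
    (a : A) :
    TensorProduct.lid k A ((((glBasis hdiag).coord g).rTensor A) (Coalgebra.comul (R := k) a)) =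
      (glBasis hdiag).coord g a • (g : A) := by
  have : (TensorProduct.lid k A).toLinearMap ∘ₗ ((glBasis hdiag).coord g).rTensor A ∘ₗ
      (Coalgebra.comul (R := k) (A := A)) =
      (LinearMap.toSpanSingleton k A (g : A)) ∘ₗ (glBasis hdiag).coord g := by
    apply (glBasis hdiag).ext
    intro h
    have hh : IsGroupLikeElem k (h : A) := h.2
    simp only [LinearMap.comp_apply, glBasis_apply, hh.comul_eq_tmul_self, LinearMap.rTensor_tmul,
      LinearEquiv.coe_coe, TensorProduct.lid_tmul, glBasis_coord, LinearMap.toSpanSingleton_apply]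
    split_ifs with hgh
    · rw [hgh]
    · simp
  exact LinearMap.congr_fun this a

omit [GLin.IsCoactAlg k A (MvPolynomial ι k)] in
/-- Each "weight component" of the orbit vector is an eigenvector. -/
theorem coord_u_smul (hdiag : HopfRep.IsDiagonalizable k A) (mm : ι → ι → A)
    (hm : ∀ i, HopfRep.Comod.coact (k := k) (A := A) (MvPolynomial.X i : MvPolynomial ι k) =
      ∑ j, (MvPolynomial.X j : MvPolynomial ι k) ⊗ₜ[k] mm i j) (v : ι → k)
    (g : {a : A | IsGroupLikeElem k a}) (i : ι) :
    (glBasis hdiag).coord g (∑ j, v j • mm i j) • (g : A) =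
      ∑ j, (glBasis hdiag).coord g (∑ l, v l • mm j l) • mm i j := by
  rw [← proj_comul, comul_u mm hm v i]
  simp [map_sum, LinearMap.rTensor_tmul]

/-- The support of the orbit, for a diagonalizable group: the set of `λ`-weights of the
nonzero weight components of `v`. -/
theorem supp_eq_of_diag (hdiag : HopfRep.IsDiagonalizable k A) (mm : ι → ι → A)
    (hm : ∀ i, HopfRep.Comod.coact (k := k) (A := A) (MvPolynomial.X i : MvPolynomial ι k) =
      ∑ j, (MvPolynomial.X j : MvPolynomial ι k) ⊗ₜ[k] mm i j) (v : ι → k)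
    (G : Finset {a : A | IsGroupLikeElem k a})
    (hG : ∀ i j, ∀ g ∉ G, (glBasis hdiag).coord g (mm i j) = 0)
    (lam : A →ₐc[k] k[T;T⁻¹]) (E : {a : A | IsGroupLikeElem k a} → ℤ)
    (hE : ∀ g ∈ G, lam (g : A) = T (E g)) :
    supp lam v = {n | ∃ g ∈ G, (∃ i, (glBasis hdiag).coord g (∑ j, v j • mm i j) ≠ 0) ∧ E g = n} := by
  classical
  set b := glBasis hdiag with hb
  set uu : ι → A := fun i => ∑ j, v j • mm i j with huu
  have hc0 : ∀ i, ∀ g ∉ G, b.coord g (uu i) = 0 := by
    intro i g hg
    simp only [huu, map_sum, map_smul, hG _ _ g hg, smul_zero, Finset.sum_const_zero]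
  have hu : ∀ i, uu i = ∑ g ∈ G, b.coord g (uu i) • (g : A) := by
    intro i
    conv_lhs => rw [← b.linearCombination_repr (uu i), Finsupp.linearCombination_apply]
    rw [Finsupp.sum_of_support_subset (s := G)]
    · refine Finset.sum_congr rfl fun g _ => ?_
      rw [glBasis_apply, Module.Basis.coord_apply]
    · intro g hg
      by_contra hgG
      have := hc0 i g hgG
      rw [Module.Basis.coord_apply] at this
      exact (Finsupp.mem_support_iff.mp hg) this
    · intro g _
      simp
  have hw : ∀ i, wt lam v i = ∑ g ∈ G, b.coord g (uu i) • (T (E g) : k[T;T⁻¹]) := by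
    intro i
    have h1 : wt lam v i = lam (GLin.orbitHom k A (GLin.vecPt k ι v) (MvPolynomial.X i)) := rfl
    rw [h1, orbitHom_X mm hm v i]
    change lam (uu i) = _
    conv_lhs => rw [hu i]
    rw [map_sum]
    refine Finset.sum_congr rfl fun g hg => ?_
    rw [map_smul, hE g hg]
  have hcoeff : ∀ i n, (wt lam v i).coeff n = ∑ g ∈ G, if E g = n then b.coord g (uu i) else 0 := by
    intro i n
    rw [hw i, AddMonoidAlgebra.coeff_sum, Finsupp.finsetSum_apply]
    refine Finset.sum_congr rfl fun g _ => ?_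
    rw [AddMonoidAlgebra.coeff_smul, Finsupp.smul_apply, LaurentPolynomial.T_apply]
    split_ifs <;> simp
  ext n
  simp only [supp, Set.mem_ofPred_eq]
  constructor
  · rintro ⟨i, hi⟩
    rw [hcoeff i n] at hi
    obtain ⟨g, hgG, hg⟩ := Finset.exists_ne_zero_of_sum_ne_zero hi
    by_cases hEg : E g = n
    · rw [if_pos hEg] at hg
      exact ⟨g, hgG, ⟨i, hg⟩, hEg⟩
    · rw [if_neg hEg] at hg
      exact absurd rfl hg
  · rintro ⟨g0, hg0G, ⟨i0, hi0⟩, hEg0⟩
    by_contra hcon
    push Not at hcon
    -- all coefficients at `n` vanish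
    have hz : ∀ j, ∑ g ∈ G.filter (fun g => E g = n), b.coord g (uu j) = 0 := by
      intro j
      have := hcon j
      rw [hcoeff j n, ← Finset.sum_filter] at this
      exact this
    have key : ∀ i, ∑ g ∈ G.filter (fun g => E g = n), b.coord g (uu i) • (g : A) = 0 := by
      intro i
      have : ∀ g, b.coord g (uu i) • (g : A) = ∑ j, b.coord g (uu j) • mm i j :=
        fun g => coord_u_smul hdiag mm hm v g i
      simp_rw [this]
      rw [Finset.sum_comm]
      simp_rw [← Finset.sum_smul, hz, zero_smul, Finset.sum_const_zero]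
    have hbc : ∀ g h : {a : A | IsGroupLikeElem k a},
        b.coord g (h : A) = if h = g then 1 else 0 := glBasis_coord hdiag
    have := congrArg (b.coord g0) (key i0)
    rw [map_sum, map_zero] at this
    simp_rw [map_smul, hbc, smul_eq_mul, mul_ite, mul_one, mul_zero] at this
    rw [Finset.sum_ite_eq' ] at this
    rw [if_pos (Finset.mem_filter.mpr ⟨hg0G, hEg0⟩)] at this
    exact hi0 this

end Diag

end Groth.Agent.Lib.Helper19.GLinMu
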