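import Mathlib

/-!
# Galois data for a finite group action and étaleness (Chase–Harrison–Rosenberg style)

Let `G` be a finite group acting on a `B`-algebra `R` with `B = R^G`.  An element
`e : R ⊗[B] R` with `φ_1 e = f` and `φ_g e = 0` for `g ≠ 1`, where `φ_g (a ⊗ b) = a * g • b`,
makes `R[1/f]` étale over `B`.
-/

set_option autoImplicit false

open scoped TensorProduct Pointwise

namespace Groth.Agent.Lib.Helper19.GalEt

universe u v w

section Datum

variable {B : Type u} {R : Type v} {G : Type w} [CommRing B] [CommRing R] [Algebra B R]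
  [Group G] [MulSemiringAction G R] [SMulCommClass G B R]

/-- `a ⊗ b ↦ a * g • b`. -/
noncomputable def phi (g : G) : R ⊗[B] R →ₐ[B] R :=
  Algebra.TensorProduct.lift (AlgHom.id B R) (MulSemiringAction.toAlgHom B R g)
    (fun _ _ => Commute.all _ _)

@[simp] theorem phi_tmul (g : G) (a b : R) : phi (B := B) g (a ⊗ₜ[B] b) = a * g • b := by
  simp [phi]

theorem exists_fin_sum {M N : Type*} [AddCommGroup M] [AddCommGroup N] [Module B M] [Module B N]
    (z : M ⊗[B] N) : ∃ (K : ℕ) (x : Fin K → M) (y : Fin K → N), z = ∑ i, x i ⊗ₜ[B] y i := by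
  obtain ⟨S, hS⟩ := TensorProduct.exists_finset z
  refine ⟨S.card, fun i => (S.equivFin.symm i).1.1, fun i => (S.equivFin.symm i).1.2, ?_⟩
  rw [hS, ← Finset.sum_coe_sort S]
  exact (Equiv.sum_comp S.equivFin.symm (fun s : ↥S => (s.1.1 ⊗ₜ[B] s.1.2))).symm

variable [Fintype G] [Algebra.IsInvariant B R G]

theorem exists_tr : ∃ tr : R → B, ∀ r, algebraMap B R (tr r) = ∑ g : G, g • r := by
  have h : ∀ r : R, ∃ a : B, algebraMap B R a = ∑ g : G, g • r := by
    intro r
    apply Algebra.IsInvariant.isInvariant (G := G)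
    intro h
    rw [Finset.smul_sum]
    exact Fintype.sum_equiv (Equiv.mulLeft h) _ _ (fun g => by simp [mul_smul])
  choose tr htr using h
  exact ⟨tr, htr⟩

theorem key1 {f : B} {K : ℕ} {x y : Fin K → R}
    (he1 : ∑ i, x i * y i = algebraMap B R f)
    (heg : ∀ g : G, g ≠ 1 → ∑ i, x i * g • y i = 0)
    {tr : R → B} (htr : ∀ r, algebraMap B R (tr r) = ∑ g : G, g • r) (r : R) :
    algebraMap B R f * r = ∑ i, tr (y i * r) • x i := by
  have h1 : ∀ i, tr (y i * r) • x i = ∑ g : G, (x i * g • y i) * g • r := by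
    intro i
    rw [Algebra.smul_def, htr, Finset.sum_mul]
    refine Finset.sum_congr rfl fun g _ => ?_
    rw [smul_mul']
    ring
  simp_rw [h1]
  rw [Finset.sum_comm]
  simp_rw [← Finset.sum_mul]
  rw [Finset.sum_eq_single (1 : G)]
  · simp only [one_smul]
    rw [he1]
  · intro g _ hg
    rw [heg g hg, zero_mul]
  · intro h
    exact absurd (Finset.mem_univ _) h

theorem flat_of_datum [IsDomain R] (hinj : Function.Injective (algebraMap B R)) {f : B}
    (hf : algebraMap B R f ≠ 0) {K : ℕ} {x y : Fin K → R}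
    (he1 : ∑ i, x i * y i = algebraMap B R f)
    (heg : ∀ g : G, g ≠ 1 → ∑ i, x i * g • y i = 0)
    (S : Type*) [CommRing S] [Algebra R S] [Algebra B S] [IsScalarTower B R S]
    [IsLocalization.Away (algebraMap B R f) S] : Module.Flat B S := by
  classical
  obtain ⟨tr, htr⟩ := exists_tr (B := B) (R := R) (G := G)
  have hI1 := fun r => key1 (G := G) he1 heg htr r
  rw [Module.Flat.iff_forall_isTrivialRelation]
  intro l b m hbm
  obtain ⟨c, hc⟩ := IsLocalization.exist_integer_multiples_of_finset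
    (Submonoid.powers (algebraMap B R f)) (Finset.univ.image m)
  have hc' : ∀ j, ∃ r : R, algebraMap R S r = (c : R) • m j :=
    fun j => hc (m j) (Finset.mem_image_of_mem _ (Finset.mem_univ j))
  choose r hr using hc'
  have hρinj : Function.Injective (algebraMap R S) :=
    IsLocalization.injective S (M := Submonoid.powers (algebraMap B R f))
      (powers_le_nonZeroDivisors_of_noZeroDivisors hf)
  have hsum : ∑ j, b j • r j = 0 := by
    apply hρinj
    rw [map_zero, map_sum]
    have : ∀ j, algebraMap R S (b j • r j) = (c : R) • (b j • m j) := by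
      intro j
      rw [Algebra.smul_def (b j) (r j), map_mul, ← IsScalarTower.algebraMap_apply, hr,
        Algebra.smul_def (b j) (m j), mul_smul_comm]
    simp_rw [this]
    rw [← Finset.smul_sum, hbm, smul_zero]
  have hunit : IsUnit (algebraMap R S (algebraMap B R f * (c : R))) := by
    rw [map_mul]
    exact (IsLocalization.map_units S
      (⟨algebraMap B R f, Submonoid.mem_powers _⟩ : Submonoid.powers (algebraMap B R f))).mul
      (IsLocalization.map_units S c)
  obtain ⟨u, hu⟩ := hunit.exists_left_inv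
  rw [map_mul] at hu
  refine ⟨K, fun j i => tr (y i * r j), fun i => u * algebraMap R S (x i), fun j => ?_,
    fun i => ?_⟩
  · have h1 : ∑ i, tr (y i * r j) • (u * algebraMap R S (x i))
        = u * algebraMap R S (∑ i, tr (y i * r j) • x i) := by
      rw [map_sum, Finset.mul_sum]
      refine Finset.sum_congr rfl fun i _ => ?_
      rw [Algebra.smul_def, Algebra.smul_def, map_mul, ← IsScalarTower.algebraMap_apply]
      ring
    rw [h1, ← hI1, map_mul, hr, Algebra.smul_def]
    linear_combination (-(m j)) * hu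
  · apply hinj
    rw [map_zero, map_sum]
    have h2 : ∀ j, algebraMap B R (b j * tr (y i * r j))
        = ∑ g : G, g • (y i * (b j • r j)) := by
      intro j
      rw [map_mul, htr, Finset.mul_sum]
      refine Finset.sum_congr rfl fun g _ => ?_
      rw [mul_smul_comm (b j) (y i) (r j), smul_comm g (b j), Algebra.smul_def (b j)]
    simp_rw [h2]
    rw [Finset.sum_comm]
    simp_rw [← Finset.smul_sum, ← Finset.mul_sum, hsum, mul_zero, smul_zero]
    simp

theorem unramified_of_datum {f : B} {K : ℕ} {x y : Fin K → R}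
    (he1 : ∑ i, x i * y i = algebraMap B R f)
    (heg : ∀ g : G, g ≠ 1 → ∑ i, x i * g • y i = 0)
    (S : Type*) [CommRing S] [Algebra R S] [Algebra B S] [IsScalarTower B R S]
    [IsLocalization.Away (algebraMap B R f) S] [Algebra.EssFiniteType B S] :
    Algebra.FormallyUnramified B S := by
  obtain ⟨tr, htr⟩ := exists_tr (B := B) (R := R) (G := G)
  have hI1 := fun r => key1 (G := G) he1 heg htr r
  -- the identity `f • z = Σ_g Σ_i (φ_g z * g • y_i) ⊗ x_i`
  have hstar : ∀ z : R ⊗[B] R,
      f • z = ∑ g : G, ∑ i, (phi g z * g • y i) ⊗ₜ[B] x i := by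
    intro z
    induction z using TensorProduct.induction_on with
    | zero => simp
    | tmul a b =>
      have h2 : ∀ i, a ⊗ₜ[B] (tr (y i * b) • x i)
          = ∑ g : G, (phi g (a ⊗ₜ[B] b) * g • y i) ⊗ₜ[B] x i := by
        intro i
        rw [← TensorProduct.smul_tmul, Algebra.smul_def, htr, Finset.sum_mul,
          TensorProduct.sum_tmul]
        refine Finset.sum_congr rfl fun g _ => ?_
        rw [phi_tmul, smul_mul']
        congr 1
        ring
      rw [← TensorProduct.tmul_smul, Algebra.smul_def, hI1, TensorProduct.tmul_sum,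
        Finset.sum_comm]
      exact Finset.sum_congr rfl fun i _ => h2 i
    | add z w hz hw =>
      rw [smul_add, hz, hw, ← Finset.sum_add_distrib]
      refine Finset.sum_congr rfl fun g _ => ?_
      rw [← Finset.sum_add_distrib]
      refine Finset.sum_congr rfl fun i _ => ?_
      rw [map_add, add_mul, TensorProduct.add_tmul]
  rw [Algebra.FormallyUnramified.iff_exists_tensorProduct]
  obtain ⟨u₁, hu₁⟩ : ∃ u₁ : S, u₁ * algebraMap R S (algebraMap B R f) = 1 :=
    (IsLocalization.map_units S
      (⟨algebraMap B R f, Submonoid.mem_powers _⟩ :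
        Submonoid.powers (algebraMap B R f))).exists_left_inv
  obtain ⟨ES, hES⟩ : ∃ ES : S ⊗[B] S,
      ES = ∑ i, algebraMap R S (x i) ⊗ₜ[B] algebraMap R S (y i) := ⟨_, rfl⟩
  obtain ⟨ρρ, hρρ⟩ : ∃ ρρ : R ⊗[B] R →ₐ[B] S ⊗[B] S,
      ρρ = Algebra.TensorProduct.map (IsScalarTower.toAlgHom B R S)
        (IsScalarTower.toAlgHom B R S) := ⟨_, rfl⟩
  have hρρt : ∀ a b : R, ρρ (a ⊗ₜ[B] b) = algebraMap R S a ⊗ₜ[B] algebraMap R S b := by
    intro a b
    rw [hρρ, Algebra.TensorProduct.map_tmul]
    rfl
  have hK : ∀ r : R,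
      ((1 : S) ⊗ₜ[B] algebraMap R S r - algebraMap R S r ⊗ₜ[B] (1 : S)) * ES = 0 := by
    intro r
    obtain ⟨Z, hZ⟩ : ∃ Z : R ⊗[B] R,
        Z = ((1 : R) ⊗ₜ[B] r - r ⊗ₜ[B] (1 : R)) * ∑ i, x i ⊗ₜ[B] y i := ⟨_, rfl⟩
    have hφZ : ∀ g : G, phi g Z = 0 := by
      intro g
      rw [hZ, map_mul, map_sub, phi_tmul, phi_tmul, map_sum]
      simp only [phi_tmul]
      by_cases hg : g = 1
      · subst hg
        simp
      · rw [heg g hg, mul_zero]
    have hfZ : f • Z = 0 := by
      rw [hstar]
      simp [hφZ]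
    have hρZ : ρρ Z
        = ((1 : S) ⊗ₜ[B] algebraMap R S r - algebraMap R S r ⊗ₜ[B] (1 : S)) * ES := by
      rw [hZ, map_mul, map_sub, hρρt, hρρt, map_sum, hES, map_one]
      simp only [hρρt]
    have h3 : (algebraMap R S (algebraMap B R f) ⊗ₜ[B] (1 : S)) * ρρ Z = 0 := by
      have := congrArg ρρ hfZ
      rw [map_smul, map_zero, Algebra.smul_def, Algebra.TensorProduct.algebraMap_apply,
        IsScalarTower.algebraMap_apply B R S] at this
      exact this
    rw [← hρZ]
    calc ρρ Z = ((u₁ * algebraMap R S (algebraMap B R f)) ⊗ₜ[B] (1 : S)) * ρρ Z := by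
          rw [hu₁, ← Algebra.TensorProduct.one_def, one_mul]
      _ = (u₁ ⊗ₜ[B] (1 : S)) * ((algebraMap R S (algebraMap B R f) ⊗ₜ[B] (1 : S)) * ρρ Z) := by
          rw [← mul_assoc, Algebra.TensorProduct.tmul_mul_tmul, mul_one]
      _ = 0 := by rw [h3, mul_zero]
  refine ⟨(u₁ ⊗ₜ[B] (1 : S)) * ES, fun s => ?_, ?_⟩
  · obtain ⟨n, r, hr⟩ := IsLocalization.Away.surj (algebraMap B R f) s
    have hfs : (f ^ n) • s = algebraMap R S r := by
      rw [Algebra.smul_def, map_pow, IsScalarTower.algebraMap_apply B R S, mul_comm, hr]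
    obtain ⟨z, hz⟩ : ∃ z : S ⊗[B] S,
        z = ((1 : S) ⊗ₜ[B] s - s ⊗ₜ[B] (1 : S)) * ((u₁ ⊗ₜ[B] (1 : S)) * ES) := ⟨_, rfl⟩
    rw [← hz]
    have h4 : (f ^ n) • z = 0 := by
      rw [hz, ← smul_mul_assoc, smul_sub, ← TensorProduct.tmul_smul, TensorProduct.smul_tmul',
        hfs, mul_left_comm, hK, mul_zero]
    have h5 : ((u₁ ^ n) ⊗ₜ[B] (1 : S)) * ((f ^ n) • z) = z := by
      rw [Algebra.smul_def, Algebra.TensorProduct.algebraMap_apply, ← mul_assoc,
        Algebra.TensorProduct.tmul_mul_tmul, mul_one, map_pow,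
        IsScalarTower.algebraMap_apply B R S, ← mul_pow, hu₁, one_pow,
        ← Algebra.TensorProduct.one_def, one_mul]
    rw [← h5, h4, mul_zero]
  · rw [map_mul, Algebra.TensorProduct.lmul'_apply_tmul, mul_one, hES, map_sum]
    simp only [Algebra.TensorProduct.lmul'_apply_tmul]
    simp_rw [← map_mul]
    rw [← map_sum, he1, hu₁]

theorem etale_of_datum [IsDomain R] [Algebra.FinitePresentation B R]
    (hinj : Function.Injective (algebraMap B R)) {f : B}
    (hf : algebraMap B R f ≠ 0) (e : R ⊗[B] R)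
    (he1 : phi (1 : G) e = algebraMap B R f) (heg : ∀ g : G, g ≠ 1 → phi g e = 0) :
    Algebra.Etale B (Localization.Away (algebraMap B R f)) := by
  obtain ⟨K, x, y, hxy⟩ := exists_fin_sum e
  have he1' : ∑ i, x i * y i = algebraMap B R f := by
    rw [← he1, hxy, map_sum]
    simp
  have heg' : ∀ g : G, g ≠ 1 → ∑ i, x i * g • y i = 0 := by
    intro g hg
    rw [← heg g hg, hxy, map_sum]
    simp
  have : Algebra.FinitePresentation R (Localization.Away (algebraMap B R f)) :=
    IsLocalization.Away.finitePresentation (algebraMap B R f)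
  have : Algebra.FinitePresentation B (Localization.Away (algebraMap B R f)) :=
    Algebra.FinitePresentation.trans B R _
  have : Module.Flat B (Localization.Away (algebraMap B R f)) :=
    flat_of_datum (G := G) hinj hf he1' heg' _
  have : Algebra.FormallyUnramified B (Localization.Away (algebraMap B R f)) :=
    unramified_of_datum (G := G) he1' heg' _
  exact Algebra.Etale.of_formallyUnramified_of_flat

end Datum

end Groth.Agent.Lib.Helper19.GalEt
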