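import Groth.Agent.Lib.Helper19.GalEtA

/-!
# Existence of Galois data at a point with trivial stabilizer, and the converse direction
-/

set_option autoImplicit false

open scoped TensorProduct Pointwise

namespace Groth.Agent.Lib.Helper19.GalEt

universe u v w

section Exist

variable (B : Type u) {R : Type v} {G : Type w} [CommRing B] [CommRing R] [Algebra B R]
  [Group G] [MulSemiringAction G R] [SMulCommClass G B R]

/-- The ideal `{φ_1 z | φ_g z = 0}` of `R`. -/
def J (g : G) : Ideal R where
  carrier := {r | ∃ z : R ⊗[B] R, phi g z = 0 ∧ phi (1 : G) z = r}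
  add_mem' := by
    rintro a b ⟨z, hz, rfl⟩ ⟨w, hw, rfl⟩
    exact ⟨z + w, by rw [map_add, hz, hw, add_zero], map_add _ _ _⟩
  zero_mem' := ⟨0, map_zero _, map_zero _⟩
  smul_mem' := by
    rintro c a ⟨z, hz, rfl⟩
    exact ⟨(c ⊗ₜ[B] 1) * z, by rw [map_mul, hz, mul_zero],
      by rw [map_mul, phi_tmul, smul_one, mul_one, smul_eq_mul]⟩

theorem mem_J {g : G} {r : R} :
    r ∈ J B g ↔ ∃ z : R ⊗[B] R, phi g z = 0 ∧ phi (1 : G) z = r := Iff.rfl

theorem sub_smul_mem_J (g : G) (x : R) : x - g • x ∈ J B g :=
  (mem_J B).mpr ⟨(1 : R) ⊗ₜ[B] x - (g • x) ⊗ₜ[B] (1 : R), by simp, by simp⟩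

variable {B}

theorem not_J_le (m : Ideal R) (hstab : MulAction.stabilizer G m = ⊥) (g : G) (hg : g ≠ 1)
    (h : G) : ¬ (J B g ≤ h • m) := by
  intro hle
  have key : ∀ y : R, y - (h⁻¹ * g * h) • y ∈ m := by
    intro y
    have h1 : h • y - g • h • y ∈ h • m := hle (sub_smul_mem_J B g (h • y))
    rw [Ideal.mem_pointwise_smul_iff_inv_smul_mem] at h1
    have h2 : h⁻¹ • (h • y - g • h • y) = y - (h⁻¹ * g * h) • y := by
      rw [smul_sub, inv_smul_smul, mul_smul, mul_smul]
    rwa [h2] at h1
  obtain ⟨g', hg'⟩ : ∃ g' : G, g' = h⁻¹ * g * h := ⟨_, rfl⟩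
  rw [← hg'] at key
  have hg'm : g' • m = m := by
    apply le_antisymm
    · intro x hx
      rw [Ideal.mem_pointwise_smul_iff_inv_smul_mem] at hx
      have h1 := key (g'⁻¹ • x)
      rw [smul_inv_smul] at h1
      have h2 := m.sub_mem hx h1
      rwa [sub_sub_cancel] at h2
    · intro x hx
      rw [Ideal.mem_pointwise_smul_iff_inv_smul_mem]
      have h1 := key (g'⁻¹ • x)
      rw [smul_inv_smul] at h1
      have h2 := m.add_mem h1 hx
      rwa [sub_add_cancel] at h2
  have h1 : g' ∈ MulAction.stabilizer G m := MulAction.mem_stabilizer_iff.mpr hg'm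
  rw [hstab, Subgroup.mem_bot] at h1
  apply hg
  calc g = h * (h⁻¹ * g * h) * h⁻¹ := by group
    _ = 1 := by rw [← hg', h1]; group

variable [Finite G] [Algebra.IsInvariant B R G]

theorem exists_f (m : Ideal R) [m.IsMaximal] (hstab : MulAction.stabilizer G m = ⊥) (g : G)
    (hg : g ≠ 1) :
    ∃ (f : B) (e : R ⊗[B] R), algebraMap B R f ∉ m ∧ phi (1 : G) e = algebraMap B R f ∧
      phi g e = 0 := by
  haveI : Algebra.IsIntegral B R := Algebra.IsInvariant.isIntegral B R G
  have hnle : ¬ (Ideal.comap (algebraMap B R) (J B g) ≤ Ideal.comap (algebraMap B R) m) := by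
    intro hle
    obtain ⟨Q, hQJ, hQp, hQm⟩ := Ideal.exists_ideal_over_prime_of_isIntegral
      (Ideal.comap (algebraMap B R) m) (J B g) hle
    haveI := hQp
    obtain ⟨h, hh⟩ := Algebra.IsInvariant.exists_smul_of_under_eq B R G m Q
      (by rw [Ideal.under_def, Ideal.under_def, hQm])
    exact not_J_le m hstab g hg h (hh ▸ hQJ)
  obtain ⟨f, hfJ, hfm⟩ := SetLike.not_le_iff_exists.mp hnle
  obtain ⟨e, heg, he1⟩ := (mem_J B).mp (Ideal.mem_comap.mp hfJ)
  exact ⟨f, e, fun h => hfm (Ideal.mem_comap.mpr h), he1, heg⟩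

theorem exists_datum (m : Ideal R) [m.IsMaximal] (hstab : MulAction.stabilizer G m = ⊥) :
    ∃ (f : B) (e : R ⊗[B] R), algebraMap B R f ∉ m ∧ phi (1 : G) e = algebraMap B R f ∧
      ∀ g : G, g ≠ 1 → phi g e = 0 := by
  classical
  cases nonempty_fintype G
  have h : ∀ g : G, ∃ fe : B × (R ⊗[B] R), algebraMap B R fe.1 ∉ m ∧
      phi (1 : G) fe.2 = algebraMap B R fe.1 ∧ (g ≠ 1 → phi g fe.2 = 0) := by
    intro g
    by_cases hg : g = 1
    · refine ⟨(1, 1), ?_, ?_, fun h => absurd hg h⟩
      · rw [map_one]
        exact (Ideal.ne_top_iff_one m).mp (Ideal.IsPrime.ne_top inferInstance)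
      · rw [map_one, map_one]
    · obtain ⟨f, e, h1, h2, h3⟩ := exists_f (B := B) m hstab g hg
      exact ⟨(f, e), h1, h2, fun _ => h3⟩
  choose fe h1 h2 h3 using h
  refine ⟨∏ g, (fe g).1, ∏ g, (fe g).2, ?_, ?_, ?_⟩
  · rw [map_prod]
    intro hmem
    obtain ⟨g, -, hg⟩ := Ideal.IsPrime.prod_mem_iff.mp hmem
    exact h1 g hg
  · rw [map_prod, map_prod]
    exact Finset.prod_congr rfl fun g _ => h2 g
  · intro g hg
    rw [map_prod]
    exact Finset.prod_eq_zero (Finset.mem_univ g) (h3 g hg)

end Exist

theorem finitePresentation_of_invariant (k : Type*) [Field k] {B : Type u} {R : Type v}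
    (G : Type w) [CommRing B] [CommRing R] [Algebra B R] [Group G] [Finite G]
    [MulSemiringAction G R] [SMulCommClass G B R] [Algebra.IsInvariant B R G]
    [Algebra k B] [Algebra k R]
    [IsScalarTower k B R] [Algebra.FiniteType k R]
    (hinj : Function.Injective (algebraMap B R)) : Algebra.FinitePresentation B R := by
  have : Algebra.IsIntegral B R := Algebra.IsInvariant.isIntegral B R G
  have : Algebra.FiniteType B R := Algebra.FiniteType.of_restrictScalars_finiteType k B R
  have : Module.Finite B R := Algebra.IsIntegral.finite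
  have hB : Algebra.FiniteType k B :=
    ⟨fg_of_fg_of_fg k B R Algebra.FiniteType.out Module.Finite.fg_top hinj⟩
  have : IsNoetherianRing B := Algebra.FiniteType.isNoetherianRing k B
  exact Algebra.FinitePresentation.of_finiteType.mp inferInstance


section Converse

open IsLocalRing

theorem stabilizer_eq_bot_of_unramifiedAt (k : Type*) [Field k] [IsAlgClosed k]
    {R : Type v} [CommRing R] [IsDomain R] [Algebra k R] [Algebra.FiniteType k R]
    {G : Type w} [Group G] [MulSemiringAction G R] [FaithfulSMul G R] [SMulCommClass G k R]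
    {B : Type u} [CommRing B] [Algebra B R] [SMulCommClass G B R]
    (m : Ideal R) [m.IsMaximal] [Algebra.FormallyUnramified B (Localization.AtPrime m)] :
    MulAction.stabilizer G m = ⊥ := by
  rw [eq_bot_iff]
  intro g hg
  rw [MulAction.mem_stabilizer_iff] at hg
  rw [Subgroup.mem_bot]
  apply FaithfulSMul.eq_of_smul_eq_smul (α := R)
  intro r
  rw [one_smul]
  haveI : IsNoetherianRing R := Algebra.FiniteType.isNoetherianRing k R
  haveI : IsNoetherianRing (Localization.AtPrime m) :=
    IsLocalization.isNoetherianRing m.primeCompl _ inferInstance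
  have hmem : ∀ x : R, g • x ∈ m ↔ x ∈ m := by
    intro x
    have := Ideal.smul_mem_pointwise_smul_iff (a := g) (S := m) (x := x)
    rwa [hg] at this
  have hcomap : m = Ideal.comap (MulSemiringAction.toRingHom G R g) m := by
    ext x
    rw [Ideal.mem_comap]
    exact (hmem x).symm
  obtain ⟨γ, hγ'⟩ : ∃ γ : Localization.AtPrime m →ₐ[B] Localization.AtPrime m,
      ∀ z, γ z = Localization.localRingHom m m (MulSemiringAction.toRingHom G R g) hcomap z := by
    refine ⟨{ Localization.localRingHom m m (MulSemiringAction.toRingHom G R g) hcomap with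
              commutes' := fun b => ?_ }, fun z => rfl⟩
    change Localization.localRingHom m m (MulSemiringAction.toRingHom G R g) hcomap
      (algebraMap B (Localization.AtPrime m) b) = algebraMap B (Localization.AtPrime m) b
    rw [IsScalarTower.algebraMap_apply B R (Localization.AtPrime m),
      Localization.localRingHom_to_map, MulSemiringAction.toRingHom_apply, smul_algebraMap]
  have hγ : ∀ x : R, γ (algebraMap R (Localization.AtPrime m) x)
      = algebraMap R (Localization.AtPrime m) (g • x) := by
    intro x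
    rw [hγ', Localization.localRingHom_to_map, MulSemiringAction.toRingHom_apply]
  have hγM : ∀ y ∈ maximalIdeal (Localization.AtPrime m),
      γ y ∈ maximalIdeal (Localization.AtPrime m) := by
    intro y hy
    rw [IsLocalRing.mem_maximalIdeal, mem_nonunits_iff] at hy ⊢
    intro hu
    rw [hγ'] at hu
    exact hy (IsLocalHom.map_nonunit
      (f := Localization.localRingHom m m (MulSemiringAction.toRingHom G R g) hcomap) y hu)
  have hres : ∀ r : R, ∃ c : k, r - algebraMap k R c ∈ m := by
    intro r
    letI := Ideal.Quotient.field m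
    haveI : Module.Finite k (R ⧸ m) := finite_of_finite_type_of_isJacobsonRing k (R ⧸ m)
    haveI : Algebra.IsIntegral k (R ⧸ m) := Algebra.IsIntegral.of_finite k (R ⧸ m)
    obtain ⟨c, hc⟩ := (IsAlgClosed.algebraMap_bijective_of_isIntegral (k := k)
      (K := R ⧸ m)).2 (Ideal.Quotient.mk m r)
    refine ⟨c, ?_⟩
    rw [← Ideal.Quotient.eq, ← hc]
    rfl
  have hinert : ∀ r : R, r - g • r ∈ m := by
    intro r
    obtain ⟨c, hc⟩ := hres r
    have h2 : g • (r - algebraMap k R c) ∈ m := (hmem _).mpr hc
    rw [smul_sub, smul_algebraMap] at h2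
    have h3 := m.sub_mem hc h2
    have h4 : r - algebraMap k R c - (g • r - algebraMap k R c) = r - g • r := by ring
    rwa [h4] at h3
  have hlift : ∀ x : Localization.AtPrime m, ∃ r : R,
      x - algebraMap R (Localization.AtPrime m) r ∈ maximalIdeal (Localization.AtPrime m) := by
    intro x
    obtain ⟨a, s, rfl⟩ := IsLocalization.exists_mk'_eq m.primeCompl x
    obtain ⟨s', i, hi, hsi⟩ := Ideal.IsMaximal.exists_inv ‹m.IsMaximal› s.2
    refine ⟨a * s', ?_⟩
    have hunit : IsUnit (algebraMap R (Localization.AtPrime m) (s : R)) :=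
      IsLocalization.map_units _ s
    have h1 : (IsLocalization.mk' (Localization.AtPrime m) a s
        - algebraMap R (Localization.AtPrime m) (a * s'))
          * algebraMap R (Localization.AtPrime m) (s : R)
        = algebraMap R (Localization.AtPrime m) (a * i) := by
      rw [sub_mul, IsLocalization.mk'_spec, ← map_mul, ← map_sub]
      congr 1
      linear_combination (-a) * hsi
    have h2 : algebraMap R (Localization.AtPrime m) (a * i)
        ∈ maximalIdeal (Localization.AtPrime m) :=
      (IsLocalization.AtPrime.to_map_mem_maximal_iff (Localization.AtPrime m) m (a * i)).mpr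
        (m.mul_mem_left a hi)
    obtain ⟨v, hv⟩ := hunit.exists_right_inv
    have h3 : IsLocalization.mk' (Localization.AtPrime m) a s
        - algebraMap R (Localization.AtPrime m) (a * s')
        = ((IsLocalization.mk' (Localization.AtPrime m) a s
        - algebraMap R (Localization.AtPrime m) (a * s'))
          * algebraMap R (Localization.AtPrime m) (s : R)) * v := by
      rw [mul_assoc, hv, mul_one]
    rw [h3, h1]
    exact Ideal.mul_mem_right _ _ h2
  have hclaim : ∀ x : Localization.AtPrime m,
      x - γ x ∈ maximalIdeal (Localization.AtPrime m) := by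
    intro x
    obtain ⟨r, hr⟩ := hlift x
    have h1 : γ (x - algebraMap R (Localization.AtPrime m) r)
        ∈ maximalIdeal (Localization.AtPrime m) := hγM _ hr
    have h2 : algebraMap R (Localization.AtPrime m) (r - g • r)
        ∈ maximalIdeal (Localization.AtPrime m) :=
      (IsLocalization.AtPrime.to_map_mem_maximal_iff (Localization.AtPrime m) m _).mpr (hinert r)
    have h3 : x - γ x = (x - algebraMap R (Localization.AtPrime m) r)
        - γ (x - algebraMap R (Localization.AtPrime m) r)
        + algebraMap R (Localization.AtPrime m) (r - g • r) := by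
      rw [map_sub, hγ, map_sub]
      ring
    rw [h3]
    exact Ideal.add_mem _ (Ideal.sub_mem _ hr h1) h2
  have hpow : ∀ (j : ℕ) (x : Localization.AtPrime m),
      x - γ x ∈ maximalIdeal (Localization.AtPrime m) ^ j := by
    intro j x
    have hnil : IsNilpotent (Ideal.map
        (Ideal.Quotient.mk (maximalIdeal (Localization.AtPrime m) ^ j))
        (maximalIdeal (Localization.AtPrime m))) := by
      refine ⟨j, ?_⟩
      rw [← Ideal.map_pow, Ideal.zero_eq_bot, Ideal.map_quotient_self]
    have heq := Algebra.FormallyUnramified.ext (R := B) (A := Localization.AtPrime m)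
      (I := Ideal.map (Ideal.Quotient.mk (maximalIdeal (Localization.AtPrime m) ^ j))
        (maximalIdeal (Localization.AtPrime m))) hnil
      (g₁ := Ideal.Quotient.mkₐ B (maximalIdeal (Localization.AtPrime m) ^ j))
      (g₂ := (Ideal.Quotient.mkₐ B (maximalIdeal (Localization.AtPrime m) ^ j)).comp γ)
      (fun x => by
        rw [Ideal.Quotient.eq]
        change Ideal.Quotient.mk (maximalIdeal (Localization.AtPrime m) ^ j) x
          - Ideal.Quotient.mk (maximalIdeal (Localization.AtPrime m) ^ j) (γ x) ∈ _
        rw [← map_sub]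
        exact Ideal.mem_map_of_mem _ (hclaim x))
    have h1 := AlgHom.congr_fun heq x
    simp only [AlgHom.comp_apply, Ideal.Quotient.mkₐ_eq_mk] at h1
    exact Ideal.Quotient.eq.mp h1
  have hkrull : ⨅ j : ℕ, maximalIdeal (Localization.AtPrime m) ^ j = ⊥ :=
    Ideal.iInf_pow_eq_bot_of_isLocalRing _ (IsLocalRing.maximalIdeal.isMaximal _).ne_top
  have hfix : ∀ x : Localization.AtPrime m, γ x = x := by
    intro x
    have h1 : x - γ x ∈ (⨅ j : ℕ, maximalIdeal (Localization.AtPrime m) ^ j) :=
      (Ideal.mem_iInf).mpr (fun j => hpow j x)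
    rw [hkrull, Ideal.mem_bot, sub_eq_zero] at h1
    exact h1.symm
  have h1 := hfix (algebraMap R (Localization.AtPrime m) r)
  rw [hγ] at h1
  exact IsLocalization.injective (Localization.AtPrime m)
    (Ideal.primeCompl_le_nonZeroDivisors m) h1

end Converse

end Groth.Agent.Lib.Helper19.GalEt
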