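import Mathlib

/-!
# A detecting algebra for divided powers

For a field `κ` and a finite index type `ι` we use the algebra `κ[ε_j]/(ε_j²)`; the coefficients of
`∏ (1 + c_j T)` with `c_j ∈ κ ε_j` give a divided-power-like family, hence (by `lift'`) an algebra
map out of the divided power algebra.
-/

set_option linter.style.haveILetI false

namespace Groth.Agent.Lib.Helper19.GammaConv

open Polynomial TensorProduct

section Gen

variable {B : Type*} [CommRing B] {ι : Type*}

/-- generating polynomial `∏ (1 + c_j X)` -/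
noncomputable def G (s : Finset ι) (c : ι → B) : B[X] := ∏ j ∈ s, (1 + C (c j) * X)

theorem G_coeff_zero (s : Finset ι) (c : ι → B) : (G s c).coeff 0 = 1 := by
  simp [G, Polynomial.coeff_zero_eq_eval_zero, Polynomial.eval_prod]

theorem G_add (s : Finset ι) (c c' : ι → B) (h : ∀ j ∈ s, c j * c' j = 0) :
    G s (fun j => c j + c' j) = G s c * G s c' := by
  unfold G
  rw [← Finset.prod_mul_distrib]
  refine Finset.prod_congr rfl (fun j hj => ?_)
  have h0 : (C (c j) : B[X]) * C (c' j) = 0 := by rw [← C_mul, h j hj, C_0]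
  rw [C_add]
  linear_combination (-(X : B[X]) ^ 2) * h0

theorem G_smul (s : Finset ι) (c : ι → B) (a : B) :
    G s (fun j => a * c j) = (G s c).comp (C a * X) := by
  unfold G
  rw [Polynomial.prod_comp]
  refine Finset.prod_congr rfl (fun j _ => ?_)
  simp only [add_comp, one_comp, mul_comp, C_comp, X_comp, C_mul]
  ring

theorem G_coeff_smul (s : Finset ι) (c : ι → B) (a : B) (n : ℕ) :
    (G s (fun j => a * c j)).coeff n = a ^ n * (G s c).coeff n := by
  rw [G_smul, comp_C_mul_X_coeff, mul_comm]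

theorem G_insert [DecidableEq ι] (s : Finset ι) (c : ι → B) (j : ι) (hj : j ∉ s) :
    G (insert j s) c = (1 + C (c j) * X) * G s c := by
  unfold G; rw [Finset.prod_insert hj]

theorem coeff_lin_mul_zero (a : B) (g : B[X]) : ((1 + C a * X) * g).coeff 0 = g.coeff 0 := by
  simp [Polynomial.mul_coeff_zero]

theorem coeff_lin_mul_succ (a : B) (g : B[X]) (n : ℕ) :
    ((1 + C a * X) * g).coeff (n + 1) = g.coeff (n + 1) + a * g.coeff n := by
  rw [add_mul, one_mul, coeff_add, mul_assoc, coeff_C_mul, coeff_X_mul]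

theorem G_coeff_mul [DecidableEq ι] (s : Finset ι) (c : ι → B) (h : ∀ j ∈ s, c j * c j = 0) :
    ∀ n k m : ℕ, n + k = m →
      (G s c).coeff n * (G s c).coeff k = (m.choose n : B) * (G s c).coeff m := by
  induction s using Finset.induction_on with
  | empty =>
    intro n k m hm
    subst hm
    simp only [G, Finset.prod_empty, coeff_one]
    rcases n with _ | n
    · rcases k with _ | k
      · simp
      · simp
    · simp
  | insert j s hj ih =>
    have ih' := ih (fun i hi => h i (Finset.mem_insert_of_mem hi))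
    have ha : c j * c j = 0 := h j (Finset.mem_insert_self j s)
    have g0 : (G s c).coeff 0 = 1 := G_coeff_zero s c
    intro n k m hm
    subst hm
    rw [G_insert s c j hj]
    rcases n with _ | n
    · rcases k with _ | k
      · simp [coeff_lin_mul_zero, g0]
      · simp only [coeff_lin_mul_zero, g0, zero_add, Nat.choose_zero_right,
          Nat.cast_one, one_mul]
    · rcases k with _ | k
      · simp only [coeff_lin_mul_zero, g0, add_zero, Nat.choose_self,
          Nat.cast_one, one_mul, mul_one]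
      · have e : n + 1 + (k + 1) = (n + k + 1) + 1 := by omega
        rw [e]
        simp only [coeff_lin_mul_succ]
        have h1 := ih' (n + 1) (k + 1) (n + k + 1 + 1) (by omega)
        have h2 := ih' n (k + 1) (n + k + 1) (by omega)
        have h3 := ih' (n + 1) k (n + k + 1) (by omega)
        have hP : (((n + k + 1 + 1).choose (n + 1) : ℕ) : B)
            = ((n + k + 1).choose n : ℕ) + ((n + k + 1).choose (n + 1) : ℕ) := by
          rw [Nat.choose_succ_succ, Nat.cast_add]
        linear_combination h1 + c j * h2 + c j * h3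
          + ((G s c).coeff n * (G s c).coeff k) * ha
          - (c j * (G s c).coeff (n + k + 1)) * hP

theorem G_coeff_card (s : Finset ι) (c : ι → B) : (G s c).coeff s.card = ∏ j ∈ s, c j := by
  have := Polynomial.coeff_prod_of_natDegree_le (s := s) (fun j => (1 + C (c j) * X : B[X])) 1
    (fun j _ => Polynomial.natDegree_add_le_of_degree_le (by simp)
      ((natDegree_C_mul_le _ _).trans natDegree_X_le))
  rw [mul_one] at this
  rw [G, this]
  refine Finset.prod_congr rfl (fun j _ => ?_)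
  simp [coeff_one]

theorem G_coeff_one [DecidableEq ι] (s : Finset ι) (c : ι → B) :
    (G s c).coeff 1 = ∑ j ∈ s, c j := by
  induction s using Finset.induction_on with
  | empty => simp [G, coeff_one]
  | insert j s hj ih =>
    have := coeff_lin_mul_succ (c j) (G s c) 0
    simp only [zero_add] at this
    rw [G_insert s c j hj, Finset.sum_insert hj, this, ih, G_coeff_zero, mul_one, add_comm]

theorem key_prod [DecidableEq ι] [Fintype ι] (e : ι → B) (he : ∀ j, e j * e j = 0) (j₀ : ι)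
    (a : B) (b : ι → B) (c1 c2 : ι → B) (h10 : c1 j₀ = 0)
    (h1 : ∀ j, j ≠ j₀ → c1 j = a * e j) (h2 : ∀ j, c2 j = b j * e j) :
    (G Finset.univ c1).coeff (Fintype.card ι - 1) * (G Finset.univ c2).coeff 1
      = a ^ (Fintype.card ι - 1) * b j₀ * ∏ j, e j := by
  have hG1 : G Finset.univ c1 = G (Finset.univ.erase j₀) c1 := by
    unfold G
    rw [← Finset.mul_prod_erase Finset.univ _ (Finset.mem_univ j₀), h10]
    simp
  have hcard : (Finset.univ.erase j₀ : Finset ι).card = Fintype.card ι - 1 := by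
    rw [Finset.card_erase_of_mem (Finset.mem_univ j₀), Finset.card_univ]
  have hP : (G Finset.univ c1).coeff (Fintype.card ι - 1)
      = a ^ (Fintype.card ι - 1) * ∏ j ∈ Finset.univ.erase j₀, e j := by
    rw [hG1, ← hcard, G_coeff_card]
    rw [Finset.prod_congr rfl (fun j hj => h1 j (Finset.ne_of_mem_erase hj)),
      Finset.prod_mul_distrib, Finset.prod_const]
  rw [hP, G_coeff_one, Finset.mul_sum]
  rw [Finset.sum_eq_single j₀]
  · rw [h2 j₀, ← Finset.prod_erase_mul Finset.univ e (Finset.mem_univ j₀)]; ring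
  · intro j _ hj
    rw [h2 j, ← Finset.mul_prod_erase (Finset.univ.erase j₀) e
      (Finset.mem_erase.2 ⟨hj, Finset.mem_univ j⟩)]
    have := he j
    linear_combination (a ^ (Fintype.card ι - 1) * b j
      * ∏ x ∈ (Finset.univ.erase j₀).erase j, e x) * this
  · intro h; exact absurd (Finset.mem_univ j₀) h

end Gen

section Alg

variable (κ : Type*) [Field κ] (ι : Type*)

/-- the ideal generated by the squares of the variables -/
noncomputable def sqIdeal : Ideal (MvPolynomial ι κ) :=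
  Ideal.span ((fun s => MvPolynomial.monomial s (1 : κ)) ''
    (Set.range fun j : ι => Finsupp.single j 2))

/-- the squarefree algebra `κ[ε_j]/(ε_j²)` -/
abbrev SqF : Type _ := MvPolynomial ι κ ⧸ sqIdeal κ ι

/-- the class of the variable -/
noncomputable def eps (j : ι) : SqF κ ι := Ideal.Quotient.mk _ (MvPolynomial.X j)

theorem eps_sq (j : ι) : eps κ ι j * eps κ ι j = 0 := by
  unfold eps
  rw [← map_mul, Ideal.Quotient.eq_zero_iff_mem]
  apply Ideal.subset_span
  refine ⟨Finsupp.single j 2, ⟨j, rfl⟩, ?_⟩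
  simp only [MvPolynomial.X, MvPolynomial.monomial_mul, mul_one, ← Finsupp.single_add]

theorem prod_eps_ne_zero [Fintype ι] : ∏ j, eps κ ι j ≠ 0 := by
  classical
  unfold eps
  rw [← map_prod, Ne, Ideal.Quotient.eq_zero_iff_mem]
  intro hmem
  have hX : ∏ j : ι, (MvPolynomial.X j : MvPolynomial ι κ)
      = MvPolynomial.monomial (∑ j : ι, Finsupp.single j 1) 1 := by
    rw [MvPolynomial.monomial_sum_one]; rfl
  rw [hX, sqIdeal, MvPolynomial.mem_ideal_span_monomial_image] at hmem
  obtain ⟨si, ⟨j, rfl⟩, hle⟩ := hmem (∑ j : ι, Finsupp.single j 1) (by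
    rw [MvPolynomial.support_monomial]; simp)
  have := hle j
  simp [Finsupp.finset_sum_apply, Finsupp.single_apply] at this

end Alg

section Fam

variable {κ : Type*} [Field κ] {ι : Type*} [Fintype ι]
  {A M : Type*} [CommRing A] [AddCommGroup M] [Module A M] [Algebra A κ]
  (ℓ1 ℓ2 : M →ₗ[A] κ) (α β : ι → κ)

/-- the coefficients `L_j(m) ε_j` -/
noncomputable def cB (m : M) (j : ι) : SqF κ ι :=
  algebraMap κ (SqF κ ι) (α j * ℓ1 m + β j * ℓ2 m) * eps κ ι j

theorem cB_mul (m m' : M) (j : ι) : cB ℓ1 ℓ2 α β m j * cB ℓ1 ℓ2 α β m' j = 0 := by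
  unfold cB
  rw [mul_mul_mul_comm, eps_sq, mul_zero]

theorem cB_smul (r : A) (m : M) :
    cB ℓ1 ℓ2 α β (r • m) = fun j => algebraMap A (SqF κ ι) r * cB ℓ1 ℓ2 α β m j := by
  funext j
  simp only [cB, map_smul, Algebra.smul_def, map_add, map_mul,
    IsScalarTower.algebraMap_apply A κ (SqF κ ι) r]
  ring

theorem cB_add (u v : M) :
    cB ℓ1 ℓ2 α β (u + v) = fun j => cB ℓ1 ℓ2 α β u j + cB ℓ1 ℓ2 α β v j := by
  funext j
  simp only [cB, map_add, map_mul]
  ring

/-- the divided-power-like family -/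
noncomputable def fam (x : ℕ × M) : SqF κ ι := (G Finset.univ (cB ℓ1 ℓ2 α β x.2)).coeff x.1

/-- the algebra map out of the divided power algebra -/
noncomputable def Phi : DividedPowerAlgebra A M →ₐ[A] SqF κ ι :=
  DividedPowerAlgebra.lift' (f := fam ℓ1 ℓ2 α β)
    (fun m => G_coeff_zero _ _)
    (fun n r m => by
      unfold fam
      dsimp only
      rw [cB_smul, G_coeff_smul, Algebra.smul_def, map_pow])
    (fun n p m => by
      classical
      show (G Finset.univ (cB ℓ1 ℓ2 α β m)).coeff n * (G Finset.univ (cB ℓ1 ℓ2 α β m)).coeff p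
        = (n + p).choose n • (G Finset.univ (cB ℓ1 ℓ2 α β m)).coeff (n + p)
      rw [nsmul_eq_mul]
      exact G_coeff_mul Finset.univ _ (fun j _ => cB_mul ℓ1 ℓ2 α β m m j) n p (n + p) rfl)
    (fun n u v => by
      show (G Finset.univ (cB ℓ1 ℓ2 α β (u + v))).coeff n = _
      rw [cB_add, G_add _ _ _ (fun j _ => cB_mul ℓ1 ℓ2 α β u v j), coeff_mul]
      exact Finset.sum_congr rfl (fun x _ => by rcases x with ⟨k, l⟩; rfl))

theorem Phi_dp (n : ℕ) (m : M) :
    Phi ℓ1 ℓ2 α β (DividedPowerAlgebra.dp A n m)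
      = (G Finset.univ (cB ℓ1 ℓ2 α β m)).coeff n := by
  unfold Phi
  rw [DividedPowerAlgebra.lift'_apply_dp]
  rfl

theorem Phi_dp_card (hvan : ∀ a b : κ, ∏ j, (α j * a + β j * b) = 0) (m : M) :
    Phi ℓ1 ℓ2 α β (DividedPowerAlgebra.dp A (Fintype.card ι) m) = 0 := by
  rw [Phi_dp]
  have := G_coeff_card Finset.univ (cB ℓ1 ℓ2 α β m)
  rw [Finset.card_univ] at this
  rw [this]
  unfold cB
  rw [Finset.prod_mul_distrib, ← map_prod, hvan, map_zero, zero_mul]

theorem Phi_ne_zero (j₀ : ι) (hα0 : α j₀ = 0) (hα : ∀ j, j ≠ j₀ → α j = 1) (hβ : β j₀ = 1)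
    (m1 m2 : M) (u1 u2 : κ) (hu1 : u1 ≠ 0) (hu2 : u2 ≠ 0)
    (h11 : ℓ1 m1 = u1) (h21 : ℓ2 m1 = 0) (h12 : ℓ1 m2 = 0) (h22 : ℓ2 m2 = u2) :
    Phi ℓ1 ℓ2 α β (DividedPowerAlgebra.dp A (Fintype.card ι - 1) m1
      * DividedPowerAlgebra.dp A 1 m2) ≠ 0 := by
  classical
  rw [map_mul, Phi_dp, Phi_dp]
  rw [key_prod (eps κ ι) (eps_sq κ ι) j₀ (algebraMap κ (SqF κ ι) u1)
    (fun j => algebraMap κ (SqF κ ι) (β j * u2)) (cB ℓ1 ℓ2 α β m1) (cB ℓ1 ℓ2 α β m2)
    (by simp [cB, hα0, h11, h21])
    (fun j hj => by simp [cB, hα j hj, h11, h21])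
    (fun j => by simp [cB, h12, h22])]
  rw [hβ, one_mul, ← map_pow, ← map_mul]
  intro h0
  apply prod_eps_ne_zero κ ι
  have hc : u1 ^ (Fintype.card ι - 1) * u2 ≠ 0 := mul_ne_zero (pow_ne_zero _ hu1) hu2
  have := congrArg (fun z => algebraMap κ (SqF κ ι) (u1 ^ (Fintype.card ι - 1) * u2)⁻¹ * z) h0
  rwa [← mul_assoc, ← map_mul, inv_mul_cancel₀ hc, map_one, one_mul, mul_zero] at this

end Fam

section Nak

theorem exists_dual_pair {R : Type*} [CommRing R] [IsLocalRing R] {N : Type*} [AddCommGroup N]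
    [Module R N] [Module.Finite R N] (hN : ∀ x : N, Submodule.span R {x} ≠ ⊤) :
    ∃ (φ1 φ2 : N →ₗ[R] IsLocalRing.ResidueField R) (n1 n2 : N),
      φ1 n1 = 1 ∧ φ2 n1 = 0 ∧ φ1 n2 = 0 ∧ φ2 n2 = 1 := by
  classical
  have hsurj : Function.Surjective (TensorProduct.mk R (IsLocalRing.ResidueField R) N 1) :=
    TensorProduct.mk_surjective R N _ Ideal.Quotient.mk_surjective
  have hrank : 1 < Module.finrank (IsLocalRing.ResidueField R)
      (IsLocalRing.ResidueField R ⊗[R] N) := by
    by_contra hle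
    push Not at hle
    obtain ⟨v, hv⟩ := finrank_le_one_iff.mp hle
    obtain ⟨n, rfl⟩ := hsurj v
    apply hN n
    rw [← IsLocalRing.map_tensorProduct_mk_eq_top, eq_top_iff]
    intro w _
    obtain ⟨c, hc⟩ := hv w
    obtain ⟨r, rfl⟩ := Ideal.Quotient.mk_surjective c
    refine ⟨r • n, Submodule.smul_mem _ _ (Submodule.mem_span_singleton_self n), ?_⟩
    rw [← hc]
    simp only [TensorProduct.mk_apply, TensorProduct.tmul_smul, TensorProduct.smul_tmul']
    rfl
  have hnt : Nontrivial (IsLocalRing.ResidueField R ⊗[R] N) :=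
    Module.nontrivial_of_finrank_pos (R := IsLocalRing.ResidueField R) (by omega)
  obtain ⟨x, hx⟩ := exists_ne (0 : IsLocalRing.ResidueField R ⊗[R] N)
  obtain ⟨y, hxy⟩ := exists_linearIndependent_pair_of_one_lt_finrank hrank hx
  obtain ⟨n1, rfl⟩ := hsurj x
  obtain ⟨n2, rfl⟩ := hsurj y
  obtain ⟨g, hg⟩ := (Finsupp.linearCombination (IsLocalRing.ResidueField R)
    ![TensorProduct.mk R (IsLocalRing.ResidueField R) N 1 n1,
      TensorProduct.mk R (IsLocalRing.ResidueField R) N 1 n2]).exists_leftInverse_of_injective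
    (linearIndependent_iff_ker.mp hxy)
  have hgv : ∀ i, g (![TensorProduct.mk R (IsLocalRing.ResidueField R) N 1 n1,
      TensorProduct.mk R (IsLocalRing.ResidueField R) N 1 n2] i) = Finsupp.single i 1 := by
    intro i
    have := LinearMap.congr_fun hg (Finsupp.single i 1)
    simpa [Finsupp.linearCombination_single] using this
  have h0 := hgv 0
  have h1 := hgv 1
  simp only [Matrix.cons_val_zero, Matrix.cons_val_one] at h0 h1
  refine ⟨((Finsupp.lapply 0 ∘ₗ g).restrictScalars R) ∘ₗ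
      (TensorProduct.mk R (IsLocalRing.ResidueField R) N 1),
    ((Finsupp.lapply 1 ∘ₗ g).restrictScalars R) ∘ₗ
      (TensorProduct.mk R (IsLocalRing.ResidueField R) N 1), n1, n2, ?_, ?_, ?_, ?_⟩
  · simp only [LinearMap.comp_apply, LinearMap.restrictScalars_apply, Finsupp.lapply_apply]
    rw [h0]; simp
  · simp only [LinearMap.comp_apply, LinearMap.restrictScalars_apply, Finsupp.lapply_apply]
    rw [h0]; simp
  · simp only [LinearMap.comp_apply, LinearMap.restrictScalars_apply, Finsupp.lapply_apply]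
    rw [h1]; simp
  · simp only [LinearMap.comp_apply, LinearMap.restrictScalars_apply, Finsupp.lapply_apply]
    rw [h1]; simp

end Nak

section Core

variable {κ : Type*} [Field κ] {A M : Type*} [CommRing A] [AddCommGroup M] [Module A M]
  [Algebra A κ]

theorem core {ι : Type*} [Fintype ι] (d : ℕ) (hcardι : Fintype.card ι = d)
    (α β : ι → κ) (j₀ : ι) (hα0 : α j₀ = 0) (hα : ∀ j, j ≠ j₀ → α j = 1) (hβ : β j₀ = 1)
    (hvan : ∀ a b : κ, ∏ j, (α j * a + β j * b) = 0)
    (ℓ1 ℓ2 : M →ₗ[A] κ) (m1 m2 : M) (u1 u2 : κ) (hu1 : u1 ≠ 0) (hu2 : u2 ≠ 0)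
    (h11 : ℓ1 m1 = u1) (h21 : ℓ2 m1 = 0) (h12 : ℓ1 m2 = 0) (h22 : ℓ2 m2 = u2)
    (hx0 : DividedPowerAlgebra.dp A (d - 1) m1 * DividedPowerAlgebra.dp A 1 m2 ∈
      Submodule.span A (Set.range
        (DividedPowerAlgebra.dp A d : M → DividedPowerAlgebra A M))) : False := by
  have hker : Submodule.span A (Set.range
      (DividedPowerAlgebra.dp A d : M → DividedPowerAlgebra A M))
      ≤ LinearMap.ker (Phi ℓ1 ℓ2 α β).toLinearMap := by
    rw [Submodule.span_le]
    rintro _ ⟨m, rfl⟩
    have := Phi_dp_card ℓ1 ℓ2 α β hvan m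
    rw [hcardι] at this
    exact this
  have h0 := hker hx0
  have hne := Phi_ne_zero ℓ1 ℓ2 α β j₀ hα0 hα hβ m1 m2 u1 u2 hu1 hu2 h11 h21 h12 h22
  rw [hcardι] at hne
  exact hne h0

/-- the index type: `r` copies of the form `X`, the form `Y`, and the forms `X - cY` -/
abbrev Idx (κ : Type*) (r : ℕ) : Type _ := Fin r ⊕ Option κ

/-- coefficient of `X` -/
def alphaFn (r : ℕ) : Idx κ r → κ := Sum.elim (fun _ => 1) (fun o => Option.elim o 0 (fun _ => 1))

/-- coefficient of `Y` -/
def betaFn (r : ℕ) : Idx κ r → κ := Sum.elim (fun _ => 0) (fun o => Option.elim o 1 (fun c => -c))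

theorem false_of_span [Fintype κ] (d : ℕ) (hq : Fintype.card κ < d)
    (ℓ1 ℓ2 : M →ₗ[A] κ) (m1 m2 : M) (u1 u2 : κ) (hu1 : u1 ≠ 0) (hu2 : u2 ≠ 0)
    (h11 : ℓ1 m1 = u1) (h21 : ℓ2 m1 = 0) (h12 : ℓ1 m2 = 0) (h22 : ℓ2 m2 = u2)
    (hx0 : DividedPowerAlgebra.dp A (d - 1) m1 * DividedPowerAlgebra.dp A 1 m2 ∈
      Submodule.span A (Set.range
        (DividedPowerAlgebra.dp A d : M → DividedPowerAlgebra A M))) : False := by
  classical
  refine core (ι := Idx κ (d - Fintype.card κ - 1)) d ?_ (alphaFn _) (betaFn _) (Sum.inr none)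
    rfl ?_ rfl ?_ ℓ1 ℓ2 m1 m2 u1 u2 hu1 hu2 h11 h21 h12 h22 hx0
  · simp only [Fintype.card_sum, Fintype.card_fin, Fintype.card_option]; omega
  · rintro (i | (_ | c)) hj
    · rfl
    · exact absurd rfl hj
    · rfl
  · intro a b
    by_cases hb : b = 0
    · exact Finset.prod_eq_zero (Finset.mem_univ (Sum.inr none)) (by simp [alphaFn, betaFn, hb])
    · exact Finset.prod_eq_zero (Finset.mem_univ (Sum.inr (some (a / b))))
        (by simp [alphaFn, betaFn, div_mul_cancel₀ _ hb])

end Core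

end Groth.Agent.Lib.Helper19.GammaConv
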