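import Mathlib
import Groth.Agent.Lib.Helper19.TraceInt2
import Groth.Agent.Lib.Helper17.UnramFiber

/-!
# A finite locally free group scheme of invertible order is étale
-/

set_option autoImplicit false
universe u
open CategoryTheory CategoryTheory.Limits AlgebraicGeometry

namespace Groth.Agent.Lib.Helper19.GrpEtale

/-- field case: a finite group scheme over a field whose order is invertible is unramified. -/
theorem formallyUnramified_of_finrank_ne_zero (K : CommRingCat.{u}) (hK : IsField K)
    {F : Scheme.{u}} (f : F ⟶ Spec K) [IsFinite f] [GrpObj (Over.mk f)]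
    (x : Spec K) (h : (f.finrank x : K) ≠ 0) : FormallyUnramified f := by
  letI : Field K := hK.toField
  haveI : IsAffine F := isAffine_of_isAffineHom f
  letI : F.Over (Spec K) := ⟨f⟩
  haveI : GrpObj (F.asOver (Spec K)) := ‹GrpObj (Over.mk f)›
  letI hopf : HopfAlgebra K Γ(F, ⊤) := inferInstance
  letI alg : Algebra K Γ(F, ⊤) := hopf.toBialgebra.toAlgebra
  have hSpec : Spec.map (CommRingCat.ofHom (algebraMap K Γ(F, ⊤))) = F.isoSpec.inv ≫ f :=
    Spec.fullyFaithful.map_preimage (F.isoSpec.inv ≫ f)
  have e : f = F.isoSpec.hom ≫ Spec.map (CommRingCat.ofHom (algebraMap K Γ(F, ⊤))) := by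
    rw [hSpec, Iso.hom_inv_id_assoc]
  haveI hfin0 : IsFinite (Spec.map (CommRingCat.ofHom (algebraMap K Γ(F, ⊤)))) := by
    rw [hSpec]; infer_instance
  haveI : Module.Finite K Γ(F, ⊤) := by
    have h1 := (IsFinite.SpecMap_iff _).mp hfin0
    rwa [CommRingCat.hom_ofHom, RingHom.finite_algebraMap] at h1
  haveI : Flat (Spec.map (CommRingCat.ofHom (algebraMap K Γ(F, ⊤)))) := by
    rw [Flat.SpecMap_iff, CommRingCat.hom_ofHom, RingHom.flat_algebraMap_iff]
    infer_instance
  have hrank : f.finrank x = Module.finrank K Γ(F, ⊤) := by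
    have h2 : f.finrank = (Spec.map (CommRingCat.ofHom (algebraMap K Γ(F, ⊤)))).finrank := by
      conv_lhs => rw [e]
      exact Scheme.Hom.finrank_comp_left_of_isIso _ _
    rw [h2, Scheme.Hom.finrank_SpecMap_algebraMap, Module.rankAtStalk_eq_finrank_of_free]
    rfl
  have hne : (Module.finrank K Γ(F, ⊤) : K) ≠ 0 := by rw [← hrank]; exact h
  haveI : Algebra.Etale K Γ(F, ⊤) :=
    Groth.Agent.Lib.Helper19.TraceInt2.etale_of_finrank_ne_zero K Γ(F, ⊤) hne
  have hu0 : FormallyUnramified (Spec.map (CommRingCat.ofHom (algebraMap K Γ(F, ⊤)))) := by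
    rw [HasRingHomProperty.Spec_iff (P := @FormallyUnramified), CommRingCat.hom_ofHom,
      RingHom.formallyUnramified_algebraMap]
    infer_instance
  rw [e]
  exact (MorphismProperty.cancel_left_of_respectsIso (P := @FormallyUnramified) _ _).mpr hu0

theorem etale_of_finrank_ne_zero {S : Scheme.{u}} (G : Over S) [GrpObj G] [IsFinite G.hom]
    [Flat G.hom] [LocallyOfFinitePresentation G.hom]
    (h : ∀ s : S, (Scheme.Hom.finrank G.hom s : S.residueField s) ≠ 0) : Etale G.hom := by
  haveI : FormallyUnramified G.hom := by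
    apply Groth.Agent.Lib.Helper17.UnramFiber.formallyUnramified_of_fiberToSpecResidueField
    intro s
    haveI : GrpObj (Over.mk G.hom) := ‹GrpObj G›
    haveI : GrpObj (Over.mk (pullback.snd G.hom (S.fromSpecResidueField s))) :=
      Over.grpObjMkPullbackSnd
    have hx : (S.fromSpecResidueField s) (default : Spec (S.residueField s)) = s :=
      Scheme.fromSpecResidueField_apply _ _
    have hr : (pullback.snd G.hom (S.fromSpecResidueField s)).finrank default =
        G.hom.finrank s := by
      rw [Scheme.Hom.finrank_pullback_snd, hx]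
    show FormallyUnramified (pullback.snd G.hom (S.fromSpecResidueField s))
    haveI : IsFinite (pullback.snd G.hom (S.fromSpecResidueField s)) := inferInstance
    refine formallyUnramified_of_finrank_ne_zero (S.residueField s) (Field.toIsField _)
      (pullback.snd G.hom (S.fromSpecResidueField s)) default ?_
    rw [hr]
    exact h s
  exact Etale.of_formallyUnramified_of_flat (f := G.hom)

end Groth.Agent.Lib.Helper19.GrpEtale
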