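import Mathlib
import Groth.Agent.Lib.Helper19.GrpEtale

/-!
# A quasi-finite flat group scheme whose fibres have invertible order is étale
-/

set_option autoImplicit false
universe u
open CategoryTheory CategoryTheory.Limits AlgebraicGeometry

namespace Groth.Agent.Lib.Helper19.GrpEtale

theorem etale_of_quasiFinite_of_finrank_ne_zero {S : Scheme.{u}} (G : Over S) [GrpObj G]
    [LocallyQuasiFinite G.hom] [QuasiCompact G.hom] [Flat G.hom]
    [LocallyOfFinitePresentation G.hom]
    (h : ∀ (s : S) (x : Spec (S.residueField s)),
      ((pullback.snd G.hom (S.fromSpecResidueField s)).finrank x : S.residueField s) ≠ 0) :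
    Etale G.hom := by
  haveI : FormallyUnramified G.hom := by
    apply Groth.Agent.Lib.Helper17.UnramFiber.formallyUnramified_of_fiberToSpecResidueField
    intro s
    haveI : GrpObj (Over.mk G.hom) := ‹GrpObj G›
    haveI : GrpObj (Over.mk (pullback.snd G.hom (S.fromSpecResidueField s))) :=
      Over.grpObjMkPullbackSnd
    haveI : IsFinite (pullback.snd G.hom (S.fromSpecResidueField s)) :=
      inferInstanceAs (IsFinite (G.hom.fiberToSpecResidueField s))
    show FormallyUnramified (pullback.snd G.hom (S.fromSpecResidueField s))
    exact formallyUnramified_of_finrank_ne_zero (S.residueField s) (Field.toIsField _)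
      (pullback.snd G.hom (S.fromSpecResidueField s)) default (h s default)
  exact Etale.of_formallyUnramified_of_flat (f := G.hom)

end Groth.Agent.Lib.Helper19.GrpEtale
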