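import Mathlib

/-!
# An associative law with bijective translations and a descended unit is a group law

In a cartesian monoidal category: an associative `P : X ⊗ X ⟶ X` for which `(x, y) ↦ (x, xy)` and
`(x, y) ↦ (xy, y)` are isomorphisms, and such that every "constant" endomorphism of `X` factors through
the terminal object, is the multiplication of a group object structure (`exists_grpObj`).
-/

set_option autoImplicit false
set_option linter.unusedSectionVars false

namespace Groth.Agent.Lib.Helper19.SemiGrp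

open CategoryTheory MonoidalCategory CartesianMonoidalCategory MonObj

universe v u v' u'

variable {C : Type u} [Category.{v} C] [CartesianMonoidalCategory C]

section

variable {X : C} (P : X ⊗ X ⟶ X)

/-- product of generalized points -/
def mulP {T : C} (x y : T ⟶ X) : T ⟶ X := lift x y ≫ P

lemma comp_mulP {T T' : C} (t : T' ⟶ T) (x y : T ⟶ X) :
    t ≫ mulP P x y = mulP P (t ≫ x) (t ≫ y) := by
  unfold mulP
  rw [← Category.assoc, comp_lift]

lemma mulP_assoc (hassoc : (P ▷ X) ≫ P = (α_ X X X).hom ≫ (X ◁ P) ≫ P) {T : C}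
    (x y z : T ⟶ X) : mulP P (mulP P x y) z = mulP P x (mulP P y z) := by
  unfold mulP
  calc lift (lift x y ≫ P) z ≫ P = (lift (lift x y) z ≫ P ▷ X) ≫ P := by rw [lift_whiskerRight]
    _ = lift (lift x y) z ≫ (α_ X X X).hom ≫ X ◁ P ≫ P := by rw [Category.assoc, hassoc]
    _ = lift x (lift y z) ≫ X ◁ P ≫ P := by rw [← Category.assoc, lift_lift_associator_hom]
    _ = lift x (lift y z ≫ P) ≫ P := by rw [← Category.assoc, lift_whiskerLeft]

/-- `(x, y) ↦ (x, xy)` -/
def uP : X ⊗ X ⟶ X ⊗ X := lift (fst X X) P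

/-- `(x, y) ↦ (xy, y)` -/
def vP : X ⊗ X ⟶ X ⊗ X := lift P (snd X X)

lemma lift_comp_uP {T : C} (x y : T ⟶ X) : lift x y ≫ uP P = lift x (mulP P x y) := by
  unfold uP mulP
  rw [comp_lift, lift_fst]

lemma lift_comp_vP {T : C} (x y : T ⟶ X) : lift x y ≫ vP P = lift (mulP P x y) y := by
  unfold vP mulP
  rw [comp_lift, lift_snd]

lemma left_cancel [Mono (uP P)] {T : C} {x y y' : T ⟶ X} (h : mulP P x y = mulP P x y') :
    y = y' := by
  have h1 : lift x y ≫ uP P = lift x y' ≫ uP P := by rw [lift_comp_uP, lift_comp_uP, h]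
  have h2 := (cancel_mono _).mp h1
  have h3 := congrArg (· ≫ snd X X) h2
  simpa using h3

lemma right_cancel [Mono (vP P)] {T : C} {x x' y : T ⟶ X} (h : mulP P x y = mulP P x' y) :
    x = x' := by
  have h1 : lift x y ≫ vP P = lift x' y ≫ vP P := by rw [lift_comp_vP, lift_comp_vP, h]
  have h2 := (cancel_mono _).mp h1
  have h3 := congrArg (· ≫ fst X X) h2
  simpa using h3

/-- the solution `y` of `x * y = z`. -/
noncomputable def sol [IsIso (uP P)] {T : C} (x z : T ⟶ X) : T ⟶ X :=
  lift x z ≫ inv (uP P) ≫ snd X X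

lemma mulP_sol [IsIso (uP P)] {T : C} (x z : T ⟶ X) : mulP P x (sol P x z) = z := by
  have key : ∀ w : T ⟶ X ⊗ X, w ≫ uP P = lift x z → mulP P x (w ≫ snd X X) = z := by
    intro w hwu
    have h1 : w ≫ fst X X = x := by
      have := congrArg (· ≫ fst X X) hwu
      simpa [uP] using this
    have h2 : w ≫ P = z := by
      have := congrArg (· ≫ snd X X) hwu
      simpa [uP] using this
    unfold mulP
    rw [← h1, lift_comp_fst_snd, h2]
  have := key (lift x z ≫ inv (uP P)) (by simp)
  simpa [sol] using this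

lemma leftUnitor_inv_eq (Y : C) : (λ_ Y).inv = lift (toUnit Y) (𝟙 Y) := by
  rw [← cancel_mono (λ_ Y).hom, Iso.inv_hom_id, lift_leftUnitor_hom]

lemma rightUnitor_inv_eq (Y : C) : (ρ_ Y).inv = lift (𝟙 Y) (toUnit Y) := by
  rw [← cancel_mono (ρ_ Y).hom, Iso.inv_hom_id, lift_rightUnitor_hom]

theorem exists_grpObj (hassoc : (P ▷ X) ≫ P = (α_ X X X).hom ≫ (X ◁ P) ≫ P)
    [IsIso (uP P)] [IsIso (vP P)]
    (hdesc : ∀ e : X ⟶ X, fst X X ≫ e = snd X X ≫ e → ∃ s : 𝟙_ C ⟶ X, toUnit X ≫ s = e) :
    ∃ _ : GrpObj X, μ[X] = P := by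
  let e : X ⟶ X := sol P (𝟙 X) (𝟙 X)
  have he : mulP P (𝟙 X) e = 𝟙 X := mulP_sol P _ _
  have he' : ∀ {T : C} (a : T ⟶ X), mulP P a (a ≫ e) = a := by
    intro T a
    have := congrArg (a ≫ ·) he
    simpa [comp_mulP] using this
  have hA : ∀ {T : C} (a y : T ⟶ X), mulP P (a ≫ e) y = y := by
    intro T a y
    apply left_cancel P (x := a)
    rw [← mulP_assoc P hassoc, he']
  have hB : ∀ {T : C} (a z : T ⟶ X), mulP P z (a ≫ e) = z := by
    intro T a z
    apply right_cancel P (y := z)
    rw [mulP_assoc P hassoc, hA]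
  have hC : ∀ {T : C} (a b : T ⟶ X), a ≫ e = b ≫ e := by
    intro T a b
    apply left_cancel P (x := b)
    rw [hB, he']
  obtain ⟨s, hs⟩ := hdesc e (hC _ _)
  let i : X ⟶ X := sol P (𝟙 X) e
  have hi : mulP P (𝟙 X) i = e := mulP_sol P _ _
  have hi' : mulP P i (𝟙 X) = e := by
    apply right_cancel P (y := i)
    rw [mulP_assoc P hassoc, hi]
    have h1 : mulP P i e = i := by simpa using hB (𝟙 X) i
    have h2 : mulP P e i = i := by simpa using hA (𝟙 X) i
    rw [h1, h2]
  refine ⟨{ one := s, mul := P, one_mul := ?_, mul_one := ?_, mul_assoc := hassoc, inv := i,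
            left_inv := ?_, right_inv := ?_ }, rfl⟩
  · rw [← cancel_epi (λ_ X).inv, Iso.inv_hom_id, leftUnitor_inv_eq, ← Category.assoc,
      lift_whiskerRight, hs]
    have := hA (𝟙 X) (𝟙 X)
    simpa [mulP] using this
  · rw [← cancel_epi (ρ_ X).inv, Iso.inv_hom_id, rightUnitor_inv_eq, ← Category.assoc,
      lift_whiskerLeft, hs]
    exact he
  · rw [hs]; exact hi'
  · rw [hs]; exact hi

end

section Grp

variable (G : C) [GrpObj G]

lemma isIso_uP_of_grpObj : IsIso (uP μ[G]) := by
  have h1 : uP μ[G] ≫ fst G G = fst G G := lift_fst _ _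
  have h2 : uP μ[G] ≫ snd G G = fst G G * snd G G := by
    unfold uP
    rw [lift_snd]
    exact MonObj.mul_eq_mul G
  refine ⟨lift (fst G G) ((fst G G)⁻¹ * snd G G), ?_, ?_⟩
  · apply CartesianMonoidalCategory.hom_ext
    · rw [Category.assoc, lift_fst, h1, Category.id_comp]
    · rw [Category.assoc, lift_snd, MonObj.comp_mul, GrpObj.comp_inv, h1, h2, inv_mul_cancel_left,
        Category.id_comp]
  · rw [lift_comp_uP]
    apply CartesianMonoidalCategory.hom_ext
    · rw [lift_fst, Category.id_comp]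
    · rw [lift_snd, Category.id_comp]
      change fst G G * ((fst G G)⁻¹ * snd G G) = snd G G
      rw [mul_inv_cancel_left]

lemma isIso_vP_of_grpObj : IsIso (vP μ[G]) := by
  have h1 : vP μ[G] ≫ snd G G = snd G G := lift_snd _ _
  have h2 : vP μ[G] ≫ fst G G = fst G G * snd G G := by
    unfold vP
    rw [lift_fst]
    exact MonObj.mul_eq_mul G
  refine ⟨lift (fst G G * (snd G G)⁻¹) (snd G G), ?_, ?_⟩
  · apply CartesianMonoidalCategory.hom_ext
    · rw [Category.assoc, lift_fst, MonObj.comp_mul, GrpObj.comp_inv, h1, h2, mul_inv_cancel_right,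
        Category.id_comp]
    · rw [Category.assoc, lift_snd, h1, Category.id_comp]
  · rw [lift_comp_vP]
    apply CartesianMonoidalCategory.hom_ext
    · rw [lift_fst, Category.id_comp]
      change (fst G G * (snd G G)⁻¹) * snd G G = fst G G
      rw [inv_mul_cancel_right]
    · rw [lift_snd, Category.id_comp]

end Grp

section Functor

variable {D : Type u'} [Category.{v'} D] [CartesianMonoidalCategory D] (F : C ⥤ D) [F.Monoidal]
  {X : C} (P : X ⊗ X ⟶ X) [GrpObj (F.obj X)]

lemma isIso_map_uP (hμ : μ[F.obj X] = Functor.LaxMonoidal.μ F X X ≫ F.map P) :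
    IsIso (F.map (uP P)) := by
  have key : Functor.LaxMonoidal.μ F X X ≫ F.map (uP P) =
      uP μ[F.obj X] ≫ Functor.LaxMonoidal.μ F X X := by
    have h1 : F.map (uP P) = lift (F.map (fst X X)) (F.map P) ≫ Functor.LaxMonoidal.μ F X X := by
      rw [Functor.Monoidal.lift_μ]; rfl
    rw [h1, ← Category.assoc]
    congr 1
    rw [comp_lift, Functor.Monoidal.μ_fst, ← hμ]
    rfl
  have := isIso_uP_of_grpObj (F.obj X)
  have h2 : F.map (uP P) =
      inv (Functor.LaxMonoidal.μ F X X) ≫ uP μ[F.obj X] ≫ Functor.LaxMonoidal.μ F X X := by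
    rw [← key, IsIso.inv_hom_id_assoc]
  rw [h2]
  infer_instance

lemma isIso_map_vP (hμ : μ[F.obj X] = Functor.LaxMonoidal.μ F X X ≫ F.map P) :
    IsIso (F.map (vP P)) := by
  have key : Functor.LaxMonoidal.μ F X X ≫ F.map (vP P) =
      vP μ[F.obj X] ≫ Functor.LaxMonoidal.μ F X X := by
    have h1 : F.map (vP P) = lift (F.map P) (F.map (snd X X)) ≫ Functor.LaxMonoidal.μ F X X := by
      rw [Functor.Monoidal.lift_μ]; rfl
    rw [h1, ← Category.assoc]
    congr 1
    rw [comp_lift, Functor.Monoidal.μ_snd, ← hμ]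
    rfl
  have := isIso_vP_of_grpObj (F.obj X)
  have h2 : F.map (vP P) =
      inv (Functor.LaxMonoidal.μ F X X) ≫ vP μ[F.obj X] ≫ Functor.LaxMonoidal.μ F X X := by
    rw [← key, IsIso.inv_hom_id_assoc]
  rw [h2]
  infer_instance

end Functor

end Groth.Agent.Lib.Helper19.SemiGrp
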