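import Mathlib
import Groth.Agent.Lib.Helper19.NilIso
import Groth.Agent.Lib.Helper19.SemiGrp

/-!
# An associative law on a flat scheme which is a group law modulo a nilpotent ideal is a group law
(SGA 3 III, affine base).
-/

set_option autoImplicit false
set_option linter.unusedSectionVars false
set_option linter.style.haveILetI false

namespace Groth.Agent.Lib.Helper19.GrpNil

open AlgebraicGeometry CategoryTheory CategoryTheory.Limits MonoidalCategory CartesianMonoidalCategory
  MonObj
open Groth.Agent.Lib.Helper19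

universe u

variable {R : Type u} [CommRing R] {I : Ideal R}

theorem isIso_of_isIso_pullback_map (hI : IsNilpotent I)
    {Y Z : Over (Spec (CommRingCat.of R))} [Flat Y.hom] (g : Y ⟶ Z)
    [IsIso ((Over.pullback (NilIso.i₀ I)).map g)] : IsIso g := by
  haveI : Flat (g.left ≫ Z.hom) := by rw [Over.w g]; infer_instance
  haveI hb : IsIso ((Over.pullback (NilIso.i₀ I)).map g).left :=
    inferInstanceAs (IsIso ((Over.forget _).map ((Over.pullback (NilIso.i₀ I)).map g)))
  have sq : IsPullback (pullback.fst Y.hom (NilIso.i₀ I))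
      ((Over.pullback (NilIso.i₀ I)).map g).left g.left (pullback.fst Z.hom (NilIso.i₀ I)) := by
    refine IsPullback.of_bot ?_ ?_ (IsPullback.of_hasPullback Z.hom (NilIso.i₀ I))
    · have e1 : ((Over.pullback (NilIso.i₀ I)).map g).left ≫ pullback.snd Z.hom (NilIso.i₀ I) =
          pullback.snd Y.hom (NilIso.i₀ I) := by
        exact pullback.lift_snd _ _ _
      have e2 : g.left ≫ Z.hom = Y.hom := Over.w g
      rw [e1, e2]
      exact IsPullback.of_hasPullback Y.hom (NilIso.i₀ I)
    · exact (pullback.lift_fst _ _ _).symm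
  have hmod : NilIso.IsoMod I g.left Z.hom :=
    NilIso.isoMod_of_isPullback (IsPullback.of_hasPullback Z.hom (NilIso.i₀ I)) sq
  have h3 : IsIso g.left := NilIso.isIso_of_isoMod g.left Z.hom hI hmod
  haveI : IsIso ((Over.forget (Spec (CommRingCat.of R))).map g) := h3
  exact isIso_of_reflects_iso g (Over.forget _)

theorem surjective_of_section (hI : IsNilpotent I) (X : Over (Spec (CommRingCat.of R)))
    (η₀ : 𝟙_ (Over (Spec (CommRingCat.of (R ⧸ I)))) ⟶ (Over.pullback (NilIso.i₀ I)).obj X) :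
    Surjective X.hom := by
  haveI : Surjective (NilIso.i₀ I) := ⟨NilLim.spec_surjective_of_nil _ Ideal.Quotient.mk_surjective (by
    intro x hx
    rw [Ideal.mk_ker] at hx
    obtain ⟨n, hn⟩ := hI
    refine ⟨n, ?_⟩
    have := Ideal.pow_mem_pow hx n
    rw [hn] at this
    exact this)⟩
  have h1 : η₀.left ≫ pullback.snd X.hom (NilIso.i₀ I) = 𝟙 _ := Over.w η₀
  have h2 : (η₀.left ≫ pullback.fst X.hom (NilIso.i₀ I)) ≫ X.hom = NilIso.i₀ I := by
    rw [Category.assoc, pullback.condition, ← Category.assoc, h1, Category.id_comp]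
  haveI : Surjective ((η₀.left ≫ pullback.fst X.hom (NilIso.i₀ I)) ≫ X.hom) := by
    rw [h2]; infer_instance
  exact Surjective.of_comp (η₀.left ≫ pullback.fst X.hom (NilIso.i₀ I)) X.hom

theorem exists_desc (X : Over (Spec (CommRingCat.of R))) [EffectiveEpi X.hom] (e : X ⟶ X)
    (he : fst X X ≫ e = snd X X ≫ e) :
    ∃ s : 𝟙_ (Over (Spec (CommRingCat.of R))) ⟶ X, toUnit X ≫ s = e := by
  have he' : pullback.fst X.hom X.hom ≫ e.left = pullback.snd X.hom X.hom ≫ e.left :=
    congrArg (fun k => k.left) he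
  let s₀ : Spec (CommRingCat.of R) ⟶ X.left := EffectiveEpi.desc X.hom e.left (by
    intro Z g₁ g₂ hg
    have h1 : g₁ = pullback.lift g₁ g₂ hg ≫ pullback.fst X.hom X.hom :=
      (pullback.lift_fst _ _ _).symm
    have h2 : g₂ = pullback.lift g₁ g₂ hg ≫ pullback.snd X.hom X.hom :=
      (pullback.lift_snd _ _ _).symm
    rw [h1, Category.assoc, he', ← Category.assoc, ← h2])
  have hs₀ : X.hom ≫ s₀ = e.left := EffectiveEpi.fac _ _ _
  have hs₁ : s₀ ≫ X.hom = 𝟙 _ := by
    rw [← cancel_epi X.hom, ← Category.assoc, hs₀, Over.w e, Category.comp_id]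
  refine ⟨Over.homMk s₀ (by simpa using hs₁), ?_⟩
  apply Over.OverMorphism.ext
  simpa using hs₀

theorem exists_grpObj (hI : IsNilpotent I) (X : Over (Spec (CommRingCat.of R))) [Flat X.hom]
    (hX : QuasiCompact X.hom ∨ LocallyOfFinitePresentation X.hom) (P : X ⊗ X ⟶ X)
    (hassoc : (P ▷ X) ≫ P = (α_ X X X).hom ≫ (X ◁ P) ≫ P)
    (h0 : ∃ _ : GrpObj ((Over.pullback (NilIso.i₀ I)).obj X),
      μ[(Over.pullback (NilIso.i₀ I)).obj X] =
        Functor.LaxMonoidal.μ (Over.pullback (NilIso.i₀ I)) X X ≫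
          (Over.pullback (NilIso.i₀ I)).map P) :
    ∃ _ : GrpObj X, μ[X] = P := by
  obtain ⟨G₀, hμ⟩ := h0
  haveI : IsIso ((Over.pullback (NilIso.i₀ I)).map (SemiGrp.uP P)) :=
    SemiGrp.isIso_map_uP (Over.pullback (NilIso.i₀ I)) P hμ
  haveI : IsIso ((Over.pullback (NilIso.i₀ I)).map (SemiGrp.vP P)) :=
    SemiGrp.isIso_map_vP (Over.pullback (NilIso.i₀ I)) P hμ
  haveI : Flat (X ⊗ X).hom := by rw [Over.tensorObj_hom]; infer_instance
  haveI : IsIso (SemiGrp.uP P) := isIso_of_isIso_pullback_map hI (SemiGrp.uP P)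
  haveI : IsIso (SemiGrp.vP P) := isIso_of_isIso_pullback_map hI (SemiGrp.vP P)
  haveI : Surjective X.hom := surjective_of_section hI X η[(Over.pullback (NilIso.i₀ I)).obj X]
  haveI : EffectiveEpi X.hom := by
    rcases hX with h | h
    · infer_instance
    · infer_instance
  exact SemiGrp.exists_grpObj P hassoc (exists_desc X)

end Groth.Agent.Lib.Helper19.GrpNil
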