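/-
Helper19 library: the half-discriminant of `Def_QuadGrp` as a function of a coefficient table.
* `pm a`, `um a`: polar matrix and upper-triangular Gram matrix of a coefficient function
  `a : Sym2 (Fin n) → S`;  `hd a`: the universal half-discriminant evaluated at `a`.
* `two_mul_hd`: for odd `n`, `2 * hd a = det (pm a)`.
* `comp a T`: coefficients of the form transformed by the matrix `T`; `hd_comp`: for odd `n`,
  `hd (comp a T) = det T ^ 2 * hd a` (universal identity + cancellation of `2` over `ℤ[a, T]`).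
* `coeffs_comp`: for a quadratic form `Q` on a module with basis `b`,
  `coeffs b refl (Q.comp g) = comp (coeffs b refl Q) (toMatrix b b g)`.
-/
import Groth.Prelude.Def_QuadGrp
import Mathlib.GroupTheory.Perm.Cycle.Type
import Mathlib.RingTheory.MvPolynomial.Basic
import Mathlib.Algebra.CharP.Two
import Mathlib.LinearAlgebra.Matrix.ToLin
import Mathlib.LinearAlgebra.Determinant

set_option autoImplicit false
universe u v
open QuadGrp MvPolynomial

namespace Groth.Agent.Lib.Helper19.HalfDisc

/-! ### Determinant of an alternating matrix of odd size in characteristic two -/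

theorem det_eq_zero_of_alt {S : Type*} [CommRing S] [CharP S 2] {ι : Type*} [Fintype ι]
    [DecidableEq ι] (N : Matrix ι ι S) (hsymm : ∀ i j, N i j = N j i) (hdiag : ∀ i, N i i = 0)
    (hodd : Odd (Fintype.card ι)) : N.det = 0 := by
  rw [Matrix.det_apply]
  apply Finset.sum_ninvolution (fun σ : Equiv.Perm ι => σ⁻¹)
  · intro σ
    have : ∏ i, N (σ⁻¹ i) i = ∏ i, N (σ i) i := by
      rw [← Equiv.prod_comp σ (fun i => N (σ⁻¹ i) i)]
      apply Finset.prod_congr rfl
      intro i _
      rw [Equiv.Perm.inv_def, Equiv.symm_apply_apply, hsymm]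
    rw [Equiv.Perm.sign_inv, this]
    exact CharTwo.add_self_eq_zero _
  · intro σ hne hinv
    apply hne
    have hσ2 : σ ^ 2 ^ 1 = 1 := by
      rw [pow_one, sq]
      nth_rewrite 1 [← hinv]
      exact inv_mul_cancel σ
    have : Fact (Nat.Prime 2) := ⟨Nat.prime_two⟩
    obtain ⟨i, hi⟩ := Equiv.Perm.exists_fixed_point_of_prime (p := 2) (n := 1)
      (by rw [← even_iff_two_dvd, Nat.not_even_iff_odd]; exact hodd) hσ2
    rw [Finset.prod_eq_zero (Finset.mem_univ i) (by rw [hi, hdiag]), smul_zero]
  · intro σ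
    exact Finset.mem_univ _
  · intro σ
    exact inv_inv σ

variable {n : ℕ}

/-! ### Coefficient tables -/
section Defs

variable {S : Type*} [CommRing S]

/-- The polar matrix of a coefficient table. -/
def pm (a : Sym2 (Fin n) → S) : Matrix (Fin n) (Fin n) S :=
  Matrix.of fun i j => if i = j then 2 * a s(i, j) else a s(i, j)

/-- The upper-triangular Gram matrix of a coefficient table. -/
def um (a : Sym2 (Fin n) → S) : Matrix (Fin n) (Fin n) S :=
  Matrix.of fun i j => if i = j then a s(i, j) else if i < j then a s(i, j) else 0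

/-- The half-discriminant of a coefficient table. -/
noncomputable def hd (a : Sym2 (Fin n) → S) : S :=
  eval₂ (Int.castRingHom S) a (halfDiscUniv n)

theorem pm_apply (a : Sym2 (Fin n) → S) (i j : Fin n) :
    pm a i j = if i = j then 2 * a s(i, j) else a s(i, j) := rfl

theorem um_apply (a : Sym2 (Fin n) → S) (i j : Fin n) :
    um a i j = if i = j then a s(i, j) else if i < j then a s(i, j) else 0 := rfl

theorem pm_symm (a : Sym2 (Fin n) → S) (i j : Fin n) : pm a i j = pm a j i := by
  rw [pm_apply, pm_apply, Sym2.eq_swap (a := i) (b := j)]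
  by_cases h : i = j
  · rw [if_pos h, if_pos h.symm]
  · rw [if_neg h, if_neg (Ne.symm h)]

theorem pm_transpose (a : Sym2 (Fin n) → S) : (pm a).transpose = pm a := by
  ext i j
  rw [Matrix.transpose_apply, pm_symm]

theorem pm_eq_um_add (a : Sym2 (Fin n) → S) : pm a = um a + (um a).transpose := by
  ext i j
  rw [Matrix.add_apply, Matrix.transpose_apply, pm_apply, um_apply, um_apply,
    Sym2.eq_swap (a := j) (b := i)]
  by_cases h : i = j
  · rw [if_pos h, if_pos h, if_pos h.symm, two_mul]
  · rw [if_neg h, if_neg h, if_neg (Ne.symm h)]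
    rcases lt_or_gt_of_ne h with hlt | hgt
    · rw [if_pos hlt, if_neg (not_lt.mpr hlt.le), add_zero]
    · rw [if_neg (not_lt.mpr hgt.le), if_pos hgt, zero_add]

theorem hd_map {S' : Type*} [CommRing S'] (φ : S →+* S') (a : Sym2 (Fin n) → S) :
    hd (φ ∘ a) = φ (hd a) := by
  rw [hd, hd, eval₂_comp_left]
  congr 1
  exact RingHom.ext_int _ _

theorem pm_map {S' : Type*} [CommRing S'] (φ : S →+* S') (a : Sym2 (Fin n) → S) :
    pm (φ ∘ a) = (pm a).map φ := by
  ext i j
  rw [Matrix.map_apply, pm_apply, pm_apply, apply_ite φ, map_mul, map_ofNat]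
  rfl

theorem um_map {S' : Type*} [CommRing S'] (φ : S →+* S') (a : Sym2 (Fin n) → S) :
    um (φ ∘ a) = (um a).map φ := by
  ext i j
  rw [Matrix.map_apply, um_apply, um_apply, apply_ite φ, apply_ite φ, map_zero]
  rfl

theorem disc_eq_det (a : Sym2 (Fin n) → S) :
    eval₂ (Int.castRingHom S) a (discUniv n) = (pm a).det := by
  rw [discUniv, ← coe_eval₂Hom, RingHom.map_det]
  congr 1
  ext i j
  rw [RingHom.mapMatrix_apply, Matrix.map_apply, univPolarMat, Matrix.of_apply, pm_apply,
    apply_ite (eval₂Hom (Int.castRingHom S) a), map_mul, map_ofNat, eval₂Hom_X']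

end Defs

/-! ### Evenness of the universal discriminant in odd rank -/

theorem even_coeff_discUniv (hn : Odd n) (s : Sym2 (Fin n) →₀ ℕ) :
    Even (coeff s (discUniv n)) := by
  have h0 : MvPolynomial.map (Int.castRingHom (ZMod 2)) (discUniv n) = 0 := by
    rw [discUniv, RingHom.map_det]
    apply det_eq_zero_of_alt
    · intro i j
      rw [RingHom.mapMatrix_apply, Matrix.map_apply, Matrix.map_apply, univPolarMat,
        Matrix.of_apply, Matrix.of_apply, Sym2.eq_swap (a := j) (b := i)]
      by_cases h : i = j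
      · rw [if_pos h, if_pos h.symm]
      · rw [if_neg h, if_neg (Ne.symm h)]
    · intro i
      rw [RingHom.mapMatrix_apply, Matrix.map_apply, univPolarMat, Matrix.of_apply, if_pos rfl,
        map_mul, map_ofNat,
        CharTwo.two_eq_zero (R := MvPolynomial (Sym2 (Fin n)) (ZMod 2)), zero_mul]
    · rw [Fintype.card_fin]
      exact hn
  have h1 := congrArg (coeff s) h0
  rw [coeff_map, coeff_zero, eq_intCast, ZMod.intCast_zmod_eq_zero_iff_dvd] at h1
  exact even_iff_two_dvd.mpr h1

theorem two_mul_halfDiscUniv (hn : Odd n) : 2 * halfDiscUniv n = discUniv n := by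
  ext s
  rw [two_mul, coeff_add, coeff_halfDiscUniv, ← two_mul]
  exact Int.two_mul_ediv_two_of_even (even_coeff_discUniv hn s)

theorem two_mul_hd {S : Type*} [CommRing S] (hn : Odd n) (a : Sym2 (Fin n) → S) :
    2 * hd a = (pm a).det := by
  rw [← disc_eq_det, ← two_mul_halfDiscUniv hn, hd, ← coe_eval₂Hom, map_mul, map_ofNat]

/-! ### Transformation of a coefficient table by a matrix -/
section Comp

variable {S : Type*} [CommRing S]

theorem tpt_symm (a : Sym2 (Fin n) → S) (T : Matrix (Fin n) (Fin n) S) (i j : Fin n) :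
    (T.transpose * pm a * T) i j = (T.transpose * pm a * T) j i := by
  have h : (T.transpose * pm a * T).transpose = T.transpose * pm a * T := by
    rw [Matrix.transpose_mul, Matrix.transpose_mul, Matrix.transpose_transpose, pm_transpose,
      Matrix.mul_assoc]
  calc (T.transpose * pm a * T) i j = (T.transpose * pm a * T).transpose j i := rfl
    _ = (T.transpose * pm a * T) j i := by rw [h]

/-- The coefficient table of the form `x ↦ Q (T x)`. -/
def comp (a : Sym2 (Fin n) → S) (T : Matrix (Fin n) (Fin n) S) : Sym2 (Fin n) → S :=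
  Sym2.lift ⟨fun i j => if i = j then (T.transpose * um a * T) i i
    else (T.transpose * pm a * T) i j, by
    intro i j
    by_cases h : i = j
    · subst h; rfl
    · dsimp only
      rw [if_neg h, if_neg (Ne.symm h)]
      exact tpt_symm a T i j⟩

theorem comp_mk (a : Sym2 (Fin n) → S) (T : Matrix (Fin n) (Fin n) S) (i j : Fin n) :
    comp a T s(i, j) = if i = j then (T.transpose * um a * T) i i
      else (T.transpose * pm a * T) i j := rfl

theorem pm_comp (a : Sym2 (Fin n) → S) (T : Matrix (Fin n) (Fin n) S) :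
    pm (comp a T) = T.transpose * pm a * T := by
  ext i j
  rw [pm_apply, comp_mk]
  by_cases h : i = j
  · subst h
    rw [if_pos rfl, if_pos rfl, pm_eq_um_add, Matrix.mul_add, Matrix.add_mul, Matrix.add_apply]
    have : T.transpose * (um a).transpose * T = (T.transpose * um a * T).transpose := by
      rw [Matrix.transpose_mul, Matrix.transpose_mul, Matrix.transpose_transpose, Matrix.mul_assoc]
    rw [this, Matrix.transpose_apply, two_mul]
  · rw [if_neg h, if_neg h]

theorem comp_map {S' : Type*} [CommRing S'] (φ : S →+* S') (a : Sym2 (Fin n) → S)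
    (T : Matrix (Fin n) (Fin n) S) : comp (φ ∘ a) (T.map φ) = φ ∘ comp a T := by
  funext s
  induction s using Sym2.ind with
  | _ i j =>
    rw [Function.comp_apply, comp_mk, comp_mk, apply_ite φ, pm_map, um_map,
      ← Matrix.transpose_map, ← Matrix.map_mul, ← Matrix.map_mul, ← Matrix.map_mul,
      ← Matrix.map_mul, Matrix.map_apply, Matrix.map_apply]

/-- The universal coefficient table. -/
noncomputable def a₀ (n : ℕ) : Sym2 (Fin n) → MvPolynomial (Sym2 (Fin n) ⊕ Fin n × Fin n) ℤ :=
  fun s => X (Sum.inl s)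

/-- The universal matrix. -/
noncomputable def T₀ (n : ℕ) :
    Matrix (Fin n) (Fin n) (MvPolynomial (Sym2 (Fin n) ⊕ Fin n × Fin n) ℤ) :=
  Matrix.of fun i j => X (Sum.inr (i, j))

/-- Specialisation of the universal data. -/
noncomputable def spec (a : Sym2 (Fin n) → S) (T : Matrix (Fin n) (Fin n) S) :
    MvPolynomial (Sym2 (Fin n) ⊕ Fin n × Fin n) ℤ →+* S :=
  eval₂Hom (Int.castRingHom S) (Sum.elim a (fun p => T p.1 p.2))

theorem spec_a₀ (a : Sym2 (Fin n) → S) (T : Matrix (Fin n) (Fin n) S) :
    spec a T ∘ a₀ n = a := by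
  funext s
  rw [Function.comp_apply, spec, a₀, eval₂Hom_X', Sum.elim_inl]

theorem spec_T₀ (a : Sym2 (Fin n) → S) (T : Matrix (Fin n) (Fin n) S) :
    (T₀ n).map (spec a T) = T := by
  ext i j
  rw [Matrix.map_apply, spec, T₀, Matrix.of_apply, eval₂Hom_X', Sum.elim_inr]

theorem hd_comp_univ (hn : Odd n) : hd (comp (a₀ n) (T₀ n)) = (T₀ n).det ^ 2 * hd (a₀ n) := by
  have h2 : (2 : MvPolynomial (Sym2 (Fin n) ⊕ Fin n × Fin n) ℤ) ≠ 0 := two_ne_zero
  apply mul_left_cancel₀ h2
  rw [two_mul_hd hn, pm_comp, Matrix.det_mul, Matrix.det_mul, Matrix.det_transpose,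
    ← two_mul_hd hn (a₀ n)]
  ring

theorem hd_comp (hn : Odd n) (a : Sym2 (Fin n) → S) (T : Matrix (Fin n) (Fin n) S) :
    hd (comp a T) = T.det ^ 2 * hd a := by
  have h1 := congrArg (spec a T) (hd_comp_univ (n := n) hn)
  rw [← hd_map, ← comp_map, spec_a₀, spec_T₀, map_mul, map_pow, RingHom.map_det, ← hd_map,
    spec_a₀, RingHom.mapMatrix_apply, spec_T₀] at h1
  exact h1

end Comp

/-! ### Quadratic forms on a module with a basis -/
section Module

variable {R : Type u} [CommRing R] {M : Type v} [AddCommGroup M] [Module R M]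

theorem halfDisc_eq_hd (b : Module.Basis (Fin n) R M) (t : R ≃ₗ[R] R) (Q : QuadraticForm R M) :
    halfDisc b t Q = hd (coeffs b t Q) := rfl

theorem bilin_comp_apply (B : M →ₗ[R] M →ₗ[R] R) (b : Module.Basis (Fin n) R M) (g : M →ₗ[R] M)
    (i j : Fin n) :
    B (g (b i)) (g (b j)) = ((LinearMap.toMatrix b b g).transpose * LinearMap.toMatrix₂ b b B *
      LinearMap.toMatrix b b g) i j := by
  rw [← LinearMap.toMatrix₂_compl₁₂, LinearMap.toMatrix₂_apply, LinearMap.compl₁₂_apply]

theorem toMatrix₂_polarBilin (b : Module.Basis (Fin n) R M) (Q : QuadraticForm R M) :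
    LinearMap.toMatrix₂ b b (QuadraticMap.polarBilin Q) = pm (coeffs b (LinearEquiv.refl R R) Q) := by
  ext k l
  rw [LinearMap.toMatrix₂_apply, QuadraticMap.polarBilin_apply_apply, pm_apply, coeffs_mk]
  by_cases h : k = l
  · subst h
    rw [if_pos rfl, if_pos rfl, LinearEquiv.refl_apply, QuadraticMap.polar_self, two_nsmul, two_mul]
  · rw [if_neg h, if_neg h, LinearEquiv.refl_apply]

theorem toMatrix₂_toBilin (b : Module.Basis (Fin n) R M) (Q : QuadraticForm R M) :
    LinearMap.toMatrix₂ b b (QuadraticMap.toBilin Q b) = um (coeffs b (LinearEquiv.refl R R) Q) := by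
  ext k l
  rw [LinearMap.toMatrix₂_apply, QuadraticMap.toBilin_apply, um_apply, coeffs_mk]
  by_cases h : k = l
  · subst h
    rw [if_pos rfl, if_pos rfl, if_pos rfl, LinearEquiv.refl_apply]
  · rw [if_neg h, if_neg h, if_neg h, LinearEquiv.refl_apply]

theorem coeffs_comp (b : Module.Basis (Fin n) R M) (Q : QuadraticForm R M) (g : M →ₗ[R] M) :
    coeffs b (LinearEquiv.refl R R) (Q.comp g) =
      comp (coeffs b (LinearEquiv.refl R R) Q) (LinearMap.toMatrix b b g) := by
  funext s
  induction s using Sym2.ind with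
  | _ i j =>
    rw [coeffs_mk, comp_mk]
    by_cases h : i = j
    · subst h
      rw [if_pos rfl, if_pos rfl, LinearEquiv.refl_apply, QuadraticMap.comp_apply,
        ← toMatrix₂_toBilin, ← bilin_comp_apply, ← LinearMap.BilinMap.toQuadraticMap_apply,
        QuadraticMap.toQuadraticMap_toBilin]
    · rw [if_neg h, if_neg h, LinearEquiv.refl_apply, ← toMatrix₂_polarBilin, ← bilin_comp_apply,
        QuadraticMap.polarBilin_apply_apply, QuadraticMap.polar, QuadraticMap.polar,
        QuadraticMap.comp_apply, QuadraticMap.comp_apply, QuadraticMap.comp_apply, map_add]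

theorem halfDisc_comp (m : ℕ) (b : Module.Basis (Fin (2 * m + 1)) R M) (Q : QuadraticForm R M)
    (g : M →ₗ[R] M) :
    halfDisc b (LinearEquiv.refl R R) (Q.comp g) =
      LinearMap.det g ^ 2 * halfDisc b (LinearEquiv.refl R R) Q := by
  have hodd : Odd (2 * m + 1) := ⟨m, rfl⟩
  rw [halfDisc_eq_hd, halfDisc_eq_hd, coeffs_comp, hd_comp hodd, LinearMap.det_toMatrix]

end Module

end Groth.Agent.Lib.Helper19.HalfDisc
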