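/-
Helper19 library: structure of semiregular forms of odd rank, at the level of coefficient tables.
* `hd_block`: if row `i` of the table vanishes off the diagonal then
  `hd a = a s(i,i) * det (principal minor deleting i)`.
* `exists_minor_ne_zero`: over a field of characteristic two, `hd a ≠ 0` implies some principal
  `(n-1)`-minor of the polar matrix is nonzero.
* `exists_coord_injective`: over a local ring, `IsUnit (hd a)` implies that for some `i` the
  `i`-th coordinate is injective on the kernel of the polar matrix.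
* `alt_family_eq_zero`: over any commutative ring, an "alternating family" of vectors in the kernel of
  the polar matrix of a semiregular table vanishes (local-global).
-/
import Groth.Agent.Lib.Helper19.HalfDisc
import Mathlib.LinearAlgebra.Matrix.ToLinearEquiv
import Mathlib.LinearAlgebra.Matrix.Adjugate
import Mathlib.RingTheory.LocalRing.ResidueField.Basic
import Mathlib.RingTheory.LocalProperties.Basic
import Mathlib.RingTheory.Localization.AtPrime.Basic

set_option autoImplicit false
universe u v
open QuadGrp MvPolynomial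

namespace Groth.Agent.Lib.Helper19.HalfDisc

variable {k : ℕ}

/-! ### The block identity -/
section Block

variable {S : Type*} [CommRing S]

/-- The universal table with row `i` zero off the diagonal. -/
noncomputable def a₁ (i : Fin (k + 1)) :
    Sym2 (Fin (k + 1)) → MvPolynomial (Sym2 (Fin (k + 1))) ℤ :=
  fun s => if i ∈ s ∧ ¬ s.IsDiag then 0 else X s

theorem a₁_off (i j : Fin (k + 1)) (h : j ≠ i) : a₁ i s(i, j) = 0 := by
  rw [a₁, if_pos]
  exact ⟨Sym2.mem_mk_left i j, by rw [Sym2.mk_isDiag_iff]; exact fun h' => h h'.symm⟩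

theorem hd_block_univ (hodd : Odd (k + 1)) (i : Fin (k + 1)) :
    hd (a₁ i) = a₁ i s(i, i) * ((pm (a₁ i)).submatrix i.succAbove i.succAbove).det := by
  have h2 : (2 : MvPolynomial (Sym2 (Fin (k + 1))) ℤ) ≠ 0 := two_ne_zero
  apply mul_left_cancel₀ h2
  rw [two_mul_hd hodd, Matrix.det_succ_row _ i, Finset.sum_eq_single i]
  · rw [pm_apply, if_pos rfl, Even.neg_one_pow ⟨(i : ℕ), rfl⟩, one_mul, mul_assoc]
  · intro j _ hji
    rw [pm_apply, if_neg (Ne.symm hji), a₁_off i j hji, mul_zero, zero_mul]
  · intro h
    exact absurd (Finset.mem_univ i) h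

theorem spec_a₁ (i : Fin (k + 1)) (a : Sym2 (Fin (k + 1)) → S)
    (ha : ∀ j, j ≠ i → a s(i, j) = 0) :
    (eval₂Hom (Int.castRingHom S) a) ∘ a₁ i = a := by
  funext s
  rw [Function.comp_apply, a₁]
  split_ifs with h
  · rw [map_zero]
    induction s using Sym2.ind with
    | _ x y =>
      rw [Sym2.mem_iff, Sym2.mk_isDiag_iff] at h
      rcases h.1 with hx | hy
      · subst hx
        exact (ha y (fun h' => h.2 h'.symm)).symm
      · subst hy
        rw [Sym2.eq_swap]
        exact (ha x h.2).symm
  · rw [eval₂Hom_X']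

theorem hd_block (hodd : Odd (k + 1)) (i : Fin (k + 1)) (a : Sym2 (Fin (k + 1)) → S)
    (ha : ∀ j, j ≠ i → a s(i, j) = 0) :
    hd a = a s(i, i) * ((pm a).submatrix i.succAbove i.succAbove).det := by
  have h1 := congrArg (eval₂Hom (Int.castRingHom S) a) (hd_block_univ hodd i)
  rw [← hd_map, map_mul, RingHom.map_det, RingHom.mapMatrix_apply, ← Matrix.submatrix_map,
    ← pm_map, spec_a₁ i a ha] at h1
  rw [h1]
  congr 1
  exact congrFun (spec_a₁ i a ha) s(i, i)

end Block

/-! ### Fields of characteristic two -/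
section Field

variable {K : Type*} [Field K]

theorem tpt_apply {S : Type*} [CommRing S] {n : ℕ} (T P : Matrix (Fin n) (Fin n) S)
    (p q : Fin n) :
    (T.transpose * P * T) p q = ∑ l, (∑ r, T r p * P r l) * T l q := by
  rw [Matrix.mul_apply]
  apply Finset.sum_congr rfl
  intro l _
  rw [Matrix.mul_apply]
  rfl

theorem exists_minor_ne_zero (hodd : Odd (k + 1)) (h2 : (2 : K) = 0)
    (a : Sym2 (Fin (k + 1)) → K) (ha : hd a ≠ 0) :
    ∃ i : Fin (k + 1), ((pm a).submatrix i.succAbove i.succAbove).det ≠ 0 := by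
  classical
  have hdet : (pm a).det = 0 := by rw [← two_mul_hd hodd, h2, zero_mul]
  obtain ⟨ρ, hρ0, hρ⟩ := Matrix.exists_mulVec_eq_zero_iff.mpr hdet
  obtain ⟨i, hi⟩ : ∃ i, ρ i ≠ 0 := by
    by_contra hcon
    push Not at hcon
    exact hρ0 (funext hcon)
  refine ⟨i, ?_⟩
  set T : Matrix (Fin (k + 1)) (Fin (k + 1)) K := (1 : Matrix _ _ K).updateCol i ρ with hT
  have hTdet : T.det = ρ i := by
    rw [hT, ← Matrix.cramer_apply, Matrix.cramer_one]
    rfl
  have hTi : ∀ r, T r i = ρ r := fun r => Matrix.updateCol_self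
  have hTne : ∀ r q, q ≠ i → T r q = if r = q then 1 else 0 := by
    intro r q hq
    rw [hT, Matrix.updateCol_ne hq, Matrix.one_apply]
  -- row i of Tᵀ P vanishes
  have hrow : ∀ l, ∑ r, T r i * pm a r l = 0 := by
    intro l
    have h0 : ∑ r, pm a l r * ρ r = 0 := by
      have := congrFun hρ l
      rwa [Matrix.mulVec, dotProduct, Pi.zero_apply] at this
    rw [← h0]
    apply Finset.sum_congr rfl
    intro r _
    rw [hTi, pm_symm a r l, mul_comm]
  have hzero : ∀ j, j ≠ i → comp a T s(i, j) = 0 := by
    intro j hj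
    rw [comp_mk, if_neg (Ne.symm hj), tpt_apply]
    apply Finset.sum_eq_zero
    intro l _
    rw [hrow, zero_mul]
  have hblock := hd_block hodd i (comp a T) hzero
  have hne : hd (comp a T) ≠ 0 := by
    rw [hd_comp hodd, hTdet]
    exact mul_ne_zero (pow_ne_zero 2 hi) ha
  rw [hblock] at hne
  have hminor := right_ne_zero_of_mul hne
  have hsub : (pm (comp a T)).submatrix i.succAbove i.succAbove =
      (pm a).submatrix i.succAbove i.succAbove := by
    ext p q
    rw [Matrix.submatrix_apply, Matrix.submatrix_apply, pm_comp, tpt_apply]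
    have hp : i.succAbove p ≠ i := Fin.succAbove_ne i p
    have hq : i.succAbove q ≠ i := Fin.succAbove_ne i q
    simp only [hTne _ _ hp, hTne _ _ hq, ite_mul, one_mul, zero_mul, mul_ite, mul_one, mul_zero,
      Finset.sum_ite_eq', Finset.mem_univ, if_true]
  rwa [hsub] at hminor

end Field

/-! ### Local rings -/
section Local

variable {R : Type*} [CommRing R] [IsLocalRing R]

theorem exists_coord_injective (hodd : Odd (k + 1)) (a : Sym2 (Fin (k + 1)) → R)
    (ha : IsUnit (hd a)) :
    ∃ i : Fin (k + 1), ∀ y : Fin (k + 1) → R, (pm a).mulVec y = 0 → y i = 0 → y = 0 := by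
  classical
  by_cases h2 : IsUnit (2 : R)
  · refine ⟨0, fun y hy _ => ?_⟩
    have hu : IsUnit (pm a) := by
      rw [Matrix.isUnit_iff_isUnit_det, ← two_mul_hd hodd]
      exact h2.mul ha
    apply Matrix.mulVec_injective_of_isUnit hu
    rw [hy, Matrix.mulVec_zero]
  · have h2' : (2 : IsLocalRing.ResidueField R) = 0 := by
      have : IsLocalRing.residue R 2 = 0 := by
        rw [IsLocalRing.residue_eq_zero_iff, IsLocalRing.mem_maximalIdeal]
        exact h2
      rwa [map_ofNat] at this
    have hne : hd ((IsLocalRing.residue R) ∘ a) ≠ 0 := by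
      rw [hd_map]
      exact (IsLocalRing.residue_ne_zero_iff_isUnit _).mpr ha
    obtain ⟨i, hi⟩ := exists_minor_ne_zero hodd h2' _ hne
    rw [pm_map, Matrix.submatrix_map, ← RingHom.mapMatrix_apply, ← RingHom.map_det,
      IsLocalRing.residue_ne_zero_iff_isUnit] at hi
    refine ⟨i, fun y hy hyi => ?_⟩
    have hu : IsUnit ((pm a).submatrix i.succAbove i.succAbove) :=
      (Matrix.isUnit_iff_isUnit_det _).mpr hi
    have hy' : ((pm a).submatrix i.succAbove i.succAbove).mulVec (y ∘ i.succAbove) = 0 := by
      funext p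
      have := congrFun hy (i.succAbove p)
      rw [Matrix.mulVec, dotProduct, Fin.sum_univ_succAbove _ i, hyi, mul_zero, zero_add] at this
      rw [Matrix.mulVec, dotProduct]
      exact this
    have hz : y ∘ i.succAbove = 0 := by
      apply Matrix.mulVec_injective_of_isUnit hu
      rw [hy', Matrix.mulVec_zero]
    funext j
    by_cases hj : j = i
    · rw [hj, hyi]; rfl
    · obtain ⟨q, rfl⟩ := Fin.exists_succAbove_eq hj
      exact congrFun hz q

end Local

/-! ### Local-global -/
section Global

variable {R : Type*} [CommRing R]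

theorem alt_family_eq_zero (hodd : Odd (k + 1)) (a : Sym2 (Fin (k + 1)) → R)
    (ha : IsUnit (hd a)) (d : Fin (k + 1) → Fin (k + 1) → R)
    (hker : ∀ p, (pm a).mulVec (d p) = 0) (hdiag : ∀ p, d p p = 0)
    (halt : ∀ p q, d p q = - d q p) : ∀ p, d p = 0 := by
  intro p
  funext l
  apply eq_zero_of_localization
  intro J hJ
  set φ : R →+* Localization.AtPrime J := algebraMap R (Localization.AtPrime J) with hφ
  have ha' : IsUnit (hd (φ ∘ a)) := by
    rw [hd_map]
    exact ha.map φ
  obtain ⟨i, hi⟩ := exists_coord_injective hodd (φ ∘ a) ha'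
  have hker' : ∀ q, (pm (φ ∘ a)).mulVec (φ ∘ d q) = 0 := by
    intro q
    funext r
    rw [pm_map, ← RingHom.map_mulVec, hker q]
    exact map_zero φ
  have h1 : φ ∘ d i = 0 := hi _ (hker' i) (by rw [Function.comp_apply, hdiag, map_zero])
  have h2 : φ ∘ d p = 0 := by
    apply hi _ (hker' p)
    rw [Function.comp_apply, halt p i, map_neg]
    have := congrFun h1 p
    rw [Function.comp_apply] at this
    rw [this]
    exact neg_zero
  exact congrFun h2 l

end Global

end Groth.Agent.Lib.Helper19.HalfDisc
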