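import Groth.Agent.Lib.Helper19.QuadCentre2
import Mathlib.LinearAlgebra.QuadraticForm.Radical
import Mathlib.LinearAlgebra.Dimension.FreeAndStrongRankCondition
import Mathlib.RingTheory.TensorProduct.Free

/-!
# The half-discriminant over a field detects non-degeneracy (helper19)

`hd_ne_zero_iff_nondegenerate`: for a quadratic form on a vector space with a basis of odd length,
the half-discriminant is non-zero iff the form is non-degenerate (zero radical, polar kernel of
dimension at most one).
-/

set_option autoImplicit false
open QuadGrp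

namespace Groth.Agent.Lib.Helper19.HalfDisc

section FieldCase

variable {F : Type*} [Field F] {V : Type*} [AddCommGroup V] [Module F V] {m : ℕ}
variable (b : Module.Basis (Fin (2 * m + 1)) F V) (q : QuadraticForm F V)

theorem polar_basis_eq_mulVec (x : V) (l : Fin (2 * m + 1)) :
    QuadraticMap.polar q (b l) x =
      (pm (coeffs b (LinearEquiv.refl F F) q)).mulVec (b.equivFun x) l := by
  rw [← toMatrix₂_polarBilin, Matrix.mulVec, dotProduct, ← QuadraticMap.polarBilin_apply_apply]
  conv_lhs => rw [← b.sum_equivFun x]
  rw [map_sum]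
  apply Finset.sum_congr rfl
  intro j _
  rw [map_smul, LinearMap.toMatrix₂_apply, smul_eq_mul, mul_comm]

theorem mem_ker_polarBilin_iff (x : V) :
    x ∈ LinearMap.ker (QuadraticMap.polarBilin q) ↔
      (pm (coeffs b (LinearEquiv.refl F F) q)).mulVec (b.equivFun x) = 0 := by
  constructor
  · intro hx
    funext l
    rw [← polar_basis_eq_mulVec, QuadraticMap.polar_comm, ← QuadraticMap.polarBilin_apply_apply,
      LinearMap.mem_ker.1 hx]
    rfl
  · intro h
    rw [LinearMap.mem_ker]
    apply b.ext
    intro l
    rw [QuadraticMap.polarBilin_apply_apply, QuadraticMap.polar_comm, polar_basis_eq_mulVec, h]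
    rfl

theorem key_identity (ρ : Fin (2 * m + 1) → F)
    (hρ : (pm (coeffs b (LinearEquiv.refl F F) q)).mulVec ρ = 0) (i : Fin (2 * m + 1)) :
    ρ i ^ 2 * hd (coeffs b (LinearEquiv.refl F F) q) =
      q (b.equivFun.symm ρ) *
        ((pm (coeffs b (LinearEquiv.refl F F) q)).submatrix i.succAbove i.succAbove).det := by
  classical
  set v := b.equivFun.symm ρ with hv
  have hvN : v ∈ LinearMap.ker (QuadraticMap.polarBilin q) := by
    rw [mem_ker_polarBilin_iff b q, hv, LinearEquiv.apply_symm_apply]
    exact hρ
  set g : V →ₗ[F] V := b.constr F (Function.update (⇑b) i v) with hg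
  have hgi : g (b i) = v := by rw [hg, Module.Basis.constr_basis, Function.update_self]
  have hgj : ∀ j, j ≠ i → g (b j) = b j := by
    intro j hj
    rw [hg, Module.Basis.constr_basis, Function.update_of_ne hj]
  have hodd : Odd (2 * m + 1) := ⟨m, rfl⟩
  have hzero : ∀ j, j ≠ i → coeffs b (LinearEquiv.refl F F) (q.comp g) s(i, j) = 0 := by
    intro j hj
    rw [coeffs_mk, if_neg (Ne.symm hj), LinearEquiv.refl_apply, QuadraticMap.polar,
      QuadraticMap.comp_apply, QuadraticMap.comp_apply, QuadraticMap.comp_apply, map_add, hgi,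
      hgj j hj]
    have := LinearMap.congr_fun (LinearMap.mem_ker.1 hvN) (b j)
    rw [QuadraticMap.polarBilin_apply_apply, QuadraticMap.polar] at this
    exact this
  have hii : coeffs b (LinearEquiv.refl F F) (q.comp g) s(i, i) = q v := by
    rw [coeffs_mk, if_pos rfl, LinearEquiv.refl_apply, QuadraticMap.comp_apply, hgi]
  have hsub : (pm (coeffs b (LinearEquiv.refl F F) (q.comp g))).submatrix i.succAbove i.succAbove =
      (pm (coeffs b (LinearEquiv.refl F F) q)).submatrix i.succAbove i.succAbove := by
    ext p q'
    rw [Matrix.submatrix_apply, Matrix.submatrix_apply, pm_apply, pm_apply, coeffs_mk, coeffs_mk]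
    have hp := Fin.succAbove_ne i p
    have hq := Fin.succAbove_ne i q'
    simp only [LinearEquiv.refl_apply, QuadraticMap.comp_apply, QuadraticMap.polar, map_add,
      hgj _ hp, hgj _ hq]
  have hdet : LinearMap.det g = ρ i := by
    rw [← LinearMap.det_toMatrix b g]
    have hT : LinearMap.toMatrix b b g = (1 : Matrix _ _ F).updateCol i ρ := by
      ext r j
      rw [LinearMap.toMatrix_apply]
      by_cases hj : j = i
      · rw [hj, hgi, Matrix.updateCol_self, hv, ← Module.Basis.equivFun_apply,
          LinearEquiv.apply_symm_apply]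
      · rw [hgj j hj, Matrix.updateCol_ne hj, Module.Basis.repr_self, Finsupp.single_apply,
          Matrix.one_apply]
        by_cases hrj : r = j
        · rw [if_pos hrj, if_pos hrj.symm]
        · rw [if_neg hrj, if_neg (Ne.symm hrj)]
    rw [hT, ← Matrix.cramer_apply, Matrix.cramer_one]
    rfl
  have h1 := halfDisc_comp m b q g
  rw [halfDisc_eq_hd, halfDisc_eq_hd, hdet] at h1
  rw [← h1, hd_block hodd i _ hzero, hii, hsub]

theorem hd_ne_zero_iff_nondegenerate :
    hd (coeffs b (LinearEquiv.refl F F) q) ≠ 0 ↔ QuadraticMap.Nondegenerate (Q := q) := by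
  classical
  have hodd : Odd (2 * m + 1) := ⟨m, rfl⟩
  by_cases h2 : (2 : F) = 0
  · -- characteristic two
    have hdet0 : (pm (coeffs b (LinearEquiv.refl F F) q)).det = 0 := by
      rw [← two_mul_hd hodd, h2, zero_mul]
    obtain ⟨ρ, hρ0, hρ⟩ := Matrix.exists_mulVec_eq_zero_iff.mpr hdet0
    obtain ⟨i, hi⟩ : ∃ i, ρ i ≠ 0 := by
      by_contra hcon
      push Not at hcon
      exact hρ0 (funext hcon)
    have hkey := key_identity b q ρ hρ i
    set v := b.equivFun.symm ρ with hv
    have hvi : b.equivFun v = ρ := by rw [hv, LinearEquiv.apply_symm_apply]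
    have hvN : v ∈ LinearMap.ker (QuadraticMap.polarBilin q) := by
      rw [mem_ker_polarBilin_iff b q, hvi]
      exact hρ
    have hv0 : v ≠ 0 := by
      intro h0
      apply hρ0
      rw [← hvi, h0, map_zero]
    constructor
    · intro hne
      have hprod : q v * ((pm (coeffs b (LinearEquiv.refl F F) q)).submatrix i.succAbove
          i.succAbove).det ≠ 0 := by
        rw [← hkey]
        exact mul_ne_zero (pow_ne_zero 2 hi) hne
      have hqv : q v ≠ 0 := left_ne_zero_of_mul hprod
      have hmin := right_ne_zero_of_mul hprod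
      have hN : ∀ x ∈ LinearMap.ker (QuadraticMap.polarBilin q), ∃ c : F, x = c • v := by
        intro x hx
        have hx'N : x - (b.equivFun x i / ρ i) • v ∈ LinearMap.ker (QuadraticMap.polarBilin q) :=
          Submodule.sub_mem _ hx (Submodule.smul_mem _ _ hvN)
        have hx'i : b.equivFun (x - (b.equivFun x i / ρ i) • v) i = 0 := by
          rw [map_sub, map_smul, hvi, Pi.sub_apply, Pi.smul_apply, smul_eq_mul,
            div_mul_cancel₀ _ hi, sub_self]
        have hσ : ((pm (coeffs b (LinearEquiv.refl F F) q)).submatrix i.succAbove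
            i.succAbove).mulVec
            (fun p => b.equivFun (x - (b.equivFun x i / ρ i) • v) (i.succAbove p)) = 0 := by
          funext p
          have := congrFun ((mem_ker_polarBilin_iff b q _).1 hx'N) (i.succAbove p)
          rw [Matrix.mulVec, dotProduct, Fin.sum_univ_succAbove _ i, hx'i, mul_zero, zero_add,
            Pi.zero_apply] at this
          exact this
        have hσ0 := Matrix.eq_zero_of_mulVec_eq_zero hmin hσ
        have hx'0 : x - (b.equivFun x i / ρ i) • v = 0 := by
          apply b.equivFun.injective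
          rw [map_zero]
          funext j
          by_cases hj : j = i
          · rw [hj, hx'i]
            rfl
          · obtain ⟨p, hp⟩ := Fin.exists_succAbove_eq hj
            rw [← hp]
            exact congrFun hσ0 p
        exact ⟨_, sub_eq_zero.1 hx'0⟩
      refine ⟨?_, ?_⟩
      · rw [eq_bot_iff]
        intro x hx
        have hx' : q x = 0 ∧ QuadraticMap.polarBilin q x = 0 := hx
        obtain ⟨c, rfl⟩ := hN x (LinearMap.mem_ker.2 hx'.2)
        have hx1 := hx'.1
        rw [QuadraticMap.map_smul, smul_eq_mul] at hx1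
        have hc0 : c = 0 := by
          rcases mul_eq_zero.1 hx1 with h | h
          · exact mul_self_eq_zero.1 h
          · exact absurd h hqv
        rw [hc0, zero_smul]
        exact Submodule.zero_mem _
      · rw [rank_le_one_iff]
        refine ⟨⟨v, hvN⟩, fun y => ?_⟩
        obtain ⟨c, hc⟩ := hN y y.2
        exact ⟨c, Subtype.ext hc.symm⟩
    · intro hnd hzero
      have hqv : q v ≠ 0 := by
        intro h0
        have hmem : v ∈ QuadraticMap.radical q := ⟨h0, LinearMap.mem_ker.1 hvN⟩
        rw [hnd.radical_eq_bot, Submodule.mem_bot] at hmem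
        exact hv0 hmem
      have hmin0 : ((pm (coeffs b (LinearEquiv.refl F F) q)).submatrix i.succAbove
          i.succAbove).det = 0 := by
        rw [hzero, mul_zero] at hkey
        exact (mul_eq_zero.1 hkey.symm).resolve_left hqv
      obtain ⟨σ, hσ0, hσ⟩ := Matrix.exists_mulVec_eq_zero_iff.mpr hmin0
      set ω : Fin (2 * m + 1) → F := Fin.insertNth (α := fun _ => F) i 0 σ with hω
      have hωi : ω i = 0 := Fin.insertNth_apply_same (α := fun _ => F) i 0 σ
      have hωs : ∀ p, ω (i.succAbove p) = σ p :=
        fun p => Fin.insertNth_apply_succAbove (α := fun _ => F) i 0 σ p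
      have hPω_s : ∀ p, (pm (coeffs b (LinearEquiv.refl F F) q)).mulVec ω (i.succAbove p) = 0 := by
        intro p
        rw [Matrix.mulVec, dotProduct, Fin.sum_univ_succAbove _ i, hωi, mul_zero, zero_add]
        have := congrFun hσ p
        simp only [hωs]
        exact this
      have hPω_i : (pm (coeffs b (LinearEquiv.refl F F) q)).mulVec ω i = 0 := by
        have hsum : ∑ l, ρ l * (pm (coeffs b (LinearEquiv.refl F F) q)).mulVec ω l = 0 := by
          simp only [Matrix.mulVec, dotProduct, Finset.mul_sum]
          rw [Finset.sum_comm]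
          apply Finset.sum_eq_zero
          intro j _
          have hj := congrFun hρ j
          rw [Matrix.mulVec, dotProduct, Pi.zero_apply] at hj
          calc ∑ l, ρ l * (pm (coeffs b (LinearEquiv.refl F F) q) l j * ω j)
              = (∑ l, pm (coeffs b (LinearEquiv.refl F F) q) j l * ρ l) * ω j := by
                rw [Finset.sum_mul]
                apply Finset.sum_congr rfl
                intro l _
                rw [pm_symm _ l j]
                ring
            _ = 0 := by rw [hj, zero_mul]
        rw [Fin.sum_univ_succAbove _ i] at hsum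
        simp only [hPω_s, mul_zero, Finset.sum_const_zero, add_zero] at hsum
        exact (mul_eq_zero.1 hsum).resolve_left hi
      have hPω : (pm (coeffs b (LinearEquiv.refl F F) q)).mulVec ω = 0 := by
        funext j
        by_cases hj : j = i
        · rw [hj]
          exact hPω_i
        · obtain ⟨p, hp⟩ := Fin.exists_succAbove_eq hj
          rw [← hp]
          exact hPω_s p
      have hwi : b.equivFun (b.equivFun.symm ω) = ω := LinearEquiv.apply_symm_apply _ _
      have hwN : b.equivFun.symm ω ∈ LinearMap.ker (QuadraticMap.polarBilin q) := by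
        rw [mem_ker_polarBilin_iff b q, hwi]
        exact hPω
      obtain ⟨v₀, hv₀⟩ := rank_le_one_iff.1 hnd.rank_rad_polar_le
      obtain ⟨r₁, hr₁⟩ := hv₀ ⟨v, hvN⟩
      obtain ⟨r₂, hr₂⟩ := hv₀ ⟨b.equivFun.symm ω, hwN⟩
      have hr₁' : r₁ • (v₀ : V) = v := congrArg Subtype.val hr₁
      have hr₂' : r₂ • (v₀ : V) = b.equivFun.symm ω := congrArg Subtype.val hr₂
      have hr₁0 : r₁ ≠ 0 := by
        rintro rfl
        rw [zero_smul] at hr₁'
        exact hv0 hr₁'.symm
      have hwv : b.equivFun.symm ω = (r₂ / r₁) • v := by
        rw [← hr₁', smul_smul, div_mul_cancel₀ _ hr₁0, hr₂']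
      have hwi0 : b.equivFun (b.equivFun.symm ω) i = 0 := by
        rw [hwi]
        exact hωi
      rw [hwv, map_smul, hvi, Pi.smul_apply, smul_eq_mul] at hwi0
      have hr₂0 : r₂ / r₁ = 0 := (mul_eq_zero.1 hwi0).resolve_right hi
      have hω0 : ω = 0 := by
        rw [← hwi, hwv, hr₂0, zero_smul, map_zero]
      apply hσ0
      funext p
      rw [← hωs p, hω0]
      rfl
  · -- characteristic different from two
    have hdet : hd (coeffs b (LinearEquiv.refl F F) q) ≠ 0 ↔
        (pm (coeffs b (LinearEquiv.refl F F) q)).det ≠ 0 := by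
      rw [← two_mul_hd hodd]
      constructor
      · intro h
        exact mul_ne_zero h2 h
      · intro h h0
        apply h
        rw [h0, mul_zero]
    rw [hdet]
    constructor
    · intro hne
      have hN : LinearMap.ker (QuadraticMap.polarBilin q) = ⊥ := by
        rw [eq_bot_iff]
        intro x hx
        have h1 := (mem_ker_polarBilin_iff b q x).1 hx
        have h2' := Matrix.eq_zero_of_mulVec_eq_zero hne h1
        rw [Submodule.mem_bot]
        apply b.equivFun.injective
        rw [h2', map_zero]
      refine ⟨?_, ?_⟩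
      · exact eq_bot_iff.2 (fun x hx => hN ▸ QuadraticMap.radical_le_ker_polarBilin hx)
      · rw [hN]
        simp
    · intro hnd hdet0
      obtain ⟨ρ, hρ0, hρ⟩ := Matrix.exists_mulVec_eq_zero_iff.mpr hdet0
      have hvi : b.equivFun (b.equivFun.symm ρ) = ρ := LinearEquiv.apply_symm_apply _ _
      have hvN : b.equivFun.symm ρ ∈ LinearMap.ker (QuadraticMap.polarBilin q) := by
        rw [mem_ker_polarBilin_iff b q, hvi]
        exact hρ
      have hqv : q (b.equivFun.symm ρ) = 0 := by
        have h1 := LinearMap.congr_fun (LinearMap.mem_ker.1 hvN) (b.equivFun.symm ρ)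
        rw [QuadraticMap.polarBilin_apply_apply, QuadraticMap.polar_self, LinearMap.zero_apply,
          nsmul_eq_mul, Nat.cast_ofNat] at h1
        exact (mul_eq_zero.1 h1).resolve_left h2
      have hmem : b.equivFun.symm ρ ∈ QuadraticMap.radical q := ⟨hqv, LinearMap.mem_ker.1 hvN⟩
      rw [hnd.radical_eq_bot, Submodule.mem_bot] at hmem
      apply hρ0
      rw [← hvi, hmem, map_zero]

end FieldCase

end Groth.Agent.Lib.Helper19.HalfDisc
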