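import Mathlib
import Groth.Prelude.Def_CartDual
import Groth.Prelude.Def_PLie
import Groth.Agent.Lib.Helper19.HeightOne
import Groth.Agent.Lib.Helper19.PrimHopf

/-!
# The dual of a primitively generated cocommutative Hopf algebra (helper19)

Let `H` be a finite-dimensional cocommutative Hopf algebra over a field `k` of characteristic `p`,
generated by the image of a linear map `j : L → H` with primitive values.  The dual Hopf algebra
`A = CartDual.D k H` is commutative, of height one (`f ^ p = 0` on the augmentation ideal), the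
transposes of the right multiplications by `j x` are left-invariant derivations of `A`, and when
`dim H ≤ p ^ dim L` and `j` is injective these are all the left-invariant derivations.
-/

set_option autoImplicit false
set_option linter.unusedSectionVars false
universe u

open TensorProduct

namespace Groth.Agent.Lib.Helper19.HeightOneDual

open CartDual
open Groth.Agent.Lib.Helper19.PrimHopf
open Groth.Agent.Lib.Helper19.Unip
open Groth.Agent.Lib.Helper19.FrobKer
open Groth.Agent.Lib.Helper19.HeightOne

section Dual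

variable (k : Type u) [Field k] (H : Type u) [Ring H] [HopfAlgebra k H] [Module.Finite k H]

/-- transpose of right multiplication by `h` -/
noncomputable def rmulD (h : H) : D k H →ₗ[k] D k H :=
  (toDual k H).symm.toLinearMap ∘ₗ (LinearMap.mulRight k h).dualMap ∘ₗ (toDual k H).toLinearMap

lemma rmulD_apply (h : H) (f : D k H) (a : H) : rmulD k H h f a = f (a * h) := rfl

lemma rmulD_add (h h' : H) : rmulD k H (h + h') = rmulD k H h + rmulD k H h' := by
  apply LinearMap.ext; intro f
  apply WithConv.ext; apply LinearMap.ext; intro a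
  show f (a * (h + h')) = f (a * h) + f (a * h')
  rw [mul_add, map_add]

lemma rmulD_smul (c : k) (h : H) : rmulD k H (c • h) = c • rmulD k H h := by
  apply LinearMap.ext; intro f
  apply WithConv.ext; apply LinearMap.ext; intro a
  show f (a * (c • h)) = c • f (a * h)
  rw [mul_smul_comm, map_smul]

lemma rmulD_mul (h h' : H) : rmulD k H h * rmulD k H h' = rmulD k H (h * h') := by
  apply LinearMap.ext; intro f
  apply WithConv.ext; apply LinearMap.ext; intro a
  show f (a * h * h') = f (a * (h * h'))
  rw [mul_assoc]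

lemma rmulD_one : rmulD k H 1 = 1 := by
  apply LinearMap.ext; intro f
  apply WithConv.ext; apply LinearMap.ext; intro a
  show f (a * 1) = f a
  rw [mul_one]

lemma rmulD_pow (h : H) (n : ℕ) : rmulD k H h ^ n = rmulD k H (h ^ n) := by
  induction n with
  | zero => rw [pow_zero, pow_zero, rmulD_one]
  | succ n ih => rw [pow_succ, pow_succ, ih, rmulD_mul]

lemma conv_rmul_left (h : H) (f g : D k H) (t : H ⊗[k] H) :
    LinearMap.mul' k k (TensorProduct.map f.ofConv g.ofConv (t * (h ⊗ₜ[k] (1 : H)))) =
      LinearMap.mul' k k (TensorProduct.map (rmulD k H h f).ofConv g.ofConv t) := by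
  induction t using TensorProduct.induction_on with
  | zero => simp only [zero_mul, map_zero]
  | tmul a c =>
    rw [Algebra.TensorProduct.tmul_mul_tmul, mul_one, TensorProduct.map_tmul,
      TensorProduct.map_tmul]
    rfl
  | add x y hx hy => simp only [add_mul, map_add, hx, hy]

lemma conv_rmul_right (h : H) (f g : D k H) (t : H ⊗[k] H) :
    LinearMap.mul' k k (TensorProduct.map f.ofConv g.ofConv (t * ((1 : H) ⊗ₜ[k] h))) =
      LinearMap.mul' k k (TensorProduct.map f.ofConv (rmulD k H h g).ofConv t) := by
  induction t using TensorProduct.induction_on with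
  | zero => simp only [zero_mul, map_zero]
  | tmul a c =>
    rw [Algebra.TensorProduct.tmul_mul_tmul, mul_one, TensorProduct.map_tmul,
      TensorProduct.map_tmul]
    rfl
  | add x y hx hy => simp only [add_mul, map_add, hx, hy]

lemma ev₂_lTensor_rmulD (h : H) (y : D k H ⊗[k] D k H) (a c : H) :
    ev₂ k H (LinearMap.lTensor (D k H) (rmulD k H h) y) (a ⊗ₜ[k] c) =
      ev₂ k H y (a ⊗ₜ[k] (c * h)) := by
  induction y using TensorProduct.induction_on with
  | zero => simp only [map_zero, LinearMap.zero_apply]
  | tmul f1 f2 => rw [LinearMap.lTensor_tmul, ev₂_tmul, ev₂_tmul, rmulD_apply]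
  | add y y' hy hy' => simp only [map_add, LinearMap.add_apply, hy, hy']

lemma comul_rmulD (h : H) :
    (Coalgebra.comul (R := k) (A := D k H)) ∘ₗ rmulD k H h =
      LinearMap.lTensor (D k H) (rmulD k H h) ∘ₗ Coalgebra.comul (R := k) (A := D k H) := by
  apply LinearMap.ext; intro f
  apply (ev₂ k H).injective
  apply TensorProduct.ext'
  intro a c
  rw [LinearMap.comp_apply, LinearMap.comp_apply, ev₂_lTensor_rmulD, ev₂_coalgebra_comul_tmul,
    ev₂_coalgebra_comul_tmul, rmulD_apply, mul_assoc]

variable [Coalgebra.IsCocomm k H]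

lemma rmulD_leibniz (h : H)
    (hh : Coalgebra.comul (R := k) h = h ⊗ₜ[k] (1 : H) + (1 : H) ⊗ₜ[k] h) (f g : D k H) :
    rmulD k H h (f * g) = f * rmulD k H h g + g * rmulD k H h f := by
  rw [mul_comm g (rmulD k H h f)]
  apply WithConv.ext; apply LinearMap.ext; intro a
  show (f * g) (a * h) = (f * rmulD k H h g) a + (rmulD k H h f * g) a
  rw [LinearMap.convMul_apply, LinearMap.convMul_apply, LinearMap.convMul_apply,
    Bialgebra.comul_mul, hh, mul_add, map_add, map_add, conv_rmul_left, conv_rmul_right,
    add_comm]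

/-- the derivation of the dual attached to a primitive element -/
noncomputable def primDer (h : H)
    (hh : Coalgebra.comul (R := k) h = h ⊗ₜ[k] (1 : H) + (1 : H) ⊗ₜ[k] h) :
    Derivation k (D k H) (D k H) :=
  Derivation.mk' (rmulD k H h) (fun f g => by
    rw [smul_eq_mul, smul_eq_mul]
    exact rmulD_leibniz k H h hh f g)

lemma primDer_apply (h : H)
    (hh : Coalgebra.comul (R := k) h = h ⊗ₜ[k] (1 : H) + (1 : H) ⊗ₜ[k] h) (f : D k H) :
    primDer k H h hh f = rmulD k H h f := rfl

section Frob

variable (p : ℕ) [Fact p.Prime] [CharP k p]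

lemma ev₂_pow_p (a c : H)
    (ha : ∀ f : D k H, (f ^ p) a = Coalgebra.counit (R := k) a * (f 1) ^ p)
    (hc : ∀ f : D k H, (f ^ p) c = Coalgebra.counit (R := k) c * (f 1) ^ p)
    (y : D k H ⊗[k] D k H) :
    ev₂ k H (y ^ p) (a ⊗ₜ[k] c) =
      Coalgebra.counit (R := k) a * Coalgebra.counit (R := k) c *
        (ev₂ k H y ((1 : H) ⊗ₜ[k] (1 : H))) ^ p := by
  have htm : ∀ f1 f2 : D k H, ev₂ k H ((f1 ⊗ₜ[k] f2) ^ p) (a ⊗ₜ[k] c) =
      Coalgebra.counit (R := k) a * Coalgebra.counit (R := k) c *
        (ev₂ k H (f1 ⊗ₜ[k] f2) ((1 : H) ⊗ₜ[k] (1 : H))) ^ p := by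
    intro f1 f2
    rw [Algebra.TensorProduct.tmul_pow, ev₂_tmul, ev₂_tmul, ha, hc, mul_pow]
    ring
  induction y using TensorProduct.induction_on with
  | zero =>
    have h0 : (0 : D k H ⊗[k] D k H) = (0 : D k H) ⊗ₜ[k] (0 : D k H) :=
      (TensorProduct.zero_tmul _ _).symm
    rw [h0]
    exact htm 0 0
  | tmul f1 f2 => exact htm f1 f2
  | add y y' hy hy' =>
    rw [add_pow_p_of_commute k p y y' (Commute.all y y'), map_add, LinearMap.add_apply, hy, hy',
      map_add, LinearMap.add_apply, add_pow_char]
    ring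

variable {L : Type u} [AddCommGroup L] [Module k L] (j : L →ₗ[k] H)
  (hprim : ∀ x, Coalgebra.comul (R := k) (j x) = j x ⊗ₜ[k] (1 : H) + (1 : H) ⊗ₜ[k] j x)
  (hcounit : ∀ x, Coalgebra.counit (R := k) (j x) = 0)
  (hgen : Algebra.adjoin k (Set.range j) = ⊤)

include hprim hcounit hgen in
lemma pow_p_apply (f : D k H) (h : H) :
    (f ^ p) h = Coalgebra.counit (R := k) h * (f 1) ^ p := by
  revert f
  refine gen_induction (Set.range j) hgen
    (P := fun h => ∀ f : D k H, (f ^ p) h = Coalgebra.counit (R := k) h * (f 1) ^ p)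
    ?_ ?_ ?_ ?_ h
  · rintro _ ⟨x, rfl⟩ f
    have h1 : (f ^ p) (j x) = (primDer k H (j x) (hprim x) (f ^ p)) 1 := by
      show (f ^ p) (j x) = (f ^ p) (1 * j x)
      rw [one_mul]
    rw [h1, Derivation.leibniz_pow, nsmul_p_eq_zero k p, hcounit x, zero_mul]
    rfl
  · intro r f
    have h1 : (f ^ p) 1 = (f 1) ^ p := map_pow (Bialgebra.counitAlgHom k (D k H)) f p
    rw [Algebra.algebraMap_eq_smul_one, map_smul, map_smul, h1, Bialgebra.counit_one, smul_eq_mul,
      smul_eq_mul, mul_one]
  · intro a c ha hc f
    rw [map_add, map_add, ha f, hc f, add_mul]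
  · intro a c ha hc f
    have h1 : (f ^ p) (a * c) = ev₂ k H (Coalgebra.comul (R := k) (f ^ p)) (a ⊗ₜ[k] c) :=
      (ev₂_coalgebra_comul_tmul k H (f ^ p) a c).symm
    have h2 : Coalgebra.comul (R := k) (f ^ p) = (Coalgebra.comul (R := k) f) ^ p :=
      map_pow (Bialgebra.comulAlgHom k (D k H)) f p
    rw [h1, h2, ev₂_pow_p k H p a c ha hc, ev₂_coalgebra_comul_tmul, mul_one,
      Bialgebra.counit_mul]

include hprim hcounit hgen in
lemma pow_p_eq_zero (f : D k H) (hf : Bialgebra.counitAlgHom k (D k H) f = 0) : f ^ p = 0 := by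
  have hf1 : f 1 = 0 := hf
  apply WithConv.ext; apply LinearMap.ext; intro h
  show (f ^ p) h = 0
  rw [pow_p_apply k H p j hprim hcounit hgen f h, hf1, zero_pow (Fact.out : p.Prime).ne_zero,
    mul_zero]

end Frob

section LeftInv

variable (A : Type u) [CommRing A] [Bialgebra k A]

/-- derivations as endomorphisms -/
noncomputable def toEnd : Derivation k A A →ₗ[k] (A →ₗ[k] A) where
  toFun T := T.toLinearMap
  map_add' _ _ := rfl
  map_smul' _ _ := rfl

/-- left invariance of an endomorphism -/
def IsLI (T : A →ₗ[k] A) : Prop :=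
  Coalgebra.comul (R := k) (A := A) ∘ₗ T =
    LinearMap.lTensor A T ∘ₗ Coalgebra.comul (R := k) (A := A)

/-- left invariant endomorphisms -/
noncomputable def LIend : Submodule k (A →ₗ[k] A) where
  carrier := {T | IsLI k A T}
  add_mem' := by
    intro T T' hT hT'
    show IsLI k A (T + T')
    have h1 : IsLI k A T := hT
    have h2 : IsLI k A T' := hT'
    unfold IsLI at *
    rw [LinearMap.comp_add, LinearMap.lTensor_add, LinearMap.add_comp, h1, h2]
  zero_mem' := by
    show IsLI k A 0
    unfold IsLI
    rw [LinearMap.comp_zero, LinearMap.lTensor_zero, LinearMap.zero_comp]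
  smul_mem' := by
    intro c T hT
    show IsLI k A (c • T)
    have h1 : IsLI k A T := hT
    unfold IsLI at *
    rw [LinearMap.comp_smul, LinearMap.lTensor_smul, LinearMap.smul_comp, h1]

/-- left-invariant derivations -/
noncomputable def LID : Submodule k (Derivation k A A) :=
  (LIend k A).comap (toEnd k A)

lemma mem_LID (T : Derivation k A A) :
    T ∈ LID k A ↔ Coalgebra.comul (R := k) (A := A) ∘ₗ T.toLinearMap =
      LinearMap.lTensor A T.toLinearMap ∘ₗ Coalgebra.comul (R := k) (A := A) :=
  Iff.rfl

lemma eq_zero_of_LI (T : Derivation k A A) (hT : T ∈ LID k A)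
    (hz : ∀ f : A, Coalgebra.counit (R := k) (T f) = 0) : T = 0 := by
  apply Derivation.ext; intro f
  have h1 := LinearMap.congr_fun ((mem_LID k A T).1 hT) f
  have h2 := congrArg (fun t => TensorProduct.rid k A
    (LinearMap.lTensor A (Coalgebra.counit (R := k) (A := A)) t)) h1
  simp only [LinearMap.comp_apply] at h2
  rw [Coalgebra.lTensor_counit_comul, TensorProduct.rid_tmul, one_smul,
    ← LinearMap.lTensor_comp_apply] at h2
  have h3 : (Coalgebra.counit (R := k) (A := A)) ∘ₗ T.toLinearMap = 0 := LinearMap.ext hz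
  rw [h3, LinearMap.lTensor_zero, LinearMap.zero_apply, map_zero] at h2
  exact h2

lemma counit_der_eq_zero {r : ℕ} (x : Fin r → A)
    (S1 : ∀ y ∈ augI k A, ∃ c : Fin r → k, y - ∑ j, c j • x j ∈ augI k A ^ 2)
    (T : Derivation k A A)
    (hx : ∀ i, Coalgebra.counit (R := k) (T (x i)) = 0) (f : A) :
    Coalgebra.counit (R := k) (T f) = 0 := by
  have hA : ∀ w ∈ augI k A ^ 2, Coalgebra.counit (R := k) (T w) = 0 := by
    intro w hw
    rw [pow_two] at hw
    refine Submodule.mul_induction_on hw ?_ ?_
    · intro a ha c hc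
      rw [Derivation.leibniz, map_add, smul_eq_mul, smul_eq_mul, Bialgebra.counit_mul,
        Bialgebra.counit_mul, (mem_augI a).1 ha, (mem_augI c).1 hc, zero_mul, zero_mul, add_zero]
    · intro y z hy hz
      rw [map_add, map_add, hy, hz, add_zero]
  have hB : ∀ a ∈ augI k A, Coalgebra.counit (R := k) (T a) = 0 := by
    intro a ha
    obtain ⟨c, hc⟩ := S1 a ha
    have h1 := hA _ hc
    rw [map_sub, map_sub, map_sum, map_sum] at h1
    have h2 : ∑ j, Coalgebra.counit (R := k) (T (c j • x j)) = 0 := by
      apply Finset.sum_eq_zero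
      intro j _
      rw [Derivation.map_smul, map_smul, hx j, smul_zero]
    rw [h2, sub_zero] at h1
    exact h1
  have h1 : f - Coalgebra.counit (R := k) f • (1 : A) ∈ augI k A := by
    rw [mem_augI, map_sub, map_smul, Bialgebra.counit_one, smul_eq_mul, mul_one, sub_self]
  have h2 := hB _ h1
  rw [map_sub, map_sub, Derivation.map_smul, map_smul, Derivation.map_one_eq_zero, map_zero,
    smul_zero, sub_zero] at h2
  exact h2

end LeftInv

end Dual

section Main

open Module

theorem main (k : Type u) [Field k] (p : ℕ) [Fact p.Prime] [CharP k p]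
    (L : Type u) [LieRing L] [LieAlgebra k L] [Module.Finite k L] (φ : PLie.PMap k p L)
    (H : Type u) [Ring H] [HopfAlgebra k H] [Coalgebra.IsCocomm k H] [Module.Finite k H]
    (j : L →ₗ[k] H) (hinj : Function.Injective j)
    (hbr : ∀ x z, j ⁅x, z⁆ = j x * j z - j z * j x) (hpm : ∀ x, j (φ x) = j x ^ p)
    (hprim : ∀ x, Coalgebra.comul (R := k) (j x) = j x ⊗ₜ[k] (1 : H) + (1 : H) ⊗ₜ[k] j x)
    (hcounit : ∀ x, Coalgebra.counit (R := k) (j x) = 0)
    (hgen : Algebra.adjoin k (Set.range j) = ⊤)
    (hdim : Module.finrank k H ≤ p ^ Module.finrank k L) :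
    ∃ (A : Type u) (_ : CommRing A) (_ : HopfAlgebra k A), Module.Finite k A ∧
      (∀ f : A, Bialgebra.counitAlgHom k A f = 0 → f ^ p = 0) ∧
      ∃ e : L →ₗ[k] Derivation k A A, Function.Injective e ∧
        Set.range e = {D : Derivation k A A |
          CoalgebraStruct.comul (R := k) (A := A) ∘ₗ D.toLinearMap =
          LinearMap.lTensor A D.toLinearMap ∘ₗ CoalgebraStruct.comul (R := k) (A := A)} ∧
        (∀ x y : L, e ⁅x, y⁆ = ⁅e x, e y⁆) ∧
        (∀ x : L, (e (φ x)).toLinearMap = (e x).toLinearMap ^ p) := by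
  classical
  let e : L →ₗ[k] Derivation k (D k H) (D k H) :=
    { toFun := fun x => primDer k H (j x) (hprim x)
      map_add' := by
        intro x z
        apply Derivation.ext; intro f
        show rmulD k H (j (x + z)) f = rmulD k H (j x) f + rmulD k H (j z) f
        rw [map_add, rmulD_add]
        rfl
      map_smul' := by
        intro c x
        apply Derivation.ext; intro f
        show rmulD k H (j (c • x)) f = c • rmulD k H (j x) f
        rw [map_smul, rmulD_smul]
        rfl }
  have hinje : Function.Injective e := by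
    rw [injective_iff_map_eq_zero]
    intro x hx
    apply hinj
    rw [map_zero, ← Module.forall_dual_apply_eq_zero_iff k (j x)]
    intro ψ
    have h1 := congrArg (fun T : Derivation k (D k H) (D k H) => T (WithConv.toConv ψ) 1) hx
    have h2 : e x (WithConv.toConv ψ) 1 = ψ (j x) := by
      show ψ (1 * j x) = ψ (j x)
      rw [one_mul]
    rw [← h2]
    exact h1
  have hle : LinearMap.range e ≤ LID k (D k H) := by
    rintro _ ⟨x, rfl⟩
    exact comul_rmulD k H (j x)
  refine ⟨D k H, inferInstance, inferInstance, inferInstance,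
    fun f hf => pow_p_eq_zero k H p j hprim hcounit hgen f hf, e, hinje, ?_, ?_, ?_⟩
  · haveI : IsNoetherianRing (D k H) := Algebra.FiniteType.isNoetherianRing k (D k H)
    have hnil : ∀ a ∈ augI k (D k H), a ^ p = 0 := fun a ha =>
      pow_p_eq_zero k H p j hprim hcounit hgen a ((mem_augI a).1 ha)
    obtain ⟨x, DD, hxI, S1, hDD⟩ := exists_coords_der k (D k H)
    have hpow : finrank k (D k H) = p ^ finrank k (augI k (D k H)).Cotangent :=
      finrank_eq_pow k p (D k H) hnil
    have hAH : finrank k (D k H) = finrank k H := by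
      rw [(toDual k H).finrank_eq, Subspace.dual_finrank_eq]
    have hrd : finrank k (augI k (D k H)).Cotangent ≤ finrank k L := by
      have h1 : p ^ finrank k (augI k (D k H)).Cotangent ≤ p ^ finrank k L := by
        rw [← hpow, hAH]
        exact hdim
      exact (Nat.pow_le_pow_iff_right (Fact.out : p.Prime).one_lt).1 h1
    let Θ : LID k (D k H) →ₗ[k] (Fin (finrank k (augI k (D k H)).Cotangent) → k) :=
      LinearMap.pi (fun i => (Coalgebra.counit (R := k) (A := D k H)) ∘ₗ
        LinearMap.applyₗ (x i) ∘ₗ toEnd k (D k H) ∘ₗ (LID k (D k H)).subtype)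
    have hΘ : Function.Injective Θ := by
      rw [injective_iff_map_eq_zero]
      intro T hT
      have hx : ∀ i, Coalgebra.counit (R := k)
          ((T : Derivation k (D k H) (D k H)) (x i)) = 0 := fun i => congrFun hT i
      have h0 := eq_zero_of_LI k (D k H) T.1 T.2 (counit_der_eq_zero k (D k H) x S1 T.1 hx)
      apply Subtype.ext
      rw [h0]
      rfl
    haveI : Module.Finite k (LID k (D k H)) := Module.Finite.of_injective Θ hΘ
    have h1 : finrank k (LID k (D k H)) ≤ finrank k (augI k (D k H)).Cotangent := by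
      have h := LinearMap.finrank_le_finrank_of_injective hΘ
      rwa [Module.finrank_fin_fun] at h
    have h2 : finrank k (LinearMap.range e) = finrank k L :=
      LinearMap.finrank_range_of_inj hinje
    have h3 : finrank k (LID k (D k H)) ≤ finrank k (LinearMap.range e) := by
      rw [h2]
      exact h1.trans hrd
    have heq : LinearMap.range e = LID k (D k H) :=
      Submodule.eq_of_le_of_finrank_le hle h3
    ext T
    constructor
    · rintro ⟨x, rfl⟩
      exact comul_rmulD k H (j x)
    · intro hT
      have h3 : T ∈ LinearMap.range e := by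
        rw [heq]
        exact hT
      exact LinearMap.mem_range.1 h3
  · intro x z
    apply Derivation.ext; intro f
    rw [Derivation.commutator_apply]
    apply WithConv.ext; apply LinearMap.ext; intro a
    show f (a * j ⁅x, z⁆) = f (a * j x * j z) - f (a * j z * j x)
    rw [hbr, mul_sub, map_sub, mul_assoc, mul_assoc]
  · intro x
    show rmulD k H (j (φ x)) = (rmulD k H (j x)) ^ p
    rw [hpm, rmulD_pow]

end Main

end Groth.Agent.Lib.Helper19.HeightOneDual
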