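import Mathlib

/-!
# A criterion for a local integrally closed domain to be Henselian

`W ⊆ L = Frac W`, `V ⊆ E = Frac V` local integrally closed domains, `W → V` a local homomorphism over
a field extension `L → E` in which separable irreducible polynomials over `L` split, and a set `S` of
`L`-automorphisms of `E` preserving `V` and its maximal ideal and with fixed field `L`.  Then `W` is
Henselian: a simple root mod `𝔪_W` of a monic polynomial lifts first to `V` (Gauss' lemma, splitting),
the lift is unique there, hence fixed by `S`, hence lies in `L ∩ (integral over W) = W`.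
-/

set_option autoImplicit false
universe u

namespace Groth.Agent.Lib.Helper19.HensGen

open Polynomial IsLocalRing

section LocalUnique

variable {V : Type u} [CommRing V] [IsLocalRing V]

theorem isUnit_of_sub_mem {a b : V} (ha : IsUnit a) (h : a - b ∈ maximalIdeal V) : IsUnit b := by
  by_contra hb
  have hb' : b ∈ maximalIdeal V := (mem_maximalIdeal b).mpr hb
  have h2 : a ∈ maximalIdeal V := by
    have := Ideal.add_mem _ h hb'
    rwa [sub_add_cancel] at this
  exact (mem_maximalIdeal a).mp h2 ha

theorem root_unique (p : V[X]) (c v₁ v₂ : V) (hu : IsUnit (p.derivative.eval c))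
    (h₁ : p.eval v₁ = 0) (h₂ : p.eval v₂ = 0)
    (hc₁ : c - v₁ ∈ maximalIdeal V) (hc₂ : c - v₂ ∈ maximalIdeal V) : v₁ = v₂ := by
  obtain ⟨h, hh⟩ : ∃ h : V[X], p = (X - C v₁) * h :=
    ⟨p /ₘ (X - C v₁), (mul_divByMonic_eq_iff_isRoot.mpr h₁).symm⟩
  have hder : p.derivative.eval v₁ = h.eval v₁ := by
    rw [hh]; simp [derivative_mul]
  have hu1 : IsUnit (p.derivative.eval v₁) :=
    isUnit_of_sub_mem hu (Ideal.mem_of_dvd _ (sub_dvd_eval_sub c v₁ p.derivative) hc₁)
  rw [hder] at hu1
  have h12 : v₁ - v₂ ∈ maximalIdeal V := by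
    have := Ideal.sub_mem _ hc₂ hc₁
    rwa [sub_sub_sub_cancel_left] at this
  have hu2 : IsUnit (h.eval v₂) :=
    isUnit_of_sub_mem hu1 (Ideal.mem_of_dvd _ (sub_dvd_eval_sub v₁ v₂ h) h12)
  have h0 : (v₂ - v₁) * h.eval v₂ = 0 := by
    have h3 := h₂
    rw [hh, eval_mul, eval_sub, eval_X, eval_C] at h3
    exact h3
  have h4 := (hu2.mul_left_eq_zero).mp h0
  exact (sub_eq_zero.mp h4).symm

end LocalUnique

theorem exists_mem_of_prod_mem {V E : Type u} [CommRing V] [Field E] (ι : V →+* E)
    (hι : Function.Injective ι) (I : Ideal V) [I.IsPrime] (s : Multiset E)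
    (hs : ∀ y ∈ s, y ∈ ι.range) (hprod : s.prod ∈ ι '' (I : Set V)) :
    ∃ y ∈ s, y ∈ ι '' (I : Set V) := by
  induction s using Multiset.induction_on with
  | empty =>
    exfalso
    obtain ⟨m, hm, hm1⟩ := hprod
    rw [Multiset.prod_zero] at hm1
    have hm2 : m = 1 := hι (by rw [hm1, map_one])
    rw [hm2] at hm
    exact (Ideal.IsPrime.ne_top ‹I.IsPrime›) ((Ideal.eq_top_iff_one I).mpr hm)
  | cons a s ih =>
    obtain ⟨a', ha'⟩ := RingHom.mem_range.mp (hs a (Multiset.mem_cons_self a s))
    have hsr : s.prod ∈ ι.range :=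
      Subring.multiset_prod_mem _ _ (fun y hy => hs y (Multiset.mem_cons_of_mem hy))
    obtain ⟨b', hb'⟩ := RingHom.mem_range.mp hsr
    obtain ⟨m, hm, hm1⟩ := hprod
    rw [Multiset.prod_cons, ← ha', ← hb', ← map_mul] at hm1
    have hm2 : m = a' * b' := hι hm1
    rw [hm2] at hm
    rcases Ideal.IsPrime.mem_or_mem ‹I.IsPrime› hm with h | h
    · exact ⟨a, Multiset.mem_cons_self a s, ⟨a', h, ha'⟩⟩
    · obtain ⟨y, hy, hyI⟩ := ih (fun y hy => hs y (Multiset.mem_cons_of_mem hy)) ⟨b', h, hb'⟩
      exact ⟨y, Multiset.mem_cons_of_mem hy, hyI⟩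

theorem henselian_of_fixed
    {W L V E : Type u} [CommRing W] [IsDomain W] [IsLocalRing W] [IsIntegrallyClosed W]
    [Field L] [Algebra W L] [IsFractionRing W L]
    [CommRing V] [IsDomain V] [IsLocalRing V] [IsIntegrallyClosed V]
    [Field E] [Algebra V E] [IsFractionRing V E] [Algebra L E]
    (j : W →+* V) (hj : ∀ w ∈ maximalIdeal W, j w ∈ maximalIdeal V)
    (hcompat : ∀ w : W, algebraMap V E (j w) = algebraMap L E (algebraMap W L w))
    (S : Set (E →+* E))
    (hSL : ∀ σ ∈ S, ∀ ℓ : L, σ (algebraMap L E ℓ) = algebraMap L E ℓ)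
    (hSV : ∀ σ ∈ S, ∀ v : V, ∃ v' : V, algebraMap V E v' = σ (algebraMap V E v) ∧
        (v ∈ maximalIdeal V → v' ∈ maximalIdeal V))
    (hfix : ∀ x : E, (∀ σ ∈ S, σ x = x) → x ∈ Set.range (algebraMap L E))
    (hsplit : ∀ g : L[X], Irreducible g → g.Separable → (g.map (algebraMap L E)).Splits) :
    HenselianLocalRing W := by
  classical
  have hιV : Function.Injective (algebraMap V E) := IsFractionRing.injective V E
  have hιW : Function.Injective (algebraMap W L) := IsFractionRing.injective W L
  have hιL : Function.Injective (algebraMap L E) := (algebraMap L E).injective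
  have hcomp : (algebraMap V E).comp j = (algebraMap L E).comp (algebraMap W L) :=
    RingHom.ext hcompat
  have hmapE : ∀ u : W[X], (u.map (algebraMap W L)).map (algebraMap L E)
      = (u.map j).map (algebraMap V E) := by
    intro u
    rw [Polynomial.map_map, Polynomial.map_map, hcomp]
  have hevV : ∀ (p : V[X]) (v : V), algebraMap V E (p.eval v)
      = (p.map (algebraMap V E)).eval (algebraMap V E v) := by
    intro p v
    rw [eval_map, eval₂_at_apply]
  -- Part (i): a root in `V` congruent to `a₀`
  have part1 : ∀ n : ℕ, ∀ (a₀ : W) (u : W[X]), u.natDegree = n → u.Monic →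
      u.eval a₀ ∈ maximalIdeal W → IsUnit (u.derivative.eval a₀) →
      ∃ v : V, (u.map j).eval v = 0 ∧ j a₀ - v ∈ maximalIdeal V := by
    intro n
    induction n using Nat.strong_induction_on with
    | _ n ih =>
    intro a₀ u hdeg hu h1 h2
    by_cases hirr : Irreducible u
    · have hirrL : Irreducible (u.map (algebraMap W L)) :=
        (Monic.irreducible_iff_irreducible_map_fraction_map hu).mp hirr
      have hder : (u.map (algebraMap W L)).derivative ≠ 0 := by
        rw [derivative_map]
        intro h0
        have h3 : u.derivative = 0 :=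
          (Polynomial.map_injective _ hιW) (by rw [h0, Polynomial.map_zero])
        rw [h3, eval_zero] at h2
        exact not_isUnit_zero h2
      have hsep := (separable_iff_derivative_ne_zero hirrL).mpr hder
      have hsp := hsplit _ hirrL hsep
      rw [hmapE] at hsp
      have hmE : ((u.map j).map (algebraMap V E)).Monic := (hu.map j).map _
      have hev := hsp.eval_eq_prod_roots_of_monic hmE (algebraMap V E (j a₀))
      have hev2 : ((u.map j).map (algebraMap V E)).eval (algebraMap V E (j a₀))
          = algebraMap V E (j (u.eval a₀)) := by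
        rw [eval_map, eval₂_at_apply, eval_map, eval₂_at_apply]
      rw [hev2] at hev
      have hroots : ∀ r ∈ ((u.map j).map (algebraMap V E)).roots,
          ∃ v : V, algebraMap V E v = r ∧ (u.map j).eval v = 0 := by
        intro r hr
        have hroot : ((u.map j).map (algebraMap V E)).eval r = 0 := (mem_roots hmE.ne_zero).mp hr
        have hint : IsIntegral V r := ⟨u.map j, hu.map j, by rw [← eval_map]; exact hroot⟩
        obtain ⟨v, hv⟩ := IsIntegrallyClosed.isIntegral_iff.mp hint
        refine ⟨v, hv, hιV ?_⟩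
        rw [hevV, hv, hroot, map_zero]
      obtain ⟨y, hy, hyI⟩ := exists_mem_of_prod_mem (algebraMap V E) hιV (maximalIdeal V)
        (Multiset.map (fun r => algebraMap V E (j a₀) - r)
          ((u.map j).map (algebraMap V E)).roots)
        (by
          intro y hy
          obtain ⟨r, hr, rfl⟩ := Multiset.mem_map.mp hy
          obtain ⟨v, hv, -⟩ := hroots r hr
          exact RingHom.mem_range.mpr ⟨j a₀ - v, by rw [map_sub, hv]⟩)
        ⟨j (u.eval a₀), hj _ h1, hev⟩
      obtain ⟨r, hr, rfl⟩ := Multiset.mem_map.mp hy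
      obtain ⟨v, hv, hv0⟩ := hroots r hr
      obtain ⟨m, hm, hm1⟩ := hyI
      refine ⟨v, hv0, ?_⟩
      have e : j a₀ - v = m := by
        apply hιV
        rw [map_sub, hv, hm1]
      rw [e]; exact hm
    · have hred := (not_iff_not.mpr (Monic.irreducible_iff_natDegree hu)).mp hirr
      rw [not_and_or] at hred
      rcases hred with h | h
      · have hu1 : u = 1 := not_not.mp h
        rw [hu1, eval_one] at h1
        exact absurd ((Ideal.eq_top_iff_one _).mpr h1) (IsLocalRing.maximalIdeal.isMaximal W).ne_top
      · push Not at h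
        obtain ⟨f, g, hf, hg, hfg, hf0, hg0⟩ := h
        have hdegsum : u.natDegree = f.natDegree + g.natDegree := by
          rw [← hfg]; exact hf.natDegree_mul hg
        have hev : f.eval a₀ * g.eval a₀ ∈ maximalIdeal W := by
          rw [← eval_mul, hfg]; exact h1
        have hder : u.derivative.eval a₀
            = f.derivative.eval a₀ * g.eval a₀ + f.eval a₀ * g.derivative.eval a₀ := by
          rw [← hfg, derivative_mul, eval_add, eval_mul, eval_mul]
        rcases (IsLocalRing.maximalIdeal.isMaximal W).isPrime.mem_or_mem hev with hfm | hgm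
        · have hunit : IsUnit (f.derivative.eval a₀ * g.eval a₀) := by
            refine isUnit_of_sub_mem h2 ?_
            rw [hder, add_sub_cancel_left]
            exact Ideal.mul_mem_right _ _ hfm
          have hfu : IsUnit (f.derivative.eval a₀) := isUnit_of_mul_isUnit_left hunit
          obtain ⟨v, hv0, hvm⟩ := ih f.natDegree (by omega) a₀ f rfl hf hfm hfu
          refine ⟨v, ?_, hvm⟩
          rw [← hfg, Polynomial.map_mul, eval_mul, hv0, zero_mul]
        · have hunit : IsUnit (f.eval a₀ * g.derivative.eval a₀) := by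
            refine isUnit_of_sub_mem h2 ?_
            rw [hder, add_sub_cancel_right]
            exact Ideal.mul_mem_left _ _ hgm
          have hgu : IsUnit (g.derivative.eval a₀) := isUnit_of_mul_isUnit_right hunit
          obtain ⟨v, hv0, hvm⟩ := ih g.natDegree (by omega) a₀ g rfl hg hgm hgu
          refine ⟨v, ?_, hvm⟩
          rw [← hfg, Polynomial.map_mul, eval_mul, hv0, mul_zero]
  refine { toIsLocalRing := inferInstance, is_henselian := ?_ }
  intro f hf a₀ h1 h2
  obtain ⟨v, hv0, hvm⟩ := part1 f.natDegree a₀ f rfl hf h1 h2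
  have huV : IsUnit ((f.map j).derivative.eval (j a₀)) := by
    rw [derivative_map, eval_map, eval₂_at_apply]
    exact h2.map j
  -- (iii) the root is fixed by `S`
  have hfixv : ∀ σ ∈ S, σ (algebraMap V E v) = algebraMap V E v := by
    intro σ hσ
    obtain ⟨v', hv', -⟩ := hSV σ hσ v
    obtain ⟨m', hm', hm'm⟩ := hSV σ hσ (j a₀ - v)
    have hm'm := hm'm hvm
    have hσj : σ (algebraMap V E (j a₀)) = algebraMap V E (j a₀) := by
      rw [hcompat, hSL σ hσ]
    have e1 : j a₀ - v' = m' := by
      apply hιV
      rw [map_sub, hv', hm', map_sub, map_sub, hσj]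
    have hσcomp : σ.comp (algebraMap L E) = algebraMap L E := RingHom.ext (hSL σ hσ)
    have hmapσ : ((f.map j).map (algebraMap V E)).map σ = (f.map j).map (algebraMap V E) := by
      rw [← hmapE, Polynomial.map_map, hσcomp]
    have hroot' : (f.map j).eval v' = 0 := by
      apply hιV
      rw [hevV, hv', map_zero]
      have e2 : ((f.map j).map (algebraMap V E)).eval (σ (algebraMap V E v))
          = σ (((f.map j).map (algebraMap V E)).eval (algebraMap V E v)) := by
        conv_lhs => rw [← hmapσ]
        rw [eval_map, eval₂_at_apply]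
      rw [e2, ← hevV, hv0, map_zero, map_zero]
    have hvv' : v = v' :=
      root_unique (f.map j) (j a₀) v v' huV hv0 hroot' hvm (by rw [e1]; exact hm'm)
    rw [← hv', ← hvv']
  -- (iv) descend to `W`
  obtain ⟨ℓ, hℓ⟩ := hfix _ hfixv
  have hℓroot : (f.map (algebraMap W L)).eval ℓ = 0 := by
    apply hιL
    have hevL : ∀ (p : L[X]) (x : L), algebraMap L E (p.eval x)
        = (p.map (algebraMap L E)).eval (algebraMap L E x) := by
      intro p x
      rw [eval_map, eval₂_at_apply]
    have e3 : algebraMap L E ((f.map (algebraMap W L)).eval ℓ)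
        = ((f.map (algebraMap W L)).map (algebraMap L E)).eval (algebraMap L E ℓ) := hevL _ _
    rw [e3, hℓ, hmapE, ← hevV, hv0, map_zero, map_zero]
  have hint : IsIntegral W ℓ := ⟨f, hf, by rw [← eval_map]; exact hℓroot⟩
  obtain ⟨a, ha⟩ := IsIntegrallyClosed.isIntegral_iff.mp hint
  have hja : j a = v := by
    apply hιV
    rw [hcompat, ha, hℓ]
  refine ⟨a, ?_, ?_⟩
  · show f.eval a = 0
    apply hιW
    have e4 : algebraMap W L (f.eval a) = (f.map (algebraMap W L)).eval (algebraMap W L a) := by
      rw [eval_map, eval₂_at_apply]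
    rw [e4, ha, hℓroot, map_zero]
  · by_contra hnot
    have hunit : IsUnit (a - a₀) := by
      by_contra h
      exact hnot ((mem_maximalIdeal _).mpr h)
    have h5 := hunit.map j
    rw [map_sub, hja] at h5
    have hneg : v - j a₀ ∈ maximalIdeal V := by
      have h6 := (Ideal.neg_mem_iff _).mpr hvm
      rwa [neg_sub] at h6
    exact (mem_maximalIdeal _).mp hneg h5

end Groth.Agent.Lib.Helper19.HensGen
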