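import Mathlib
import Groth.Agent.Lib.Helper19.HensGen

/-!
# Localizations of integral closures at fixed fields of decomposition-type groups are Henselian

`R` a domain with fraction field `K`, `Ks` a separable closure, `Ps` a prime of the integral closure of
`R` in `Ks`, `S'` a set of automorphisms of `Ks/K` each preserving `Ps` (in both directions), `L` the
fixed field of the subgroup generated by `S'`, `Q = Ps ∩ L`.  Then the integral closure of `R` in `L`
localized at `Q` is Henselian.
-/

set_option autoImplicit false
universe u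

namespace Groth.Agent.Lib.Helper19.HensInt

open Polynomial IsLocalRing

section LocInField

variable {C : Type u} (F : Type u) [CommRing C] [IsDomain C] [Field F] [Algebra C F]
  [IsFractionRing C F] (P : Ideal C) [P.IsPrime]

theorem isUnit_algebraMap_primeCompl (y : P.primeCompl) : IsUnit (algebraMap C F (y : C)) := by
  apply IsUnit.mk0
  intro h
  have h0 : (y : C) = 0 := IsFractionRing.injective C F (by rw [h, map_zero])
  exact y.2 (by rw [h0]; exact P.zero_mem)

/-- the canonical map `C_P → F`. -/
noncomputable def locToField : Localization.AtPrime P →+* F :=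
  IsLocalization.lift (M := P.primeCompl) (g := algebraMap C F) (isUnit_algebraMap_primeCompl F P)

theorem locToField_algebraMap (c : C) :
    locToField F P (algebraMap C (Localization.AtPrime P) c) = algebraMap C F c :=
  IsLocalization.lift_eq _ c

theorem locToField_mk' (c : C) (s : P.primeCompl) :
    locToField F P (IsLocalization.mk' (Localization.AtPrime P) c s)
      = algebraMap C F c / algebraMap C F (s : C) := by
  have hs0 : algebraMap C F (s : C) ≠ 0 := (isUnit_algebraMap_primeCompl F P s).ne_zero
  refine eq_div_of_mul_eq hs0 ?_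
  rw [← locToField_algebraMap F P (s : C), ← map_mul, IsLocalization.mk'_spec,
    locToField_algebraMap]

/-- the algebra structure `C_P → F`; used as a local instance. -/
@[reducible] noncomputable def locAlgebra : Algebra (Localization.AtPrime P) F :=
  (locToField F P).toAlgebra

attribute [local instance] locAlgebra

theorem loc_isScalarTower : IsScalarTower C (Localization.AtPrime P) F :=
  IsScalarTower.of_algebraMap_eq (fun c => (locToField_algebraMap F P c).symm)

theorem loc_isFractionRing : IsFractionRing (Localization.AtPrime P) F :=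
  haveI := loc_isScalarTower F P
  IsFractionRing.isFractionRing_of_isDomain_of_isLocalization P.primeCompl
    (Localization.AtPrime P) F

theorem loc_isDomain {C' : Type u} (F' : Type u) [CommRing C'] [IsDomain C'] [Field F']
    [Algebra C' F'] [IsFractionRing C' F'] (P' : Ideal C') [P'.IsPrime] :
    IsDomain (Localization.AtPrime P') :=
  haveI := loc_isFractionRing F' P'
  (IsFractionRing.injective (Localization.AtPrime P') F').isDomain _

omit [IsFractionRing C F] in
theorem loc_isIntegrallyClosed [IsIntegrallyClosed C] :
    IsIntegrallyClosed (Localization.AtPrime P) :=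
  isIntegrallyClosed_of_isLocalization (Localization.AtPrime P) P.primeCompl
    (Ideal.primeCompl_le_nonZeroDivisors P)

end LocInField

section Main

attribute [local instance] locAlgebra

variable (R K Ks : Type u) [CommRing R] [IsDomain R] [Field K] [Algebra R K] [IsFractionRing R K]
  [Field Ks] [Algebra K Ks] [IsSepClosure K Ks] [Algebra R Ks] [IsScalarTower R K Ks]

omit [Field Ks] [Algebra K Ks] [IsSepClosure K Ks] [Algebra R Ks] [IsScalarTower R K Ks] in
theorem isFractionRing_integralClosure (F : Type u) [Field F] [Algebra K F] [Algebra R F]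
    [IsScalarTower R K F] [Algebra.IsAlgebraic K F] :
    IsFractionRing (integralClosure R F) F := by
  haveI : Algebra.IsAlgebraic R F :=
    IsFractionRing.comap_isAlgebraic_iff.mpr (inferInstance : Algebra.IsAlgebraic K F)
  exact integralClosure.isFractionRing_of_algebraic (fun x hx =>
    IsFractionRing.to_map_eq_zero_iff.mp ((map_eq_zero (algebraMap K F)).mp
      ((IsScalarTower.algebraMap_apply R K F x).symm.trans hx)))

/-- the inclusion of the integral closure of `R` in `L` into that in `Ks`. -/
noncomputable def incl (L : IntermediateField K Ks) :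
    integralClosure R L →+* integralClosure R Ks :=
  ((L.val.restrictScalars R).mapIntegralClosure).toRingHom

theorem incl_coe (L : IntermediateField K Ks) (y : integralClosure R L) :
    ((incl R K Ks L y : integralClosure R Ks) : Ks) = ((y : L) : Ks) := rfl

theorem henselian_of_fixedField
    (Ps : Ideal (integralClosure R Ks)) [Ps.IsPrime]
    (L : IntermediateField K Ks) (S' : Set (Ks ≃ₐ[K] Ks))
    (hL : L = IntermediateField.fixedField (Subgroup.closure S'))
    (hS' : ∀ σ ∈ S', ∀ x : integralClosure R Ks,
      x ∈ Ps ↔ (AlgEquiv.restrictScalars R σ).mapIntegralClosure x ∈ Ps)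
    (Q : Ideal (integralClosure R L)) [Q.IsPrime]
    (hQ : ∀ y : integralClosure R L,
      y ∈ Q ↔ ∃ x : integralClosure R Ks, x ∈ Ps ∧ (x : Ks) = ((y : L) : Ks)) :
    HenselianLocalRing (Localization.AtPrime Q) := by
  classical
  haveI : IsFractionRing (integralClosure R L) L := isFractionRing_integralClosure R K L
  haveI : IsFractionRing (integralClosure R Ks) Ks := isFractionRing_integralClosure R K Ks
  haveI : IsIntegrallyClosed (integralClosure R L) := .of_isIntegrallyClosedIn _ L
  haveI : IsIntegrallyClosed (integralClosure R Ks) := .of_isIntegrallyClosedIn _ Ks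
  haveI : IsSepClosed Ks := IsSepClosure.sep_closed K
  haveI : IsFractionRing (Localization.AtPrime Q) L := loc_isFractionRing L Q
  haveI : IsDomain (Localization.AtPrime Q) := loc_isDomain L Q
  haveI : IsIntegrallyClosed (Localization.AtPrime Q) := loc_isIntegrallyClosed Q
  haveI : IsFractionRing (Localization.AtPrime Ps) Ks := loc_isFractionRing Ks Ps
  haveI : IsDomain (Localization.AtPrime Ps) := loc_isDomain Ks Ps
  haveI : IsIntegrallyClosed (Localization.AtPrime Ps) := loc_isIntegrallyClosed Ps
  have hQ' : Q = Ideal.comap (incl R K Ks L) Ps := by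
    ext y
    rw [Ideal.mem_comap, hQ y]
    constructor
    · rintro ⟨x, hx, hxy⟩
      have e : incl R K Ks L y = x := Subtype.ext hxy.symm
      rw [e]; exact hx
    · intro h
      exact ⟨incl R K Ks L y, h, rfl⟩
  have hLmem : ∀ x : Ks, x ∈ L ↔ ∀ σ ∈ Subgroup.closure S', σ x = x := by
    intro x
    rw [hL]
    exact IntermediateField.mem_fixedField_iff _ x
  obtain ⟨j, hjdef⟩ : ∃ j : Localization.AtPrime Q →+* Localization.AtPrime Ps,
      j = Localization.localRingHom Q Ps (incl R K Ks L) hQ' := ⟨_, rfl⟩
  have hj : ∀ w ∈ maximalIdeal (Localization.AtPrime Q),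
      j w ∈ maximalIdeal (Localization.AtPrime Ps) := by
    intro w hw
    by_contra h
    have hu : IsUnit (j w) := by
      by_contra h'
      exact h ((mem_maximalIdeal _).mpr h')
    haveI : IsLocalHom j := by
      rw [hjdef]; exact Localization.isLocalHom_localRingHom Q Ps (incl R K Ks L) hQ'
    exact (mem_maximalIdeal _).mp hw (isUnit_of_map_unit j w hu)
  have hcompat : ∀ w : Localization.AtPrime Q,
      algebraMap (Localization.AtPrime Ps) Ks (j w)
        = algebraMap L Ks (algebraMap (Localization.AtPrime Q) L w) := by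
    have h : ((algebraMap (Localization.AtPrime Ps) Ks).comp j)
        = ((algebraMap L Ks).comp (algebraMap (Localization.AtPrime Q) L)) := by
      apply IsLocalization.ringHom_ext Q.primeCompl
      refine RingHom.ext (fun y => ?_)
      show locToField Ks Ps (j (algebraMap _ _ y))
        = algebraMap L Ks (locToField L Q (algebraMap _ _ y))
      rw [hjdef, Localization.localRingHom_to_map, locToField_algebraMap, locToField_algebraMap]
      rfl
    exact fun w => RingHom.congr_fun h w
  obtain ⟨S, hSdef⟩ : ∃ S : Set (Ks →+* Ks),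
      S = {τ : Ks →+* Ks | ∃ σ ∈ S', τ = (σ : Ks →+* Ks)} := ⟨_, rfl⟩
  have hSL : ∀ τ ∈ S, ∀ ℓ : L, τ (algebraMap L Ks ℓ) = algebraMap L Ks ℓ := by
    intro τ hτ ℓ
    rw [hSdef] at hτ
    obtain ⟨σ, hσ, rfl⟩ := hτ
    exact (hLmem (ℓ : Ks)).mp ℓ.2 σ (Subgroup.subset_closure hσ)
  have hfix : ∀ x : Ks, (∀ τ ∈ S, τ x = x) → x ∈ Set.range (algebraMap L Ks) := by
    intro x hx
    have hcl : ∀ σ ∈ Subgroup.closure S', σ x = x := by
      intro σ hσ
      have hle : Subgroup.closure S' ≤ MulAction.stabilizer (Ks ≃ₐ[K] Ks) x :=
        (Subgroup.closure_le _).mpr (fun σ hσ =>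
          MulAction.mem_stabilizer_iff.mpr (hx _ (by rw [hSdef]; exact ⟨σ, hσ, rfl⟩)))
      exact MulAction.mem_stabilizer_iff.mp (hle hσ)
    exact ⟨⟨x, (hLmem x).mpr hcl⟩, rfl⟩
  have hsplit : ∀ g : L[X], Irreducible g → g.Separable → (g.map (algebraMap L Ks)).Splits :=
    fun g _ hsep => IsSepClosed.splits_codomain g hsep
  have hSV : ∀ τ ∈ S, ∀ v : Localization.AtPrime Ps, ∃ v' : Localization.AtPrime Ps,
      algebraMap (Localization.AtPrime Ps) Ks v' = τ (algebraMap (Localization.AtPrime Ps) Ks v) ∧
      (v ∈ maximalIdeal (Localization.AtPrime Ps) →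
        v' ∈ maximalIdeal (Localization.AtPrime Ps)) := by
    intro τ hτ v
    rw [hSdef] at hτ
    obtain ⟨σ, hσ, rfl⟩ := hτ
    obtain ⟨r, s, rfl⟩ := IsLocalization.exists_mk'_eq Ps.primeCompl v
    obtain ⟨σR, hσR⟩ : ∃ σR : integralClosure R Ks ≃ₐ[R] integralClosure R Ks,
        σR = (AlgEquiv.restrictScalars R σ).mapIntegralClosure := ⟨_, rfl⟩
    have hcoe : ∀ x : integralClosure R Ks, ((σR x : integralClosure R Ks) : Ks) = σ (x : Ks) := by
      intro x; rw [hσR]; rfl
    have hs' : σR (s : integralClosure R Ks) ∈ Ps.primeCompl := by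
      intro hmem
      exact s.2 ((hS' σ hσ _).mpr (by rw [← hσR]; exact hmem))
    refine ⟨IsLocalization.mk' _ (σR r) (⟨σR s, hs'⟩ : Ps.primeCompl), ?_, ?_⟩
    · show locToField Ks Ps _ = σ (locToField Ks Ps _)
      rw [locToField_mk', locToField_mk', map_div₀]
      show ((σR r : integralClosure R Ks) : Ks) / ((σR s : integralClosure R Ks) : Ks)
        = σ (r : Ks) / σ ((s : integralClosure R Ks) : Ks)
      rw [hcoe, hcoe]
    · intro hv
      have hr : r ∈ Ps :=
        (IsLocalization.AtPrime.mk'_mem_maximal_iff (Localization.AtPrime Ps) Ps _ _).mp hv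
      refine (IsLocalization.AtPrime.mk'_mem_maximal_iff (Localization.AtPrime Ps) Ps _ _).mpr ?_
      rw [hσR]; exact (hS' σ hσ r).mp hr
  exact HensGen.henselian_of_fixed j hj hcompat S hSL hSV hfix hsplit

end Main

end Groth.Agent.Lib.Helper19.HensInt
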