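import Mathlib
import Groth.Prelude.Def_SGA3b
import Groth.Agent.Lib.Helper1.MultTypeRigid
import Groth.Agent.Lib.Helper19.LaurentDense

/-!
# Rigidity of homomorphisms from groups of multiplicative type over a local base (helper19)

`rigidity_set`: let `R` be a local ring, `A` a Hopf algebra of multiplicative type, and `Z ⊆ 𝔪 A`
a set of elements generating a finitely generated ideal, such that for every "character functional"
`l : A → T` and every ideal `𝔞` of `T`, if `l` maps `Z` into `𝔞` then it maps `Z` into `𝔞 * 𝔞`.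
Then `Z ⊆ {0}`.

This is applied to `Z = {φ c - ψ c}` for two homomorphisms `φ, ψ` which agree on the closed fibre
(SGA3 IX 5.1, 5.2): the ideal of coefficients is then finitely generated and idempotent, and
contained in `𝔪 R'`, hence killed by an element of `1 + 𝔪 R'`; faithfully flat descent concludes.
-/

set_option autoImplicit false
universe u

open TensorProduct

namespace Groth.Agent.Lib.Helper19.MultRigid

open Groth.Agent.Lib.Helper1.MultType Groth.Agent.Lib.Helper19.LaurentDense WithConv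

/-- linear maps send `I A` into `I T` -/
lemma lin_mem_map {R A T : Type*} [CommRing R] [CommRing A] [Algebra R A] [CommRing T]
    [Algebra R T] (l : A →ₗ[R] T) (I : Ideal R) {y : A}
    (hy : y ∈ Ideal.map (algebraMap R A) I) : l y ∈ Ideal.map (algebraMap R T) I := by
  have h1 : y ∈ (I • ⊤ : Submodule R A) := by
    rw [Ideal.smul_top_eq_map]
    exact hy
  refine Submodule.smul_induction_on h1 ?_ ?_
  · intro r hr a _
    rw [map_smul, Algebra.smul_def]
    exact Ideal.mul_mem_right _ _ (Ideal.mem_map_of_mem _ hr)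
  · intro x y hx hy
    rw [map_add]
    exact Ideal.add_mem _ hx hy

/-- faithfully flat descent of vanishing, up to an element of `1 + I R'`, `I` in the radical -/
theorem eq_zero_of_smul_one_tmul {R : Type u} [CommRing R] {R' : Type u} [CommRing R']
    [Algebra R R'] [Module.FaithfullyFlat R R'] (I : Ideal R) (hI : I ≤ Ideal.jacobson ⊥)
    {Q : Type u} [AddCommGroup Q] [Module R Q] (z : Q) (r : R')
    (hr : r - 1 ∈ Ideal.map (algebraMap R R') I) (h : r • ((1 : R') ⊗ₜ[R] z) = 0) : z = 0 := by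
  classical
  obtain ⟨U, hU⟩ : ∃ U : Submodule R Q, U = I • Submodule.span R {z} := ⟨_, rfl⟩
  have h1 := congrArg (U.mkQ.baseChange R') h
  rw [map_zero, map_smul, LinearMap.baseChange_tmul] at h1
  have hle : Ideal.map (algebraMap R R') I ≤
      (Submodule.span R' {(1 : R') ⊗ₜ[R] (U.mkQ z)}).annihilator := by
    rw [Ideal.map_le_iff_le_comap]
    intro ρ hρ
    rw [Ideal.mem_comap, Submodule.mem_annihilator_span_singleton, algebraMap_smul,
      ← TensorProduct.tmul_smul, ← map_smul]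
    have h0 : U.mkQ (ρ • z) = 0 := by
      rw [Submodule.mkQ_apply, Submodule.Quotient.mk_eq_zero, hU]
      exact Submodule.smul_mem_smul hρ (Submodule.mem_span_singleton_self z)
    rw [h0, TensorProduct.tmul_zero]
  have h2 : (r - 1) • ((1 : R') ⊗ₜ[R] (U.mkQ z)) = 0 :=
    (Submodule.mem_annihilator_span_singleton _ _).1 (hle hr)
  have h3 : (1 : R') ⊗ₜ[R] (U.mkQ z) = 0 := by
    have h4 : (1 : R') ⊗ₜ[R] (U.mkQ z) =
        r • ((1 : R') ⊗ₜ[R] (U.mkQ z)) - (r - 1) • ((1 : R') ⊗ₜ[R] (U.mkQ z)) := by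
      module
    rw [h4, h2, h1, sub_zero]
  have h4 : U.mkQ z = 0 := by
    apply Module.FaithfullyFlat.tensorProduct_mk_injective (A := R) (B := R') (Q ⧸ U)
    change (1 : R') ⊗ₜ[R] (U.mkQ z) = _
    rw [h3, map_zero]
  rw [Submodule.mkQ_apply, Submodule.Quotient.mk_eq_zero, hU,
    Submodule.mem_smul_span_singleton] at h4
  obtain ⟨ρ, hρ, hρz⟩ := h4
  have hu : IsUnit (1 - ρ) := by
    have h5 := (Ideal.mem_jacobson_bot.1 (hI hρ)) (-1)
    have h6 : ρ * -1 + 1 = 1 - ρ := by ring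
    rwa [h6] at h5
  have h5 : (1 - ρ) • z = 0 := by rw [sub_smul, one_smul, hρz, sub_self]
  exact (hu.smul_eq_zero).1 h5

section Main

variable {R : Type u} [CommRing R] [IsLocalRing R] {A : Type u} [CommRing A] [HopfAlgebra R A]

theorem rigidity_set (hH : SGA3b.IsMultType R A) (Z : Set A) (hfg : (Ideal.span Z).FG)
    (hs : Z ⊆ Ideal.map (algebraMap R A) (IsLocalRing.maximalIdeal R))
    (hstep : ∀ (T : Type u) [CommRing T] [Algebra R T] (l : A →ₗ[R] T), IsCharFun R A l →
      ∀ 𝔞 : Ideal T, (∀ z ∈ Z, l z ∈ 𝔞) → ∀ z ∈ Z, l z ∈ 𝔞 * 𝔞) :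
    ∀ z ∈ Z, z = 0 := by
  classical
  obtain ⟨s, hs1, hmt⟩ := hH
  -- a unit member of the covering
  have hex : ∃ f ∈ s, IsUnit f := by
    by_contra hcon
    push Not at hcon
    have hle : Ideal.span s ≤ IsLocalRing.maximalIdeal R := by
      rw [Ideal.span_le]
      intro f hf
      exact (IsLocalRing.mem_maximalIdeal f).2 (hcon f hf)
    rw [hs1] at hle
    exact (IsLocalRing.maximalIdeal.isMaximal R).ne_top (top_le_iff.1 hle)
  obtain ⟨f, hfs, hfu⟩ := hex
  obtain ⟨R', _, _, hff, M, _, ⟨e⟩⟩ := hmt f hfs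
  letI : Algebra R R' :=
    ((algebraMap (Localization.Away f) R').comp (algebraMap R (Localization.Away f))).toAlgebra
  haveI : IsScalarTower R (Localization.Away f) R' := IsScalarTower.of_algebraMap_eq fun _ => rfl
  haveI : Module.FaithfullyFlat R (Localization.Away f) := by
    have hle : Submonoid.powers f ≤ IsUnit.submonoid R := by
      rw [Submonoid.powers_le]
      exact hfu
    exact Module.FaithfullyFlat.of_linearEquiv R R
      (IsLocalization.atUnits R (Submonoid.powers f) (S := Localization.Away f)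
        hle).toLinearEquiv.symm
  haveI : Module.FaithfullyFlat R R' := Module.FaithfullyFlat.trans R (Localization.Away f) R'
  -- the ring homomorphism `Φ : A → R'[M]`
  let Φ : A →+* MonoidAlgebra R' M :=
    (((e : R' ⊗[Localization.Away f] (Localization.Away f ⊗[R] A) →ₐc[R'] MonoidAlgebra R' M) :
      R' ⊗[Localization.Away f] (Localization.Away f ⊗[R] A) →ₐ[R'] MonoidAlgebra R' M).toRingHom).comp
      (((Algebra.TensorProduct.includeRight : (Localization.Away f ⊗[R] A) →ₐ[Localization.Away f]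
        R' ⊗[Localization.Away f] (Localization.Away f ⊗[R] A)).toRingHom).comp
        (Algebra.TensorProduct.includeRight : A →ₐ[R] Localization.Away f ⊗[R] A).toRingHom)
  have hΦ : ∀ y : A, Φ y =
      e ((1 : R') ⊗ₜ[Localization.Away f] ((1 : Localization.Away f) ⊗ₜ[R] y)) := fun y => rfl
  -- the character functionals
  let μ : M → (R' ⊗[Localization.Away f] (Localization.Away f ⊗[R] A) →ₗ[R'] R') := fun m =>
    (coeffFun m).comp e.toCoalgEquiv.toCoalgHom.toLinearMap
  have hμ : ∀ m, toConv (μ m) * toConv (μ m) = toConv (μ m) := by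
    intro m
    have h1 := LinearMap.convMul_comp_coalgHom_distrib (toConv (coeffFun (T := R') m))
      (toConv (coeffFun m)) e.toCoalgEquiv.toCoalgHom
    rw [coeffFun_idem] at h1
    apply WithConv.ofConv_injective
    exact h1.symm
  let l : M → (A →ₗ[R] R') := fun m => restr (restr (μ m))
  have hl : ∀ m, IsCharFun R A (l m) := by
    intro m
    refine ⟨restr_idem _ (restr_idem _ (hμ m)), ?_⟩
    have h1 : l m 1 = coeffFun m (e 1) := by
      change μ m ((1 : R') ⊗ₜ ((1 : Localization.Away f) ⊗ₜ (1 : A))) = _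
      rfl
    rw [h1, map_one, coeffFun_one]
    split_ifs
    · right; rfl
    · left; rfl
  have hlΦ : ∀ m y, l m y = (Φ y).coeff m := fun m y => rfl
  -- generators
  obtain ⟨G, hG⟩ := hfg
  have hGZ : ∀ g ∈ G, g ∈ Ideal.span Z := fun g hg => hG ▸ Ideal.subset_span hg
  obtain ⟨𝔞, h𝔞⟩ : ∃ 𝔞 : Ideal R', 𝔞 = Ideal.span
      (↑(G.biUnion (fun g => (Φ g).coeff.support.image (Φ g).coeff)) : Set R') := ⟨_, rfl⟩
  have h𝔞fg : 𝔞.FG := ⟨_, h𝔞.symm⟩
  have hcoeffG : ∀ g ∈ G, Φ g ∈ cI 𝔞 M := by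
    intro g hg
    rw [mem_cI]
    intro m
    by_cases hm : m ∈ (Φ g).coeff.support
    · rw [h𝔞]
      apply Ideal.subset_span
      rw [Finset.mem_coe, Finset.mem_biUnion]
      exact ⟨g, hg, Finset.mem_image_of_mem _ hm⟩
    · rw [Finsupp.notMem_support_iff.1 hm]
      exact 𝔞.zero_mem
  -- every element of the ideal generated by `Z` has coefficients in a given ideal as soon as `Z`
  -- or `G` does
  have hspan : ∀ (𝔠 : Ideal R') (W : Set A), (∀ w ∈ W, Φ w ∈ cI 𝔠 M) →
      ∀ y ∈ Ideal.span W, Φ y ∈ cI 𝔠 M := by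
    intro 𝔠 W hW y hy
    refine Submodule.span_induction (p := fun y _ => Φ y ∈ cI 𝔠 M) ?_ ?_ ?_ ?_ hy
    · intro w hw
      exact hW w hw
    · rw [map_zero]
      exact (cI 𝔠 M).zero_mem
    · intro x y _ _ hx hy
      rw [map_add]
      exact (cI 𝔠 M).add_mem hx hy
    · intro a x _ hx
      rw [smul_eq_mul, map_mul]
      exact (cI 𝔠 M).mul_mem_left _ hx
  have hZ𝔞 : ∀ z ∈ Z, Φ z ∈ cI 𝔞 M := by
    intro z hz
    have h1 : z ∈ Ideal.span (G : Set A) := by
      rw [hG]
      exact Ideal.subset_span hz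
    exact hspan 𝔞 (G : Set A) (fun w hw => hcoeffG w (Finset.mem_coe.1 hw)) z h1
  -- `𝔞 ≤ 𝔪 R'`
  have hm𝔞 : 𝔞 ≤ Ideal.map (algebraMap R R') (IsLocalRing.maximalIdeal R) := by
    rw [h𝔞, Ideal.span_le]
    intro x hx
    rw [Finset.mem_coe, Finset.mem_biUnion] at hx
    obtain ⟨g, hg, hx⟩ := hx
    obtain ⟨m, -, rfl⟩ := Finset.mem_image.1 hx
    have h1 : g ∈ Ideal.map (algebraMap R A) (IsLocalRing.maximalIdeal R) := by
      have h2 : Ideal.span Z ≤ Ideal.map (algebraMap R A) (IsLocalRing.maximalIdeal R) :=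
        Ideal.span_le.2 hs
      exact h2 (hGZ g hg)
    have h3 := lin_mem_map (l m) (IsLocalRing.maximalIdeal R) h1
    rwa [hlΦ] at h3
  -- the rigidity step
  have hZ𝔞2 : ∀ z ∈ Z, Φ z ∈ cI (𝔞 * 𝔞) M := by
    intro z hz
    rw [mem_cI]
    intro m
    have h1 := hstep R' (l m) (hl m) 𝔞 (fun z' hz' => by
      rw [hlΦ]
      exact (mem_cI.1 (hZ𝔞 z' hz')) m) z hz
    rwa [hlΦ] at h1
  have h𝔞le : 𝔞 ≤ 𝔞 * 𝔞 := by
    rw [h𝔞, Ideal.span_le, ← h𝔞]
    intro x hx
    rw [Finset.mem_coe, Finset.mem_biUnion] at hx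
    obtain ⟨g, hg, hx⟩ := hx
    obtain ⟨m, -, rfl⟩ := Finset.mem_image.1 hx
    exact (mem_cI.1 (hspan (𝔞 * 𝔞) Z hZ𝔞2 g (hGZ g hg))) m
  -- Nakayama
  have hle2 : 𝔞 ≤ Ideal.map (algebraMap R R') (IsLocalRing.maximalIdeal R) • 𝔞 := by
    refine h𝔞le.trans ?_
    rw [← smul_eq_mul]
    exact Submodule.smul_mono_left hm𝔞
  obtain ⟨r, hr1, hr2⟩ := Submodule.exists_sub_one_mem_and_smul_eq_zero_of_fg_of_le_smul
    (Ideal.map (algebraMap R R') (IsLocalRing.maximalIdeal R)) 𝔞 h𝔞fg hle2
  -- conclusion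
  intro z hz
  have h1 : r • Φ z = 0 := by
    apply MonoidAlgebra.ext
    apply Finsupp.ext
    intro m
    rw [MonoidAlgebra.coeff_smul_apply]
    exact hr2 _ ((mem_cI.1 (hZ𝔞 z hz)) m)
  have h2 : r • ((1 : R') ⊗ₜ[Localization.Away f] ((1 : Localization.Away f) ⊗ₜ[R] z)) = 0 := by
    apply EquivLike.injective e
    rw [map_smul, ← hΦ, h1, map_zero]
  have h3 := congrArg (AlgebraTensorModule.cancelBaseChange R (Localization.Away f) R' R' A) h2
  rw [map_zero, map_smul, AlgebraTensorModule.cancelBaseChange_tmul, one_smul] at h3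
  exact eq_zero_of_smul_one_tmul (IsLocalRing.maximalIdeal R)
    (IsLocalRing.maximalIdeal_le_jacobson ⊥) z r hr1 h3

end Main

end Groth.Agent.Lib.Helper19.MultRigid
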