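import Mathlib
import Groth.Agent.Lib.Helper19.MultRigid

/-!
# Rigidity over a local base: the two applications (helper19)

* `span_range_sub_fg`: for two algebra maps out of a finitely generated algebra, the ideal
  generated by the differences of their values is finitely generated.
* `step_idem`, `step_cocomm`: the one-step rigidity estimates in the convolution algebra.
* `bialgHom_eq_of_cocomm_local`, `bialgHom_eq_trivial_local`: SGA3 IX 5.1/5.2 in Hopf algebra form.
-/

set_option autoImplicit false
universe u

open TensorProduct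

namespace Groth.Agent.Lib.Helper19.MultRigid

open Groth.Agent.Lib.Helper1.MultType WithConv Coalgebra

lemma span_range_sub_fg {R C A : Type*} [CommRing R] [CommRing C] [Algebra R C] [CommRing A]
    [Algebra R A] [hC : Algebra.FiniteType R C] (φ ψ : C →ₐ[R] A) :
    (Ideal.span (Set.range fun c => φ c - ψ c)).FG := by
  classical
  obtain ⟨G, hG⟩ := hC.out
  have key : ∀ c : C, φ c - ψ c ∈ Ideal.span ((fun c => φ c - ψ c) '' (G : Set C)) := by
    intro c
    have hc : c ∈ Algebra.adjoin R (G : Set C) := by
      rw [hG]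
      exact Algebra.mem_top
    induction hc using Algebra.adjoin_induction with
    | mem x hx => exact Ideal.subset_span ⟨x, hx, rfl⟩
    | algebraMap r =>
      rw [AlgHom.commutes, AlgHom.commutes, sub_self]
      exact Ideal.zero_mem _
    | add x y _ _ hx hy =>
      have h1 : φ (x + y) - ψ (x + y) = (φ x - ψ x) + (φ y - ψ y) := by
        rw [map_add, map_add]; ring
      rw [h1]
      exact Ideal.add_mem _ hx hy
    | mul x y _ _ hx hy =>
      have h1 : φ (x * y) - ψ (x * y) = φ x * (φ y - ψ y) + (φ x - ψ x) * ψ y := by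
        rw [map_mul, map_mul]; ring
      rw [h1]
      exact Ideal.add_mem _ (Ideal.mul_mem_left _ _ hy) (Ideal.mul_mem_right _ _ hx)
  have heq : Ideal.span (Set.range fun c => φ c - ψ c) =
      Ideal.span ((fun c => φ c - ψ c) '' (G : Set C)) := by
    apply le_antisymm
    · rw [Ideal.span_le]
      rintro _ ⟨c, rfl⟩
      exact key c
    · exact Ideal.span_mono (Set.image_subset_range _ _)
  rw [heq]
  refine ⟨G.image (fun c => φ c - ψ c), ?_⟩
  rw [Finset.coe_image]

section Steps

variable {R : Type*} [CommRing R] {C : Type*} [AddCommGroup C] [Module R C] [Coalgebra R C]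
  {T : Type*} [CommRing T] [Algebra R T]

lemma step_idem (g : C →ₗ[R] T) (hg : toConv g * toConv g = toConv g) (𝔞 : Ideal T)
    (h : ∀ c, g c ∈ 𝔞) : ∀ c, g c ∈ 𝔞 * 𝔞 := by
  have h1 : ValIn 𝔞 1 (toConv g).ofConv := by
    intro c
    rw [pow_one]
    exact h c
  have h2 := valIn_mul h1 h1
  rw [hg] at h2
  intro c
  have h3 := h2 c
  rwa [show (1 + 1 : ℕ) = 2 from rfl, pow_two] at h3

lemma step_cocomm [IsCocomm R C] (g g' : C →ₗ[R] T) (hg : toConv g * toConv g = toConv g)
    (hg' : toConv g' * toConv g' = toConv g') (𝔞 : Ideal T) (h : ∀ c, g c - g' c ∈ 𝔞) :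
    ∀ c, g c - g' c ∈ 𝔞 * 𝔞 := by
  obtain ⟨d, hd⟩ : ∃ d : WithConv (C →ₗ[R] T), d = toConv g - toConv g' := ⟨_, rfl⟩
  have hd1 : ValIn 𝔞 1 d.ofConv := by
    intro c
    rw [pow_one, hd]
    exact h c
  have hd3 : d = d * (d * d) := by
    rw [hd]
    linear_combination (-(toConv g + 1 - 3 * toConv g')) * hg +
      (-(-(toConv g') - 1 + 3 * toConv g)) * hg'
  have h2 := valIn_mul hd1 (valIn_mul hd1 hd1)
  rw [← hd3] at h2
  intro c
  have h3 := h2 c
  have h4 : 𝔞 ^ (1 + (1 + 1)) ≤ 𝔞 * 𝔞 := by
    rw [← pow_two]
    exact Ideal.pow_le_pow_right (by norm_num)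
  have h5 := h4 h3
  rw [hd] at h5
  exact h5

end Steps

section Apply

variable {R : Type u} [CommRing R] [IsLocalRing R] {A : Type u} [CommRing A] [HopfAlgebra R A]
  {C : Type u} [CommRing C] [HopfAlgebra R C]

/-- SGA3 IX 5.2 type statement: two homomorphisms to a commutative finitely presented group which
agree on the closed fibre are equal. -/
theorem bialgHom_eq_of_cocomm_local [Coalgebra.IsCocomm R C] (hH : SGA3b.IsMultType R A)
    (hC : Algebra.FiniteType R C) (φ ψ : C →ₐc[R] A)
    (hs : ∀ c : C, φ c - ψ c ∈ Ideal.map (algebraMap R A) (IsLocalRing.maximalIdeal R)) :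
    ∀ c : C, φ c = ψ c := by
  have key := rigidity_set hH (Set.range fun c => φ c - ψ c)
    (span_range_sub_fg (φ : C →ₐ[R] A) (ψ : C →ₐ[R] A)) (by
      rintro _ ⟨c, rfl⟩
      exact hs c) (by
      intro T _ _ l hl 𝔞 h
      have h1 := step_cocomm (l.comp φ.toCoalgHom.toLinearMap) (l.comp ψ.toCoalgHom.toLinearMap)
        (comp_idem l hl.idem φ) (comp_idem l hl.idem ψ) 𝔞 (fun c => by
          have h2 := h _ ⟨c, rfl⟩
          rw [map_sub] at h2
          exact h2)
      rintro _ ⟨c, rfl⟩
      rw [map_sub]
      exact h1 c)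
  intro c
  exact sub_eq_zero.1 (key _ ⟨c, rfl⟩)

/-- SGA3 IX 5.1 type statement: a homomorphism to an affine group which is trivial on the closed
fibre is trivial, when the differences generate a finitely generated ideal. -/
theorem bialgHom_eq_trivial_local (hH : SGA3b.IsMultType R A) (φ : C →ₐc[R] A)
    (hfg : (Ideal.span (Set.range fun c : C =>
      φ c - algebraMap R A (Coalgebra.counit (R := R) c))).FG)
    (hs : ∀ c : C, φ c - algebraMap R A (Coalgebra.counit (R := R) c) ∈
      Ideal.map (algebraMap R A) (IsLocalRing.maximalIdeal R)) :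
    ∀ c : C, φ c = algebraMap R A (Coalgebra.counit (R := R) c) := by
  have key := rigidity_set hH
    (Set.range fun c : C => φ c - algebraMap R A (Coalgebra.counit (R := R) c)) hfg (by
      rintro _ ⟨c, rfl⟩
      exact hs c) (by
      intro T _ _ l hl 𝔞 h
      have hgi := comp_idem l hl.idem φ
      have hval : ∀ c : C, l (φ c - algebraMap R A (Coalgebra.counit (R := R) c)) =
          (l.comp φ.toCoalgHom.toLinearMap) c - (Coalgebra.counit (R := R) c) • l 1 := by
        intro c
        rw [map_sub, Algebra.algebraMap_eq_smul_one, map_smul]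
        rfl
      rcases hl.one with h1 | h1
      · have h2 := step_idem (l.comp φ.toCoalgHom.toLinearMap) hgi 𝔞 (fun c => by
          have h3 := h _ ⟨c, rfl⟩
          rwa [hval, h1, smul_zero, sub_zero] at h3)
        rintro _ ⟨c, rfl⟩
        rw [hval, h1, smul_zero, sub_zero]
        exact h2 c
      · have hidem : (1 - toConv (l.comp φ.toCoalgHom.toLinearMap)) *
            (1 - toConv (l.comp φ.toCoalgHom.toLinearMap)) =
            1 - toConv (l.comp φ.toCoalgHom.toLinearMap) :=
          (IsIdempotentElem.one_sub (show IsIdempotentElem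
            (toConv (l.comp φ.toCoalgHom.toLinearMap)) from hgi)).eq
        have hof : ∀ c : C, (1 - toConv (l.comp φ.toCoalgHom.toLinearMap)).ofConv c =
            algebraMap R T (Coalgebra.counit (R := R) c) -
              (l.comp φ.toCoalgHom.toLinearMap) c := fun c => rfl
        have h2 := step_idem (1 - toConv (l.comp φ.toCoalgHom.toLinearMap)).ofConv hidem 𝔞
          (fun c => by
            have h3 := h _ ⟨c, rfl⟩
            rw [hval, h1, ← Algebra.algebraMap_eq_smul_one] at h3
            rw [hof, ← neg_sub]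
            exact Ideal.neg_mem_iff _ |>.2 h3)
        rintro _ ⟨c, rfl⟩
        rw [hval, h1, ← Algebra.algebraMap_eq_smul_one, ← neg_sub, ← hof]
        exact Ideal.neg_mem_iff _ |>.2 (h2 c))
  intro c
  exact sub_eq_zero.1 (key _ ⟨c, rfl⟩)

end Apply

end Groth.Agent.Lib.Helper19.MultRigid
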