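import Mathlib
import Groth.Agent.Lib.Helper19.HensMT1
import Groth.Agent.Lib.Helper19.MultRigid2

/-!
# Finite groups of multiplicative type over a henselian local ring, part 2 (helper19)

`reduction_injective`, `reduction_surjective`: for finite Hopf algebras `B`, `C` of multiplicative
type over a henselian local ring `A`, reduction to the closed fibre is bijective on bialgebra maps
`C → B` (SGA3 X 2.1, full faithfulness).  Surjectivity: the Cartier duals are finite étale, so the
transpose of the given map of closed fibres lifts uniquely to an algebra map `g : D B → D C`; this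
lift is a coalgebra map by rigidity (the two sides of each identity are algebra maps out of the
étale algebra `D B` which agree on the closed fibre), and its transpose is the required lift.
-/

set_option autoImplicit false
set_option linter.unusedSectionVars false
set_option linter.style.haveILetI false
universe u
open TensorProduct

namespace Groth.Agent.Lib.Helper19.HensMT

open Groth.Agent.Lib.Helper19.GLift Groth.Agent.Lib.Helper19 IsLocalRing

section Main

variable (A : Type u) [CommRing A] [HenselianLocalRing A]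
  (B : Type u) [CommRing B] [HopfAlgebra A B] [Module.Finite A B]
  (C : Type u) [CommRing C] [HopfAlgebra A C] [Module.Finite A C]

theorem reduction_injective (hG : SGA3b.IsMultType A B) (hH : SGA3b.IsMultType A C)
    (φ ψ : C →ₐc[A] B)
    (h : ∀ c : C, (1 : ResidueField A) ⊗ₜ[A] (φ c) = (1 : ResidueField A) ⊗ₜ[A] (ψ c)) :
    φ = ψ := by
  haveI : Coalgebra.IsCocomm A C := isCocomm_of_isMultType A C hH
  have hC : Algebra.FiniteType A C := inferInstance
  have key := MultRigid.bialgHom_eq_of_cocomm_local hG hC φ ψ (fun c => by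
    have h1 := (one_tmul_eq_iff (maximalIdeal A) (φ c) (ψ c)).1 (h c)
    exact smulTop_le_map (maximalIdeal A) h1)
  exact DFunLike.ext _ _ key

theorem reduction_surjective (hG : SGA3b.IsMultType A B) (hH : SGA3b.IsMultType A C)
    (φ₀ : (ResidueField A ⊗[A] C) →ₐc[ResidueField A] (ResidueField A ⊗[A] B)) :
    ∃ φ : C →ₐc[A] B, ∀ c : C, φ₀ ((1 : ResidueField A) ⊗ₜ[A] c) =
      (1 : ResidueField A) ⊗ₜ[A] (φ c) := by
  haveI : Module.Projective A B := projective_of_isMultType A B hG
  haveI : Module.Projective A C := projective_of_isMultType A C hH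
  haveI : Coalgebra.IsCocomm A B := isCocomm_of_isMultType A B hG
  haveI : Coalgebra.IsCocomm A C := isCocomm_of_isMultType A C hH
  haveI : Algebra.Etale A (CartDual.D A B) := etale_dual_of_isMultType A B hG
  let βB := DualBC.dualBC (R := A) (A := B) (ResidueField A)
  let βC := DualBC.dualBC (R := A) (A := C) (ResidueField A)
  let g₀ : ResidueField A ⊗[A] CartDual.D A B →ₐ[ResidueField A]
      ResidueField A ⊗[A] CartDual.D A C :=
    βC.symm.toAlgHom.comp
      ((CartDual.transpose (ResidueField A) φ₀ :
        CartDual.D (ResidueField A) (ResidueField A ⊗[A] B) →ₐ[ResidueField A]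
          CartDual.D (ResidueField A) (ResidueField A ⊗[A] C)).comp βB.toAlgHom)
  obtain ⟨g, hg⟩ := (Groth.Agent.Lib.Helper8.finite_etale_hom_bijective A (CartDual.D A B)
    (CartDual.D A C)).2 g₀
  have hg' : Algebra.TensorProduct.map (AlgHom.id (ResidueField A) (ResidueField A)) g = g₀ := hg
  have hg1 : ∀ x : CartDual.D A B, βC ((1 : ResidueField A) ⊗ₜ[A] g x) =
      CartDual.transpose (ResidueField A) φ₀ (βB ((1 : ResidueField A) ⊗ₜ[A] x)) := by
    intro x
    have h1 : Algebra.TensorProduct.map (AlgHom.id (ResidueField A) (ResidueField A)) g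
        ((1 : ResidueField A) ⊗ₜ[A] x) = g₀ ((1 : ResidueField A) ⊗ₜ[A] x) := by rw [hg']
    rw [Algebra.TensorProduct.map_tmul, AlgHom.id_apply] at h1
    rw [h1]
    exact βC.apply_symm_apply _
  have hpair : ∀ (x : CartDual.D A B) (c : C),
      algebraMap A (ResidueField A) (g x c) =
        (βB ((1 : ResidueField A) ⊗ₜ[A] x)) (φ₀ ((1 : ResidueField A) ⊗ₜ[A] c)) := by
    intro x c
    have h := congrArg (fun y : CartDual.D (ResidueField A) (ResidueField A ⊗[A] C) =>
      y ((1 : ResidueField A) ⊗ₜ[A] c)) (hg1 x)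
    have hL := dualBC_one_tmul_apply (R := A) (B := C) (ResidueField A) (g x) c
    rw [← hL]
    exact h
  have hred : ∀ (b : B) (c : C), (∀ x : CartDual.D A B, x b = g x c) →
      (1 : ResidueField A) ⊗ₜ[A] b = φ₀ ((1 : ResidueField A) ⊗ₜ[A] c) := by
    intro b c hb
    apply eq_of_pair_eq (R := ResidueField A) (A := ResidueField A ⊗[A] B)
    intro y
    obtain ⟨z, rfl⟩ := βB.surjective y
    obtain ⟨x, hx⟩ := exists_one_tmul_eq (maximalIdeal A) z
    have hx' : (1 : ResidueField A) ⊗ₜ[A] x = z := hx
    rw [← hx', ← hpair x c, ← hb x]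
    exact dualBC_one_tmul_apply (R := A) (B := B) (ResidueField A) x b
  let φL : C →ₗ[A] B := phiL g.toLinearMap
  have hpairL : ∀ (x : CartDual.D A B) (c : C), x (φL c) = g x c := fun x c =>
    pair_phiL g.toLinearMap x c
  have hgL : CartDual.transposeLin A φL = g.toLinearMap := transposeLin_phiL g.toLinearMap
  have hredL : ∀ c, (1 : ResidueField A) ⊗ₜ[A] φL c = φ₀ ((1 : ResidueField A) ⊗ₜ[A] c) :=
    fun c => hred _ c (fun x => hpairL x c)
  have hmul : ∀ c c' : C, (1 : ResidueField A) ⊗ₜ[A] (φL (c * c') - φL c * φL c') = 0 := by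
    intro c c'
    rw [TensorProduct.tmul_sub, hredL, sub_eq_zero]
    have h1 : (1 : ResidueField A) ⊗ₜ[A] (φL c * φL c') =
        ((1 : ResidueField A) ⊗ₜ[A] φL c) * ((1 : ResidueField A) ⊗ₜ[A] φL c') := by
      rw [Algebra.TensorProduct.tmul_mul_tmul, one_mul]
    rw [h1, hredL, hredL, ← map_mul, Algebra.TensorProduct.tmul_mul_tmul, one_mul]
  have hone : (1 : ResidueField A) ⊗ₜ[A] (φL 1 - 1) = 0 := by
    rw [TensorProduct.tmul_sub, hredL, sub_eq_zero]
    have h1 : (1 : ResidueField A) ⊗ₜ[A] (1 : C) = 1 := rfl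
    rw [h1, map_one]
    rfl
  have hmem : ∀ (x : CartDual.D A B) (v : B), (1 : ResidueField A) ⊗ₜ[A] v = 0 →
      x v ∈ maximalIdeal A := by
    intro x v hv
    have h1 : v ∈ (maximalIdeal A • ⊤ : Submodule A B) :=
      (one_tmul_eq_zero_iff (maximalIdeal A) v).1 hv
    show x.ofConv v ∈ maximalIdeal A
    refine Submodule.smul_induction_on h1 ?_ ?_
    · intro r hr n _
      rw [map_smul, smul_eq_mul]
      exact Ideal.mul_mem_right _ _ hr
    · intro a b ha hb
      rw [map_add]
      exact Ideal.add_mem _ ha hb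
  have hcounit : (Bialgebra.counitAlgHom A (CartDual.D A C)).comp g =
      Bialgebra.counitAlgHom A (CartDual.D A B) := by
    apply algHom_eq_of_residue
    intro x
    rw [← sub_eq_zero, ← TensorProduct.tmul_sub]
    apply (one_tmul_eq_zero_iff (maximalIdeal A) _).2
    rw [mem_smul_top_self_iff]
    show (g x) 1 - x 1 ∈ maximalIdeal A
    rw [← hpairL x 1]
    have h1 := hmem x (φL 1 - 1) hone
    have h2 : x (φL 1 - 1) = x (φL 1) - x 1 := map_sub x.ofConv _ _
    rw [← h2]
    exact h1
  have hcomul : (Algebra.TensorProduct.map g g).comp (Bialgebra.comulAlgHom A (CartDual.D A B)) =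
      (Bialgebra.comulAlgHom A (CartDual.D A C)).comp g := by
    apply algHom_eq_of_residue
    intro x
    rw [← sub_eq_zero, ← TensorProduct.tmul_sub]
    apply one_tmul_eq_zero_of_ev₂
    intro c c'
    rw [map_sub, LinearMap.sub_apply]
    have e1 : CartDual.ev₂ A C (((Algebra.TensorProduct.map g g).comp
        (Bialgebra.comulAlgHom A (CartDual.D A B))) x) (c ⊗ₜ[A] c') = x (φL c * φL c') := by
      have h1 : ((Algebra.TensorProduct.map g g).comp
          (Bialgebra.comulAlgHom A (CartDual.D A B))) x =
          TensorProduct.map (CartDual.transposeLin A φL) (CartDual.transposeLin A φL)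
            (CartDual.comul A B x) := by
        rw [hgL]
        rfl
      rw [h1, CartDual.ev₂_map_transposeLin, CartDual.ev₂_comul_tmul]
    have e2 : CartDual.ev₂ A C (((Bialgebra.comulAlgHom A (CartDual.D A C)).comp g) x)
        (c ⊗ₜ[A] c') = x (φL (c * c')) := by
      show CartDual.ev₂ A C (CartDual.comul A C (g x)) (c ⊗ₜ[A] c') = _
      rw [CartDual.ev₂_comul_tmul, ← hpairL]
    rw [e1, e2]
    have h1 := hmem x (φL (c * c') - φL c * φL c') (hmul c c')
    have h2 : x (φL (c * c') - φL c * φL c') = x (φL (c * c')) - x (φL c * φL c') :=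
      map_sub x.ofConv _ _
    rw [h2] at h1
    have h3 := neg_mem h1
    rw [neg_sub] at h3
    exact h3
  let G : CartDual.D A B →ₐc[A] CartDual.D A C := BialgHom.ofAlgHom g hcounit hcomul
  refine ⟨phiB G, fun c => (hred (phiB G c) c (fun x => pair_phiB G x c)).symm⟩

end Main

end Groth.Agent.Lib.Helper19.HensMT
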