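/-
Helper19 library: finitely generated Hopf subalgebras of a commutative Hopf algebra over a field.
* `antipode_antipode`: `S (S a) = a` for a commutative Hopf algebra.
* `exists_fg_hopfSubalgebra`: every element lies in a finitely generated Hopf subalgebra
  (finite-dimensional subcoalgebra `D ∋ x`, then `k[D ∪ S D]`).
-/
import Groth.Agent.Lib.Helper19.Coalg2
import Groth.Agent.Lib.Helper25.HopfLib
import Groth.Prelude.Def_SGA3

set_option autoImplicit false
universe u
open TensorProduct

namespace Groth.Agent.Lib.Helper19.HopfSub

open Groth.Agent.Lib.Helper19.Reynolds Groth.Agent.Lib.Helper19.Coalg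

section Antipode

variable {k : Type u} [CommRing k] {A : Type u} [CommRing A] [HopfAlgebra k A]

theorem antipode_antipode (a : A) :
    HopfAlgebra.antipode k (HopfAlgebra.antipode k a) = a := by
  have h1 : (WithConv.toConv (AlgHom.id k A))⁻¹ =
      WithConv.toConv (HopfAlgebra.antipodeAlgHom k A) := by
    show WithConv.toConv ((AlgHom.id k A).comp (HopfAlgebra.antipodeAlgHom k A)) = _
    rw [AlgHom.id_comp]
  have h2 : (WithConv.toConv (HopfAlgebra.antipodeAlgHom k A))⁻¹ =
      WithConv.toConv ((HopfAlgebra.antipodeAlgHom k A).comp (HopfAlgebra.antipodeAlgHom k A)) :=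
    rfl
  have h3 : WithConv.toConv
      ((HopfAlgebra.antipodeAlgHom k A).comp (HopfAlgebra.antipodeAlgHom k A)) =
      WithConv.toConv (AlgHom.id k A) := by
    rw [← h2, ← h1, inv_inv]
  have h4 := congrArg (fun f : WithConv (A →ₐ[k] A) => f.ofConv a) h3
  exact h4

end Antipode

section Main

variable {k : Type u} [Field k] {A : Type u} [CommRing A] [HopfAlgebra k A]

theorem exists_fg_hopfSubalgebra (x : A) :
    ∃ B : Subalgebra k A, x ∈ B ∧ B.FG ∧ SGA3.IsHopfSubalgebra k A B := by
  classical
  -- a finite-dimensional subcoalgebra containing x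
  let E : Submodule k A := gen (K := k) (C := A) (V := A) x
  have hE : HopfRep.IsSubcomod (k := k) (A := A) E := isSubcomod_gen x
  haveI : FiniteDimensional k E := finiteDimensional_gen x
  let D : Submodule k A := cfS (C := A) (V := A) E
  have hD : IsSubcoalg D := isSubcoalg_cfS E hE
  have hxD : x ∈ D := le_cfS_regular E (mem_gen x)
  haveI hDfin : FiniteDimensional k D := finiteDimensional_cfS E
  let S : A →ₗ[k] A := HopfAlgebra.antipode k
  let G : Set A := (D : Set A) ∪ S '' (D : Set A)
  let B : Subalgebra k A := Algebra.adjoin k G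
  have hGB : G ⊆ B := Algebra.subset_adjoin
  have hDB : ∀ d ∈ D, d ∈ B := fun d hd => hGB (Or.inl hd)
  have hSDB : ∀ d ∈ D, S d ∈ B := fun d hd => hGB (Or.inr ⟨d, hd, rfl⟩)
  refine ⟨B, hDB x hxD, ?_, ?_, ?_⟩
  · -- finitely generated
    obtain ⟨t', hspan⟩ := (Submodule.fg_iff_finiteDimensional D).mpr hDfin
    refine ⟨t' ∪ t'.image S, ?_⟩
    apply le_antisymm
    · apply Algebra.adjoin_mono
      intro a ha
      rw [Finset.mem_coe, Finset.mem_union, Finset.mem_image] at ha
      rcases ha with ha | ⟨b, hb, rfl⟩
      · exact Or.inl (hspan ▸ Submodule.subset_span (Finset.mem_coe.mpr ha))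
      · exact Or.inr ⟨b, hspan ▸ Submodule.subset_span (Finset.mem_coe.mpr hb), rfl⟩
    · apply Algebra.adjoin_le
      have h1 : ∀ d ∈ D, d ∈ Algebra.adjoin k ((t' ∪ t'.image S : Finset A) : Set A) := by
        intro d hd
        rw [← hspan] at hd
        induction hd using Submodule.span_induction with
        | mem a ha => exact Algebra.subset_adjoin (by simp [ha])
        | zero => exact Subalgebra.zero_mem _
        | add a b _ _ ha hb => exact Subalgebra.add_mem _ ha hb
        | smul c a _ ha => exact Subalgebra.smul_mem _ ha c
      have h2 : ∀ d ∈ D, S d ∈ Algebra.adjoin k ((t' ∪ t'.image S : Finset A) : Set A) := by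
        intro d hd
        rw [← hspan] at hd
        induction hd using Submodule.span_induction with
        | mem a ha =>
          exact Algebra.subset_adjoin (by
            rw [Finset.mem_coe, Finset.mem_union, Finset.mem_image]
            exact Or.inr ⟨a, Finset.mem_coe.mp ha, rfl⟩)
        | zero => rw [map_zero]; exact Subalgebra.zero_mem _
        | add a b _ _ ha hb => rw [map_add]; exact Subalgebra.add_mem _ ha hb
        | smul c a _ ha => rw [map_smul]; exact Subalgebra.smul_mem _ ha c
      rintro a (ha | ⟨d, hd, rfl⟩)
      · exact h1 a ha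
      · exact h2 d hd
  · -- comultiplication
    -- the range of B ⊗ B → A ⊗ A as a subalgebra
    let T : Subalgebra k (A ⊗[k] A) := (Algebra.TensorProduct.map B.val B.val).range
    have hT : ∀ z : A ⊗[k] A, z ∈ T ↔
        z ∈ LinearMap.range (TensorProduct.map B.val.toLinearMap B.val.toLinearMap) := by
      intro z
      constructor
      · rintro ⟨y, rfl⟩
        exact ⟨y, rfl⟩
      · rintro ⟨y, rfl⟩
        exact ⟨y, rfl⟩
    have hle : B ≤ T.comap (Bialgebra.comulAlgHom k A) := by
      apply Algebra.adjoin_le
      rintro a (ha | ⟨d, hd, rfl⟩)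
      · -- a ∈ D
        show Bialgebra.comulAlgHom k A a ∈ T
        rw [hT]
        obtain ⟨y, hy⟩ := hD a ha
        have hfac : ∀ y : D ⊗[k] D, TensorProduct.map D.subtype D.subtype y ∈
            LinearMap.range (TensorProduct.map B.val.toLinearMap B.val.toLinearMap) := by
          intro y
          induction y using TensorProduct.induction_on with
          | zero => rw [map_zero]; exact Submodule.zero_mem _
          | tmul d₁ d₂ =>
            exact ⟨(⟨d₁, hDB _ d₁.2⟩ : B) ⊗ₜ[k] (⟨d₂, hDB _ d₂.2⟩ : B), rfl⟩
          | add y z hy hz => rw [map_add]; exact Submodule.add_mem _ hy hz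
        have := hfac y
        rw [hy] at this
        exact this
      · show Bialgebra.comulAlgHom k A (S d) ∈ T
        rw [hT]
        obtain ⟨y, hy⟩ := hD d hd
        have hfac : ∀ y : D ⊗[k] D,
            TensorProduct.map S S (TensorProduct.comm k A A
              (TensorProduct.map D.subtype D.subtype y)) ∈
            LinearMap.range (TensorProduct.map B.val.toLinearMap B.val.toLinearMap) := by
          intro y
          induction y using TensorProduct.induction_on with
          | zero => simp only [map_zero]; exact Submodule.zero_mem _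
          | tmul d₁ d₂ =>
            exact ⟨(⟨S d₂, hSDB _ d₂.2⟩ : B) ⊗ₜ[k] (⟨S d₁, hSDB _ d₁.2⟩ : B), rfl⟩
          | add y z hy hz => simp only [map_add]; exact Submodule.add_mem _ hy hz
        have := hfac y
        rw [hy] at this
        have hca := Groth.Agent.Lib.Helper25.HopfLib.comul_antipode (k := k) d
        show Coalgebra.comul (R := k) (HopfAlgebra.antipode k d) ∈ _
        rw [hca]
        exact this
    intro b hb
    have := hle hb
    exact (hT _).mp this
  · -- antipode
    have hle : B ≤ B.comap (HopfAlgebra.antipodeAlgHom k A) := by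
      apply Algebra.adjoin_le
      rintro a (ha | ⟨d, hd, rfl⟩)
      · exact hSDB a ha
      · show HopfAlgebra.antipode k (HopfAlgebra.antipode k d) ∈ B
        rw [antipode_antipode]
        exact hDB d hd
    intro b hb
    exact hle hb

end Main

end Groth.Agent.Lib.Helper19.HopfSub
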