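import Mathlib

/-!
# The trace form of a finite commutative Hopf algebra is a (left) integral (helper19)

For a commutative Hopf algebra `A` which is finite-dimensional over a field `K`, the trace
`τ = Tr_{A/K}` satisfies `(τ ⊗ id)(Δ y) = τ(y) ⊗ 1` (`trace_rTensor_comul`).  The proof uses the shear
automorphism `x ⊗ y ↦ ∑ x y₂ ⊗ y₁` of the `A`-algebra `A ⊗ A` and invariance of the trace under
algebra automorphisms.  In characteristic zero this gives a total integral `τ / dim A`
(`exists_totalIntegral`).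
-/

set_option autoImplicit false
universe u v

open TensorProduct Coalgebra HopfAlgebra

namespace Groth.Agent.Lib.Helper19.HopfTrace

variable {K : Type u} [Field K] {A : Type v} [CommRing A] [HopfAlgebra K A]

/-- The twisted comultiplication `y ↦ ∑ y₂ ⊗ y₁`. -/
noncomputable def comulOp : A →ₐ[K] A ⊗[K] A :=
  ((Algebra.TensorProduct.comm K A A : A ⊗[K] A ≃ₐ[K] A ⊗[K] A) : A ⊗[K] A →ₐ[K] A ⊗[K] A).comp
    (Bialgebra.comulAlgHom K A)

lemma comulOp_apply (y : A) :
    comulOp (K := K) y = TensorProduct.comm K A A (comul (R := K) y) := rfl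

/-- `y ↦ ∑ S(y₂) ⊗ y₁`. -/
noncomputable def uOp : A →ₐ[K] A ⊗[K] A :=
  ((Algebra.TensorProduct.comm K A A : A ⊗[K] A ≃ₐ[K] A ⊗[K] A) : A ⊗[K] A →ₐ[K] A ⊗[K] A).comp
    ((Algebra.TensorProduct.map (AlgHom.id K A) (antipodeAlgHom K A)).comp
      (Bialgebra.comulAlgHom K A))

lemma uOp_apply (y : A) :
    uOp (K := K) y = TensorProduct.comm K A A
      (TensorProduct.map LinearMap.id (antipode K) (comul (R := K) y)) := by
  unfold uOp
  simp only [AlgHom.comp_apply]
  show TensorProduct.comm K A A ((Algebra.TensorProduct.map (AlgHom.id K A) (antipodeAlgHom K A))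
    (comul (R := K) y)) = _
  congr 1

/-- The shear map `x ⊗ y ↦ ∑ x y₂ ⊗ y₁`. -/
noncomputable def shear : A ⊗[K] A →ₐ[A] A ⊗[K] A :=
  Algebra.TensorProduct.lift (Algebra.ofId A (A ⊗[K] A)) (comulOp (K := K))
    (fun _ _ => Commute.all _ _)

noncomputable def shearInv : A ⊗[K] A →ₐ[A] A ⊗[K] A :=
  Algebra.TensorProduct.lift (Algebra.ofId A (A ⊗[K] A)) (uOp (K := K))
    (fun _ _ => Commute.all _ _)

lemma shear_tmul (x y : A) :
    shear (K := K) (x ⊗ₜ[K] y) = (x ⊗ₜ[K] (1 : A)) * comulOp (K := K) y := by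
  unfold shear
  rw [Algebra.TensorProduct.lift_tmul]
  rfl

lemma shearInv_tmul (x y : A) :
    shearInv (K := K) (x ⊗ₜ[K] y) = (x ⊗ₜ[K] (1 : A)) * uOp (K := K) y := by
  unfold shearInv
  rw [Algebra.TensorProduct.lift_tmul]
  rfl

/-- `a ⊗ (b ⊗ c) ↦ b S(c) ⊗ a`. -/
noncomputable def Phi : A ⊗[K] (A ⊗[K] A) →ₗ[K] A ⊗[K] A :=
  (TensorProduct.comm K A A).toLinearMap ∘ₗ
    LinearMap.lTensor A (LinearMap.mul' K A ∘ₗ LinearMap.lTensor A (antipode K))

lemma claimA (z : A ⊗[K] A) (q : A) :
    (antipode K q ⊗ₜ[K] (1 : A)) * TensorProduct.comm K A A z =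
      Phi (K := K) (TensorProduct.assoc K A A A (z ⊗ₜ[K] q)) := by
  induction z using TensorProduct.induction_on with
  | zero => simp
  | tmul a b => simp [Phi, mul_comm]
  | add a b ha hb => simp only [map_add, mul_add, TensorProduct.add_tmul, ha, hb]

lemma claimB (t : A ⊗[K] A) :
    shear (K := K) (TensorProduct.comm K A A (TensorProduct.map LinearMap.id (antipode K) t)) =
      Phi (K := K) (TensorProduct.assoc K A A A ((comul (R := K)).rTensor A t)) := by
  induction t using TensorProduct.induction_on with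
  | zero => simp
  | tmul p q =>
    rw [TensorProduct.map_tmul, LinearMap.id_apply, TensorProduct.comm_tmul, shear_tmul,
      comulOp_apply, claimA, LinearMap.rTensor_tmul]
  | add a b ha hb => simp only [map_add, ha, hb]

lemma shear_uOp (y : A) : shear (K := K) (uOp (K := K) y) = (1 : A) ⊗ₜ[K] y := by
  rw [uOp_apply, claimB, Coalgebra.coassoc_apply]
  unfold Phi
  rw [LinearMap.comp_apply, ← LinearMap.lTensor_comp_apply]
  have h1 : (LinearMap.mul' K A ∘ₗ LinearMap.lTensor A (antipode K)) ∘ₗ comul (R := K) =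
      Algebra.linearMap K A ∘ₗ counit (R := K) (A := A) := by
    rw [LinearMap.comp_assoc]
    exact HopfAlgebra.mul_antipode_lTensor_comul
  rw [h1, LinearMap.lTensor_comp_apply, Coalgebra.lTensor_counit_comul]
  simp

lemma shear_comp_shearInv :
    (shear (K := K) (A := A)).comp (shearInv (K := K) (A := A)) = AlgHom.id A (A ⊗[K] A) := by
  apply Algebra.TensorProduct.ext'
  intro x y
  rw [AlgHom.comp_apply, shearInv_tmul, map_mul, shear_uOp]
  have h1 : shear (K := K) (x ⊗ₜ[K] (1 : A)) = x ⊗ₜ[K] (1 : A) := by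
    rw [shear_tmul, comulOp_apply, Bialgebra.comul_one, Algebra.TensorProduct.one_def,
      TensorProduct.comm_tmul, Algebra.TensorProduct.tmul_mul_tmul, mul_one, mul_one]
  rw [h1, Algebra.TensorProduct.tmul_mul_tmul, mul_one, one_mul]
  rfl

variable [Module.Finite K A]

lemma shear_bijective : Function.Bijective (shear (K := K) (A := A)) := by
  have hsurj : Function.Surjective (shear (K := K) (A := A)) := by
    intro z
    refine ⟨shearInv (K := K) z, ?_⟩
    have := AlgHom.congr_fun (shear_comp_shearInv (K := K) (A := A)) z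
    exact this
  have hinj : Function.Injective ((shear (K := K) (A := A)).toLinearMap.restrictScalars K) :=
    LinearMap.injective_iff_surjective.mpr hsurj
  exact ⟨hinj, hsurj⟩

/-- The trace of `x ⊗ y` over the left factor. -/
lemma trace_tmul (x y : A) :
    Algebra.trace A (A ⊗[K] A) (x ⊗ₜ[K] y) = Algebra.trace K A y • x := by
  have h1 : x ⊗ₜ[K] y = x • ((1 : A) ⊗ₜ[K] y) := by
    rw [TensorProduct.smul_tmul', smul_eq_mul, mul_one]
  have h2 : Algebra.lmul A (A ⊗[K] A) ((1 : A) ⊗ₜ[K] y) =
      (Algebra.lmul K A y).baseChange A := by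
    apply TensorProduct.AlgebraTensorModule.ext
    intro a b
    simp [Algebra.TensorProduct.tmul_mul_tmul]
  rw [h1, map_smul, Algebra.trace_apply, h2, LinearMap.trace_baseChange, ← Algebra.trace_apply,
    Algebra.smul_def, Algebra.smul_def, mul_comm]
  rfl

/-- The trace is a left integral: `(τ ⊗ id)(Δ y) = τ(y) ⊗ 1`. -/
theorem trace_rTensor_comul (y : A) :
    (Algebra.trace K A).rTensor A (comul (R := K) y) = Algebra.trace K A y ⊗ₜ[K] (1 : A) := by
  -- the trace over the left factor
  have hC : ∀ z : A ⊗[K] A, Algebra.trace A (A ⊗[K] A) (TensorProduct.comm K A A z) =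
      TensorProduct.lid K A ((Algebra.trace K A).rTensor A z) := by
    intro z
    induction z using TensorProduct.induction_on with
    | zero => simp
    | tmul a b => rw [TensorProduct.comm_tmul, trace_tmul]; simp
    | add a b ha hb => simp only [map_add, ha, hb]
  let e : A ⊗[K] A ≃ₐ[A] A ⊗[K] A := AlgEquiv.ofBijective (shear (K := K) (A := A)) shear_bijective
  have h1 : shear (K := K) ((1 : A) ⊗ₜ[K] y) = comulOp (K := K) y := by
    rw [shear_tmul]
    show (1 : A ⊗[K] A) * _ = _
    rw [one_mul]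
  have h2 : Algebra.trace A (A ⊗[K] A) (comulOp (K := K) y) =
      Algebra.trace A (A ⊗[K] A) ((1 : A) ⊗ₜ[K] y) := by
    rw [← h1]
    exact Algebra.trace_eq_of_algEquiv e ((1 : A) ⊗ₜ[K] y)
  rw [comulOp_apply, hC, trace_tmul] at h2
  have h3 := congrArg (TensorProduct.lid K A).symm h2
  rw [LinearEquiv.symm_apply_apply] at h3
  rw [h3]
  simp only [TensorProduct.lid_symm_apply]
  rw [Algebra.smul_def, mul_one, Algebra.algebraMap_eq_smul_one, ← TensorProduct.smul_tmul,
    smul_eq_mul, mul_one]

/-- In characteristic zero, a finite commutative Hopf algebra has a total integral. -/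
theorem exists_totalIntegral [CharZero K] :
    ∃ α : A →ₗ[K] K, (∀ c : A, α.rTensor A (comul (R := K) c) = α c ⊗ₜ[K] (1 : A)) ∧ α 1 = 1 := by
  have : Nontrivial A := by
    refine ⟨⟨1, 0, fun h => ?_⟩⟩
    have := congrArg (counit (R := K) (A := A)) h
    rw [Bialgebra.counit_one, map_zero] at this
    exact one_ne_zero this
  have hn : (Module.finrank K A : K) ≠ 0 := by
    rw [Nat.cast_ne_zero]
    exact (Module.finrank_pos (R := K) (M := A)).ne'
  refine ⟨(Module.finrank K A : K)⁻¹ • Algebra.trace K A, ?_, ?_⟩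
  · intro c
    rw [LinearMap.rTensor_smul, LinearMap.smul_apply, trace_rTensor_comul, LinearMap.smul_apply,
      TensorProduct.smul_tmul']
  · rw [LinearMap.smul_apply]
    have h1 : Algebra.trace K A (1 : A) = (Module.finrank K A : K) := by
      have := Algebra.trace_algebraMap (R := K) (S := A) (1 : K)
      rw [map_one] at this
      rw [this]
      simp
    rw [h1, smul_eq_mul, inv_mul_cancel₀ hn]

end Groth.Agent.Lib.Helper19.HopfTrace
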