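import Mathlib

/-!
# Transport of a Hopf algebra structure along an algebra isomorphism, and small models (helper19)

* `bialgebraB e`, `hopfB e`: for `e : B ≃ₐ[R] A` with `A` a commutative Hopf algebra, the
  transported Hopf algebra structure on `B` (extending the given algebra structure of `B`).
* `isCocomm_of_hopfB`: cocommutativity transfers back.
* `exists_small_model`: a finite `R`-algebra `A : Type v` is isomorphic to an algebra in the
  universe of `R`.
-/

set_option autoImplicit false
universe u v w

open TensorProduct

namespace Groth.Agent.Lib.Helper19.HopfTransfer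

section Transfer

variable {R : Type u} [CommRing R] {A : Type v} [CommRing A] [HopfAlgebra R A]
  {B : Type w} [CommRing B] [Algebra R B] (e : B ≃ₐ[R] A)

/-- transported comultiplication -/
noncomputable def comulB : B →ₐ[R] B ⊗[R] B :=
  (Algebra.TensorProduct.map (e.symm : A →ₐ[R] B) (e.symm : A →ₐ[R] B)).comp
    ((Bialgebra.comulAlgHom R A).comp (e : B →ₐ[R] A))

/-- transported counit -/
noncomputable def counitB : B →ₐ[R] R := (Bialgebra.counitAlgHom R A).comp (e : B →ₐ[R] A)

lemma comulB_apply (x : B) : comulB e x =
    TensorProduct.map e.symm.toLinearMap e.symm.toLinearMap (Coalgebra.comul (R := R) (e x)) :=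
  rfl

lemma counitB_apply (x : B) : counitB e x = Coalgebra.counit (R := R) (e x) := rfl

lemma comulB_symm (a : A) : comulB e (e.symm a) =
    TensorProduct.map e.symm.toLinearMap e.symm.toLinearMap (Coalgebra.comul (R := R) a) := by
  rw [comulB_apply, AlgEquiv.apply_symm_apply]

lemma L1 (z : A ⊗[R] A) :
    TensorProduct.map (comulB e).toLinearMap LinearMap.id
      (TensorProduct.map e.symm.toLinearMap e.symm.toLinearMap z) =
    TensorProduct.map (TensorProduct.map e.symm.toLinearMap e.symm.toLinearMap)
      e.symm.toLinearMap (TensorProduct.map (Coalgebra.comul (R := R)) LinearMap.id z) := by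
  induction z using TensorProduct.induction_on with
  | zero => rw [map_zero, map_zero, map_zero, map_zero]
  | add z₁ z₂ h₁ h₂ => rw [map_add, map_add, map_add, map_add, h₁, h₂]
  | tmul a b =>
    rw [TensorProduct.map_tmul, TensorProduct.map_tmul, TensorProduct.map_tmul,
      TensorProduct.map_tmul]
    show (comulB e (e.symm a)) ⊗ₜ[R] (e.symm b) = _
    rw [comulB_symm]
    rfl

lemma L3 (z : A ⊗[R] A) :
    TensorProduct.map LinearMap.id (comulB e).toLinearMap
      (TensorProduct.map e.symm.toLinearMap e.symm.toLinearMap z) =
    TensorProduct.map e.symm.toLinearMap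
      (TensorProduct.map e.symm.toLinearMap e.symm.toLinearMap)
      (TensorProduct.map LinearMap.id (Coalgebra.comul (R := R)) z) := by
  induction z using TensorProduct.induction_on with
  | zero => rw [map_zero, map_zero, map_zero, map_zero]
  | add z₁ z₂ h₁ h₂ => rw [map_add, map_add, map_add, map_add, h₁, h₂]
  | tmul a b =>
    rw [TensorProduct.map_tmul, TensorProduct.map_tmul, TensorProduct.map_tmul,
      TensorProduct.map_tmul]
    show (e.symm a) ⊗ₜ[R] (comulB e (e.symm b)) = _
    rw [comulB_symm]
    rfl

lemma L4 (z : A ⊗[R] A) :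
    TensorProduct.map (counitB e).toLinearMap LinearMap.id
      (TensorProduct.map e.symm.toLinearMap e.symm.toLinearMap z) =
    TensorProduct.map LinearMap.id e.symm.toLinearMap
      (TensorProduct.map (Coalgebra.counit (R := R)) LinearMap.id z) := by
  induction z using TensorProduct.induction_on with
  | zero => rw [map_zero, map_zero, map_zero, map_zero]
  | add z₁ z₂ h₁ h₂ => rw [map_add, map_add, map_add, map_add, h₁, h₂]
  | tmul a b =>
    rw [TensorProduct.map_tmul, TensorProduct.map_tmul, TensorProduct.map_tmul,
      TensorProduct.map_tmul]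
    show (counitB e (e.symm a)) ⊗ₜ[R] (e.symm b) = _
    rw [counitB_apply, AlgEquiv.apply_symm_apply]
    rfl

lemma L5 (z : A ⊗[R] A) :
    TensorProduct.map LinearMap.id (counitB e).toLinearMap
      (TensorProduct.map e.symm.toLinearMap e.symm.toLinearMap z) =
    TensorProduct.map e.symm.toLinearMap LinearMap.id
      (TensorProduct.map LinearMap.id (Coalgebra.counit (R := R)) z) := by
  induction z using TensorProduct.induction_on with
  | zero => rw [map_zero, map_zero, map_zero, map_zero]
  | add z₁ z₂ h₁ h₂ => rw [map_add, map_add, map_add, map_add, h₁, h₂]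
  | tmul a b =>
    rw [TensorProduct.map_tmul, TensorProduct.map_tmul, TensorProduct.map_tmul,
      TensorProduct.map_tmul]
    show (e.symm a) ⊗ₜ[R] (counitB e (e.symm b)) = _
    rw [counitB_apply, AlgEquiv.apply_symm_apply]
    rfl

lemma coassocB : (Algebra.TensorProduct.assoc R R R B B B).toAlgHom.comp
    ((Algebra.TensorProduct.map (comulB e) (.id R B)).comp (comulB e)) =
    (Algebra.TensorProduct.map (.id R B) (comulB e)).comp (comulB e) := by
  apply AlgHom.ext
  intro x
  show TensorProduct.assoc R B B B
      (TensorProduct.map (comulB e).toLinearMap LinearMap.id (comulB e x)) =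
    TensorProduct.map LinearMap.id (comulB e).toLinearMap (comulB e x)
  rw [comulB_apply, L1, L3, ← TensorProduct.map_map_assoc]
  congr 1
  exact Coalgebra.coassoc_apply (R := R) (e x)

lemma rTensorB : (Algebra.TensorProduct.map (counitB e) (.id R B)).comp (comulB e) =
    (Algebra.TensorProduct.lid R B).symm := by
  apply AlgHom.ext
  intro x
  show TensorProduct.map (counitB e).toLinearMap LinearMap.id (comulB e x) = (1 : R) ⊗ₜ[R] x
  rw [comulB_apply, L4]
  have h1 : TensorProduct.map (Coalgebra.counit (R := R)) LinearMap.id
      (Coalgebra.comul (R := R) (e x)) = (1 : R) ⊗ₜ[R] (e x) :=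
    Coalgebra.rTensor_counit_comul (R := R) (e x)
  rw [h1, TensorProduct.map_tmul]
  show (1 : R) ⊗ₜ[R] (e.symm (e x)) = _
  rw [AlgEquiv.symm_apply_apply]

lemma lTensorB : (Algebra.TensorProduct.map (.id R B) (counitB e)).comp (comulB e) =
    (Algebra.TensorProduct.rid R R B).symm := by
  apply AlgHom.ext
  intro x
  show TensorProduct.map LinearMap.id (counitB e).toLinearMap (comulB e x) = x ⊗ₜ[R] (1 : R)
  rw [comulB_apply, L5]
  have h1 : TensorProduct.map LinearMap.id (Coalgebra.counit (R := R))
      (Coalgebra.comul (R := R) (e x)) = (e x) ⊗ₜ[R] (1 : R) :=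
    Coalgebra.lTensor_counit_comul (R := R) (e x)
  rw [h1, TensorProduct.map_tmul]
  show (e.symm (e x)) ⊗ₜ[R] (1 : R) = _
  rw [AlgEquiv.symm_apply_apply]

/-- the transported bialgebra structure -/
noncomputable def bialgebraB : Bialgebra R B :=
  Bialgebra.ofAlgHom (comulB e) (counitB e) (coassocB e) (rTensorB e) (lTensorB e)

lemma L6 (z : A ⊗[R] A) :
    TensorProduct.map (e.symm.toLinearMap ∘ₗ HopfAlgebra.antipode R ∘ₗ e.toLinearMap)
      LinearMap.id (TensorProduct.map e.symm.toLinearMap e.symm.toLinearMap z) =
    TensorProduct.map e.symm.toLinearMap e.symm.toLinearMap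
      (TensorProduct.map (HopfAlgebra.antipode R) LinearMap.id z) := by
  induction z using TensorProduct.induction_on with
  | zero => rw [map_zero, map_zero, map_zero, map_zero]
  | add z₁ z₂ h₁ h₂ => rw [map_add, map_add, map_add, map_add, h₁, h₂]
  | tmul a b =>
    rw [TensorProduct.map_tmul, TensorProduct.map_tmul, TensorProduct.map_tmul,
      TensorProduct.map_tmul]
    show (e.symm (HopfAlgebra.antipode R (e (e.symm a)))) ⊗ₜ[R] (e.symm b) = _
    rw [AlgEquiv.apply_symm_apply]
    rfl

lemma L6' (z : A ⊗[R] A) :
    TensorProduct.map LinearMap.id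
      (e.symm.toLinearMap ∘ₗ HopfAlgebra.antipode R ∘ₗ e.toLinearMap)
      (TensorProduct.map e.symm.toLinearMap e.symm.toLinearMap z) =
    TensorProduct.map e.symm.toLinearMap e.symm.toLinearMap
      (TensorProduct.map LinearMap.id (HopfAlgebra.antipode R) z) := by
  induction z using TensorProduct.induction_on with
  | zero => rw [map_zero, map_zero, map_zero, map_zero]
  | add z₁ z₂ h₁ h₂ => rw [map_add, map_add, map_add, map_add, h₁, h₂]
  | tmul a b =>
    rw [TensorProduct.map_tmul, TensorProduct.map_tmul, TensorProduct.map_tmul,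
      TensorProduct.map_tmul]
    show (e.symm a) ⊗ₜ[R] (e.symm (HopfAlgebra.antipode R (e (e.symm b)))) = _
    rw [AlgEquiv.apply_symm_apply]
    rfl

lemma L7 (w : A ⊗[R] A) :
    LinearMap.mul' R B (TensorProduct.map e.symm.toLinearMap e.symm.toLinearMap w) =
      e.symm (LinearMap.mul' R A w) := by
  induction w using TensorProduct.induction_on with
  | zero => rw [map_zero, map_zero, map_zero, map_zero]
  | add z₁ z₂ h₁ h₂ => rw [map_add, map_add, map_add, map_add, h₁, h₂]
  | tmul a b =>
    rw [TensorProduct.map_tmul, LinearMap.mul'_apply, LinearMap.mul'_apply, map_mul]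
    rfl

/-- the transported Hopf algebra structure -/
noncomputable def hopfB : HopfAlgebra R B :=
  { toBialgebra := bialgebraB e
    antipode := e.symm.toLinearMap ∘ₗ HopfAlgebra.antipode R ∘ₗ e.toLinearMap
    mul_antipode_rTensor_comul := by
      apply LinearMap.ext
      intro x
      show LinearMap.mul' R B (TensorProduct.map
        (e.symm.toLinearMap ∘ₗ HopfAlgebra.antipode R ∘ₗ e.toLinearMap) LinearMap.id
          (comulB e x)) = algebraMap R B (counitB e x)
      rw [comulB_apply, L6, L7]
      have h1 : LinearMap.mul' R A (TensorProduct.map (HopfAlgebra.antipode R) LinearMap.id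
          (Coalgebra.comul (R := R) (e x))) = algebraMap R A (Coalgebra.counit (R := R) (e x)) :=
        HopfAlgebra.mul_antipode_rTensor_comul_apply (R := R) (e x)
      rw [h1, AlgEquiv.commutes, counitB_apply]
    mul_antipode_lTensor_comul := by
      apply LinearMap.ext
      intro x
      show LinearMap.mul' R B (TensorProduct.map LinearMap.id
        (e.symm.toLinearMap ∘ₗ HopfAlgebra.antipode R ∘ₗ e.toLinearMap)
          (comulB e x)) = algebraMap R B (counitB e x)
      rw [comulB_apply, L6', L7]
      have h1 : LinearMap.mul' R A (TensorProduct.map LinearMap.id (HopfAlgebra.antipode R)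
          (Coalgebra.comul (R := R) (e x))) = algebraMap R A (Coalgebra.counit (R := R) (e x)) :=
        HopfAlgebra.mul_antipode_lTensor_comul_apply (R := R) (e x)
      rw [h1, AlgEquiv.commutes, counitB_apply] }

/-- cocommutativity transfers back along `e` -/
theorem isCocomm_of_comulB
    (h : ∀ x : B, TensorProduct.comm R B B (comulB e x) = comulB e x) :
    Coalgebra.IsCocomm R A := by
  constructor
  apply LinearMap.ext
  intro a
  show TensorProduct.comm R A A (Coalgebra.comul (R := R) a) = Coalgebra.comul (R := R) a
  have h1 : Coalgebra.comul (R := R) a =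
      TensorProduct.map e.toLinearMap e.toLinearMap (comulB e (e.symm a)) := by
    rw [comulB_symm, TensorProduct.map_map]
    have h2 : e.toLinearMap ∘ₗ e.symm.toLinearMap = LinearMap.id := by
      apply LinearMap.ext
      intro b
      exact e.apply_symm_apply b
    rw [h2, TensorProduct.map_id, LinearMap.id_apply]
  have h3 : ∀ z : B ⊗[R] B, TensorProduct.comm R A A
      (TensorProduct.map e.toLinearMap e.toLinearMap z) =
      TensorProduct.map e.toLinearMap e.toLinearMap (TensorProduct.comm R B B z) := by
    intro z
    induction z using TensorProduct.induction_on with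
    | zero => rw [map_zero, map_zero, map_zero, map_zero]
    | add z₁ z₂ h₁ h₂ => rw [map_add, map_add, map_add, map_add, h₁, h₂]
    | tmul a b => rfl
  conv_lhs => rw [h1]
  rw [h3, h, ← h1]

end Transfer

section Small

/-- a finite algebra is isomorphic to an algebra in the universe of the base ring -/
theorem exists_small_model (R : Type u) [CommRing R] (A : Type v) [CommRing A] [Algebra R A]
    [Module.Finite R A] :
    ∃ (B : Type u) (_ : CommRing B) (_ : Algebra R B), Nonempty (B ≃ₐ[R] A) := by
  obtain ⟨n, s, hs⟩ := Module.Finite.exists_fin (R := R) (M := A)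
  obtain ⟨π, hπdef⟩ : ∃ π : MvPolynomial (Fin n) R →ₐ[R] A, π = MvPolynomial.aeval s := ⟨_, rfl⟩
  have hπ : Function.Surjective π := by
    intro a
    have ha : a ∈ Submodule.span R (Set.range s) := by
      rw [hs]
      trivial
    have hle : Submodule.span R (Set.range s) ≤ Subalgebra.toSubmodule π.range := by
      rw [Submodule.span_le]
      rintro _ ⟨i, rfl⟩
      refine ⟨MvPolynomial.X i, ?_⟩
      rw [hπdef]
      exact MvPolynomial.aeval_X s i
    exact (AlgHom.mem_range _).1 ((Subalgebra.mem_toSubmodule _).1 (hle ha))
  exact ⟨MvPolynomial (Fin n) R ⧸ RingHom.ker π, inferInstance, inferInstance,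
    ⟨Ideal.quotientKerAlgEquivOfSurjective hπ⟩⟩

end Small

end Groth.Agent.Lib.Helper19.HopfTransfer
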