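import Mathlib

/-!
# A Vandermonde argument for algebras spanned by "group-like" units (helper19)

`Setup 𝔫 M D`: a commutative `S`-algebra `D` with an augmentation `ε`, a monoid hom `g : M →* D`
from a commutative group whose image spans `D`, "power" endomorphisms `ψ n` with
`ψ n (g m) = g m ^ n`, such that `1 + 𝔫` maps to units of `D` and `g m - 1 ∈ 𝔫 D` for all `m`.

`Setup.trivial`: if the subgroups of (a group surjecting onto) `M` satisfy ACC, then `g m = 1` for
all `m`.  This is the algebraic core of: a closed subgroup of a group of multiplicative type over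
a local base, with trivial closed fibre, is trivial.
-/

set_option autoImplicit false
universe u

namespace Groth.Agent.Lib.Helper19.HopfVand

open Finset

section Vand

lemma vandermonde_kill {D : Type*} [CommRing D] {k : ℕ} (v d : Fin k → D)
    (h : ∀ j : Fin k, ∑ i, d i * v i ^ (j : ℕ) = 0) (i : Fin k) :
    (∏ a : Fin k, ∏ b ∈ Finset.Ioi a, (v b - v a)) * d i = 0 := by
  have h1 : Matrix.vecMul d (Matrix.vandermonde v) = 0 := by
    funext j
    simp only [Matrix.vecMul, dotProduct, Matrix.vandermonde_apply, Pi.zero_apply]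
    exact h j
  have h2 : Matrix.vecMul d (Matrix.vandermonde v * (Matrix.vandermonde v).adjugate) = 0 := by
    rw [← Matrix.vecMul_vecMul, h1, Matrix.zero_vecMul]
  rw [Matrix.mul_adjugate, Matrix.vecMul_smul, Matrix.vecMul_one, Matrix.det_vandermonde] at h2
  have h3 := congrFun h2 i
  simpa using h3

end Vand

variable {S : Type u} [CommRing S] (𝔫 : Ideal S)

/-- the data -/
structure Setup (M : Type u) [CommGroup M] (D : Type u) [CommRing D] [Algebra S D] where
  ε : D →ₐ[S] S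
  g : M →* D
  ψ : ℕ → D →ₐ[S] D
  hunit : ∀ s : S, s - 1 ∈ 𝔫 → IsUnit (algebraMap S D s)
  hspan : Submodule.span S (Set.range g) = ⊤
  hε : ∀ m, ε (g m) = 1
  hψ : ∀ n m, ψ n (g m) = g m ^ n
  hmem : ∀ m, g m - 1 ∈ Ideal.map (algebraMap S D) 𝔫

variable {𝔫}

theorem Setup.quot_step {M : Type u} [CommGroup M] {D : Type u} [CommRing D] [Algebra S D]
    (T : Setup 𝔫 M D) (μ : M) :
    ∃ (M' : Type u) (_ : CommGroup M') (p : M →* M') (_ : Function.Surjective p) (_ : p μ = 1)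
      (D' : Type u) (_ : CommRing D') (_ : Algebra S D') (T' : Setup 𝔫 M' D'),
      ∀ m, T'.g (p m) = 1 → T.g m - 1 ∈ Ideal.span {T.g μ - 1} := by
  classical
  obtain ⟨𝔧, h𝔧⟩ : ∃ 𝔧 : Ideal D, 𝔧 = Ideal.span {T.g μ - 1} := ⟨_, rfl⟩
  rw [← h𝔧]
  have hμ𝔧 : T.g μ - 1 ∈ 𝔧 := by rw [h𝔧]; exact Ideal.subset_span rfl
  let φ : M →* D ⧸ 𝔧 := ((Ideal.Quotient.mk 𝔧 : D →+* D ⧸ 𝔧) : D →* D ⧸ 𝔧).comp T.g
  have hφμ : φ μ = 1 := by
    change Ideal.Quotient.mk 𝔧 (T.g μ) = 1
    rw [← map_one (Ideal.Quotient.mk 𝔧), Ideal.Quotient.eq]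
    exact hμ𝔧
  have hZ : Subgroup.zpowers μ ≤ φ.ker := by
    rw [Subgroup.zpowers_le]
    exact hφμ
  let g' : M ⧸ Subgroup.zpowers μ →* D ⧸ 𝔧 := QuotientGroup.lift (Subgroup.zpowers μ) φ hZ
  have hg' : ∀ m : M, g' (QuotientGroup.mk m) = Ideal.Quotient.mk 𝔧 (T.g m) := fun m => rfl
  have hε𝔧 : ∀ a ∈ 𝔧, T.ε a = 0 := by
    intro a ha
    have hle : 𝔧 ≤ RingHom.ker (T.ε : D →+* S) := by
      rw [h𝔧, Ideal.span_le]
      intro y hy
      rw [Set.mem_singleton_iff] at hy
      rw [hy, SetLike.mem_coe, RingHom.mem_ker]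
      change T.ε (T.g μ - 1) = 0
      rw [map_sub, T.hε, map_one, sub_self]
    exact (RingHom.mem_ker).1 (hle ha)
  let ε' : D ⧸ 𝔧 →ₐ[S] S := Ideal.Quotient.liftₐ 𝔧 T.ε hε𝔧
  have hψ𝔧 : ∀ n, 𝔧 ≤ 𝔧.comap (T.ψ n) := by
    intro n
    rw [h𝔧, Ideal.span_le]
    intro y hy
    rw [Set.mem_singleton_iff] at hy
    rw [hy, SetLike.mem_coe, Ideal.mem_comap, map_sub, T.hψ, map_one, Ideal.mem_span_singleton]
    simpa using sub_dvd_pow_sub_pow (T.g μ) 1 n
  let ψ' : ℕ → D ⧸ 𝔧 →ₐ[S] D ⧸ 𝔧 := fun n => Ideal.quotientMapₐ 𝔧 (T.ψ n) (hψ𝔧 n)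
  refine ⟨M ⧸ Subgroup.zpowers μ, inferInstance, QuotientGroup.mk' _,
    QuotientGroup.mk'_surjective _, ?_, D ⧸ 𝔧, inferInstance, inferInstance,
    ⟨ε', g', ψ', ?_, ?_, ?_, ?_, ?_⟩, ?_⟩
  · rw [QuotientGroup.mk'_apply, QuotientGroup.eq_one_iff]
    exact Subgroup.mem_zpowers μ
  · intro s hs
    exact (T.hunit s hs).map (Ideal.Quotient.mk 𝔧)
  · rw [eq_top_iff]
    rintro y -
    obtain ⟨d, rfl⟩ := Ideal.Quotient.mk_surjective y
    have hd : d ∈ Submodule.span S (Set.range T.g) := by rw [T.hspan]; exact Submodule.mem_top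
    refine Submodule.span_induction
      (p := fun d _ => Ideal.Quotient.mk 𝔧 d ∈ Submodule.span S (Set.range g')) ?_ ?_ ?_ ?_ hd
    · rintro _ ⟨m, rfl⟩
      exact Submodule.subset_span ⟨QuotientGroup.mk m, hg' m⟩
    · rw [map_zero]; exact Submodule.zero_mem _
    · intro a b _ _ ha hb
      rw [map_add]; exact Submodule.add_mem _ ha hb
    · intro s a _ ha
      have h1 : Ideal.Quotient.mk 𝔧 (s • a) = s • Ideal.Quotient.mk 𝔧 a :=
        map_smul (Ideal.Quotient.mkₐ S 𝔧) s a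
      rw [h1]; exact Submodule.smul_mem _ s ha
  · intro m'
    obtain ⟨m, rfl⟩ := QuotientGroup.mk_surjective m'
    rw [hg']
    change T.ε (T.g m) = 1
    exact T.hε m
  · intro n m'
    obtain ⟨m, rfl⟩ := QuotientGroup.mk_surjective m'
    rw [hg']
    change Ideal.Quotient.mk 𝔧 (T.ψ n (T.g m)) = _
    rw [T.hψ, map_pow]
  · intro m'
    obtain ⟨m, rfl⟩ := QuotientGroup.mk_surjective m'
    rw [hg']
    have h1 : Ideal.Quotient.mk 𝔧 (T.g m) - 1 = Ideal.Quotient.mk 𝔧 (T.g m - 1) := by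
      rw [map_sub, map_one]
    rw [h1]
    have h2 := Ideal.mem_map_of_mem (Ideal.Quotient.mk 𝔧) (T.hmem m)
    rw [Ideal.map_map] at h2
    exact h2
  · intro m hm
    rw [QuotientGroup.mk'_apply, hg', ← map_one (Ideal.Quotient.mk 𝔧), Ideal.Quotient.eq] at hm
    exact hm

theorem Setup.trivial {M₀ : Type u} [CommGroup M₀]
    (hwf : WellFounded (fun a b : Subgroup M₀ => b < a)) (N : Subgroup M₀) :
    ∀ (M : Type u) [CommGroup M] (q : M₀ →* M), Function.Surjective q → q.ker = N →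
      ∀ (D : Type u) [CommRing D] [Algebra S D] (T : Setup 𝔫 M D), ∀ m, T.g m = 1 := by
  induction N using hwf.induction with
  | _ N IH =>
  intro M _ q hq hN D _ _ T
  classical
  have hA : ∀ μ : M, μ ≠ 1 → ∀ m, T.g m - 1 ∈ Ideal.span {T.g μ - 1} := by
    intro μ hμ m
    obtain ⟨M', _, p, hp, hpμ, D', _, _, T', hT'⟩ := T.quot_step μ
    apply hT'
    have hlt : N < (p.comp q).ker := by
      rw [← hN]
      refine lt_of_le_of_ne ?_ ?_
      · intro y hy
        rw [MonoidHom.mem_ker] at hy ⊢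
        rw [MonoidHom.comp_apply, hy, map_one]
      · intro heq
        obtain ⟨x₀, hx₀⟩ := hq μ
        have h1 : x₀ ∈ (p.comp q).ker := by
          rw [MonoidHom.mem_ker, MonoidHom.comp_apply, hx₀, hpμ]
        rw [← heq, MonoidHom.mem_ker, hx₀] at h1
        exact hμ h1
    exact IH _ hlt M' (p.comp q) (hp.comp hq) rfl D' T' (p m)
  by_contra hne
  push_neg at hne
  obtain ⟨m₁, hm₁⟩ := hne
  have hm₁' : m₁ ≠ 1 := by
    rintro rfl
    exact hm₁ (map_one T.g)
  obtain ⟨x, hx⟩ : ∃ x : D, x = T.g m₁ - 1 := ⟨_, rfl⟩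
  have hx0 : x ≠ 0 := fun h => hm₁ (sub_eq_zero.1 (hx ▸ h))
  have hI : ∀ m, ∃ u, T.g m - 1 = x * u := by
    intro m
    have h1 := hA m₁ hm₁' m
    rw [Ideal.mem_span_singleton'] at h1
    obtain ⟨a, ha⟩ := h1
    exact ⟨a, by rw [← ha, hx, mul_comm]⟩
  have hxmem : x ∈ 𝔫 • Submodule.span S (Set.range T.g) := by
    rw [T.hspan, Ideal.smul_top_eq_map, hx]
    exact T.hmem m₁
  obtain ⟨c, hc𝔫, hcsum⟩ := (Submodule.mem_ideal_smul_span_iff_exists_sum 𝔫 T.g x).1 hxmem
  -- the relation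
  obtain ⟨r, hr⟩ : ∃ r : M →₀ S, r = Finsupp.single m₁ 1 - Finsupp.single 1 1 - c := ⟨_, rfl⟩
  have hr1 : r 1 = -(1 + c 1) := by
    rw [hr]
    simp [Finsupp.single_apply, hm₁']
    ring
  have hΛ : ∀ n : ℕ, Finsupp.linearCombination S (fun μ => T.g μ ^ n) r = 0 := by
    intro n
    have h1 : T.ψ n (Finsupp.linearCombination S (T.g : M → D) r) =
        Finsupp.linearCombination S (fun μ => T.g μ ^ n) r := by
      have h0 := Finsupp.apply_linearCombination (R := S) (T.ψ n).toLinearMap (T.g : M → D) r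
      rw [AlgHom.toLinearMap_apply] at h0
      rw [h0]
      have hv : (⇑(T.ψ n).toLinearMap ∘ (T.g : M → D)) = fun μ => T.g μ ^ n := by
        funext μ
        exact T.hψ n μ
      rw [hv]
    have h2 : Finsupp.linearCombination S (T.g : M → D) r = 0 := by
      rw [hr, map_sub, map_sub, Finsupp.linearCombination_single,
        Finsupp.linearCombination_single, one_smul, one_smul, map_one,
        Finsupp.linearCombination_apply, hcsum, hx]
      ring
    rw [← h1, h2, map_zero]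
  -- Vandermonde
  obtain ⟨F, hF⟩ : ∃ F : Finset M, F = insert 1 r.support := ⟨_, rfl⟩
  have h1F : (1 : M) ∈ F := by rw [hF]; exact Finset.mem_insert_self _ _
  have hsF : r.support ⊆ F := by rw [hF]; exact Finset.subset_insert _ _
  let σ : Fin F.card ≃ F := F.equivFin.symm
  let v : Fin F.card → D := fun i => T.g (σ i : M)
  let d : Fin F.card → D := fun i => algebraMap S D (r (σ i : M))
  have hsum : ∀ j : Fin F.card, ∑ i, d i * v i ^ (j : ℕ) = 0 := by
    intro j
    have h1 := hΛ (j : ℕ)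
    rw [Finsupp.linearCombination_apply,
      Finsupp.sum_of_support_subset r hsF (fun i a => a • T.g i ^ (j : ℕ))
        (fun i _ => zero_smul _ _)] at h1
    have h2 : ∑ i, d i * v i ^ (j : ℕ) = ∑ μ : F, algebraMap S D (r μ) * T.g μ ^ (j : ℕ) :=
      Equiv.sum_comp σ (fun μ : F => algebraMap S D (r μ) * T.g μ ^ (j : ℕ))
    rw [h2, Finset.sum_coe_sort F (fun μ => algebraMap S D (r μ) * T.g μ ^ (j : ℕ)), ← h1]
    refine Finset.sum_congr rfl fun μ _ => ?_
    rw [Algebra.smul_def]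
  have hkill := vandermonde_kill v d hsum (σ.symm ⟨1, h1F⟩)
  have hd0 : d (σ.symm ⟨1, h1F⟩) = algebraMap S D (r 1) := by
    show algebraMap S D (r ↑(σ (σ.symm ⟨1, h1F⟩))) = _
    rw [Equiv.apply_symm_apply]
  have hunit1 : IsUnit (algebraMap S D (r 1)) := by
    rw [hr1, map_neg]
    exact (T.hunit (1 + c 1) (by rw [add_sub_cancel_left]; exact hc𝔫 1)).neg
  rw [hd0] at hkill
  have hP := (hunit1.mul_left_eq_zero).1 hkill
  have hfac : ∀ a b : Fin F.card, a < b → ∃ w, x = (v b - v a) * w := by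
    intro a b hab
    have hne : (σ b : M) * (σ a : M)⁻¹ ≠ 1 := by
      intro h
      have h1 : (σ b : M) = σ a := mul_inv_eq_one.1 h
      have h2 : σ b = σ a := Subtype.ext h1
      exact (ne_of_gt hab) (σ.injective h2)
    have h3 := hA _ hne m₁
    rw [Ideal.mem_span_singleton'] at h3
    obtain ⟨w, hw⟩ := h3
    refine ⟨w * T.g ((σ a : M)⁻¹), ?_⟩
    have h4 : T.g (σ b : M) = T.g (σ a : M) * T.g ((σ b : M) * (σ a : M)⁻¹) := by
      rw [← map_mul, mul_comm (σ b : M), mul_inv_cancel_left]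
    have h5 : T.g (σ a : M) * T.g ((σ a : M)⁻¹) = 1 := by
      rw [← map_mul, mul_inv_cancel, map_one]
    show x = (T.g (σ b : M) - T.g (σ a : M)) * (w * T.g ((σ a : M)⁻¹))
    rw [hx, ← hw, h4]
    calc w * (T.g (↑(σ b) * (↑(σ a) : M)⁻¹) - 1)
        = (T.g (σ a : M) * T.g ((σ a : M)⁻¹)) * (w * (T.g (↑(σ b) * (↑(σ a) : M)⁻¹) - 1)) := by
          rw [h5, one_mul]
      _ = _ := by ring
  have hnil : ∃ L : ℕ, x ^ L = 0 := by
    choose! w hw using hfac
    refine ⟨∑ a : Fin F.card, (Finset.Ioi a).card, ?_⟩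
    have h1 : x ^ (∑ a : Fin F.card, (Finset.Ioi a).card) =
        ∏ a : Fin F.card, ∏ _b ∈ Finset.Ioi a, x := by
      rw [← Finset.prod_pow_eq_pow_sum]
      refine Finset.prod_congr rfl fun a _ => ?_
      rw [Finset.prod_const]
    have h2 : ∏ a : Fin F.card, ∏ _b ∈ Finset.Ioi a, x =
        ∏ a : Fin F.card, ∏ b ∈ Finset.Ioi a, ((v b - v a) * w a b) := by
      refine Finset.prod_congr rfl fun a _ => Finset.prod_congr rfl fun b hb => ?_
      exact hw a b (Finset.mem_Ioi.1 hb)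
    rw [h1, h2]
    simp only [Finset.prod_mul_distrib]
    rw [hP, zero_mul]
  -- the final step
  choose u hu using hI
  have hdecomp : ∀ c' : M →₀ S, (c'.sum fun μ a => a • T.g μ) =
      algebraMap S D (c'.sum fun _ a => a) + x * (c'.sum fun μ a => a • u μ) := by
    intro c'
    simp only [Finsupp.sum, map_sum, Finset.mul_sum]
    rw [← Finset.sum_add_distrib]
    refine Finset.sum_congr rfl fun μ _ => ?_
    have h1 : T.g μ = 1 + x * u μ := by rw [← hu μ]; ring
    rw [h1, smul_add, Algebra.smul_def, mul_one, mul_smul_comm]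
  have hεsum : ∀ c' : M →₀ S, T.ε (c'.sum fun μ a => a • T.g μ) = c'.sum fun _ a => a := by
    intro c'
    simp only [Finsupp.sum, map_sum, map_smul, T.hε, smul_eq_mul, mul_one]
  have hεx : T.ε x = 0 := by rw [hx, map_sub, T.hε, map_one, sub_self]
  have hker : ∀ y : D, T.ε y = 0 → ∃ w, y = x * w := by
    intro y hy
    have hy' : y ∈ Submodule.span S (Set.range T.g) := by rw [T.hspan]; exact Submodule.mem_top
    obtain ⟨c', hc'⟩ := (Finsupp.mem_span_range_iff_exists_finsupp).1 hy'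
    refine ⟨c'.sum fun μ a => a • u μ, ?_⟩
    have h1 := hεsum c'
    rw [hc', hy] at h1
    rw [← hc', hdecomp c', ← h1, map_zero, zero_add]
  have hsumc : (c.sum fun _ a => a) = 0 := by
    have h1 := hεsum c
    rw [hcsum, hεx] at h1
    exact h1.symm
  obtain ⟨z, hz⟩ : ∃ z : D, z = c.sum fun μ a => a • u μ := ⟨_, rfl⟩
  have hxz : x = x * z := by
    have h1 := hdecomp c
    rw [hcsum, hsumc, map_zero, zero_add, ← hz] at h1
    exact h1
  have hεz : T.ε z ∈ 𝔫 := by
    rw [hz]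
    simp only [Finsupp.sum, map_sum, map_smul, smul_eq_mul]
    exact Ideal.sum_mem _ fun μ _ => Ideal.mul_mem_right _ _ (hc𝔫 μ)
  obtain ⟨w, hw⟩ := hker (z - algebraMap S D (T.ε z)) (by simp)
  have hunitz : IsUnit (1 - z) := by
    have h1 : 1 - z = algebraMap S D (1 - T.ε z) + -(x * w) := by
      rw [← hw, map_sub, map_one]; ring
    rw [h1]
    have hu1 : IsUnit (algebraMap S D (1 - T.ε z)) := T.hunit _ (by
      have h2 : (1 - T.ε z) - 1 = -(T.ε z) := by ring
      rw [h2]; exact neg_mem hεz)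
    have hn1 : IsNilpotent (-(x * w)) := by
      obtain ⟨L, hL⟩ := hnil
      exact ⟨L, by rw [neg_pow, mul_pow, hL, zero_mul, mul_zero]⟩
    exact hn1.isUnit_add_left_of_commute hu1 (Commute.all _ _)
  apply hx0
  have h2 : x * (1 - z) = 0 := by rw [mul_sub, mul_one, ← hxz, sub_self]
  exact (hunitz.mul_left_eq_zero).1 h2

end Groth.Agent.Lib.Helper19.HopfVand
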