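import Mathlib
import Groth.Prelude.Def_Smoothing
import Groth.Agent.Lib.Helper19.IndSmoothSq

/-!
# Killing a finitely generated ideal `J ⊆ IB` with `φ(J) = 0` (square-zero, flat case)
-/

namespace Groth.Agent.Lib.Helper19.IndSmoothKill

open MvPolynomial Smoothing

universe u

section

variable {R Λ B : Type u} [CommRing R] [CommRing Λ] [Algebra R Λ] (I : Ideal R)
  (hI : I ^ 2 = ⊥) (h : Smoothing.IndSmooth (R ⧸ I) (Λ ⧸ I.map (algebraMap R Λ)))
  [CommRing B] [Algebra R B] [Algebra.Smooth R B] (φ : B →ₐ[R] Λ)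

include hI h in
theorem lemmaA {A'' : Type u} [CommRing A''] [Algebra R A''] [Algebra.FinitePresentation R A'']
    (ι : B →ₐ[R] A'') (φ'' : A'' →ₐ[R] Λ) (hφ : φ''.comp ι = φ) :
    ∃ (D : Type u) (_ : CommRing D) (_ : Algebra R D), Algebra.Smooth R D ∧
      ∃ (J' : Ideal D) (α : B →ₐ[R] D) (β : D →ₐ[R] Λ) (g : A'' →ₐ[R] D ⧸ J'),
        J' ≤ I.map (algebraMap R D) ∧ (∀ b, Ideal.Quotient.mk J' (α b) = g (ι b)) ∧
          ∀ b, β (α b) = φ b := by
  obtain ⟨D, _, _, hDsm, J', hJ'le, -, g, k, hkg⟩ := IndSmoothSq.main I hI h φ''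
  haveI := hDsm
  haveI : Algebra.FormallySmooth R B := (inferInstance : Algebra.Smooth R B).1
  have hID : (I.map (algebraMap R D)) ^ 2 = ⊥ := by rw [← Ideal.map_pow, hI, Ideal.map_bot]
  have hnil : IsNilpotent J' := ⟨2, by
    rw [Ideal.zero_eq_bot, ← le_bot_iff, ← hID]
    exact Ideal.pow_right_mono hJ'le 2⟩
  refine ⟨D, inferInstance, inferInstance, hDsm, J',
    Algebra.FormallySmooth.lift J' hnil (g.comp ι), k.comp (Ideal.Quotient.mkₐ R J'), g, hJ'le,
    fun b => ?_, fun b => ?_⟩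
  · exact Algebra.FormallySmooth.mk_lift J' hnil (g.comp ι) b
  · show k (Ideal.Quotient.mk J' (Algebra.FormallySmooth.lift J' hnil (g.comp ι) b)) = φ b
    rw [Algebra.FormallySmooth.mk_lift, ← hφ]
    exact AlgHom.congr_fun hkg (ι b)

include hI h in
theorem lemmaB (σ ρ : Type) [Finite σ] [Finite ρ] (relp : ρ → MvPolynomial σ B)
    (φp : MvPolynomial σ B →ₐ[R] Λ) (hφpC : ∀ b, φp (C b) = φ b)
    (hφprel : ∀ s, φp (relp s) = 0) :
    ∃ (D : Type u) (_ : CommRing D) (_ : Algebra R D), Algebra.Smooth R D ∧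
      ∃ (J' : Ideal D) (α : B →ₐ[R] D) (β : D →ₐ[R] Λ) (gp : MvPolynomial σ B →ₐ[R] D ⧸ J'),
        J' ≤ I.map (algebraMap R D) ∧ (∀ b, gp (C b) = Ideal.Quotient.mk J' (α b)) ∧
          (∀ s, gp (relp s) = 0) ∧ ∀ b, β (α b) = φ b := by
  classical
  haveI : Algebra.FinitePresentation R B := (inferInstance : Algebra.Smooth R B).2
  obtain ⟨𝔞, h𝔞⟩ : ∃ 𝔞 : Ideal (MvPolynomial σ B), 𝔞 = Ideal.span (Set.range relp) := ⟨_, rfl⟩
  have h𝔞fg : 𝔞.FG := by rw [h𝔞]; exact Submodule.fg_span (Set.finite_range relp)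
  haveI : Algebra.FinitePresentation R (MvPolynomial σ B ⧸ 𝔞) :=
    Algebra.FinitePresentation.quotient h𝔞fg
  have hmem : ∀ s, relp s ∈ 𝔞 := fun s => by rw [h𝔞]; exact Ideal.subset_span ⟨s, rfl⟩
  have hker : ∀ x ∈ 𝔞, φp x = 0 := by
    intro x hx
    have h6 : 𝔞 ≤ RingHom.ker φp.toRingHom := by
      rw [h𝔞]; exact Ideal.span_le.mpr (by rintro _ ⟨s, rfl⟩; exact hφprel s)
    exact h6 hx
  obtain ⟨D, _, _, hDsm, J', α, β, g, hJ'le, hαg, hβα⟩ := lemmaA I hI h φ
    ((Ideal.Quotient.mkₐ R 𝔞).comp (IsScalarTower.toAlgHom R B (MvPolynomial σ B)))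
    (Ideal.Quotient.liftₐ 𝔞 φp hker) (AlgHom.ext fun b => hφpC b)
  refine ⟨D, inferInstance, inferInstance, hDsm, J', α, β, g.comp (Ideal.Quotient.mkₐ R 𝔞),
    hJ'le, fun b => (hαg b).symm, fun s => ?_, hβα⟩
  show g (Ideal.Quotient.mk 𝔞 (relp s)) = 0
  rw [Ideal.Quotient.eq_zero_iff_mem.mpr (hmem s), map_zero]

include hI h in
theorem main [Module.Flat R Λ] (J : Ideal B) (hJ : J ≤ I.map (algebraMap R B)) (hJfg : J.FG)
    (hφJ : ∀ x ∈ J, φ x = 0) :
    ∃ (B' : Type u) (_ : CommRing B') (_ : Algebra R B'), Algebra.Smooth R B' ∧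
      ∃ (α : B →ₐ[R] B') (β : B' →ₐ[R] Λ), (∀ x ∈ J, α x = 0) ∧
        ∀ b : B, β (α b) - φ b ∈ I.map (algebraMap R Λ) := by
  classical
  obtain ⟨T, jj, hjj⟩ := Submodule.fg_iff_exists_fin_generating_family.mp hJfg
  have hjmem : ∀ t, jj t ∈ J := fun t => by rw [← hjj]; exact Submodule.subset_span ⟨t, rfl⟩
  have hdec : ∀ t, ∃ (K : ℕ) (be : Fin K → B) (i : Fin K → R), (∀ k, i k ∈ I) ∧
      jj t = ∑ k, be k * algebraMap R B (i k) := by
    intro t
    obtain ⟨K, ν, gk, hsum⟩ := Submodule.mem_span_set'.mp (hJ (hjmem t))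
    have h2 : ∀ k, ∃ i : R, i ∈ I ∧ algebraMap R B i = (gk k : B) := fun k => (gk k).2
    choose i hiI hi using h2
    refine ⟨K, ν, i, hiI, ?_⟩
    rw [← hsum]
    refine Finset.sum_congr rfl fun k _ => ?_
    rw [hi, smul_eq_mul]
  choose K be ii hiiI hjdec using hdec
  have hrel : ∀ t, ∑ k, ii t k • φ (be t k) = 0 := fun t => by
    have h3 := hφJ _ (hjmem t)
    rw [hjdec t, map_sum] at h3
    rw [← h3]
    refine Finset.sum_congr rfl fun k _ => ?_
    rw [map_mul, AlgHom.commutes, Algebra.smul_def, mul_comm]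
  have htriv : ∀ t, Module.IsTrivialRelation (ii t) (fun k => φ (be t k)) := fun t =>
    Module.Flat.isTrivialRelation_of_sum_smul_eq_zero (R := R) (M := Λ) (f := ii t)
      (x := fun k => φ (be t k)) (hrel t)
  choose kk a μ hμ0 ha using htriv
  have hμ : ∀ t k, φ (be t k) = ∑ j, a t k j • μ t j := fun t k => hμ0 t k
  -- the auxiliary algebra
  obtain ⟨D, _, _, hDsm, J', α, β, gp, hJ'le, hgpC, hgprel, hβα⟩ := lemmaB I hI h φ
    (Σ t : Fin T, Fin (kk t)) (Σ t : Fin T, Fin (K t))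
    (fun s => C (be s.1 s.2) - ∑ m, C (algebraMap R B (a s.1 s.2 m)) * X ⟨s.1, m⟩)
    (MvPolynomial.aevalTower φ (fun s => μ s.1 s.2)) (fun b => aevalTower_C _ _ b)
    (fun s => by
      rw [map_sub, map_sum, aevalTower_C, hμ s.1 s.2, sub_eq_zero]
      refine Finset.sum_congr rfl fun m _ => ?_
      rw [map_mul, aevalTower_C, aevalTower_X, AlgHom.commutes, Algebra.smul_def])
  have hID : (I.map (algebraMap R D)) ^ 2 = ⊥ := by rw [← Ideal.map_pow, hI, Ideal.map_bot]
  have hCalg : ∀ i : R, (C (algebraMap R B i) : MvPolynomial (Σ t : Fin T, Fin (kk t)) B) =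
      algebraMap R _ i := fun i => by
    rw [IsScalarTower.algebraMap_apply R B (MvPolynomial (Σ t : Fin T, Fin (kk t)) B),
      MvPolynomial.algebraMap_eq]
  have hαj : ∀ t, α (jj t) = 0 := by
    intro t
    choose c hc using fun m : Fin (kk t) =>
      Ideal.Quotient.mk_surjective (gp (X (⟨t, m⟩ : Σ t : Fin T, Fin (kk t))))
    have hd : ∀ k, α (be t k) - ∑ m, algebraMap R D (a t k m) * c m ∈ J' := by
      intro k
      rw [← Ideal.Quotient.eq, ← hgpC, map_sum]
      have h1 := hgprel ⟨t, k⟩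
      rw [map_sub, sub_eq_zero, map_sum] at h1
      rw [h1]
      refine Finset.sum_congr rfl fun m _ => ?_
      rw [map_mul, hCalg, AlgHom.commutes, map_mul, hc m]
      rfl
    rw [hjdec t, map_sum]
    have h2 : ∀ k, α (be t k * algebraMap R B (ii t k)) =
        (∑ m, algebraMap R D (a t k m) * c m) * algebraMap R D (ii t k) := by
      intro k
      rw [map_mul, AlgHom.commutes]
      have h3 : (α (be t k) - ∑ m, algebraMap R D (a t k m) * c m) *
          algebraMap R D (ii t k) = 0 := by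
        have h4 : (α (be t k) - ∑ m, algebraMap R D (a t k m) * c m) *
            algebraMap R D (ii t k) ∈ (I.map (algebraMap R D)) ^ 2 := by
          rw [pow_two]
          exact Ideal.mul_mem_mul (hJ'le (hd k)) (Ideal.mem_map_of_mem _ (hiiI t k))
        rw [hID] at h4
        exact h4
      rw [sub_mul, sub_eq_zero] at h3
      exact h3
    simp_rw [h2, Finset.sum_mul]
    rw [Finset.sum_comm]
    refine Finset.sum_eq_zero fun m _ => ?_
    have h5 : ∀ k, algebraMap R D (a t k m) * c m * algebraMap R D (ii t k) =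
        algebraMap R D (ii t k * a t k m) * c m := fun k => by rw [map_mul]; ring
    simp_rw [h5]
    rw [← Finset.sum_mul, ← map_sum, ha t m, map_zero, zero_mul]
  refine ⟨D, inferInstance, inferInstance, hDsm, α, β, ?_, fun b => ?_⟩
  · intro x hx
    have h6 : J ≤ RingHom.ker α.toRingHom := by
      rw [← hjj]
      exact Ideal.span_le.mpr (by rintro _ ⟨t, rfl⟩; exact hαj t)
    exact h6 hx
  · rw [hβα, sub_self]
    exact zero_mem _

end

end Groth.Agent.Lib.Helper19.IndSmoothKill
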