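import Mathlib

/-!
# Abstract local algebra for "completion of invariants under a decomposition group"

`TraceData f q'` packages a `B`-linear "trace" `Tr : S → B` along `f : B → S` together with an element
`x ∉ q'` such that `f (Tr (x w)) ≡ x w` modulo `q'` and, for `y ∈ q'`, `f (Tr (x^N y)) ≡ x^N y` modulo
`q'^2` for some `N`.  From this we deduce that `B_p → S_{q'}` (`p = f⁻¹ q'`) is surjective modulo every
power of the maximal ideal, with kernel the corresponding power of the maximal ideal of `B_p`.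
-/

set_option autoImplicit false
universe u

namespace Groth.Agent.Lib.Helper19.InvCompl

/-- Abstract trace data for a ring map `f : B → S` and a prime `q'` of `S`. -/
structure TraceData {B S : Type u} [CommRing B] [CommRing S] (f : B →+* S) (q' : Ideal S) where
  Tr : S → B
  x : S
  tr_zero : Tr 0 = 0
  tr_add : ∀ a b, Tr (a + b) = Tr a + Tr b
  tr_smul : ∀ b s, Tr (f b * s) = b * Tr s
  fg : q'.FG
  x_not_mem : x ∉ q'
  cong1 : ∀ w, f (Tr (x * w)) - x * w ∈ q'
  cong2 : ∀ y ∈ q', ∃ N : ℕ, f (Tr (x ^ N * y)) - x ^ N * y ∈ q' ^ 2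

namespace TraceData

variable {B S : Type u} [CommRing B] [CommRing S] {f : B →+* S} {q' : Ideal S} [q'.IsPrime]

theorem tr_not_mem (D : TraceData f q') (u : S) (hu : u ∉ q') :
    D.Tr (D.x * u) ∉ Ideal.comap f q' := by
  intro h
  rw [Ideal.mem_comap] at h
  have h1 := D.cong1 u
  have h2 : D.x * u ∈ q' := by
    have := q'.sub_mem h h1
    rwa [sub_sub_cancel] at this
  rcases Ideal.IsPrime.mem_or_mem ‹q'.IsPrime› h2 with h3 | h3
  · exact D.x_not_mem h3
  · exact hu h3

theorem lemA' (D : TraceData f q') (s u : S) :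
    s * f (D.Tr (D.x * u)) - f (D.Tr (D.x * s)) * u ∈ q' := by
  have h : s * f (D.Tr (D.x * u)) - f (D.Tr (D.x * s)) * u
      = s * (f (D.Tr (D.x * u)) - D.x * u) - (f (D.Tr (D.x * s)) - D.x * s) * u := by ring
  rw [h]
  exact q'.sub_mem (q'.mul_mem_left _ (D.cong1 u)) (q'.mul_mem_right _ (D.cong1 s))

theorem tr_mem (D : TraceData f q') (I : Ideal B) {s : S} (hs : s ∈ Ideal.map f I) :
    ∀ u : S, D.Tr (u * s) ∈ I := by
  have hs' : s ∈ Submodule.span S (f '' (I : Set B)) := hs
  clear hs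
  induction hs' using Submodule.span_induction with
  | mem y hy =>
    obtain ⟨c, hc, rfl⟩ := hy
    intro u
    rw [mul_comm, D.tr_smul]
    exact I.mul_mem_right _ hc
  | zero => intro u; rw [mul_zero, D.tr_zero]; exact I.zero_mem
  | add y z _ _ ihy ihz => intro u; rw [mul_add, D.tr_add]; exact I.add_mem (ihy u) (ihz u)
  | smul a y _ ih => intro u; rw [smul_eq_mul, ← mul_assoc]; exact ih (u * a)

theorem lemC (D : TraceData f q') (n : ℕ) (b : B) (s : S) (hs : s ∉ q')
    (h : s * f b ∈ Ideal.map f ((Ideal.comap f q') ^ n)) :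
    ∃ t, t ∉ Ideal.comap f q' ∧ t * b ∈ (Ideal.comap f q') ^ n := by
  refine ⟨D.Tr (D.x * s), D.tr_not_mem s hs, ?_⟩
  have h1 := D.tr_mem _ h D.x
  have h2 : D.x * (s * f b) = f b * (D.x * s) := by ring
  rw [h2, D.tr_smul, mul_comm] at h1
  exact h1

end TraceData

section Loc

variable {B S : Type u} [CommRing B] [CommRing S] (f : B →+* S) (q' : Ideal S) [q'.IsPrime]

local notation "Bp" => Localization.AtPrime (Ideal.comap f q')
local notation "Sq" => Localization.AtPrime q'
local notation "φ" => Localization.localRingHom (Ideal.comap f q') q' f rfl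
local notation "mB" => IsLocalRing.maximalIdeal (Localization.AtPrime (Ideal.comap f q'))
local notation "mS" => IsLocalRing.maximalIdeal (Localization.AtPrime q')

theorem phi_comp : (φ).comp (algebraMap B Bp) = (algebraMap S Sq).comp f :=
  RingHom.ext fun b => Localization.localRingHom_to_map (Ideal.comap f q') q' f rfl b

theorem map_phi_pow (n : ℕ) :
    Ideal.map φ (mB ^ n) = Ideal.map (algebraMap S Sq) (Ideal.map f ((Ideal.comap f q') ^ n)) := by
  rw [← Localization.AtPrime.map_eq_maximalIdeal, ← Ideal.map_pow, Ideal.map_map, Ideal.map_map,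
    phi_comp]

theorem map_phi_mB_le : Ideal.map φ mB ≤ mS := by
  rw [← Localization.AtPrime.map_eq_maximalIdeal, ← Localization.AtPrime.map_eq_maximalIdeal,
    Ideal.map_map, phi_comp, ← Ideal.map_map]
  exact Ideal.map_mono Ideal.map_comap_le

theorem claimA (D : TraceData f q') (s : Sq) : ∃ β : Bp, s - φ β ∈ mS := by
  obtain ⟨s0, u, rfl⟩ := IsLocalization.exists_mk'_eq q'.primeCompl s
  refine ⟨IsLocalization.mk' Bp (D.Tr (D.x * s0))
    (⟨D.Tr (D.x * (u : S)), D.tr_not_mem (u : S) u.2⟩ : (Ideal.comap f q').primeCompl), ?_⟩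
  rw [Localization.localRingHom_mk', ← IsLocalization.mk'_sub]
  exact (IsLocalization.AtPrime.mk'_mem_maximal_iff Sq q' _ _).mpr (D.lemA' s0 (u : S))

theorem mS_le (D : TraceData f q') : mS ≤ Ideal.map φ mB := by
  have hfg : (mS : Ideal Sq).FG := by
    rw [← Localization.AtPrime.map_eq_maximalIdeal]
    exact D.fg.map _
  refine Submodule.le_of_le_smul_of_le_jacobson_bot hfg (IsLocalRing.maximalIdeal_le_jacobson ⊥) ?_
  have key : Ideal.map (algebraMap S Sq) q' ≤ Ideal.map φ mB ⊔ mS • mS := by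
    rw [Ideal.map_le_iff_le_comap]
    intro y hy
    rw [Ideal.mem_comap]
    obtain ⟨N, hN⟩ := D.cong2 y hy
    have hv : D.x ^ N ∉ q' := fun h => D.x_not_mem (Ideal.IsPrime.mem_of_pow_mem ‹q'.IsPrime› N h)
    obtain ⟨b, hb⟩ : ∃ b : B, b = D.Tr (D.x ^ N * y) := ⟨_, rfl⟩
    rw [← hb] at hN
    have hbp : b ∈ Ideal.comap f q' := by
      rw [Ideal.mem_comap]
      have h1 : f b - D.x ^ N * y ∈ q' := Ideal.pow_le_self two_ne_zero hN
      have h2 : D.x ^ N * y ∈ q' := q'.mul_mem_left _ hy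
      have := q'.add_mem h1 h2
      rwa [sub_add_cancel] at this
    have hunit : IsUnit (algebraMap S Sq (D.x ^ N)) :=
      IsLocalization.map_units Sq (⟨D.x ^ N, hv⟩ : q'.primeCompl)
    refine (Ideal.unit_mul_mem_iff_mem _ hunit).mp ?_
    rw [← map_mul]
    have e : D.x ^ N * y = f b - (f b - D.x ^ N * y) := by ring
    rw [e, map_sub]
    refine Ideal.sub_mem _ (Ideal.mem_sup_left ?_) (Ideal.mem_sup_right ?_)
    · rw [← Localization.localRingHom_to_map (Ideal.comap f q') q' f rfl b]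
      apply Ideal.mem_map_of_mem
      rw [← Localization.AtPrime.map_eq_maximalIdeal]
      exact Ideal.mem_map_of_mem _ hbp
    · rw [Ideal.smul_eq_mul, ← pow_two, ← Localization.AtPrime.map_eq_maximalIdeal, ← Ideal.map_pow]
      exact Ideal.mem_map_of_mem _ hN
  exact le_trans (le_of_eq Localization.AtPrime.map_eq_maximalIdeal.symm) key

theorem mS_eq_map (D : TraceData f q') : mS = Ideal.map φ mB :=
  le_antisymm (mS_le f q' D) (map_phi_mB_le f q')

theorem pow_eq_map (D : TraceData f q') (n : ℕ) : mS ^ n = Ideal.map φ (mB ^ n) := by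
  rw [Ideal.map_pow, ← mS_eq_map f q' D]

theorem step (D : TraceData f q') (n : ℕ) {t : Sq} (ht : t ∈ Ideal.map φ (mB ^ n)) :
    ∃ γ : Bp, t - φ γ ∈ mS ^ (n + 1) := by
  have hle : mS ^ n = Ideal.map φ (mB ^ n) := pow_eq_map f q' D n
  have ht' : t ∈ Submodule.span Sq (φ '' ((mB ^ n : Ideal Bp) : Set Bp)) := ht
  clear ht
  induction ht' using Submodule.span_induction with
  | mem y hy =>
    obtain ⟨c, hc, rfl⟩ := hy
    exact ⟨c, by rw [sub_self]; exact Ideal.zero_mem _⟩
  | zero => exact ⟨0, by rw [map_zero, sub_zero]; exact Ideal.zero_mem _⟩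
  | add y z _ _ ihy ihz =>
    obtain ⟨γ1, h1⟩ := ihy
    obtain ⟨γ2, h2⟩ := ihz
    refine ⟨γ1 + γ2, ?_⟩
    have e : y + z - φ (γ1 + γ2) = (y - φ γ1) + (z - φ γ2) := by rw [map_add]; ring
    rw [e]; exact Ideal.add_mem _ h1 h2
  | smul a y hy ih =>
    obtain ⟨γ, hγ⟩ := ih
    obtain ⟨α, hα⟩ := claimA f q' D a
    have hy' : y ∈ mS ^ n := by rw [hle]; exact hy
    refine ⟨α * γ, ?_⟩
    have e : a • y - φ (α * γ) = (a - φ α) * y + φ α * (y - φ γ) := by
      rw [smul_eq_mul, map_mul]; ring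
    rw [e]
    refine Ideal.add_mem _ ?_ (Ideal.mul_mem_left _ _ hγ)
    rw [pow_succ']
    exact Ideal.mul_mem_mul hα hy'

theorem surj_aux (D : TraceData f q') (n : ℕ) : ∀ s : Sq, ∃ β : Bp, s - φ β ∈ mS ^ n := by
  induction n with
  | zero =>
    intro s
    exact ⟨0, by rw [pow_zero, Ideal.one_eq_top]; trivial⟩
  | succ n ih =>
    intro s
    obtain ⟨β, hβ⟩ := ih s
    have hmem : s - φ β ∈ Ideal.map φ (mB ^ n) := by
      rw [← pow_eq_map f q' D n]; exact hβ
    obtain ⟨γ, hγ⟩ := step f q' D n hmem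
    refine ⟨β + γ, ?_⟩
    rw [map_add, ← sub_sub]; exact hγ

theorem surj (D : TraceData f q') (n : ℕ) :
    Function.Surjective ((Ideal.Quotient.mk (mS ^ n)).comp φ) := by
  intro z
  obtain ⟨s, rfl⟩ := Ideal.Quotient.mk_surjective z
  obtain ⟨β, hβ⟩ := surj_aux f q' D n s
  refine ⟨β, ?_⟩
  rw [RingHom.comp_apply]
  exact (Ideal.Quotient.eq.mpr hβ).symm

theorem ker_eq (D : TraceData f q') (n : ℕ) : Ideal.comap φ (mS ^ n) = mB ^ n := by
  have hpow : mS ^ n = Ideal.map φ (mB ^ n) := pow_eq_map f q' D n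
  apply le_antisymm
  · intro β hβ
    rw [Ideal.mem_comap, hpow, map_phi_pow] at hβ
    obtain ⟨b, t, rfl⟩ := IsLocalization.exists_mk'_eq (Ideal.comap f q').primeCompl β
    rw [Localization.localRingHom_mk', IsLocalization.mk'_mem_iff,
      IsLocalization.mem_map_algebraMap_iff q'.primeCompl Sq] at hβ
    obtain ⟨x, hs⟩ := hβ
    rw [← map_mul, IsLocalization.eq_iff_exists q'.primeCompl Sq] at hs
    obtain ⟨c, hc⟩ := hs
    have hmem : ((c : S) * (x.2 : S)) * f b ∈ Ideal.map f ((Ideal.comap f q') ^ n) := by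
      have e : ((c : S) * (x.2 : S)) * f b = (c : S) * (x.1 : S) := by rw [← hc]; ring
      rw [e]; exact Ideal.mul_mem_left _ _ x.1.2
    have hcs : ((c : S) * (x.2 : S)) ∉ q' := q'.primeCompl.mul_mem c.2 x.2.2
    obtain ⟨t', ht', hmem'⟩ := D.lemC n b _ hcs hmem
    rw [IsLocalization.mk'_mem_iff, ← Localization.AtPrime.map_eq_maximalIdeal, ← Ideal.map_pow]
    have hunit : IsUnit (algebraMap B Bp t') :=
      IsLocalization.map_units Bp (⟨t', ht'⟩ : (Ideal.comap f q').primeCompl)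
    refine (Ideal.unit_mul_mem_iff_mem _ hunit).mp ?_
    rw [← map_mul]
    exact Ideal.mem_map_of_mem _ hmem'
  · rw [hpow]; exact Ideal.le_comap_map

end Loc

end Groth.Agent.Lib.Helper19.InvCompl
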