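import Mathlib
import Groth.Agent.Lib.Helper19.InvComplA

/-!
# Coset trace and norm for invariants of a finite group, and the resulting `TraceData`

`G` finite acting on `R`, `H ≤ G` containing the stabilizer of a prime `q`.  We build the coset trace
`R^H → R^G`, an `H`-invariant element `x ∉ q` all of whose conjugates by `σ ∉ H` lie in `q`, and check
(using prime avoidance, the norm, Artin–Rees) the hypotheses of `TraceData`.
-/

set_option autoImplicit false
universe u
open scoped Pointwise

namespace Groth.Agent.Lib.Helper19.InvCompl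

section Concrete

variable (G R : Type u) [Group G] [Finite G] [CommRing R] [MulSemiringAction G R] (H : Subgroup G)

/-- conjugate ideal `{x | g • x ∈ q}` -/
def cj (q : Ideal R) (g : G) : Ideal R := Ideal.comap (MulSemiringAction.toRingHom G R g) q

instance cj_isPrime (q : Ideal R) [q.IsPrime] (g : G) : (cj G R q g).IsPrime := by
  unfold cj; infer_instance

theorem mem_cj (q : Ideal R) (g : G) (x : R) : x ∈ cj G R q g ↔ g • x ∈ q := Iff.rfl

theorem mem_stabilizer_of_forall (q : Ideal R) (g : G) (hg : ∀ z ∈ q, g • z ∈ q) :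
    g ∈ MulAction.stabilizer G q := by
  rw [MulAction.mem_stabilizer_iff]
  have hpow : ∀ k : ℕ, ∀ z ∈ q, (g ^ k) • z ∈ q := by
    intro k
    induction k with
    | zero => intro z hz; rw [pow_zero, one_smul]; exact hz
    | succ k ih => intro z hz; rw [pow_succ, mul_smul]; exact ih _ (hg z hz)
  have hinv : ∀ z ∈ q, g⁻¹ • z ∈ q := by
    intro z hz
    have h1 : g ^ (orderOf g - 1) * g = 1 := by
      rw [pow_sub_one_mul (orderOf_pos g).ne', pow_orderOf_eq_one]
    have h2 : g ^ (orderOf g - 1) = g⁻¹ := eq_inv_of_mul_eq_one_left h1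
    rw [← h2]; exact hpow _ z hz
  ext z
  rw [Ideal.mem_pointwise_smul_iff_inv_smul_mem]
  constructor
  · intro h
    have := hg _ h
    rwa [smul_inv_smul] at this
  · exact hinv z

/-! ### conjugates by cosets -/

/-- the conjugate `c • w` of an `H`-invariant element `w` by a left coset `c`. -/
def cosetConj (w : FixedPoints.subring R H) (c : G ⧸ H) : R :=
  Quotient.liftOn' c (fun g : G => g • (w : R)) (fun a b hab => by
    have hab' : a⁻¹ * b ∈ H := QuotientGroup.leftRel_apply.mp hab
    have h1 : (a⁻¹ * b) • (w : R) = (w : R) := w.2 ⟨a⁻¹ * b, hab'⟩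
    show a • (w : R) = b • (w : R)
    calc a • (w : R) = a • ((a⁻¹ * b) • (w : R)) := by rw [h1]
      _ = b • (w : R) := by rw [smul_smul, mul_inv_cancel_left])

theorem cosetConj_mk (w : FixedPoints.subring R H) (g : G) :
    cosetConj G R H w (g : G ⧸ H) = g • (w : R) := rfl

theorem cosetConj_one (w : FixedPoints.subring R H) :
    cosetConj G R H w ((1 : G) : G ⧸ H) = (w : R) := by
  rw [cosetConj_mk, one_smul]

theorem cosetConj_zero (c : G ⧸ H) : cosetConj G R H 0 c = 0 := by
  refine QuotientGroup.induction_on c (fun g => ?_)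
  show g • (0 : R) = 0
  exact smul_zero _

theorem cosetConj_add (w1 w2 : FixedPoints.subring R H) (c : G ⧸ H) :
    cosetConj G R H (w1 + w2) c = cosetConj G R H w1 c + cosetConj G R H w2 c := by
  refine QuotientGroup.induction_on c (fun g => ?_)
  show g • ((w1 : R) + (w2 : R)) = g • (w1 : R) + g • (w2 : R)
  exact smul_add _ _ _

theorem cosetConj_mul (w1 w2 : FixedPoints.subring R H) (c : G ⧸ H) :
    cosetConj G R H (w1 * w2) c = cosetConj G R H w1 c * cosetConj G R H w2 c := by
  refine QuotientGroup.induction_on c (fun g => ?_)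
  show g • ((w1 : R) * (w2 : R)) = g • (w1 : R) * g • (w2 : R)
  exact smul_mul' _ _ _

theorem cosetConj_pow (w : FixedPoints.subring R H) (n : ℕ) (c : G ⧸ H) :
    cosetConj G R H (w ^ n) c = cosetConj G R H w c ^ n := by
  refine QuotientGroup.induction_on c (fun g => ?_)
  show g • ((w : R) ^ n) = (g • (w : R)) ^ n
  exact smul_pow' _ _ _

theorem cosetConj_incl (hle : FixedPoints.subring R G ≤ FixedPoints.subring R H)
    (b : FixedPoints.subring R G) (c : G ⧸ H) :
    cosetConj G R H (Subring.inclusion hle b) c = (b : R) := by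
  refine QuotientGroup.induction_on c (fun g => ?_)
  show g • (b : R) = (b : R)
  exact b.2 g

theorem smul_cosetConj (g : G) (w : FixedPoints.subring R H) (c : G ⧸ H) :
    g • cosetConj G R H w c = cosetConj G R H w (g • c) := by
  refine QuotientGroup.induction_on c (fun a => ?_)
  rw [MulAction.Quotient.smul_mk]
  exact (mul_smul g a (w : R)).symm

theorem cosetConj_of_ne (P : R → Prop) (x : FixedPoints.subring R H)
    (hx : ∀ σ : G, σ ∉ H → P (σ • (x : R))) (c : G ⧸ H) (hc : c ≠ ((1 : G) : G ⧸ H)) :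
    P (cosetConj G R H x c) := by
  revert hc
  refine QuotientGroup.induction_on c (fun σ hc => ?_)
  show P (σ • (x : R))
  apply hx
  intro hσ
  apply hc
  rw [QuotientGroup.eq, mul_one]
  exact H.inv_mem hσ

/-! ### the coset trace -/

section Trace

variable [Fintype (G ⧸ H)]

/-- the coset trace `R^H → R`, `w ↦ ∑_{c ∈ G/H} c • w`. -/
def cosetTrace (w : FixedPoints.subring R H) : R := ∑ c : G ⧸ H, cosetConj G R H w c

theorem smul_cosetTrace (g : G) (w : FixedPoints.subring R H) :
    g • cosetTrace G R H w = cosetTrace G R H w := by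
  unfold cosetTrace
  calc g • ∑ c : G ⧸ H, cosetConj G R H w c = ∑ c : G ⧸ H, g • cosetConj G R H w c :=
        Finset.smul_sum
    _ = ∑ c : G ⧸ H, cosetConj G R H w (g • c) :=
        Finset.sum_congr rfl (fun c _ => smul_cosetConj G R H g w c)
    _ = ∑ c : G ⧸ H, cosetConj G R H w c :=
        Equiv.sum_comp (MulAction.toPerm g) (fun c => cosetConj G R H w c)

/-- the coset trace `R^H → R^G`. -/
def trG (w : FixedPoints.subring R H) : FixedPoints.subring R G :=
  ⟨cosetTrace G R H w, fun g => smul_cosetTrace G R H g w⟩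

theorem cosetTrace_zero : cosetTrace G R H 0 = 0 := by
  unfold cosetTrace
  exact Finset.sum_eq_zero (fun c _ => cosetConj_zero G R H c)

theorem cosetTrace_add (w1 w2 : FixedPoints.subring R H) :
    cosetTrace G R H (w1 + w2) = cosetTrace G R H w1 + cosetTrace G R H w2 := by
  unfold cosetTrace
  rw [← Finset.sum_add_distrib]
  exact Finset.sum_congr rfl (fun c _ => cosetConj_add G R H w1 w2 c)

theorem cosetTrace_smul (hle : FixedPoints.subring R G ≤ FixedPoints.subring R H)
    (b : FixedPoints.subring R G) (w : FixedPoints.subring R H) :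
    cosetTrace G R H (Subring.inclusion hle b * w) = (b : R) * cosetTrace G R H w := by
  unfold cosetTrace
  rw [Finset.mul_sum]
  refine Finset.sum_congr rfl (fun c _ => ?_)
  rw [cosetConj_mul, cosetConj_incl]

theorem cosetTrace_sub_self [DecidableEq (G ⧸ H)] (w : FixedPoints.subring R H) :
    cosetTrace G R H w - (w : R)
      = ∑ c ∈ Finset.univ.erase ((1 : G) : G ⧸ H), cosetConj G R H w c := by
  unfold cosetTrace
  rw [Finset.sum_erase_eq_sub (Finset.mem_univ _), cosetConj_one]

theorem coe_incl_trG_sub [DecidableEq (G ⧸ H)]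
    (hle : FixedPoints.subring R G ≤ FixedPoints.subring R H) (v : FixedPoints.subring R H) :
    ((Subring.inclusion hle (trG G R H v) - v : FixedPoints.subring R H) : R)
      = ∑ c ∈ Finset.univ.erase ((1 : G) : G ⧸ H), cosetConj G R H v c := by
  rw [← cosetTrace_sub_self]
  rfl

end Trace

/-! ### the norm over `H` -/

section Norm

variable [Fintype H]

/-- the norm `a ↦ ∏_{h ∈ H} h • a`. -/
def normH (a : R) : R := ∏ h : H, (h : G) • a

theorem smul_normH (h' : H) (a : R) : (h' : G) • normH G R H a = normH G R H a := by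
  unfold normH
  calc (h' : G) • ∏ h : H, (h : G) • a = ∏ h : H, (h' : G) • ((h : G) • a) := Finset.smul_prod'
    _ = ∏ h : H, ((Equiv.mulLeft h' h : H) : G) • a :=
        Finset.prod_congr rfl (fun h _ => (smul_smul (h' : G) (h : G) a).trans rfl)
    _ = ∏ h : H, (h : G) • a := Equiv.prod_comp (Equiv.mulLeft h') (fun h : H => (h : G) • a)

end Norm

/-! ### prime avoidance -/

theorem exists_x0 (q : Ideal R) [q.IsPrime] (hD : MulAction.stabilizer G q ≤ H) :
    ∃ x0 : R, (∀ τ : G, τ ∉ H → τ • x0 ∈ q) ∧ (∀ h : G, h ∈ H → h • x0 ∉ q) := by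
  classical
  haveI : Fintype {τ : G // τ ∉ H} := Fintype.ofFinite _
  haveI : Fintype H := Fintype.ofFinite _
  obtain ⟨I, hI⟩ : ∃ I : Ideal R,
      I = (Finset.univ : Finset {τ : G // τ ∉ H}).inf (fun τ => cj G R q τ.1) := ⟨_, rfl⟩
  have hnot : ¬ ((I : Set R) ⊆
      ⋃ h ∈ ((Finset.univ : Finset H) : Set H), ((cj G R q (h : G) : Ideal R) : Set R)) := by
    intro hsub
    obtain ⟨h, -, hle⟩ := (Ideal.subset_union_prime (f := fun h : H => cj G R q (h : G))
      (1 : H) (1 : H) (fun h _ _ _ => cj_isPrime G R q (h : G))).mp hsub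
    rw [hI] at hle
    obtain ⟨τ, -, hτ⟩ := (Ideal.IsPrime.inf_le' (cj_isPrime G R q (h : G))).mp hle
    have hmem : (h : G) * τ.1⁻¹ ∈ MulAction.stabilizer G q := by
      apply mem_stabilizer_of_forall
      intro z hz
      have h0 : τ.1⁻¹ • z ∈ cj G R q τ.1 := by
        show τ.1 • (τ.1⁻¹ • z) ∈ q
        rwa [smul_inv_smul]
      have h3 : (h : G) • (τ.1⁻¹ • z) ∈ q := hτ h0
      rw [mul_smul]; exact h3
    have h1 := hD hmem
    have h2 : τ.1⁻¹ ∈ H := by
      have := H.mul_mem (H.inv_mem h.2) h1
      rwa [inv_mul_cancel_left] at this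
    exact τ.2 (H.inv_mem_iff.mp h2)
  obtain ⟨x0, hx0I, hx0U⟩ := Set.not_subset.mp hnot
  refine ⟨x0, fun τ hτ => ?_, fun h hh hmem => hx0U ?_⟩
  · have hle : I ≤ cj G R q τ := by
      rw [hI]
      exact Finset.inf_le (f := fun τ : {τ : G // τ ∉ H} => cj G R q τ.1)
        (Finset.mem_univ (⟨τ, hτ⟩ : {τ : G // τ ∉ H}))
    exact hle hx0I
  · exact Set.mem_biUnion (t := fun h : H => ((cj G R q (h : G) : Ideal R) : Set R))
      (x := (⟨h, hh⟩ : H)) (Finset.mem_coe.mpr (Finset.mem_univ _)) hmem

theorem exists_x (q : Ideal R) [q.IsPrime] (hD : MulAction.stabilizer G q ≤ H) :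
    ∃ x : FixedPoints.subring R H, (x : R) ∉ q ∧ ∀ σ : G, σ ∉ H → σ • (x : R) ∈ q := by
  classical
  haveI : Fintype H := Fintype.ofFinite _
  obtain ⟨x0, h1, h2⟩ := exists_x0 G R H q hD
  refine ⟨⟨normH G R H x0, fun h => smul_normH G R H h x0⟩, ?_, ?_⟩
  · intro hmem
    have hmem' : ∏ h : H, (h : G) • x0 ∈ q := hmem
    obtain ⟨h, -, hh⟩ := Ideal.IsPrime.prod_mem_iff.mp hmem'
    exact h2 h h.2 hh
  · intro σ hσ
    show σ • normH G R H x0 ∈ q
    unfold normH
    rw [Finset.smul_prod']
    refine Ideal.mem_of_dvd _ (Finset.dvd_prod_of_mem _ (Finset.mem_univ (1 : H))) ?_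
    simpa using h1 σ hσ

/-- "going down" for invariants: a prime `P` of `R` whose contraction to `R^H` contains `q ∩ R^H`
contains an `H`-conjugate of `q`. -/
theorem exists_cj_le (q : Ideal R) [q.IsPrime] (P : Ideal R) [P.IsPrime]
    (hP : ∀ y : FixedPoints.subring R H, (y : R) ∈ q → (y : R) ∈ P) :
    ∃ h : G, h ∈ H ∧ ∀ z : R, h • z ∈ q → z ∈ P := by
  classical
  haveI : Fintype H := Fintype.ofFinite _
  obtain ⟨I, hI⟩ : ∃ I : Ideal R,
      I = (Finset.univ : Finset H).inf (fun h => cj G R q (h : G)) := ⟨_, rfl⟩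
  by_cases hsub : ((I : Set R) ⊆
      ⋃ h ∈ ((Finset.univ : Finset H) : Set H), ((cj G R P (h : G) : Ideal R) : Set R))
  · obtain ⟨h', -, hle⟩ := (Ideal.subset_union_prime (f := fun h : H => cj G R P (h : G))
      (1 : H) (1 : H) (fun h _ _ _ => cj_isPrime G R P (h : G))).mp hsub
    rw [hI] at hle
    obtain ⟨h, -, hh⟩ := (Ideal.IsPrime.inf_le' (cj_isPrime G R P (h' : G))).mp hle
    refine ⟨(h : G) * (h' : G)⁻¹, H.mul_mem h.2 (H.inv_mem h'.2), fun z hz1 => ?_⟩
    have h0 : (h' : G)⁻¹ • z ∈ cj G R q (h : G) := by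
      show (h : G) • ((h' : G)⁻¹ • z) ∈ q
      rw [smul_smul]; exact hz1
    have h3 : (h' : G) • ((h' : G)⁻¹ • z) ∈ P := hh h0
    rwa [smul_inv_smul] at h3
  · exfalso
    obtain ⟨a, haI, haU⟩ := Set.not_subset.mp hsub
    have h1 : normH G R H a ∈ q := by
      unfold normH
      refine Ideal.mem_of_dvd _ (Finset.dvd_prod_of_mem _ (Finset.mem_univ (1 : H))) ?_
      have hle : I ≤ cj G R q ((1 : H) : G) := by
        rw [hI]
        exact Finset.inf_le (f := fun h : H => cj G R q (h : G)) (Finset.mem_univ (1 : H))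
      exact hle haI
    have h2 : normH G R H a ∈ P :=
      hP ⟨normH G R H a, fun h => smul_normH G R H h a⟩ h1
    have h2' : ∏ h : H, (h : G) • a ∈ P := h2
    obtain ⟨h, -, hh⟩ := Ideal.IsPrime.prod_mem_iff.mp h2'
    exact haU (Set.mem_biUnion (t := fun h : H => ((cj G R P (h : G) : Ideal R) : Set R))
      (x := h) (Finset.mem_coe.mpr (Finset.mem_univ _)) hh)

theorem smul_x_mem_radical (q : Ideal R) [q.IsPrime] (x : FixedPoints.subring R H)
    (hx : ∀ σ : G, σ ∉ H → σ • (x : R) ∈ q) (σ : G) (hσ : σ ∉ H) :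
    σ • (x : R) ∈ (Ideal.map (FixedPoints.subring R H).subtype
      (Ideal.comap (FixedPoints.subring R H).subtype q)).radical := by
  rw [Ideal.radical_eq_sInf, Ideal.mem_sInf]
  rintro P ⟨hle, hP⟩
  haveI := hP
  obtain ⟨h, hh, hhP⟩ := exists_cj_le G R H q P (fun y hy =>
    hle (Ideal.mem_map_of_mem (FixedPoints.subring R H).subtype
      (show y ∈ Ideal.comap (FixedPoints.subring R H).subtype q from hy)))
  apply hhP
  rw [smul_smul]
  refine hx (h * σ) (fun hmem => hσ ?_)
  have := H.mul_mem (H.inv_mem hh) hmem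
  rwa [inv_mul_cancel_left] at this

/-! ### finiteness and Artin–Rees -/

theorem finite_RH (hle : FixedPoints.subring R G ≤ FixedPoints.subring R H)
    [Module.Finite (FixedPoints.subring R G) R] : Module.Finite (FixedPoints.subring R H) R := by
  letI : Algebra (FixedPoints.subring R G) (FixedPoints.subring R H) :=
    (Subring.inclusion hle).toAlgebra
  haveI : IsScalarTower (FixedPoints.subring R G) (FixedPoints.subring R H) R :=
    IsScalarTower.of_algebraMap_eq (fun _ => rfl)
  exact Module.Finite.of_restrictScalars_finite (FixedPoints.subring R G)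
    (FixedPoints.subring R H) R

theorem isNoetherianRing_RH (hle : FixedPoints.subring R G ≤ FixedPoints.subring R H)
    [IsNoetherianRing (FixedPoints.subring R G)] [Module.Finite (FixedPoints.subring R G) R] :
    IsNoetherianRing (FixedPoints.subring R H) := by
  letI : Algebra (FixedPoints.subring R G) (FixedPoints.subring R H) :=
    (Subring.inclusion hle).toAlgebra
  haveI : IsScalarTower (FixedPoints.subring R G) (FixedPoints.subring R H) R :=
    IsScalarTower.of_algebraMap_eq (fun _ => rfl)
  haveI : IsNoetherian (FixedPoints.subring R G) R := isNoetherian_of_isNoetherianRing_of_finite _ _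
  haveI : IsNoetherian (FixedPoints.subring R G) (FixedPoints.subring R H) :=
    isNoetherian_of_injective
      (IsScalarTower.toAlgHom (FixedPoints.subring R G) (FixedPoints.subring R H) R).toLinearMap
      (fun a b hab => Subtype.ext hab)
  exact isNoetherian_of_tower (FixedPoints.subring R G)
    ‹IsNoetherian (FixedPoints.subring R G) (FixedPoints.subring R H)›

theorem exists_AR (hle : FixedPoints.subring R G ≤ FixedPoints.subring R H)
    [IsNoetherianRing (FixedPoints.subring R G)] [Module.Finite (FixedPoints.subring R G) R]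
    (I : Ideal (FixedPoints.subring R H)) :
    ∃ k : ℕ, ∀ n ≥ k, ∀ w : FixedPoints.subring R H,
      (w : R) ∈ (Ideal.map (FixedPoints.subring R H).subtype I) ^ n → w ∈ I ^ (n - k) := by
  haveI : IsNoetherianRing (FixedPoints.subring R H) := isNoetherianRing_RH G R H hle
  haveI : Module.Finite (FixedPoints.subring R H) R := finite_RH G R H hle
  obtain ⟨k, hk⟩ := Ideal.exists_pow_inf_eq_pow_smul I
    (LinearMap.range (Algebra.linearMap (FixedPoints.subring R H) R))
  refine ⟨k, fun n hn w hw => ?_⟩
  have h1 : (w : R) ∈ (I ^ n • (⊤ : Submodule (FixedPoints.subring R H) R)) ⊓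
      LinearMap.range (Algebra.linearMap (FixedPoints.subring R H) R) := by
    refine ⟨?_, ⟨w, rfl⟩⟩
    rw [Ideal.smul_top_eq_map]
    show (w : R) ∈ Ideal.map (algebraMap (FixedPoints.subring R H) R) (I ^ n)
    rw [Ideal.map_pow]
    exact hw
  rw [hk n hn] at h1
  have key : ∀ v ∈ I ^ (n - k) • ((I ^ k • (⊤ : Submodule (FixedPoints.subring R H) R)) ⊓
      LinearMap.range (Algebra.linearMap (FixedPoints.subring R H) R)),
      ∃ v' ∈ I ^ (n - k), (v' : R) = v := by
    intro v hv
    refine Submodule.smul_induction_on hv ?_ ?_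
    · rintro r hr _ ⟨-, ⟨m, rfl⟩⟩
      exact ⟨r * m, Ideal.mul_mem_right _ _ hr, (Algebra.smul_def r (m : R)).symm⟩
    · rintro v1 v2 ⟨v1', h1', rfl⟩ ⟨v2', h2', rfl⟩
      exact ⟨v1' + v2', Ideal.add_mem _ h1' h2', rfl⟩
  obtain ⟨v', hv', hv'eq⟩ := key _ h1
  have e : v' = w := Subtype.ext hv'eq
  rw [← e]; exact hv'

/-! ### assembling the trace data -/

theorem exists_traceData (q : Ideal R) [q.IsPrime]
    [IsNoetherianRing (FixedPoints.subring R G)] [Module.Finite (FixedPoints.subring R G) R]
    (hD : MulAction.stabilizer G q ≤ H)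
    (hle : FixedPoints.subring R G ≤ FixedPoints.subring R H) :
    Nonempty (TraceData (Subring.inclusion hle)
      (Ideal.comap (FixedPoints.subring R H).subtype q)) := by
  classical
  haveI : Fintype (G ⧸ H) := Fintype.ofFinite _
  obtain ⟨x, hxq, hx⟩ := exists_x G R H q hD
  haveI : IsNoetherianRing (FixedPoints.subring R H) := isNoetherianRing_RH G R H hle
  have hcong : ∀ v : FixedPoints.subring R H,
      ((Subring.inclusion hle (trG G R H v) - v : FixedPoints.subring R H) : R)
        = ∑ c ∈ Finset.univ.erase ((1 : G) : G ⧸ H), cosetConj G R H v c :=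
    coe_incl_trG_sub G R H hle
  refine ⟨{ Tr := trG G R H, x := x, tr_zero := ?_, tr_add := ?_, tr_smul := ?_, fg := ?_,
            x_not_mem := hxq, cong1 := ?_, cong2 := ?_ }⟩
  · exact Subtype.ext (cosetTrace_zero G R H)
  · intro a b; exact Subtype.ext (cosetTrace_add G R H a b)
  · intro b s; exact Subtype.ext (cosetTrace_smul G R H hle b s)
  · exact IsNoetherian.noetherian _
  · intro w
    show ((Subring.inclusion hle (trG G R H (x * w)) - x * w : FixedPoints.subring R H) : R) ∈ q
    rw [hcong]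
    refine Ideal.sum_mem _ (fun c hc => ?_)
    rw [cosetConj_mul]
    exact Ideal.mul_mem_right _ _
      (cosetConj_of_ne G R H (· ∈ q) x hx c (Finset.ne_of_mem_erase hc))
  · intro y hy
    haveI : IsNoetherianRing R := IsNoetherianRing.of_finite (FixedPoints.subring R G) R
    obtain ⟨M, hM⟩ := Ideal.exists_radical_pow_le_of_fg
      (Ideal.map (FixedPoints.subring R H).subtype
        (Ideal.comap (FixedPoints.subring R H).subtype q)) (IsNoetherian.noetherian _)
    obtain ⟨k, hk⟩ := exists_AR G R H hle (Ideal.comap (FixedPoints.subring R H).subtype q)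
    refine ⟨M * (k + 2), ?_⟩
    have hw : ((Subring.inclusion hle (trG G R H (x ^ (M * (k + 2)) * y))
        - x ^ (M * (k + 2)) * y : FixedPoints.subring R H) : R)
        ∈ (Ideal.map (FixedPoints.subring R H).subtype
          (Ideal.comap (FixedPoints.subring R H).subtype q)) ^ (k + 2) := by
      rw [hcong]
      refine Ideal.sum_mem _ (fun c hc => ?_)
      rw [cosetConj_mul, cosetConj_pow, pow_mul]
      refine Ideal.mul_mem_right _ _ (Ideal.pow_mem_pow (hM (Ideal.pow_mem_pow ?_ _)) _)
      exact cosetConj_of_ne G R H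
        (· ∈ (Ideal.map (FixedPoints.subring R H).subtype
          (Ideal.comap (FixedPoints.subring R H).subtype q)).radical) x
        (fun σ hσ => smul_x_mem_radical G R H q x hx σ hσ) c (Finset.ne_of_mem_erase hc)
    have := hk (k + 2) (Nat.le_add_right k 2) _ hw
    rwa [Nat.add_sub_cancel_left] at this

end Concrete

end Groth.Agent.Lib.Helper19.InvCompl
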