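import Mathlib

/-!
# Norm polynomials for finite group invariants (helper19)

For a finite group `G` acting on a ring `R` with invariants `S = R^G`, and an `S`-algebra `A`:
* `part1`: a `G`-invariant `b ∈ A ⊗[S] R` satisfies `(T - b)^|G| ∈ image of monic A[T]`;
* `part2`: `a ∈ ker (A → A ⊗[S] R)` satisfies `(T - a)^|G| = T^|G|`.
-/

set_option autoImplicit false
set_option linter.unusedSectionVars false
set_option linter.unusedVariables false
universe u v w w'

open Polynomial TensorProduct

namespace Groth.Agent.Lib.Helper19.InvPol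

section
variable {R : Type u} {G : Type v} [CommRing R] [Group G] [Fintype G] [MulSemiringAction G R]

/-- inclusion of the invariants -/
noncomputable abbrev incl : FixedPoints.subring R G →+* R := (FixedPoints.subring R G).subtype

lemma incl_injective : Function.Injective (incl (R := R) (G := G)) :=
  fun _ _ h => Subtype.ext h

/-- coefficientwise action -/
noncomputable def tau (ι : Type w) (σ : G) : MvPolynomial ι R →+* MvPolynomial ι R :=
  MvPolynomial.map (MulSemiringAction.toRingHom G R σ)

lemma tau_C (ι : Type w) (σ : G) (r : R) :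
    tau ι σ (MvPolynomial.C r) = MvPolynomial.C (σ • r) := by
  simp [tau]

lemma tau_X (ι : Type w) (σ : G) (i : ι) :
    tau ι σ (MvPolynomial.X i : MvPolynomial ι R) = MvPolynomial.X i := by
  simp [tau]

lemma tau_mul_apply (ι : Type w) (ρ σ : G) (p : MvPolynomial ι R) :
    tau ι (ρ * σ) p = tau ι ρ (tau ι σ p) := by
  have h : MulSemiringAction.toRingHom G R (ρ * σ) =
      (MulSemiringAction.toRingHom G R ρ).comp (MulSemiringAction.toRingHom G R σ) := by
    ext x
    simp [mul_smul]
  unfold tau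
  rw [MvPolynomial.map_map, h]

lemma tau_map_incl (ι : Type w) (σ : G) (p : MvPolynomial ι (FixedPoints.subring R G)) :
    tau ι σ (MvPolynomial.map incl p) = MvPolynomial.map incl p := by
  have h : (MulSemiringAction.toRingHom G R σ).comp (incl (R := R) (G := G)) = incl := by
    ext x
    exact x.2 σ
  unfold tau
  rw [MvPolynomial.map_map, h]

variable (G) in
/-- the norm polynomial -/
noncomputable def Pb {ι : Type w} (β : MvPolynomial ι R) : (MvPolynomial ι R)[X] :=
  ∏ σ : G, (X - C (tau ι σ β))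

lemma Pb_monic {ι : Type w} (β : MvPolynomial ι R) : (Pb G β).Monic :=
  monic_prod_of_monic _ _ (fun σ _ => monic_X_sub_C _)

lemma map_tau_Pb {ι : Type w} (ρ : G) (β : MvPolynomial ι R) :
    (Pb G β).map (tau ι ρ) = Pb G β := by
  unfold Pb
  rw [Polynomial.map_prod]
  simp only [Polynomial.map_sub, Polynomial.map_X, Polynomial.map_C, ← tau_mul_apply]
  exact Equiv.prod_comp (Equiv.mulLeft ρ) (fun σ => (X - C (tau ι σ β) : (MvPolynomial ι R)[X]))

lemma mem_range_of_fixed {ι : Type w} (p : MvPolynomial ι R) (hp : ∀ σ : G, tau ι σ p = p) :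
    p ∈ Set.range (MvPolynomial.map (incl (R := R) (G := G))) := by
  rw [MvPolynomial.mem_range_map_iff_coeffs_subset]
  intro c hc
  rw [Finset.mem_coe, MvPolynomial.mem_coeffs_iff] at hc
  obtain ⟨n, -, rfl⟩ := hc
  have hmem : p.coeff n ∈ FixedPoints.subring R G := by
    intro σ
    have := congrArg (MvPolynomial.coeff n) (hp σ)
    rwa [tau, MvPolynomial.coeff_map] at this
  exact ⟨⟨p.coeff n, hmem⟩, rfl⟩

lemma exists_Q {ι : Type w} (β : MvPolynomial ι R) :
    ∃ Q : (MvPolynomial ι (FixedPoints.subring R G))[X], Q.Monic ∧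
      Q.map (MvPolynomial.map incl) = Pb G β := by
  have h : Pb G β ∈
      (Polynomial.mapRingHom (MvPolynomial.map (σ := ι) (incl (R := R) (G := G)))).rangeS := by
    rw [Polynomial.mem_map_rangeS]
    intro n
    obtain ⟨q, hq⟩ := mem_range_of_fixed ((Pb G β).coeff n) (fun σ => by
      rw [← Polynomial.coeff_map, map_tau_Pb])
    exact RingHom.mem_rangeS.mpr ⟨q, hq⟩
  obtain ⟨Q, hQ⟩ := RingHom.mem_rangeS.mp h
  rw [Polynomial.coe_mapRingHom] at hQ
  refine ⟨Q, ?_, hQ⟩
  apply Polynomial.monic_of_injective (f := MvPolynomial.map (incl (R := R) (G := G)))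
  · exact MvPolynomial.map_injective _ incl_injective
  · rw [hQ]
    exact Pb_monic β

section eval
variable {ι : Type w} {κ : Type w'}

/-- evaluation of variables, over the invariants -/
noncomputable def evS (ℓ : ι → MvPolynomial κ (FixedPoints.subring R G)) :
    MvPolynomial ι (FixedPoints.subring R G) →+* MvPolynomial κ (FixedPoints.subring R G) :=
  MvPolynomial.eval₂Hom MvPolynomial.C ℓ

/-- evaluation of variables, over `R` -/
noncomputable def evR (ℓ : ι → MvPolynomial κ (FixedPoints.subring R G)) :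
    MvPolynomial ι R →+* MvPolynomial κ R :=
  MvPolynomial.eval₂Hom MvPolynomial.C (fun i => MvPolynomial.map incl (ℓ i))

lemma evR_comp_map (ℓ : ι → MvPolynomial κ (FixedPoints.subring R G)) :
    (evR ℓ).comp (MvPolynomial.map incl) = (MvPolynomial.map incl).comp (evS ℓ) := by
  apply MvPolynomial.ringHom_ext
  · intro s
    simp [evR, evS]
  · intro i
    simp [evR, evS]

lemma evR_tau (ℓ : ι → MvPolynomial κ (FixedPoints.subring R G)) (σ : G)
    (p : MvPolynomial ι R) : evR ℓ (tau ι σ p) = tau κ σ (evR ℓ p) := by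
  have h : (evR ℓ).comp (tau ι σ) = (tau κ σ).comp (evR ℓ) := by
    apply MvPolynomial.ringHom_ext
    · intro r
      simp [evR, tau]
    · intro i
      rw [RingHom.comp_apply, RingHom.comp_apply, tau_X]
      simp only [evR, MvPolynomial.eval₂Hom_X']
      exact (tau_map_incl κ σ (ℓ i)).symm
  exact RingHom.congr_fun h p

lemma map_evS_Q (β : MvPolynomial ι R) (Q : (MvPolynomial ι (FixedPoints.subring R G))[X])
    (hQ : Q.map (MvPolynomial.map incl) = Pb G β)
    (ℓ : ι → MvPolynomial κ (FixedPoints.subring R G)) :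
    (Q.map (evS ℓ)).map (MvPolynomial.map incl) = Pb G (evR ℓ β) := by
  rw [Polynomial.map_map, ← evR_comp_map, ← Polynomial.map_map, hQ]
  unfold Pb
  rw [Polynomial.map_prod]
  simp only [Polynomial.map_sub, Polynomial.map_X, Polynomial.map_C, evR_tau]

lemma evR_sum [Fintype ι] (ℓ : ι → MvPolynomial κ (FixedPoints.subring R G)) (r : ι → R) :
    evR ℓ (∑ i, MvPolynomial.X i * MvPolynomial.C (r i)) =
      ∑ i, MvPolynomial.map incl (ℓ i) * MvPolynomial.C (r i) := by
  simp [evR]

end eval

section tensor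
variable (A : Type w) [CommRing A] [Algebra (FixedPoints.subring R G) A]

/-- the action on the tensor product -/
noncomputable def gact (σ : G) :
    A ⊗[FixedPoints.subring R G] R →ₐ[FixedPoints.subring R G] A ⊗[FixedPoints.subring R G] R :=
  Algebra.TensorProduct.map (AlgHom.id (FixedPoints.subring R G) A)
    (MulSemiringAction.toAlgHom (FixedPoints.subring R G) R σ)

/-- evaluation `x_(a,r) ↦ a ⊗ 1` -/
noncomputable def phi : MvPolynomial (A × R) R →+* A ⊗[FixedPoints.subring R G] R :=
  MvPolynomial.eval₂Hom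
    ((Algebra.TensorProduct.includeRight :
      R →ₐ[FixedPoints.subring R G] A ⊗[FixedPoints.subring R G] R) :
      R →+* A ⊗[FixedPoints.subring R G] R)
    (fun p => p.1 ⊗ₜ 1)

/-- evaluation `x_(a,r) ↦ a` -/
noncomputable def psi : MvPolynomial (A × R) (FixedPoints.subring R G) →+* A :=
  MvPolynomial.eval₂Hom (algebraMap (FixedPoints.subring R G) A) (fun p => p.1)

lemma one_tmul_coe (s : FixedPoints.subring R G) :
    (1 : A) ⊗ₜ[FixedPoints.subring R G] ((s : R)) =
      (algebraMap (FixedPoints.subring R G) A s) ⊗ₜ[FixedPoints.subring R G] (1 : R) := by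
  rw [Algebra.algebraMap_eq_smul_one, TensorProduct.smul_tmul]
  congr 1
  rw [Subring.smul_def, smul_eq_mul, mul_one]

lemma phi_comp_map :
    (phi (R := R) (G := G) A).comp (MvPolynomial.map (incl (R := R) (G := G))) =
      (algebraMap A (A ⊗[FixedPoints.subring R G] R)).comp (psi A) := by
  apply MvPolynomial.ringHom_ext
  · intro s
    simp only [RingHom.comp_apply, MvPolynomial.map_C, phi, psi, MvPolynomial.eval₂Hom_C,
      Algebra.TensorProduct.algebraMap_apply, Algebra.algebraMap_self_apply]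
    exact one_tmul_coe A s
  · intro p
    simp only [RingHom.comp_apply, MvPolynomial.map_X, phi, psi, MvPolynomial.eval₂Hom_X',
      Algebra.TensorProduct.algebraMap_apply, Algebra.algebraMap_self_apply]

lemma phi_tau (σ : G) (p : MvPolynomial (A × R) R) :
    phi A (tau (A × R) σ p) = gact A σ (phi A p) := by
  have h : (phi (R := R) (G := G) A).comp (tau (A × R) σ) =
      ((gact A σ : A ⊗[FixedPoints.subring R G] R →ₐ[FixedPoints.subring R G] _) :
        A ⊗[FixedPoints.subring R G] R →+* A ⊗[FixedPoints.subring R G] R).comp (phi A) := by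
    apply MvPolynomial.ringHom_ext
    · intro r
      simp [phi, tau, gact]
    · intro q
      simp [phi, tau, gact]
  exact RingHom.congr_fun h p

lemma exists_list (b : A ⊗[FixedPoints.subring R G] R) :
    ∃ l : List (A × R), b = (l.map fun p => p.1 ⊗ₜ[FixedPoints.subring R G] p.2).sum := by
  induction b using TensorProduct.induction_on with
  | zero => exact ⟨[], by simp⟩
  | tmul a r => exact ⟨[(a, r)], by simp⟩
  | add x y hx hy =>
    obtain ⟨l₁, h₁⟩ := hx
    obtain ⟨l₂, h₂⟩ := hy
    exact ⟨l₁ ++ l₂, by rw [List.map_append, List.sum_append, ← h₁, ← h₂]⟩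

theorem part1 (b : A ⊗[FixedPoints.subring R G] R) (hb : ∀ σ : G, gact A σ b = b) :
    ∃ P : A[X], P.Monic ∧
      P.map (algebraMap A (A ⊗[FixedPoints.subring R G] R)) = (X - C b) ^ Fintype.card G := by
  obtain ⟨l, hl⟩ := exists_list A b
  obtain ⟨β, hβ⟩ : ∃ β : MvPolynomial (A × R) R,
      β = (l.map fun p => MvPolynomial.X p * MvPolynomial.C p.2).sum := ⟨_, rfl⟩
  have hφβ : phi A β = b := by
    rw [hβ, hl, map_list_sum, List.map_map]
    congr 1
    apply List.map_congr_left
    intro p _
    simp [phi]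
  obtain ⟨Q, hQm, hQ⟩ := exists_Q (G := G) β
  refine ⟨Q.map (psi A), hQm.map _, ?_⟩
  rw [Polynomial.map_map, ← phi_comp_map, ← Polynomial.map_map, hQ]
  unfold Pb
  rw [Polynomial.map_prod]
  simp only [Polynomial.map_sub, Polynomial.map_X, Polynomial.map_C, phi_tau, hφβ, hb,
    Finset.prod_const, Finset.card_univ]

lemma incl_apply (x : FixedPoints.subring R G) : incl x = (x : R) := rfl

theorem part2 (a : A) (ha : algebraMap A (A ⊗[FixedPoints.subring R G] R) a = 0) :
    (X - C a : A[X]) ^ Fintype.card G = X ^ Fintype.card G := by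
  classical
  have h0 : a ⊗ₜ[FixedPoints.subring R G] (1 : R) = 0 := by
    rw [← ha, Algebra.TensorProduct.algebraMap_apply, Algebra.algebraMap_self_apply]
  have h1 : (1 : R) ⊗ₜ[FixedPoints.subring R G] a = 0 := by
    have := congrArg (TensorProduct.comm (FixedPoints.subring R G) A R) h0
    rwa [TensorProduct.comm_tmul, map_zero] at this
  obtain ⟨P0, hP0⟩ : ∃ P0 : Submodule (FixedPoints.subring R G) R,
      P0 = Submodule.span (FixedPoints.subring R G) {(1 : R)} := ⟨_, rfl⟩
  have h1P : (1 : R) ∈ P0 := by rw [hP0]; exact Submodule.mem_span_singleton_self 1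
  have hfg : P0.FG := by rw [hP0]; exact Submodule.fg_span_singleton 1
  have heq : P0.subtype.rTensor A ((⟨1, h1P⟩ : P0) ⊗ₜ[FixedPoints.subring R G] a) =
      P0.subtype.rTensor A 0 := by
    rw [LinearMap.rTensor_tmul, map_zero]
    exact h1
  obtain ⟨Q, hQfg, hle, hQ⟩ := hfg.exists_rTensor_fg_inclusion_eq heq
  rw [LinearMap.rTensor_tmul, map_zero] at hQ
  obtain ⟨T, hT⟩ := hQfg
  have h1Q : (1 : R) ∈ Q := hle h1P
  have hTQ : ∀ t : R, t ∈ T → t ∈ Q := fun t ht => by
    rw [← hT]; exact Submodule.subset_span (Finset.mem_coe.mpr ht)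
  obtain ⟨m, hm_def⟩ : ∃ m : Option T → Q,
      m = fun o => o.elim ⟨1, h1Q⟩ (fun t => ⟨t.1, hTQ t.1 t.2⟩) := ⟨_, rfl⟩
  obtain ⟨n, hn_def⟩ : ∃ n : Option T → A, n = fun o => o.elim a (fun _ => 0) := ⟨_, rfl⟩
  have hm0 : m none = ⟨1, h1Q⟩ := congrFun hm_def none
  have hms : ∀ t : T, m (some t) = ⟨t.1, hTQ t.1 t.2⟩ := fun t => congrFun hm_def (some t)
  have hn0 : n none = a := congrFun hn_def none
  have hns : ∀ t : T, n (some t) = 0 := fun t => congrFun hn_def (some t)
  have hsum : ∑ i, m i ⊗ₜ[FixedPoints.subring R G] n i =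
      (0 : Q ⊗[FixedPoints.subring R G] A) := by
    rw [Fintype.sum_option, hm0, hn0]
    simp only [hns, TensorProduct.tmul_zero, Finset.sum_const_zero, add_zero]
    exact hQ
  have hspan : Submodule.span (FixedPoints.subring R G) (Set.range m) = ⊤ := by
    apply Submodule.map_injective_of_injective Q.injective_subtype
    rw [Submodule.map_span, Submodule.map_subtype_top, ← Set.range_comp]
    apply le_antisymm
    · rw [Submodule.span_le]
      rintro _ ⟨i, rfl⟩
      exact (m i).2
    · refine le_trans (le_of_eq hT.symm) ?_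
      rw [Submodule.span_le]
      intro t ht
      apply Submodule.subset_span
      exact ⟨some ⟨t, Finset.mem_coe.mp ht⟩, by
        rw [Function.comp_apply, hms, Submodule.subtype_apply]⟩
  obtain ⟨k, c, y, hy, hc⟩ :=
    TensorProduct.vanishesTrivially_of_sum_tmul_eq_zero (FixedPoints.subring R G) hspan hsum
  have hcR : ∀ j, ∑ i, ((c i j : FixedPoints.subring R G) : R) * ((m i : Q) : R) = 0 := by
    intro j
    have h := congrArg Q.subtype (hc j)
    rw [map_sum, map_zero] at h
    rw [← h]
    refine Finset.sum_congr rfl (fun i _ => ?_)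
    rw [map_smul, Submodule.subtype_apply, Subring.smul_def, smul_eq_mul]
  obtain ⟨β₀, hβ₀⟩ : ∃ β₀ : MvPolynomial (Option T) R,
      β₀ = ∑ i, MvPolynomial.X i * MvPolynomial.C ((m i : Q) : R) := ⟨_, rfl⟩
  obtain ⟨Q₀, hQ₀m, hQ₀⟩ := exists_Q (G := G) β₀
  -- first evaluation
  obtain ⟨ℓ₁, hℓ₁⟩ : ∃ ℓ₁ : Option T → MvPolynomial (Fin k) (FixedPoints.subring R G),
      ℓ₁ = fun i => ∑ j, MvPolynomial.C (c i j) * MvPolynomial.X j := ⟨_, rfl⟩
  have hev1 : evR ℓ₁ β₀ = 0 := by
    rw [hβ₀, evR_sum]
    have e : ∀ i, MvPolynomial.map (incl (R := R) (G := G)) (ℓ₁ i) *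
        MvPolynomial.C ((m i : Q) : R) =
        ∑ j, MvPolynomial.C (((c i j : FixedPoints.subring R G) : R) * ((m i : Q) : R)) *
          MvPolynomial.X j := by
      intro i
      rw [hℓ₁]
      simp only [map_sum, map_mul, MvPolynomial.map_C, MvPolynomial.map_X, Finset.sum_mul,
        incl_apply]
      refine Finset.sum_congr rfl (fun j _ => ?_)
      ring
    simp only [e]
    rw [Finset.sum_comm]
    have e2 : ∀ j : Fin k, ∑ i, MvPolynomial.C (((c i j : FixedPoints.subring R G) : R) *
        ((m i : Q) : R)) * (MvPolynomial.X j : MvPolynomial (Fin k) R) = 0 := by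
      intro j
      rw [← Finset.sum_mul, ← map_sum, hcR j, map_zero, zero_mul]
    simp only [e2, Finset.sum_const_zero]
  -- second evaluation
  obtain ⟨ℓ₂, hℓ₂⟩ : ∃ ℓ₂ : Option T → MvPolynomial Unit (FixedPoints.subring R G),
      ℓ₂ = fun o => o.elim (MvPolynomial.X ()) (fun _ => 0) := ⟨_, rfl⟩
  have hℓ₂0 : ℓ₂ none = MvPolynomial.X () := congrFun hℓ₂ none
  have hℓ₂s : ∀ t : T, ℓ₂ (some t) = 0 := fun t => congrFun hℓ₂ (some t)
  have hev2 : evR ℓ₂ β₀ = MvPolynomial.X () := by
    rw [hβ₀, evR_sum, Fintype.sum_option, hℓ₂0, hm0]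
    simp only [hℓ₂s, map_zero, zero_mul, Finset.sum_const_zero, add_zero, MvPolynomial.map_X]
    rw [map_one, mul_one]
  have hinj1 : Function.Injective
      (Polynomial.map (MvPolynomial.map (σ := Fin k) (incl (R := R) (G := G)))) :=
    Polynomial.map_injective _ (MvPolynomial.map_injective _ incl_injective)
  have hinj2 : Function.Injective
      (Polynomial.map (MvPolynomial.map (σ := Unit) (incl (R := R) (G := G)))) :=
    Polynomial.map_injective _ (MvPolynomial.map_injective _ incl_injective)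
  have h1' : Q₀.map (evS ℓ₁) = X ^ Fintype.card G := by
    apply hinj1
    rw [map_evS_Q β₀ Q₀ hQ₀ ℓ₁, hev1, Polynomial.map_pow, Polynomial.map_X]
    simp [Pb]
  have h2' : Q₀.map (evS ℓ₂) = (X - C (MvPolynomial.X ())) ^ Fintype.card G := by
    apply hinj2
    rw [map_evS_Q β₀ Q₀ hQ₀ ℓ₂, hev2, Polynomial.map_pow, Polynomial.map_sub, Polynomial.map_X,
      Polynomial.map_C, MvPolynomial.map_X]
    simp [Pb, tau_X]
  obtain ⟨θ, hθ⟩ : ∃ θ : MvPolynomial (Option T) (FixedPoints.subring R G) →+* A,
      θ = MvPolynomial.eval₂Hom (algebraMap (FixedPoints.subring R G) A) n := ⟨_, rfl⟩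
  have hθ1 : θ = (MvPolynomial.eval₂Hom (algebraMap (FixedPoints.subring R G) A) y).comp
      (evS ℓ₁) := by
    rw [hθ]
    apply MvPolynomial.ringHom_ext
    · intro s
      simp [evS]
    · intro i
      rw [RingHom.comp_apply]
      simp only [evS, MvPolynomial.eval₂Hom_X']
      rw [hℓ₁]
      simp only [map_sum, map_mul, MvPolynomial.eval₂Hom_C, MvPolynomial.eval₂Hom_X']
      rw [hy i]
      refine Finset.sum_congr rfl (fun j _ => ?_)
      rw [Algebra.smul_def]
  have hθ2 : θ = (MvPolynomial.eval₂Hom (algebraMap (FixedPoints.subring R G) A)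
      (fun _ : Unit => a)).comp (evS ℓ₂) := by
    rw [hθ]
    apply MvPolynomial.ringHom_ext
    · intro s
      simp [evS]
    · intro i
      rw [RingHom.comp_apply]
      simp only [evS, MvPolynomial.eval₂Hom_X']
      cases i with
      | none => rw [hℓ₂0, hn0, MvPolynomial.eval₂Hom_X']
      | some t => rw [hℓ₂s, hns, map_zero]
  have e1 : Q₀.map θ = X ^ Fintype.card G := by
    rw [hθ1, ← Polynomial.map_map, h1', Polynomial.map_pow, Polynomial.map_X]
  have e2 : Q₀.map θ = (X - C a) ^ Fintype.card G := by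
    rw [hθ2, ← Polynomial.map_map, h2', Polynomial.map_pow, Polynomial.map_sub, Polynomial.map_X,
      Polynomial.map_C, MvPolynomial.eval₂Hom_X']
  rw [← e2, e1]

end tensor

end

end Groth.Agent.Lib.Helper19.InvPol
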