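import Mathlib
import Groth.Agent.Lib.Helper19.DoubleHtpy
import Groth.Prelude.Def_SheafNL

/-!
# Naive cotangent complexes of two extensions are homotopy equivalent (helper19)

`homotopyEquiv u u'`: for morphisms of extensions `u : P → Q`, `u' : Q → P` of `S` over `R`,
`NLCx.map u : NLCx.cx P ⟶ NLCx.cx Q` is a homotopy equivalence.
-/

set_option autoImplicit false
universe u

open CategoryTheory HomologicalComplex Algebra.Extension

namespace Groth.Agent.Lib.Helper19.NLHtpy

open Groth.Agent.Lib.Helper19.DoubleHtpy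

variable {R S : Type u} [CommRing R] [CommRing S] [Algebra R S]
  {P Q : Algebra.Extension.{u} R S}

theorem map_f₀ (u : P.Hom Q) : (NLCx.map u).f (-1) =
    (doubleXIso₀ (ModuleCat.ofHom P.cotangentComplex) rel).hom ≫
      ModuleCat.ofHom (Cotangent.map u) ≫
        (doubleXIso₀ (ModuleCat.ofHom Q.cotangentComplex) rel).inv := by
  unfold NLCx.map
  exact HomologicalComplex.mkHomFromDouble_f₀ _ _ _ _ _ _

theorem map_f₁ (u : P.Hom Q) : (NLCx.map u).f 0 =
    (doubleXIso₁ (ModuleCat.ofHom P.cotangentComplex) rel ne).hom ≫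
      ModuleCat.ofHom (CotangentSpace.map u) ≫
        (doubleXIso₁ (ModuleCat.ofHom Q.cotangentComplex) rel ne).inv := by
  unfold NLCx.map
  exact HomologicalComplex.mkHomFromDouble_f₁ _ _ _ _ _ _

theorem e₀ (u : P.Hom Q) (u' : Q.Hom P) :
    ModuleCat.ofHom (Cotangent.map u) ≫ ModuleCat.ofHom (Cotangent.map u') =
      ModuleCat.ofHom P.cotangentComplex ≫
        ModuleCat.ofHom ((u'.comp u).sub (Algebra.Extension.Hom.id P)) + 𝟙 _ := by
  refine ModuleCat.hom_ext (LinearMap.ext fun x => ?_)
  have h1 := congr($(Cotangent.map_sub_map (u'.comp u) (Algebra.Extension.Hom.id P)) x)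
  rw [Cotangent.map_comp, Cotangent.map_id] at h1
  simp only [LinearMap.sub_apply, LinearMap.comp_apply, LinearMap.restrictScalars_apply,
    LinearMap.id_apply] at h1
  have h2 := eq_add_of_sub_eq h1
  show Cotangent.map u' (Cotangent.map u x) =
    ((u'.comp u).sub (Algebra.Extension.Hom.id P)) (P.cotangentComplex x) + x
  exact h2

theorem e₁ (u : P.Hom Q) (u' : Q.Hom P) :
    ModuleCat.ofHom (CotangentSpace.map u) ≫ ModuleCat.ofHom (CotangentSpace.map u') =
      ModuleCat.ofHom ((u'.comp u).sub (Algebra.Extension.Hom.id P)) ≫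
        ModuleCat.ofHom P.cotangentComplex + 𝟙 _ := by
  refine ModuleCat.hom_ext (LinearMap.ext fun x => ?_)
  have h1 := congr($(CotangentSpace.map_sub_map (u'.comp u) (Algebra.Extension.Hom.id P)) x)
  rw [CotangentSpace.map_comp, CotangentSpace.map_id] at h1
  simp only [LinearMap.sub_apply, LinearMap.comp_apply, LinearMap.restrictScalars_apply,
    LinearMap.id_apply] at h1
  have h2 := eq_add_of_sub_eq h1
  show CotangentSpace.map u' (CotangentSpace.map u x) =
    P.cotangentComplex (((u'.comp u).sub (Algebra.Extension.Hom.id P)) x) + x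
  exact h2

noncomputable def htpy (u : P.Hom Q) (u' : Q.Hom P) :
    Homotopy (NLCx.map u ≫ NLCx.map u') (𝟙 (NLCx.cx P)) :=
  homotopyOfDouble (f := ModuleCat.ofHom P.cotangentComplex)
    (f' := ModuleCat.ofHom P.cotangentComplex) _ _
    (ModuleCat.ofHom ((u'.comp u).sub (Algebra.Extension.Hom.id P)))
    (by
      rw [HomologicalComplex.comp_f, HomologicalComplex.id_f, map_f₀, map_f₀]
      dsimp only [NLCx.cx]
      calc _ = (doubleXIso₀ (ModuleCat.ofHom P.cotangentComplex) rel).hom ≫
            (ModuleCat.ofHom (Cotangent.map u) ≫ ModuleCat.ofHom (Cotangent.map u')) ≫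
              (doubleXIso₀ (ModuleCat.ofHom P.cotangentComplex) rel).inv := by simp
        _ = _ := by
          rw [e₀]
          simp [Preadditive.add_comp, Preadditive.comp_add])
    (by
      rw [HomologicalComplex.comp_f, HomologicalComplex.id_f, map_f₁, map_f₁]
      dsimp only [NLCx.cx]
      calc _ = (doubleXIso₁ (ModuleCat.ofHom P.cotangentComplex) rel ne).hom ≫
            (ModuleCat.ofHom (CotangentSpace.map u) ≫ ModuleCat.ofHom (CotangentSpace.map u')) ≫
              (doubleXIso₁ (ModuleCat.ofHom P.cotangentComplex) rel ne).inv := by simp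
        _ = _ := by
          rw [e₁]
          simp [Preadditive.add_comp, Preadditive.comp_add])

/-- `NLCx.map u` is a homotopy equivalence when there is a morphism of extensions back. -/
noncomputable def homotopyEquiv (u : P.Hom Q) (u' : Q.Hom P) :
    HomotopyEquiv (NLCx.cx P) (NLCx.cx Q) where
  hom := NLCx.map u
  inv := NLCx.map u'
  homotopyHomInvId := htpy u u'
  homotopyInvHomId := htpy u' u

end Groth.Agent.Lib.Helper19.NLHtpy
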