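import Mathlib
import Groth.Agent.Lib.Helper19.NLHtpy

/-!
# The Jacobian determinant kills `Ext¹(NL, -)` (helper19)

For a presentation `Pr` of `S` over `R` with finitely many relations indexed by `σ` and a map
`u : σ → ι` selecting variables, the adjugate of the Jacobian matrix gives a map
`hmap : S ⊗ Ω → I/I²` with `hmap ∘ d = det • id`; if `u` is surjective also `d ∘ hmap = det • id`.
On the two-term model `K E` of the naive cotangent complex this gives a homotopy between
`det • 𝟙` and a map factoring through the degree-`0` term.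
-/

set_option autoImplicit false
universe u
open CategoryTheory

namespace Groth.Agent.Lib.Helper19.JacNL

open Groth.Agent.Lib.Helper19.DoubleHtpy

section Algebra

variable {R S : Type u} [CommRing R] [CommRing S] [Algebra R S] {ι σ : Type} [Fintype σ]
  [DecidableEq σ] (Pr : Algebra.Presentation R S ι σ) (u : σ → ι)

lemma adj_mul_apply (M : Matrix σ σ S) (k j : σ) :
    ∑ i', M.adjugate k i' * M i' j = if k = j then M.det else 0 := by
  have h := congrFun (congrFun (Matrix.adjugate_mul M) k) j
  rw [Matrix.mul_apply, Matrix.smul_apply, Matrix.one_apply, smul_eq_mul, mul_ite, mul_one,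
    mul_zero] at h
  exact h

lemma mul_adj_apply (M : Matrix σ σ S) (l i : σ) :
    ∑ k, M l k * M.adjugate k i = if l = i then M.det else 0 := by
  have h := congrFun (congrFun (Matrix.mul_adjugate M) l) i
  rw [Matrix.mul_apply, Matrix.smul_apply, Matrix.one_apply, smul_eq_mul, mul_ite, mul_one,
    mul_zero] at h
  exact h

/-- the Jacobian matrix over `S` -/
noncomputable def jac : Matrix σ σ S := fun i j =>
  MvPolynomial.aeval Pr.val (MvPolynomial.pderiv (u i) (Pr.relation j))

/-- class of the `j`-th relation in `I/I²` -/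
noncomputable def fbar (j : σ) : Pr.toExtension.Cotangent :=
  Algebra.Extension.Cotangent.mk ⟨Pr.relation j, Pr.relation_mem_ker j⟩

theorem repr_cc_fbar (k : σ) (l : ι) :
    Pr.cotangentSpaceBasis.repr (Pr.toExtension.cotangentComplex (fbar Pr k)) l =
      MvPolynomial.aeval Pr.val (MvPolynomial.pderiv l (Pr.relation k)) := by
  rw [fbar, Algebra.Extension.cotangentComplex_mk]
  exact Pr.cotangentSpaceBasis_repr_one_tmul _ _

/-- the adjugate map `S ⊗ Ω → I/I²` -/
noncomputable def hmap : Pr.toExtension.CotangentSpace →ₗ[S] Pr.toExtension.Cotangent :=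
  (Fintype.linearCombination S
    (fun i' : σ => ∑ k, (jac Pr u).adjugate k i' • fbar Pr k)).comp
    (LinearMap.pi (fun i' : σ => (Finsupp.lapply (u i') : (ι →₀ S) →ₗ[S] S).comp
      Pr.cotangentSpaceBasis.repr.toLinearMap))

lemma hmap_apply (y : Pr.toExtension.CotangentSpace) : hmap Pr u y =
    ∑ i', Pr.cotangentSpaceBasis.repr y (u i') • ∑ k, (jac Pr u).adjugate k i' • fbar Pr k := by
  rw [hmap, LinearMap.comp_apply, Fintype.linearCombination_apply]
  rfl

theorem hmap_cc_fbar (j : σ) :
    hmap Pr u (Pr.toExtension.cotangentComplex (fbar Pr j)) = (jac Pr u).det • fbar Pr j := by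
  rw [hmap_apply]
  have h1 : ∀ i' : σ, Pr.cotangentSpaceBasis.repr
      (Pr.toExtension.cotangentComplex (fbar Pr j)) (u i') = jac Pr u i' j :=
    fun i' => repr_cc_fbar Pr j (u i')
  calc ∑ i', Pr.cotangentSpaceBasis.repr (Pr.toExtension.cotangentComplex (fbar Pr j)) (u i') •
        ∑ k, (jac Pr u).adjugate k i' • fbar Pr k
      = ∑ i', ∑ k, (jac Pr u i' j * (jac Pr u).adjugate k i') • fbar Pr k := by
        refine Finset.sum_congr rfl fun i' _ => ?_
        rw [h1 i', Finset.smul_sum]
        refine Finset.sum_congr rfl fun k _ => ?_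
        rw [smul_smul]
    _ = ∑ k, ∑ i', (jac Pr u i' j * (jac Pr u).adjugate k i') • fbar Pr k := Finset.sum_comm
    _ = ∑ k, (∑ i', (jac Pr u).adjugate k i' * jac Pr u i' j) • fbar Pr k := by
        refine Finset.sum_congr rfl fun k _ => ?_
        rw [Finset.sum_smul]
        refine Finset.sum_congr rfl fun i' _ => ?_
        rw [mul_comm]
    _ = ∑ k, (if k = j then (jac Pr u).det else 0) • fbar Pr k := by
        refine Finset.sum_congr rfl fun k _ => ?_
        rw [adj_mul_apply]
    _ = (jac Pr u).det • fbar Pr j := by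
        rw [Finset.sum_eq_single j]
        · rw [if_pos rfl]
        · intro k _ hk
          rw [if_neg hk, zero_smul]
        · intro h
          exact absurd (Finset.mem_univ j) h

theorem hmap_cc (x : Pr.toExtension.Cotangent) :
    hmap Pr u (Pr.toExtension.cotangentComplex x) = (jac Pr u).det • x := by
  obtain ⟨⟨y, hy⟩, rfl⟩ := Algebra.Extension.Cotangent.mk_surjective x
  have hys : y ∈ Ideal.span (Set.range Pr.relation) := by
    rw [Pr.span_range_relation_eq_ker]
    exact hy
  have hle : ∀ a, a ∈ Ideal.span (Set.range Pr.relation) → a ∈ Pr.toExtension.ker := by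
    intro a ha
    rw [Pr.span_range_relation_eq_ker] at ha
    exact ha
  have key : ∀ (y : Pr.Ring) (_ : y ∈ Ideal.span (Set.range Pr.relation))
      (hyk : y ∈ Pr.toExtension.ker),
      hmap Pr u (Pr.toExtension.cotangentComplex (Algebra.Extension.Cotangent.mk ⟨y, hyk⟩)) =
        (jac Pr u).det • Algebra.Extension.Cotangent.mk ⟨y, hyk⟩ := by
    intro y hys
    refine Submodule.span_induction (p := fun (y : Pr.Ring) _ => ∀ hyk : y ∈ Pr.toExtension.ker,
      hmap Pr u (Pr.toExtension.cotangentComplex (Algebra.Extension.Cotangent.mk ⟨y, hyk⟩)) =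
        (jac Pr u).det • Algebra.Extension.Cotangent.mk ⟨y, hyk⟩) ?_ ?_ ?_ ?_ hys
    · rintro _ ⟨j, rfl⟩ hyk
      exact hmap_cc_fbar Pr u j
    · intro hyk
      have e : (Algebra.Extension.Cotangent.mk ⟨(0 : Pr.Ring), hyk⟩ : Pr.toExtension.Cotangent) =
          0 := map_zero (Algebra.Extension.Cotangent.mk (P := Pr.toExtension))
      rw [e, map_zero, map_zero, smul_zero]
    · intro a b ha hb iha ihb hyk
      have e : (Algebra.Extension.Cotangent.mk ⟨a + b, hyk⟩ : Pr.toExtension.Cotangent) =
          Algebra.Extension.Cotangent.mk ⟨a, hle a ha⟩ +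
            Algebra.Extension.Cotangent.mk ⟨b, hle b hb⟩ :=
        map_add (Algebra.Extension.Cotangent.mk (P := Pr.toExtension)) ⟨a, hle a ha⟩
          ⟨b, hle b hb⟩
      calc hmap Pr u (Pr.toExtension.cotangentComplex
            (Algebra.Extension.Cotangent.mk ⟨a + b, hyk⟩))
          = hmap Pr u (Pr.toExtension.cotangentComplex
              (Algebra.Extension.Cotangent.mk ⟨a, hle a ha⟩ +
                Algebra.Extension.Cotangent.mk ⟨b, hle b hb⟩)) :=
            congrArg (fun z => hmap Pr u (Pr.toExtension.cotangentComplex z)) e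
        _ = (jac Pr u).det • Algebra.Extension.Cotangent.mk ⟨a, hle a ha⟩ +
              (jac Pr u).det • Algebra.Extension.Cotangent.mk ⟨b, hle b hb⟩ := by
            rw [map_add, map_add, iha, ihb]
        _ = (jac Pr u).det • (Algebra.Extension.Cotangent.mk ⟨a, hle a ha⟩ +
              Algebra.Extension.Cotangent.mk ⟨b, hle b hb⟩) := (smul_add _ _ _).symm
        _ = (jac Pr u).det • Algebra.Extension.Cotangent.mk ⟨a + b, hyk⟩ :=
            congrArg (fun z => (jac Pr u).det • z) e.symm
    · intro c a ha iha hyk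
      obtain ⟨r, hr⟩ : ∃ r : S, r = algebraMap Pr.toExtension.Ring S c := ⟨_, rfl⟩
      have e : (Algebra.Extension.Cotangent.mk ⟨c • a, hyk⟩ : Pr.toExtension.Cotangent) =
          r • Algebra.Extension.Cotangent.mk ⟨a, hle a ha⟩ := by
        have e1 := map_smul (Algebra.Extension.Cotangent.mk (P := Pr.toExtension))
          (@id Pr.toExtension.Ring c) ⟨a, hle a ha⟩
        have e2 := algebraMap_smul S (@id Pr.toExtension.Ring c)
          (Algebra.Extension.Cotangent.mk (P := Pr.toExtension) ⟨a, hle a ha⟩)
        rw [hr]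
        exact e1.trans e2.symm
      calc hmap Pr u (Pr.toExtension.cotangentComplex
            (Algebra.Extension.Cotangent.mk ⟨c • a, hyk⟩))
          = hmap Pr u (Pr.toExtension.cotangentComplex
              (r • Algebra.Extension.Cotangent.mk ⟨a, hle a ha⟩)) :=
            congrArg (fun z => hmap Pr u (Pr.toExtension.cotangentComplex z)) e
        _ = r • ((jac Pr u).det • Algebra.Extension.Cotangent.mk ⟨a, hle a ha⟩) := by
            rw [map_smul, map_smul, iha]
        _ = (jac Pr u).det • (r • Algebra.Extension.Cotangent.mk ⟨a, hle a ha⟩) :=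
            smul_comm _ _ _
        _ = (jac Pr u).det • Algebra.Extension.Cotangent.mk ⟨c • a, hyk⟩ :=
            congrArg (fun z => (jac Pr u).det • z) e.symm
  exact key y hys hy

theorem cc_hmap (hu : Function.Surjective u) (y : Pr.toExtension.CotangentSpace) :
    Pr.toExtension.cotangentComplex (hmap Pr u y) = (jac Pr u).det • y := by
  apply Pr.cotangentSpaceBasis.ext_elem
  intro l
  obtain ⟨l', rfl⟩ := hu l
  rw [hmap_apply, map_sum, map_sum, Finsupp.finsetSum_apply, map_smul, Finsupp.smul_apply,
    smul_eq_mul]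
  have h1 : ∀ i' : σ, Pr.cotangentSpaceBasis.repr (Pr.toExtension.cotangentComplex
      (Pr.cotangentSpaceBasis.repr y (u i') • ∑ k, (jac Pr u).adjugate k i' • fbar Pr k)) (u l') =
      Pr.cotangentSpaceBasis.repr y (u i') * (if l' = i' then (jac Pr u).det else 0) := by
    intro i'
    rw [map_smul, map_smul, Finsupp.smul_apply, smul_eq_mul, map_sum, map_sum,
      Finsupp.finsetSum_apply, ← mul_adj_apply (jac Pr u) l' i']
    congr 1
    refine Finset.sum_congr rfl fun k _ => ?_
    rw [map_smul, map_smul, Finsupp.smul_apply, smul_eq_mul, repr_cc_fbar, mul_comm]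
    rfl
  rw [Finset.sum_congr rfl (fun i' _ => h1 i'), Finset.sum_eq_single l']
  · rw [if_pos rfl, mul_comm]
  · intro i' _ hi'
    rw [if_neg (Ne.symm hi'), mul_zero]
  · intro h
    exact absurd (Finset.mem_univ l') h

end Algebra

section Chain

variable {R S : Type u} [CommRing R] [CommRing S] [Algebra R S] (E : Algebra.Extension.{u} R S)
  (D : S)

/-- the differential of the two-term model -/
noncomputable abbrev dE : ModuleCat.of S E.Cotangent ⟶ ModuleCat.of S E.CotangentSpace :=
  ModuleCat.ofHom E.cotangentComplex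

/-- the two-term model (definitionally `NLCx.cx E`) -/
noncomputable abbrev K : CochainComplex (ModuleCat.{u} S) ℤ := HomologicalComplex.double (dE E) rel

variable (s : ModuleCat.of S E.CotangentSpace ⟶ ModuleCat.of S E.Cotangent)
  (e₀ : dE E ≫ s = D • 𝟙 (ModuleCat.of S E.Cotangent))

/-- `D • 𝟙 - s ≫ d` -/
noncomputable def rho : ModuleCat.of S E.CotangentSpace ⟶ ModuleCat.of S E.CotangentSpace :=
  D • 𝟙 _ - s ≫ dE E

include e₀ in
lemma d_rho : dE E ≫ rho E D s = 0 := by
  rw [rho, Preadditive.comp_sub, Linear.comp_smul, Category.comp_id, ← Category.assoc, e₀,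
    Linear.smul_comp, Category.id_comp, sub_self]

/-- the projection to the degree-zero term, twisted by `rho` -/
noncomputable def pMap : K E ⟶
    (HomologicalComplex.single (ModuleCat.{u} S) (ComplexShape.up ℤ) 0).obj
      (ModuleCat.of S E.CotangentSpace) :=
  HomologicalComplex.mkHomToSingle
    ((HomologicalComplex.doubleXIso₁ (dE E) rel ne).hom ≫ rho E D s) (by
    intro i hi
    have hi' : i = -1 := by
      have : i + 1 = 0 := hi
      omega
    subst hi'
    rw [HomologicalComplex.double_d _ rel ne]
    simp only [Category.assoc, Iso.inv_hom_id_assoc]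
    rw [d_rho E D s e₀, Limits.comp_zero])

/-- the inclusion of the degree-zero term -/
noncomputable def iMap :
    (HomologicalComplex.single (ModuleCat.{u} S) (ComplexShape.up ℤ) 0).obj
      (ModuleCat.of S E.CotangentSpace) ⟶
      K E :=
  HomologicalComplex.mkHomFromSingle (HomologicalComplex.doubleXIso₁ (dE E) rel ne).inv (by
    intro k hk
    have hk' : k = 1 := by
      have : (0 : ℤ) + 1 = k := hk
      omega
    subst hk'
    exact (HomologicalComplex.isZero_double_X (dE E) rel 1 (by decide) (by decide)).eq_of_tgt _ _)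

/-- `D • 𝟙` is homotopic to a map factoring through the degree-zero term -/
noncomputable def htpy1 : Homotopy (D • 𝟙 (K E)) (pMap E D s e₀ ≫ iMap E) :=
  homotopyOfDouble (f := dE E) (f' := dE E) _ _ s
    (by
      rw [HomologicalComplex.smul_f_apply, HomologicalComplex.id_f, HomologicalComplex.comp_f]
      have hz : (pMap E D s e₀).f (-1) = 0 :=
        (HomologicalComplex.isZero_single_obj_X (ComplexShape.up ℤ) 0 _ (-1)
          (by decide)).eq_of_tgt _ _
      rw [hz, Limits.zero_comp, add_zero, ← Category.assoc (dE E), e₀, Linear.smul_comp,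
        Linear.comp_smul, Category.id_comp, Iso.hom_inv_id])
    (by
      have hp : (pMap E D s e₀).f 0 ≫ (iMap E).f 0 =
          (HomologicalComplex.doubleXIso₁ (dE E) rel ne).hom ≫ rho E D s ≫
            (HomologicalComplex.doubleXIso₁ (dE E) rel ne).inv := by
        rw [pMap, iMap, HomologicalComplex.mkHomToSingle_f, HomologicalComplex.mkHomFromSingle_f]
        simp only [Category.assoc, Iso.inv_hom_id_assoc]
      have hsum : s ≫ dE E + rho E D s = D • 𝟙 (ModuleCat.of S E.CotangentSpace) := by
        rw [rho]; abel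
      rw [HomologicalComplex.smul_f_apply, HomologicalComplex.id_f, HomologicalComplex.comp_f, hp]
      calc D • 𝟙 ((HomologicalComplex.double (dE E) rel).X 0)
          = (HomologicalComplex.doubleXIso₁ (dE E) rel ne).hom ≫
              (D • 𝟙 (ModuleCat.of S E.CotangentSpace)) ≫
              (HomologicalComplex.doubleXIso₁ (dE E) rel ne).inv := by
            rw [Linear.smul_comp, Linear.comp_smul, Category.id_comp, Iso.hom_inv_id]
        _ = (HomologicalComplex.doubleXIso₁ (dE E) rel ne).hom ≫
              (s ≫ dE E + rho E D s) ≫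
              (HomologicalComplex.doubleXIso₁ (dE E) rel ne).inv := by rw [hsum]
        _ = _ := by
            rw [Preadditive.add_comp, Preadditive.comp_add, Category.assoc])

/-- if also `s ≫ d = D`, then `D • 𝟙` is null-homotopic -/
noncomputable def htpy2 (e₁ : s ≫ dE E = D • 𝟙 (ModuleCat.of S E.CotangentSpace)) :
    Homotopy (D • 𝟙 (K E)) 0 :=
  homotopyOfDouble (f := dE E) (f' := dE E) _ _ s
    (by
      rw [HomologicalComplex.smul_f_apply, HomologicalComplex.id_f, HomologicalComplex.zero_f,
        add_zero, ← Category.assoc (dE E), e₀, Linear.smul_comp, Linear.comp_smul,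
        Category.id_comp, Iso.hom_inv_id])
    (by
      rw [HomologicalComplex.smul_f_apply, HomologicalComplex.id_f, HomologicalComplex.zero_f,
        add_zero, ← Category.assoc s, e₁, Linear.smul_comp, Linear.comp_smul,
        Category.id_comp, Iso.hom_inv_id])

end Chain

section Derived

attribute [local instance] HasDerivedCategory.standard

theorem hom_single_shift_eq_zero {C : Type*} [Category C] [Abelian C] [HasDerivedCategory C]
    (P Y : C) [Projective P]
    (ψ : DerivedCategory.Q.obj ((CochainComplex.singleFunctor C 0).obj P) ⟶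
      ((DerivedCategory.singleFunctor C 0).obj Y)⟦(1 : ℤ)⟧) : ψ = 0 := by
  rw [← cancel_mono (((DerivedCategory.singleFunctors C).shiftIso 1 (-1) 0 (by lia)).hom.app Y),
    Limits.zero_comp]
  exact DerivedCategory.from_singleFunctor_obj_eq_zero_of_projective
    (L := (CochainComplex.singleFunctor C (-1)).obj Y) (n := -1) _ (by lia)

variable {R S : Type u} [CommRing R] [CommRing S] [Algebra R S] (E : Algebra.Extension.{u} R S)
  (D : S) (s : ModuleCat.of S E.CotangentSpace ⟶ ModuleCat.of S E.Cotangent)
  (e₀ : dE E ≫ s = D • 𝟙 (ModuleCat.of S E.Cotangent))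

include e₀ in
theorem smul_id_comp_eq_zero [Module.Projective S E.CotangentSpace] (N : ModuleCat.{u} S)
    (ψ : DerivedCategory.Q.obj (K E) ⟶
      ((DerivedCategory.singleFunctor (ModuleCat.{u} S) 0).obj N)⟦(1 : ℤ)⟧) :
    (D • 𝟙 (DerivedCategory.Q.obj (K E))) ≫ ψ = 0 := by
  have h1 : D • 𝟙 (DerivedCategory.Q.obj (K E)) = DerivedCategory.Q.map (D • 𝟙 (K E)) := by
    rw [CategoryTheory.Functor.map_smul, CategoryTheory.Functor.map_id]
  rw [h1, DerivedCategory.Q_map_eq_of_homotopy _ (htpy1 E D s e₀),
    CategoryTheory.Functor.map_comp, Category.assoc]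
  have h2 : DerivedCategory.Q.map (iMap E) ≫ ψ = 0 :=
    hom_single_shift_eq_zero (C := ModuleCat.{u} S) (ModuleCat.of S E.CotangentSpace) N
      (DerivedCategory.Q.map (iMap E) ≫ ψ)
  rw [h2, Limits.comp_zero]

include e₀ in
theorem smul_id_eq_zero (e₁ : s ≫ dE E = D • 𝟙 (ModuleCat.of S E.CotangentSpace)) :
    D • 𝟙 (DerivedCategory.Q.obj (K E)) = 0 := by
  have h1 : D • 𝟙 (DerivedCategory.Q.obj (K E)) = DerivedCategory.Q.map (D • 𝟙 (K E)) := by
    rw [CategoryTheory.Functor.map_smul, CategoryTheory.Functor.map_id]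
  rw [h1, DerivedCategory.Q_map_eq_of_homotopy _ (htpy2 E D s e₀ e₁),
    CategoryTheory.Functor.map_zero]

end Derived

end Groth.Agent.Lib.Helper19.JacNL
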