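import Mathlib

/-!
# Local-to-global for finite projective modules (helper19)

`finite_projective_of_locally_free`: a module that is finite free after inverting an element
outside each prime is finite projective.
-/

set_option autoImplicit false
universe u

namespace Groth.Agent.Lib.Helper19.LocFree

theorem finite_projective_of_locally_free {C : Type u} [CommRing C] {M : Type u} [AddCommGroup M]
    [Module C M]
    (h : ∀ 𝔮 : Ideal C, 𝔮.IsPrime → ∃ t : C, t ∉ 𝔮 ∧
      Module.Free (Localization.Away t) (LocalizedModule.Away t M) ∧
      Module.Finite (Localization.Away t) (LocalizedModule.Away t M)) :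
    Module.Finite C M ∧ Module.Projective C M := by
  let s : Set C := {t | Module.Free (Localization.Away t) (LocalizedModule.Away t M) ∧
      Module.Finite (Localization.Away t) (LocalizedModule.Away t M)}
  have hs : Ideal.span s = ⊤ := by
    by_contra hne
    obtain ⟨𝔪, h𝔪, hle⟩ := Ideal.exists_le_maximal _ hne
    obtain ⟨t, ht, hfree, hfin⟩ := h 𝔪 h𝔪.isPrime
    exact ht (hle (Ideal.subset_span ⟨hfree, hfin⟩))
  have hfp : Module.FinitePresentation C M := by
    refine Module.FinitePresentation.of_localizationSpan s hs (fun g => ?_)
    obtain ⟨hfree, hfin⟩ := g.2
    haveI := hfree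
    haveI := hfin
    exact Module.finitePresentation_of_projective _ _
  have hflat : Module.Flat C M := by
    refine Module.flat_of_localized_span C M s hs (fun g => ?_)
    obtain ⟨hfree, hfin⟩ := g.2
    haveI := hfree
    haveI : Module.Flat (Localization.Away g.1) (LocalizedModule.Away g.1 M) := inferInstance
    exact Module.Flat.trans C (Localization.Away g.1) (LocalizedModule.Away g.1 M)
  haveI := hfp
  haveI := hflat
  exact ⟨inferInstance, Module.Flat.projective_of_finitePresentation⟩

end Groth.Agent.Lib.Helper19.LocFree
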