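import Mathlib
import Groth.Agent.Lib.Helper19.LocFree
import Groth.Agent.Lib.Helper1.KRegIdeal2
import Groth.Agent.Lib.Helper1.KoszulSwap
import Groth.Agent.S18939

/-!
# The conormal module of a Koszul-regular ideal is finite projective (helper19)

Abstract form: `R → S` surjective with kernel `I`, `M` an `S`-module with an `R`-linear surjection
`τ : I → M` whose kernel is `I²`.  If `I` is Koszul-regular (`LCI.IsKoszulRegularIdeal`) then `M`
is a finite projective `S`-module.  Applied to `P.Cotangent` for an extension `P`.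
-/

set_option autoImplicit false
universe u

namespace Groth.Agent.Lib.Helper19.KRegCot

open Groth.Agent.Lib.Helper1

section
variable {R S M : Type u} [CommRing R] [CommRing S] [Algebra R S] [AddCommGroup M] [Module R M]
  [Module S M] [IsScalarTower R S M]

theorem local_free (hS : Function.Surjective (algebraMap R S)) (I : Ideal R)
    (hIker : RingHom.ker (algebraMap R S) = I) (τ : I →ₗ[R] M) (hτs : Function.Surjective τ)
    (hτ0 : ∀ x : I, τ x = 0 ↔ (x : R) ∈ I ^ 2)
    (g : R) (L : Type u) [CommRing L] [Algebra R L] [IsLocalization.Away g L]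
    (l : List L) (hl : LCI.IsKoszulRegularSeq L l)
    (hIl : I.map (algebraMap R L) = Ideal.span {x | x ∈ l})
    (hne : I.map (algebraMap R L) ≠ ⊤) :
    Module.Free (Localization.Away (algebraMap R S g))
        (LocalizedModule.Away (algebraMap R S g) M) ∧
      Module.Finite (Localization.Away (algebraMap R S g))
        (LocalizedModule.Away (algebraMap R S g) M) := by
  classical
  obtain ⟨IL, hIL⟩ : ∃ IL : Ideal L, IL = I.map (algebraMap R L) := ⟨_, rfl⟩
  rw [← hIL] at hIl hne
  have hgu : IsUnit (algebraMap R L g) := IsLocalization.Away.algebraMap_isUnit g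
  -- Step A: generators coming from `I`
  have hex : ∀ i : Fin l.length, ∃ (a : I) (k : ℕ),
      l.get i * algebraMap R L (g ^ k) = algebraMap R L a := by
    intro i
    have hmem : l.get i ∈ I.map (algebraMap R L) := by
      rw [← hIL, hIl]; exact Ideal.subset_span (List.get_mem l _)
    obtain ⟨⟨a, ⟨_, k, rfl⟩⟩, h⟩ :=
      (IsLocalization.mem_map_algebraMap_iff (Submonoid.powers g) L).mp hmem
    exact ⟨a, k, h⟩
  choose a k ha using hex
  have hu : ∀ i, IsUnit (algebraMap R L (g ^ k i)) := fun i => by
    rw [map_pow]; exact hgu.pow _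
  let f' : Fin l.length → L := fun i => algebraMap R L (a i)
  have hf'mem : ∀ i, f' i ∈ IL := fun i => by
    rw [hIL]; exact Ideal.mem_map_of_mem _ (a i).2
  have hspan : Ideal.span (Set.range f') = IL := by
    apply le_antisymm
    · rw [Ideal.span_le]
      rintro _ ⟨i, rfl⟩
      exact hf'mem i
    · rw [hIl, Ideal.span_le]
      intro x hx
      obtain ⟨i, rfl⟩ := List.mem_iff_get.mp hx
      have h1 : l.get i * algebraMap R L (g ^ k i) ∈ Ideal.span (Set.range f') := by
        rw [ha i]; exact Ideal.subset_span ⟨i, rfl⟩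
      exact (Ideal.mul_unit_mem_iff_mem _ (hu i)).mp h1
  have hofn : Ideal.ofList (List.ofFn f') = Ideal.ofList l := by
    have h1 : {x | x ∈ List.ofFn f'} = Set.range f' := by
      ext x
      simp [List.mem_ofFn]
    show Ideal.span {x | x ∈ List.ofFn f'} = Ideal.span {x | x ∈ l}
    rw [h1, hspan, hIl]
  have hreg : LCI.IsKoszulRegularSeq L (List.ofFn f') :=
    KoszulSwap.isKoszulRegularSeq_of_ofList_eq (List.ofFn f') l (by simp) hofn hl
  let fI : Fin l.length → IL := fun i => ⟨f' i, hf'mem i⟩
  obtain ⟨b, hb⟩ := Groth.Agent.S18939.result (R := L) (I := IL) hne l.length fI hreg hspan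
  -- the localisation
  obtain ⟨t, ht⟩ : ∃ t : S, t = algebraMap R S g := ⟨_, rfl⟩
  rw [← ht]
  let v : Fin l.length → LocalizedModule (Submonoid.powers t) M :=
    fun i => LocalizedModule.mk (τ (a i)) 1
  let J : Ideal R := Ideal.span (Set.range fun i => (a i : R))
  have hJmap : J.map (algebraMap R L) = IL := by
    rw [Ideal.map_span, ← Set.range_comp]
    exact hspan
  have hK1 : ∀ x : I, ∃ (N : ℕ) (c : Fin l.length → R),
      (g ^ N) • τ x = ∑ i, c i • τ (a i) := by
    intro x
    have hxJ : algebraMap R L x ∈ J.map (algebraMap R L) := by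
      rw [hJmap, hIL]; exact Ideal.mem_map_of_mem _ x.2
    obtain ⟨N, hN⟩ := KRegIdeal.exists_pow_mul_mem_of_map_eq g L J x hxJ
    obtain ⟨c, hc⟩ := Ideal.mem_span_range_iff_exists_fun.mp hN
    refine ⟨N, c, ?_⟩
    have h1 : (g ^ N) • x = ∑ i, c i • a i := by
      apply Subtype.ext
      rw [Submodule.coe_smul, Submodule.coe_sum, smul_eq_mul, ← hc]
      refine Finset.sum_congr rfl fun i _ => ?_
      rw [Submodule.coe_smul, smul_eq_mul]
    rw [← map_smul, h1, map_sum]
    refine Finset.sum_congr rfl fun i _ => ?_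
    rw [map_smul]
  have hK2 : ∀ (δ : Fin l.length → R) (e : ℕ), g ^ e * ∑ i, δ i * (a i : R) ∈ I ^ 2 →
      ∀ i, ∃ N : ℕ, g ^ N * δ i ∈ I := by
    intro δ e he i
    have h1 : algebraMap R L (g ^ e * ∑ i, δ i * (a i : R)) ∈ IL ^ 2 := by
      rw [hIL, ← Ideal.map_pow]; exact Ideal.mem_map_of_mem _ he
    rw [map_mul] at h1
    have h2 : algebraMap R L (∑ i, δ i * (a i : R)) ∈ IL ^ 2 :=
      (Ideal.unit_mul_mem_iff_mem _ (by rw [map_pow]; exact hgu.pow _)).mp h1
    have h3 : IL.toCotangent (∑ i, algebraMap R L (δ i) • fI i) = 0 := by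
      rw [Ideal.toCotangent_eq_zero]
      have h30 : ((∑ i, algebraMap R L (δ i) • fI i : IL) : L) =
          algebraMap R L (∑ i, δ i * (a i : R)) := by
        rw [Submodule.coe_sum, map_sum]
        refine Finset.sum_congr rfl fun j _ => ?_
        rw [Submodule.coe_smul, smul_eq_mul, map_mul]
      rw [h30]; exact h2
    have h4 : ∑ i, (Ideal.Quotient.mk IL (algebraMap R L (δ i))) • b i = 0 := by
      rw [← h3, map_sum]
      refine Finset.sum_congr rfl fun j _ => ?_
      rw [map_smul, hb j]
      exact algebraMap_smul (L ⧸ IL) (algebraMap R L (δ j)) (IL.toCotangent (fI j))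
    have h5 := Fintype.linearIndependent_iff.mp b.linearIndependent _ h4 i
    have h6 : algebraMap R L (δ i) ∈ I.map (algebraMap R L) := by
      rw [← hIL]; exact Ideal.Quotient.eq_zero_iff_mem.mp h5
    exact KRegIdeal.exists_pow_mul_mem_of_map_eq g L I (δ i) h6
  -- spanning
  have hmk1 : ∀ m : M, LocalizedModule.mk m (1 : Submonoid.powers t) ∈
      Submodule.span (Localization.Away t) (Set.range v) := by
    intro m
    obtain ⟨x, rfl⟩ := hτs m
    obtain ⟨N, c, hc⟩ := hK1 x
    have htN : t ^ N ∈ Submonoid.powers t := ⟨N, rfl⟩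
    have h1 : LocalizedModule.mk (τ x) (1 : Submonoid.powers t) =
        (Localization.mk (1 : S) (⟨t ^ N, htN⟩ : Submonoid.powers t)) •
          LocalizedModule.mk (t ^ N • τ x) (1 : Submonoid.powers t) := by
      rw [LocalizedModule.mk_smul_mk, one_smul, mul_one, LocalizedModule.mk_eq]
      refine ⟨1, ?_⟩
      simp only [one_smul]
      rfl
    rw [h1]
    refine Submodule.smul_mem _ _ ?_
    have h2 : t ^ N • τ x = ∑ i, algebraMap R S (c i) • τ (a i) := by
      rw [ht, ← map_pow, algebraMap_smul, hc]
      refine Finset.sum_congr rfl fun i _ => ?_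
      rw [algebraMap_smul]
    rw [h2, ← LocalizedModule.mkLinearMap_apply, map_sum]
    refine Submodule.sum_mem _ fun i _ => ?_
    rw [map_smul, LocalizedModule.mkLinearMap_apply, ← algebraMap_smul (Localization.Away t)]
    exact Submodule.smul_mem _ _ (Submodule.subset_span ⟨i, rfl⟩)
  have hsp : ⊤ ≤ Submodule.span (Localization.Away t) (Set.range v) := by
    intro y _
    induction y using LocalizedModule.induction_on with
    | h m s =>
      have h1 : LocalizedModule.mk m s =
          (Localization.mk (1 : S) s) • LocalizedModule.mk m (1 : Submonoid.powers t) := by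
        rw [LocalizedModule.mk_smul_mk, one_smul, mul_one]
      rw [h1]
      exact Submodule.smul_mem _ _ (hmk1 m)
  -- linear independence
  have hli : LinearIndependent (Localization.Away t) v := by
    rw [Fintype.linearIndependent_iff]
    intro c hc i
    obtain ⟨bb, hbb⟩ :=
      IsLocalization.exist_integer_multiples (Submonoid.powers t) Finset.univ c
    have hbb' : ∀ i, ∃ d : S, algebraMap S (Localization.Away t) d = (bb : S) • c i :=
      fun i => hbb i (Finset.mem_univ i)
    choose d hd using hbb'
    choose δ hδ using fun i => hS (d i)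
    have h1 : ∑ i, algebraMap S (Localization.Away t) (d i) • v i = 0 := by
      have h10 : ∑ i, algebraMap S (Localization.Away t) (d i) • v i =
          (bb : S) • ∑ i, c i • v i := by
        rw [Finset.smul_sum]
        refine Finset.sum_congr rfl fun j _ => ?_
        rw [hd j, smul_assoc]
      rw [h10, hc, smul_zero]
    have h2 : LocalizedModule.mkLinearMap (Submonoid.powers t) M (τ (∑ i, δ i • a i)) = 0 := by
      refine Eq.trans ?_ h1
      rw [map_sum, map_sum]
      refine Finset.sum_congr rfl fun j _ => ?_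
      rw [map_smul, ← algebraMap_smul S (δ j) (τ (a j)), hδ j, map_smul,
        algebraMap_smul (Localization.Away t)]
      rfl
    obtain ⟨⟨_, e, rfl⟩, he⟩ := (IsLocalizedModule.eq_zero_iff (Submonoid.powers t)
      (LocalizedModule.mkLinearMap (Submonoid.powers t) M)).mp h2
    have h3 : g ^ e * ∑ i, δ i * (a i : R) ∈ I ^ 2 := by
      have h4 : τ ((g ^ e) • ∑ i, δ i • a i) = 0 := by
        rw [map_smul, ← algebraMap_smul S, map_pow, ← ht]
        exact he
      rw [hτ0] at h4
      have hco : (((g ^ e) • ∑ i, δ i • a i : I) : R) = g ^ e * ∑ i, δ i * (a i : R) := by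
        rw [Submodule.coe_smul, Submodule.coe_sum, smul_eq_mul]
        exact congrArg _ (Finset.sum_congr rfl fun j _ => by
          rw [Submodule.coe_smul, smul_eq_mul])
      rw [hco] at h4
      exact h4
    obtain ⟨N, hN⟩ := hK2 δ e h3 i
    have h5 : algebraMap S (Localization.Away t) (d i) = 0 := by
      rw [IsLocalization.map_eq_zero_iff (Submonoid.powers t)]
      refine ⟨⟨t ^ N, N, rfl⟩, ?_⟩
      show t ^ N * d i = 0
      rw [← hδ i, ht, ← map_pow, ← map_mul]
      rw [← hIker] at hN
      exact RingHom.mem_ker.mp hN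
    rw [hd i, Algebra.smul_def] at h5
    exact (IsUnit.mul_right_eq_zero (IsLocalization.map_units _ bb)).mp h5
  let bs : Module.Basis (Fin l.length) (Localization.Away t)
      (LocalizedModule (Submonoid.powers t) M) := Module.Basis.mk hli hsp
  exact ⟨Module.Free.of_basis bs, Module.Finite.of_basis bs⟩

theorem finite_projective_of_koszulRegular (hS : Function.Surjective (algebraMap R S))
    (I : Ideal R) (hIker : RingHom.ker (algebraMap R S) = I) (τ : I →ₗ[R] M)
    (hτs : Function.Surjective τ) (hτ0 : ∀ x : I, τ x = 0 ↔ (x : R) ∈ I ^ 2)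
    (hI : LCI.IsKoszulRegularIdeal I) :
    Module.Finite S M ∧ Module.Projective S M := by
  apply LocFree.finite_projective_of_locally_free
  intro 𝔮 h𝔮
  haveI := h𝔮
  let 𝔭 : PrimeSpectrum R := ⟨𝔮.comap (algebraMap R S), inferInstance⟩
  have hI𝔭 : I ≤ 𝔭.asIdeal := by
    intro x hx
    rw [← hIker] at hx
    show algebraMap R S x ∈ 𝔮
    rw [RingHom.mem_ker.mp hx]; exact 𝔮.zero_mem
  obtain ⟨g, hg, l, hl, hIl⟩ := hI 𝔭 hI𝔭
  refine ⟨algebraMap R S g, hg, ?_⟩
  have hne : I.map (algebraMap R (Localization.Away g)) ≠ ⊤ := by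
    intro htop
    have h1 : algebraMap R (Localization.Away g) 1 ∈
        I.map (algebraMap R (Localization.Away g)) := by
      rw [htop]; exact Submodule.mem_top
    obtain ⟨N, hN⟩ :=
      KRegIdeal.exists_pow_mul_mem_of_map_eq g (Localization.Away g) I 1 h1
    rw [mul_one] at hN
    exact hg (𝔭.isPrime.mem_of_pow_mem N (hI𝔭 hN))
  exact local_free hS I hIker τ hτs hτ0 g (Localization.Away g) l hl hIl hne

end

theorem extension_cotangent_finite_projective {A B : Type u} [CommRing A] [CommRing B]
    [Algebra A B] (P : Algebra.Extension.{u} A B) (hP : LCI.IsKoszulRegularIdeal P.ker) :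
    Module.Finite B P.Cotangent ∧ Module.Projective B P.Cotangent :=
  finite_projective_of_koszulRegular (R := P.Ring) (S := B) (M := P.Cotangent)
    P.algebraMap_surjective P.ker rfl Algebra.Extension.Cotangent.mk
    Algebra.Extension.Cotangent.mk_surjective
    (fun x => Algebra.Extension.Cotangent.mk_eq_zero_iff x) hP

end Groth.Agent.Lib.Helper19.KRegCot
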