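import Mathlib
import Groth.Prelude.Def_SGA3b
import Groth.Agent.Lib.Helper19.KerMT5

/-!
# Kernels of homomorphisms from groups of multiplicative type to affine groups, part 1 (helper19)

Let `ψ : D → T[M]` be a homomorphism of `T`-bialgebras, `D` of finite type over `T`.

* `co ψ n`, `P ψ n`: the coefficient functionals and the homogeneous components of `D`;
  `psi_P`, `counit_P`, `exists_sum_P`;
* `exists_homog_gens`: `D` is generated by finitely many homogeneous elements;
* `I ψ n`: the ideal of coefficients of degree `n`; it is idempotent (`I_le_sq`) and finitely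
  generated (`I_eq_K`, `K_fg`);
* `exists_groupLike_gens`: the ideal generated by the `ψ z - ε z` is generated by finitely many
  elements `w - 1`, `w` group-like.
-/

set_option autoImplicit false
universe u
open TensorProduct

namespace Groth.Agent.Lib.Helper19.KerG

open Groth.Agent.Lib.Helper1.MultType Groth.Agent.Lib.Helper19.GLift

attribute [local instance] Classical.propDecidable

section GLike

variable {T : Type*} [CommRing T] {B : Type*} [CommRing B] [Bialgebra T B]

lemma groupLike_idem {e : T} (he : IsIdempotentElem e) {g : B} (hg : IsGroupLikeElem T g) :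
    IsGroupLikeElem T (e • g + (1 - e) • (1 : B)) where
  counit_eq_one := by
    rw [map_add, map_smul, map_smul, hg.counit_eq_one, Bialgebra.counit_one, smul_eq_mul,
      smul_eq_mul, mul_one, mul_one]
    ring
  comul_eq_tmul_self := by
    have h1 : e * e = e := he.eq
    have h2 : e * (1 - e) = 0 := by rw [mul_sub, mul_one, h1, sub_self]
    have h3 : (1 - e) * e = 0 := by rw [mul_comm, h2]
    have h4 : (1 - e) * (1 - e) = 1 - e := by rw [mul_sub, mul_one, h3, sub_zero]
    rw [map_add, map_smul, map_smul, hg.comul_eq_tmul_self, Bialgebra.comul_one,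
      Algebra.TensorProduct.one_def,
      TensorProduct.add_tmul, TensorProduct.tmul_add, TensorProduct.tmul_add,
      TensorProduct.smul_tmul_smul, TensorProduct.smul_tmul_smul, TensorProduct.smul_tmul_smul,
      TensorProduct.smul_tmul_smul, h1, h2, h3, h4, zero_smul, zero_smul, add_zero, zero_add]

lemma groupLike_idem_sub_one (e : T) (g : B) :
    e • g + (1 - e) • (1 : B) - 1 = e • (g - 1) := by
  rw [sub_smul, one_smul, smul_sub]
  abel

end GLike

section Homog

variable {T : Type u} [CommRing T] {M : Type u} [CommGroup M]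
  {D : Type u} [CommRing D] [Bialgebra T D] (ψ : D →ₐc[T] MonoidAlgebra T M)

/-- the coefficient functionals of `ψ` -/
noncomputable def co (n : M) : D →ₗ[T] T := (coeffFun n).comp ψ.toCoalgHom.toLinearMap

lemma co_apply (n : M) (z : D) : co ψ n z = coeffFun n (ψ z) := rfl

/-- the homogeneous components -/
noncomputable def P (n : M) : D →ₗ[T] D :=
  (TensorProduct.rid T D).toLinearMap ∘ₗ (LinearMap.lTensor D (co ψ n)) ∘ₗ Coalgebra.comul

lemma P_apply (n : M) (z : D) :
    P ψ n z =
      TensorProduct.rid T D (LinearMap.lTensor D (co ψ n) (Coalgebra.comul (R := T) z)) := rfl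

lemma rid_lTensor_coeffFun_comul (n : M) (x : MonoidAlgebra T M) :
    TensorProduct.rid T (MonoidAlgebra T M)
      (LinearMap.lTensor (MonoidAlgebra T M) (coeffFun n) (Coalgebra.comul (R := T) x)) =
      MonoidAlgebra.single n (coeffFun n x) := by
  refine MonoidAlgebra.induction_linear x ?_ ?_ ?_
  · simp
  · intro a b ha hb
    rw [map_add, map_add, map_add, ha, hb, map_add, MonoidAlgebra.single_add]
  · intro m r
    rw [comul_single', map_smul, map_smul, LinearMap.lTensor_tmul, TensorProduct.rid_tmul,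
      coeffFun_single, coeffFun_single]
    split_ifs with h
    · subst h
      rw [one_smul, MonoidAlgebra.smul_single', mul_one]
    · rw [zero_smul, smul_zero, MonoidAlgebra.single_zero]

lemma psi_rid_lTensor (n : M) (w : D ⊗[T] D) :
    ψ (TensorProduct.rid T D (LinearMap.lTensor D (co ψ n) w)) =
      TensorProduct.rid T (MonoidAlgebra T M)
        (LinearMap.lTensor (MonoidAlgebra T M) (coeffFun n)
          (TensorProduct.map (ψ : D →ₗ[T] MonoidAlgebra T M)
            (ψ : D →ₗ[T] MonoidAlgebra T M) w)) := by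
  induction w using TensorProduct.induction_on with
  | zero => simp only [map_zero]
  | tmul a b =>
    rw [LinearMap.lTensor_tmul, TensorProduct.rid_tmul, TensorProduct.map_tmul,
      LinearMap.lTensor_tmul, TensorProduct.rid_tmul, map_smul]
    rfl
  | add x y hx hy => simp only [map_add, hx, hy]

theorem psi_P (n : M) (z : D) : ψ (P ψ n z) = MonoidAlgebra.single n (co ψ n z) := by
  have h := CoalgHomClass.map_comp_comul_apply ψ z
  have h2 := psi_rid_lTensor ψ n (Coalgebra.comul (R := T) z)
  have h3 := rid_lTensor_coeffFun_comul n (ψ z)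
  exact (h2.trans (congrArg (fun t => TensorProduct.rid T (MonoidAlgebra T M)
    (LinearMap.lTensor (MonoidAlgebra T M) (coeffFun n) t)) h)).trans h3

lemma counit_P (n : M) (z : D) : Coalgebra.counit (R := T) (P ψ n z) = co ψ n z := by
  have h1 : Coalgebra.counit (R := T) (ψ (P ψ n z)) = Coalgebra.counit (R := T) (P ψ n z) :=
    CoalgHomClass.counit_comp_apply ψ _
  rw [← h1, psi_P, MonoidAlgebra.counit_single, CommSemiring.counit_apply]

lemma P_eq_sum (n : M) (z : D) (S : Finset (D × D))
    (hS : Coalgebra.comul (R := T) z = ∑ i ∈ S, i.1 ⊗ₜ[T] i.2) :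
    P ψ n z = ∑ i ∈ S, co ψ n i.2 • i.1 := by
  rw [P_apply, hS, map_sum, map_sum]
  refine Finset.sum_congr rfl fun i _ => ?_
  rw [LinearMap.lTensor_tmul, TensorProduct.rid_tmul]

theorem exists_sum_P (z : D) : ∃ N : Finset M, ∑ n ∈ N, P ψ n z = z := by
  obtain ⟨S, hS⟩ := TensorProduct.exists_finset (Coalgebra.comul (R := T) z)
  obtain ⟨N, hN⟩ : ∃ N : Finset M, N = S.biUnion fun i => (ψ i.2).coeff.support := ⟨_, rfl⟩
  refine ⟨N, ?_⟩
  have h1 : ∀ i ∈ S, ∑ n ∈ N, co ψ n i.2 = Coalgebra.counit (R := T) i.2 := by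
    intro i hi
    have h2 : Coalgebra.counit (R := T) (ψ i.2) = Coalgebra.counit (R := T) i.2 :=
      CoalgHomClass.counit_comp_apply ψ _
    rw [← h2, counit_eq_sum]
    simp only [co_apply]
    symm
    apply Finset.sum_subset
    · rw [hN]
      exact Finset.subset_biUnion_of_mem (fun i : D × D => (ψ i.2).coeff.support) hi
    · intro n _ hn
      exact coeffFun_eq_zero_of_notMem _ hn
  calc ∑ n ∈ N, P ψ n z
      = ∑ n ∈ N, ∑ i ∈ S, co ψ n i.2 • i.1 :=
        Finset.sum_congr rfl fun n _ => P_eq_sum ψ n z S hS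
    _ = ∑ i ∈ S, ∑ n ∈ N, co ψ n i.2 • i.1 := Finset.sum_comm
    _ = ∑ i ∈ S, Coalgebra.counit (R := T) i.2 • i.1 := by
        refine Finset.sum_congr rfl fun i hi => ?_
        rw [← Finset.sum_smul, h1 i hi]
    _ = z := by
        have h3 := Coalgebra.lTensor_counit_comul (R := T) z
        rw [hS, map_sum] at h3
        have h4 := congrArg (TensorProduct.rid T D) h3
        rw [map_sum, TensorProduct.rid_tmul, one_smul] at h4
        rw [← h4]
        refine Finset.sum_congr rfl fun i _ => ?_
        rw [LinearMap.lTensor_tmul, TensorProduct.rid_tmul]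

theorem exists_homog_gens (hft : Algebra.FiniteType T D) :
    ∃ Y : Finset D, Algebra.adjoin T (Y : Set D) = ⊤ ∧
      ∀ y ∈ Y, ∃ n : M, ψ y = MonoidAlgebra.single n (Coalgebra.counit (R := T) y) := by
  obtain ⟨G, hG⟩ := hft.out
  choose N hN using exists_sum_P ψ
  obtain ⟨Y, hY⟩ : ∃ Y : Finset D, Y = G.biUnion fun g => (N g).image fun n => P ψ n g :=
    ⟨_, rfl⟩
  refine ⟨Y, ?_, ?_⟩
  · rw [eq_top_iff, ← hG]
    apply Algebra.adjoin_le
    intro g hg
    have h : ∑ n ∈ N g, P ψ n g ∈ Algebra.adjoin T (Y : Set D) :=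
      Subalgebra.sum_mem _ fun n hn => Algebra.subset_adjoin (by
        rw [hY]
        exact Finset.mem_coe.2 (Finset.mem_biUnion.2
          ⟨g, Finset.mem_coe.1 hg, Finset.mem_image.2 ⟨n, hn, rfl⟩⟩))
    rwa [hN g] at h
  · intro y hy
    rw [hY] at hy
    obtain ⟨g, -, hy⟩ := Finset.mem_biUnion.1 hy
    obtain ⟨n, -, rfl⟩ := Finset.mem_image.1 hy
    exact ⟨n, by rw [psi_P, counit_P]⟩

/-- the ideal generated by the `ψ z - ε z` -/
noncomputable def Jpsi : Ideal (MonoidAlgebra T M) :=
  Ideal.span (Set.range fun z : D =>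
    ψ z - algebraMap T (MonoidAlgebra T M) (Coalgebra.counit (R := T) z))

lemma smul_mem_Jpsi (n : M) (z : D) :
    co ψ n z • (MonoidAlgebra.single n (1 : T) - 1 : MonoidAlgebra T M) ∈ Jpsi ψ := by
  have h : ψ (P ψ n z) -
      algebraMap T (MonoidAlgebra T M) (Coalgebra.counit (R := T) (P ψ n z)) ∈ Jpsi ψ :=
    Ideal.subset_span ⟨P ψ n z, rfl⟩
  rw [psi_P, counit_P] at h
  have e : co ψ n z • (MonoidAlgebra.single n (1 : T) - 1 : MonoidAlgebra T M) =
      MonoidAlgebra.single n (co ψ n z) - algebraMap T (MonoidAlgebra T M) (co ψ n z) := by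
    rw [smul_sub, MonoidAlgebra.smul_single', mul_one, Algebra.algebraMap_eq_smul_one]
  rw [e]
  exact h

theorem Jpsi_eq_of_adjoin (Y : Set D) (hY : Algebra.adjoin T Y = ⊤) :
    Jpsi ψ = Ideal.span ((fun z : D =>
      ψ z - algebraMap T (MonoidAlgebra T M) (Coalgebra.counit (R := T) z)) '' Y) := by
  obtain ⟨K, hK⟩ : ∃ K : Ideal (MonoidAlgebra T M), K = Ideal.span ((fun z : D =>
      ψ z - algebraMap T (MonoidAlgebra T M) (Coalgebra.counit (R := T) z)) '' Y) := ⟨_, rfl⟩
  rw [← hK]
  apply le_antisymm
  · rw [Jpsi, Ideal.span_le]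
    rintro _ ⟨z, rfl⟩
    have hz : z ∈ Algebra.adjoin T Y := by rw [hY]; exact Algebra.mem_top
    show ψ z - algebraMap T (MonoidAlgebra T M) (Coalgebra.counit (R := T) z) ∈ K
    induction hz using Algebra.adjoin_induction with
    | mem y hy =>
      rw [hK]
      exact Ideal.subset_span ⟨y, hy, rfl⟩
    | algebraMap t =>
      rw [AlgHomClass.commutes, Bialgebra.counit_algebraMap, sub_self]
      exact K.zero_mem
    | add a b _ _ ha hb =>
      have e : ψ (a + b) - algebraMap T (MonoidAlgebra T M) (Coalgebra.counit (R := T) (a + b)) =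
          (ψ a - algebraMap T (MonoidAlgebra T M) (Coalgebra.counit (R := T) a)) +
          (ψ b - algebraMap T (MonoidAlgebra T M) (Coalgebra.counit (R := T) b)) := by
        rw [map_add, map_add, map_add]; ring
      rw [e]
      exact K.add_mem ha hb
    | mul a b _ _ ha hb =>
      have e : ψ (a * b) - algebraMap T (MonoidAlgebra T M) (Coalgebra.counit (R := T) (a * b)) =
          ψ a * (ψ b - algebraMap T (MonoidAlgebra T M) (Coalgebra.counit (R := T) b)) +
          algebraMap T (MonoidAlgebra T M) (Coalgebra.counit (R := T) b) *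
            (ψ a - algebraMap T (MonoidAlgebra T M) (Coalgebra.counit (R := T) a)) := by
        rw [map_mul, Bialgebra.counit_mul, map_mul]; ring
      rw [e]
      exact K.add_mem (K.mul_mem_left _ hb) (K.mul_mem_left _ ha)
  · rw [hK]
    apply Ideal.span_mono
    rintro _ ⟨y, -, rfl⟩
    exact ⟨y, rfl⟩

/-- the ideal of the coefficients of degree `n` -/
noncomputable abbrev I (n : M) : Ideal T := LinearMap.range (co ψ n)

lemma co_eq_mul (n : M) (z : D) :
    co ψ n z = LinearMap.mul' T T
      (TensorProduct.map (co ψ n) (co ψ n) (Coalgebra.comul (R := T) z)) := by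
  have h0 := LinearMap.convMul_comp_coalgHom_distrib (WithConv.toConv (coeffFun (T := T) n))
    (WithConv.toConv (coeffFun n)) ψ.toCoalgHom
  rw [coeffFun_idem] at h0
  exact LinearMap.congr_fun h0 z

lemma I_le_sq (n : M) : I ψ n ≤ I ψ n * I ψ n := by
  rintro _ ⟨z, rfl⟩
  rw [co_eq_mul]
  generalize Coalgebra.comul (R := T) z = w
  induction w using TensorProduct.induction_on with
  | zero =>
    simp only [map_zero]
    exact Ideal.zero_mem _
  | tmul a b =>
    rw [TensorProduct.map_tmul, LinearMap.mul'_apply]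
    exact Ideal.mul_mem_mul ⟨a, rfl⟩ ⟨b, rfl⟩
  | add x y hx hy =>
    rw [map_add, map_add]
    exact Ideal.add_mem _ hx hy

end Homog

end Groth.Agent.Lib.Helper19.KerG
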