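import Mathlib
import Groth.Prelude.Def_SGA3b
import Groth.Agent.Lib.Helper19.KerG1

/-!
# Kernels of homomorphisms from groups of multiplicative type to affine groups, part 2 (helper19)

* `I_eq_K`, `K_fg`: the ideal of coefficients of degree `m` is generated by the monomials of
  degree `m` in the coefficients of homogeneous generators, hence finitely generated;
* `exists_groupLike_gens`: the ideal generated by the `ψ z - ε z` is generated by finitely many
  elements `w - 1`, `w` group-like.
-/

set_option autoImplicit false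
universe u
open TensorProduct

namespace Groth.Agent.Lib.Helper19.KerG

open Groth.Agent.Lib.Helper1.MultType Groth.Agent.Lib.Helper19.GLift

attribute [local instance] Classical.propDecidable

section Mono

variable {T : Type u} [CommRing T] {M : Type u} [CommGroup M]
  {D : Type u} [CommRing D] [Bialgebra T D] (ψ : D →ₐc[T] MonoidAlgebra T M)
  {ι : Type u} [Fintype ι] (y : ι → D) (nn : ι → M)
  (hy : ∀ j, ψ (y j) = MonoidAlgebra.single (nn j) (Coalgebra.counit (R := T) (y j)))

/-- the degree of a monomial -/
noncomputable def degM (α : ι →₀ ℕ) : M := α.prod fun j k => nn j ^ k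

/-- the coefficient of a monomial -/
noncomputable def monU (α : ι →₀ ℕ) : T :=
  α.prod fun j k => Coalgebra.counit (R := T) (y j) ^ k

include hy in
lemma psi_aeval_monomial (α : ι →₀ ℕ) (a : T) :
    ψ (MvPolynomial.aeval y (MvPolynomial.monomial α a)) =
      MonoidAlgebra.single (degM nn α) (a * monU y α) := by
  rw [MvPolynomial.aeval_monomial, map_mul, AlgHomClass.commutes, Finsupp.prod, map_prod]
  simp only [map_pow, hy, MonoidAlgebra.single_pow]
  rw [MonoidAlgebra.prod_single, Algebra.algebraMap_eq_smul_one, smul_mul_assoc, one_mul,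
    MonoidAlgebra.smul_single']
  rfl

include hy in
lemma co_aeval_monomial (m : M) (α : ι →₀ ℕ) (a : T) :
    co ψ m (MvPolynomial.aeval y (MvPolynomial.monomial α a)) =
      if degM nn α = m then a * monU y α else 0 := by
  rw [co_apply, psi_aeval_monomial ψ y nn hy, coeffFun_single]

/-- the ideal generated by the monomials of degree `m` in the coefficients -/
noncomputable def K (m : M) : Ideal T := Ideal.span (monU y '' {α | degM nn α = m})

include hy in
theorem I_eq_K (hgen : Algebra.adjoin T (Set.range y) = ⊤) (m : M) : I ψ m = K y nn m := by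
  apply le_antisymm
  · rintro _ ⟨z, rfl⟩
    have hz : z ∈ (MvPolynomial.aeval y : MvPolynomial ι T →ₐ[T] D).range := by
      rw [← Algebra.adjoin_range_eq_range_aeval, hgen]
      exact Algebra.mem_top
    obtain ⟨p, hp⟩ := hz
    have hp' : MvPolynomial.aeval y p = z := hp
    subst hp'
    clear hp
    induction p using MvPolynomial.induction_on' with
    | monomial α a =>
      rw [co_aeval_monomial ψ y nn hy]
      split_ifs with h
      · exact Ideal.mul_mem_left _ _ (Ideal.subset_span ⟨α, h, rfl⟩)
      · exact Ideal.zero_mem _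
    | add p q hp hq =>
      rw [map_add, map_add]
      exact Ideal.add_mem _ hp hq
  · rw [K, Ideal.span_le]
    rintro _ ⟨α, hα, rfl⟩
    have hα : degM nn α = m := hα
    refine ⟨MvPolynomial.aeval y (MvPolynomial.monomial α (1 : T)), ?_⟩
    rw [co_aeval_monomial ψ y nn hy, if_pos hα, one_mul]

theorem K_fg (m : M) : (K (T := T) y nn m).FG := by
  have h1 : K (T := T) y nn m = Ideal.map
      (MvPolynomial.eval₂Hom (Int.castRingHom T) fun j => Coalgebra.counit (R := T) (y j))
      (Ideal.span ((fun α => MvPolynomial.monomial α (1 : ℤ)) '' {α | degM nn α = m})) := by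
    rw [Ideal.map_span, Set.image_image, K]
    congr 1
    apply Set.image_congr
    intro α _
    simp only [MvPolynomial.eval₂Hom_monomial, map_one, one_mul]
    rfl
  rw [h1]
  exact Ideal.FG.map ((isNoetherianRing_iff_ideal_fg _).1 inferInstance _) _

end Mono

section Main

variable {T : Type u} [CommRing T] {M : Type u} [CommGroup M]
  {D : Type u} [CommRing D] [Bialgebra T D] (ψ : D →ₐc[T] MonoidAlgebra T M)

theorem exists_idem (hft : Algebra.FiniteType T D) :
    ∃ (Y : Finset D) (nn : D → M) (e : M → T), Algebra.adjoin T (Y : Set D) = ⊤ ∧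
      (∀ y ∈ Y, ψ y = MonoidAlgebra.single (nn y) (Coalgebra.counit (R := T) y)) ∧
      ∀ m, IsIdempotentElem (e m) ∧ I ψ m = Ideal.span {e m} := by
  obtain ⟨Y, hY, hhom⟩ := exists_homog_gens ψ hft
  choose! nn hnn using hhom
  have hy : ∀ j : {y // y ∈ Y},
      ψ j.1 = MonoidAlgebra.single (nn j.1) (Coalgebra.counit (R := T) j.1) :=
    fun j => hnn j.1 j.2
  have hgen : Algebra.adjoin T (Set.range (fun j : {y // y ∈ Y} => j.1)) = ⊤ := by
    rw [Subtype.range_coe_subtype]
    exact hY
  have hidem : ∀ m : M, ∃ e : T, IsIdempotentElem e ∧ I ψ m = Ideal.span {e} := by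
    intro m
    have hfg : (I ψ m).FG := by
      rw [I_eq_K ψ (fun j : {y // y ∈ Y} => j.1) (fun j => nn j.1) hy hgen]
      exact K_fg _ _ m
    exact (Ideal.isIdempotentElem_iff_of_fg _ hfg).1
      (le_antisymm Ideal.mul_le_left (I_le_sq ψ m))
  choose e he using hidem
  exact ⟨Y, nn, e, hY, hnn, he⟩

theorem exists_groupLike_gens (hft : Algebra.FiniteType T D) :
    ∃ (ι : Type u) (_ : Fintype ι) (w : ι → MonoidAlgebra T M),
      (∀ j, IsGroupLikeElem T (w j)) ∧ Jpsi ψ = Ideal.span (Set.range fun j => w j - 1) := by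
  obtain ⟨Y, nn, e, hY, hnn, he⟩ := exists_idem ψ hft
  refine ⟨{y // y ∈ Y}, inferInstance,
    fun j => e (nn j.1) • MonoidAlgebra.single (nn j.1) (1 : T) +
      (1 - e (nn j.1)) • (1 : MonoidAlgebra T M), ?_, ?_⟩
  · intro j
    exact groupLike_idem (he _).1 (MonoidAlgebra.isGroupLikeElem_single_one (nn j.1))
  · rw [Jpsi_eq_of_adjoin ψ _ hY]
    apply le_antisymm
    · rw [Ideal.span_le]
      rintro _ ⟨y, hy, rfl⟩
      have hu : Coalgebra.counit (R := T) y ∈ I ψ (nn y) := by
        refine ⟨y, ?_⟩
        rw [co_apply, hnn y hy, coeffFun_single, if_pos rfl]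
      rw [(he (nn y)).2] at hu
      obtain ⟨t, ht⟩ := Ideal.mem_span_singleton'.1 hu
      have e1 : ψ y - algebraMap T (MonoidAlgebra T M) (Coalgebra.counit (R := T) y) =
          t • ((e (nn y) • MonoidAlgebra.single (nn y) (1 : T) +
            (1 - e (nn y)) • (1 : MonoidAlgebra T M)) - 1) := by
        rw [groupLike_idem_sub_one, smul_smul, ht, hnn y hy, smul_sub,
          MonoidAlgebra.smul_single', mul_one, Algebra.algebraMap_eq_smul_one]
      show ψ y - algebraMap T (MonoidAlgebra T M) (Coalgebra.counit (R := T) y) ∈ Ideal.span _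
      rw [e1]
      exact Submodule.smul_of_tower_mem _ _
        (Ideal.subset_span ⟨⟨y, Finset.mem_coe.1 hy⟩, rfl⟩)
    · rw [Ideal.span_le]
      rintro _ ⟨j, rfl⟩
      have hmem : e (nn j.1) ∈ I ψ (nn j.1) := by
        rw [(he (nn j.1)).2]
        exact Ideal.subset_span rfl
      obtain ⟨z, hz⟩ := hmem
      show e (nn j.1) • MonoidAlgebra.single (nn j.1) (1 : T) +
        (1 - e (nn j.1)) • (1 : MonoidAlgebra T M) - 1 ∈ _
      rw [groupLike_idem_sub_one, ← hz, ← Jpsi_eq_of_adjoin ψ _ hY]
      exact smul_mem_Jpsi ψ _ z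

end Main

end Groth.Agent.Lib.Helper19.KerG
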