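import Mathlib
import Groth.Prelude.Def_SGA3b
import Groth.Agent.Lib.Helper19.KerG2

/-!
# Kernels of homomorphisms from groups of multiplicative type to affine groups, part 3 (helper19)

* `KerGen`: finitely many group-like elements `w j` of `T ⊗ A` such that the extension of the
  ideal `J` to `T ⊗ A` is generated by the `w j - 1`; base change `KerGen.map`;
* `exists_kerGen`: existence when `T ⊗ A` is diagonalised and `J` is the ideal of the kernel of a
  homomorphism to an affine group of finite type;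
* the type of the quotient `A ⧸ J` on the components of `Spec T` and the descent datum on the
  idempotents of the components of a given type (as in `KerMT4`).
-/

set_option autoImplicit false
universe u
open TensorProduct

namespace Groth.Agent.Lib.Helper19.KerG

open Groth.Agent.Lib.Helper1.MultType Groth.Agent.Lib.Helper19.GLift
open Groth.Agent.Lib.Helper19 Groth.Agent.Lib.Helper28
open Groth.Agent.Lib.Helper19.KerMT

attribute [local instance] Classical.propDecidable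

/-- finitely many group-like elements of `T ⊗ A` generating the extension of the ideal `J` -/
structure KerGen (R : Type u) [CommRing R] (T : Type u) [CommRing T] [Algebra R T]
    (A : Type u) [CommRing A] [HopfAlgebra R A] (J : Ideal A) (ι : Type u) where
  w : ι → T ⊗[R] A
  gl : ∀ j, IsGroupLikeElem T (w j)
  gen : Ideal.map (Algebra.TensorProduct.includeRight : A →ₐ[R] T ⊗[R] A) J =
    Ideal.span (Set.range fun j => w j - 1)

namespace KerGen

variable {R : Type u} [CommRing R] {T : Type u} [CommRing T] [Algebra R T]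
  {A : Type u} [CommRing A] [HopfAlgebra R A] {J : Ideal A} {ι : Type u}

/-- base change of generators of the ideal of the kernel -/
noncomputable def map (a : KerGen R T A J ι) {T' : Type u} [CommRing T'] [Algebra R T']
    (ρ : T →ₐ[R] T') : KerGen R T' A J ι where
  w j := tm ρ (a.w j)
  gl j := groupLike_map ρ (a.gl j)
  gen := by
    apply le_antisymm
    · rw [Ideal.map_le_iff_le_comap]
      intro x hx
      rw [Ideal.mem_comap, Algebra.TensorProduct.includeRight_apply]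
      have h0 : (Algebra.TensorProduct.includeRight : A →ₐ[R] T ⊗[R] A) x ∈
          Ideal.span (Set.range fun j => a.w j - 1) := by
        rw [← a.gen]
        exact Ideal.mem_map_of_mem _ hx
      have h1 := mem_span_of_map (tm (B := A) ρ) (fun j => a.w j - 1)
        (fun j => tm ρ (a.w j) - 1) (fun j => by rw [map_sub, map_one]) h0
      rw [Algebra.TensorProduct.includeRight_apply, tm_tmul, map_one] at h1
      exact h1
    · rw [Ideal.span_le]
      rintro _ ⟨j, rfl⟩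
      have h0 : a.w j - 1 ∈
          Ideal.map (Algebra.TensorProduct.includeRight : A →ₐ[R] T ⊗[R] A) J := by
        rw [a.gen]
        exact Ideal.subset_span ⟨j, rfl⟩
      have hle : Ideal.map (Algebra.TensorProduct.includeRight : A →ₐ[R] T ⊗[R] A) J ≤
          Ideal.comap (tm (B := A) ρ)
            (Ideal.map (Algebra.TensorProduct.includeRight : A →ₐ[R] T' ⊗[R] A) J) := by
        rw [Ideal.map_le_iff_le_comap]
        intro x hx
        rw [Ideal.mem_comap, Ideal.mem_comap, Algebra.TensorProduct.includeRight_apply, tm_tmul,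
          map_one]
        exact Ideal.mem_map_of_mem _ hx
      have h1 := hle h0
      rw [Ideal.mem_comap, map_sub, map_one] at h1
      exact h1

lemma map_w (a : KerGen R T A J ι) {T' : Type u} [CommRing T'] [Algebra R T']
    (ρ : T →ₐ[R] T') (j : ι) : (a.map ρ).w j = tm ρ (a.w j) := rfl

end KerGen

section Ker

variable {R : Type u} [CommRing R] {A : Type u} [CommRing A] [HopfAlgebra R A]
  (J : Ideal A) [J.IsHopfIdeal R]
  {T : Type u} [CommRing T] [Algebra R T] {ι : Type u}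

theorem ker_pJ_eq' (a : KerGen R T A J ι) (x : T ⊗[R] A) :
    pJ R J T x = 0 ↔ x ∈ Ideal.span (Set.range fun j => a.w j - 1) := by
  rw [pJ_eq_zero_iff, a.gen]

variable [Fintype ι] {M : Type u} [CommGroup M]

theorem nonempty_glb_component' (dA : GLB R T A M) (a : KerGen R T A J ι)
    {T' : Type u} [CommRing T'] [Algebra R T'] (ρ : T →ₐ[R] T') (σ : ι → M)
    (h : ρ (ee (fun j => dA.equiv.symm (a.w j)) σ) = 1) :
    Nonempty (GLB R T' (A ⧸ J) (M ⧸ Subgroup.closure (Set.range σ))) := by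
  apply nonempty_glb_quot J (dA.map ρ) σ
  intro x
  rw [ker_pJ_eq' J (a.map ρ)]
  have hgen : ∀ j, (a.map ρ).w j = (dA.map ρ).χ (σ j) := by
    intro j
    rw [KerGen.map_w]
    exact tm_eq_χ dA a.w a.gl ρ σ h j
  simp only [hgen]

theorem nonempty_mulEquiv_types' (dA : GLB R T A M) (a : KerGen R T A J ι)
    {D : Type u} [CommRing D] [IsDomain D] [Algebra R D] (ρ₁ ρ₂ : T →ₐ[R] D) (σ τ : ι → M)
    (h₁ : ρ₁ (ee (fun j => dA.equiv.symm (a.w j)) σ) = 1)
    (h₂ : ρ₂ (ee (fun j => dA.equiv.symm (a.w j)) τ) = 1) :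
    Nonempty ((M ⧸ Subgroup.closure (Set.range σ)) ≃* (M ⧸ Subgroup.closure (Set.range τ))) := by
  obtain ⟨d₁⟩ := nonempty_glb_component' J dA a ρ₁ σ h₁
  obtain ⟨d₂⟩ := nonempty_glb_component' J dA a ρ₂ τ h₂
  exact nonempty_mulEquiv_of_isDomain d₁ d₂

end Ker

section Exists

variable {R : Type u} [CommRing R] {A : Type u} [CommRing A] [HopfAlgebra R A]
  {C : Type u} [CommRing C] [HopfAlgebra R C] (φ : C →ₐc[R] A)
  (J : Ideal A) [J.IsHopfIdeal R]
  (hJ : J = Ideal.map φ (RingHom.ker (Bialgebra.counitAlgHom R C)))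
  (T : Type u) [CommRing T] [Algebra R T]

include hJ in
theorem map_includeRight_eq :
    Ideal.map (Algebra.TensorProduct.includeRight : A →ₐ[R] T ⊗[R] A) J =
      Ideal.span (Set.range fun z : T ⊗[R] C =>
        phiT φ T z - algebraMap T (T ⊗[R] A) (Coalgebra.counit (R := T) z)) := by
  apply le_antisymm
  · rw [Ideal.map_le_iff_le_comap, hJ, Ideal.map_le_iff_le_comap]
    intro c hc
    rw [RingHom.mem_ker] at hc
    have hc0 : Coalgebra.counit (R := R) c = 0 := hc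
    rw [Ideal.mem_comap, Ideal.mem_comap]
    have hc' : Coalgebra.counit (R := T) ((1 : T) ⊗ₜ[R] c) = 0 := by
      rw [TensorProduct.counit_tmul, CommSemiring.counit_apply, hc0, zero_smul]
    have h1 : (Algebra.TensorProduct.includeRight : A →ₐ[R] T ⊗[R] A) (φ c) =
        phiT φ T ((1 : T) ⊗ₜ[R] c) -
          algebraMap T (T ⊗[R] A) (Coalgebra.counit (R := T) ((1 : T) ⊗ₜ[R] c)) := by
      rw [hc', map_zero, sub_zero, phiT_tmul]
      rfl
    rw [h1]
    exact Ideal.subset_span ⟨_, rfl⟩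
  · rw [Ideal.span_le]
    rintro _ ⟨z, rfl⟩
    exact phiT_sub_mem φ J hJ z

variable {T} {M : Type u} [CommGroup M]

include hJ in
theorem exists_kerGen (hft : Algebra.FiniteType R C) (dA : GLB R T A M) :
    ∃ (ι : Type u) (_ : Fintype ι), Nonempty (KerGen R T A J ι) := by
  haveI := hft
  have hft' : Algebra.FiniteType T (T ⊗[R] C) := inferInstance
  obtain ⟨ψ, hψ⟩ : ∃ ψ : T ⊗[R] C →ₐc[T] MonoidAlgebra T M,
      ψ = dA.equiv.symm.toBialgHom.comp (phiT φ T) := ⟨_, rfl⟩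
  have hψE : ∀ z, dA.equiv (ψ z) = phiT φ T z := by
    intro z
    rw [hψ]
    exact dA.equiv.apply_symm_apply _
  obtain ⟨ι, hι, w, hgl, hw⟩ := exists_groupLike_gens ψ hft'
  refine ⟨ι, hι, ⟨⟨fun j => dA.equiv (w j), fun j => (hgl j).map dA.equiv, ?_⟩⟩⟩
  rw [map_includeRight_eq φ J hJ T]
  have h1 : (fun z : T ⊗[R] C =>
      phiT φ T z - algebraMap T (T ⊗[R] A) (Coalgebra.counit (R := T) z)) =
      fun z => dA.equiv (ψ z - algebraMap T (MonoidAlgebra T M) (Coalgebra.counit (R := T) z)) := by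
    funext z
    rw [map_sub, hψE, AlgHomClass.commutes]
  have h2 : (fun j => dA.equiv (w j) - 1) = fun j => dA.equiv (w j - 1) := by
    funext j
    rw [map_sub, map_one]
  have key : ∀ {κ : Type u} (g : κ → MonoidAlgebra T M),
      Ideal.span (Set.range fun k => dA.equiv (g k)) =
        Ideal.map dA.equiv (Ideal.span (Set.range g)) := by
    intro κ g
    rw [Ideal.map_span, ← Set.range_comp]
    rfl
  rw [h1, h2, key, key]
  exact congrArg (Ideal.map dA.equiv) hw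

end Exists

section Types

variable {R : Type u} [CommRing R] {A : Type u} [CommRing A] [HopfAlgebra R A]
  (J : Ideal A) [J.IsHopfIdeal R]
  {T : Type u} [CommRing T] [Algebra R T] {ι : Type u} [Fintype ι] {M : Type u} [CommGroup M]
  (dA : GLB R T A M) (a : KerGen R T A J ι)

/-- the group-like elements of `T[M]` which generate the ideal of the kernel -/
noncomputable def kxx (j : ι) : MonoidAlgebra T M := dA.equiv.symm (a.w j)

lemma kxx_gl (j : ι) : IsGroupLikeElem T (kxx J dA a j) :=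
  (a.gl j).map dA.equiv.symm

/-- the idempotent of the components of the type of `σ₀` -/
noncomputable def keT (σ₀ : ι → M) : T :=
  ∑ σ ∈ (Sig (kxx J dA a)).filter (cls σ₀), ee (kxx J dA a) σ

theorem cls_iff_of_tmul_ne_zero' (σ₀ σ τ : ι → M)
    (hne : ee (kxx J dA a) σ ⊗ₜ[R] ee (kxx J dA a) τ ≠ (0 : T ⊗[R] T)) :
    cls σ₀ σ ↔ cls σ₀ τ := by
  obtain ⟨w, hw⟩ : ∃ w : T ⊗[R] T, w = ee (kxx J dA a) σ ⊗ₜ[R] ee (kxx J dA a) τ := ⟨_, rfl⟩
  have hidem : IsIdempotentElem w := by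
    unfold IsIdempotentElem
    rw [hw, Algebra.TensorProduct.tmul_mul_tmul, ee_mul_self _ (kxx_gl J dA a),
      ee_mul_self _ (kxx_gl J dA a)]
  have hw0 : w ∉ (⊥ : Ideal (T ⊗[R] T)) := by
    rw [Ideal.mem_bot, hw]
    exact hne
  obtain ⟨𝔮, h𝔮, -, hw𝔮⟩ := Ideal.exists_le_prime_notMem_of_isIdempotentElem ⊥ w hidem hw0
  haveI := h𝔮
  obtain ⟨ρ₁, hρ₁⟩ : ∃ ρ₁ : T →ₐ[R] (T ⊗[R] T) ⧸ 𝔮,
      ρ₁ = (Ideal.Quotient.mkₐ R 𝔮).comp Algebra.TensorProduct.includeLeft := ⟨_, rfl⟩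
  obtain ⟨ρ₂, hρ₂⟩ : ∃ ρ₂ : T →ₐ[R] (T ⊗[R] T) ⧸ 𝔮,
      ρ₂ = (Ideal.Quotient.mkₐ R 𝔮).comp Algebra.TensorProduct.includeRight := ⟨_, rfl⟩
  have hprod : ρ₁ (ee (kxx J dA a) σ) * ρ₂ (ee (kxx J dA a) τ) ≠ 0 := by
    have h1 : ρ₁ (ee (kxx J dA a) σ) * ρ₂ (ee (kxx J dA a) τ) = Ideal.Quotient.mk 𝔮 w := by
      rw [hρ₁, hρ₂, hw]
      show Ideal.Quotient.mk 𝔮 (ee (kxx J dA a) σ ⊗ₜ[R] (1 : T)) *
        Ideal.Quotient.mk 𝔮 ((1 : T) ⊗ₜ[R] ee (kxx J dA a) τ) = _
      rw [← map_mul, Algebra.TensorProduct.tmul_mul_tmul, mul_one, one_mul]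
    rw [h1]
    intro h0
    exact hw𝔮 (Ideal.Quotient.eq_zero_iff_mem.1 h0)
  have hone : ∀ {F : Type u} [FunLike F T ((T ⊗[R] T) ⧸ 𝔮)] [RingHomClass F T ((T ⊗[R] T) ⧸ 𝔮)]
      (ρ : F) (ς : ι → M), ρ (ee (kxx J dA a) ς) ≠ 0 → ρ (ee (kxx J dA a) ς) = 1 := by
    intro F _ _ ρ ς hς
    have hid : ρ (ee (kxx J dA a) ς) * ρ (ee (kxx J dA a) ς) = ρ (ee (kxx J dA a) ς) := by
      rw [← map_mul, ee_mul_self _ (kxx_gl J dA a)]
    have h2 : ρ (ee (kxx J dA a) ς) * (ρ (ee (kxx J dA a) ς) - 1) = 0 := by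
      rw [mul_sub, hid, mul_one, sub_self]
    rcases mul_eq_zero.1 h2 with h3 | h3
    · exact absurd h3 hς
    · exact sub_eq_zero.1 h3
  have h₁ : ρ₁ (ee (kxx J dA a) σ) = 1 :=
    hone ρ₁ σ (fun h0 => hprod (by rw [h0, zero_mul]))
  have h₂ : ρ₂ (ee (kxx J dA a) τ) = 1 :=
    hone ρ₂ τ (fun h0 => hprod (by rw [h0, mul_zero]))
  obtain ⟨ε⟩ := nonempty_mulEquiv_types' J dA a ρ₁ ρ₂ σ τ h₁ h₂
  constructor
  · rintro ⟨ε'⟩
    exact ⟨ε.symm.trans ε'⟩
  · rintro ⟨ε'⟩
    exact ⟨ε.trans ε'⟩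

theorem keT_tmul_one (σ₀ : ι → M) :
    keT J dA a σ₀ ⊗ₜ[R] (1 : T) = (1 : T) ⊗ₜ[R] keT J dA a σ₀ := by
  unfold keT
  exact sum_filter_tmul_one _ _ (sum_ee _ (kxx_gl J dA a)) _
    (fun σ _ τ _ hne => cls_iff_of_tmul_ne_zero' J dA a σ₀ σ τ hne)

lemma keT_mul_ee (σ₀ : ι → M) (hσ₀ : σ₀ ∈ Sig (kxx J dA a)) :
    keT J dA a σ₀ * ee (kxx J dA a) σ₀ = ee (kxx J dA a) σ₀ := by
  unfold keT
  rw [Finset.sum_mul, Finset.sum_eq_single σ₀]
  · exact ee_mul_self _ (kxx_gl J dA a) σ₀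
  · intro σ _ hσ
    exact ee_mul_of_ne _ (kxx_gl J dA a) hσ
  · intro h
    exact absurd (Finset.mem_filter.2 ⟨hσ₀, ⟨MulEquiv.refl _⟩⟩) h

lemma keT_mul_self (σ₀ : ι → M) : keT J dA a σ₀ * keT J dA a σ₀ = keT J dA a σ₀ := by
  unfold keT
  rw [Finset.sum_mul]
  refine Finset.sum_congr rfl fun σ hσ => ?_
  rw [Finset.mul_sum, Finset.sum_eq_single σ]
  · exact ee_mul_self _ (kxx_gl J dA a) σ
  · intro τ _ hτ
    exact ee_mul_of_ne _ (kxx_gl J dA a) (Ne.symm hτ)
  · intro h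
    exact absurd hσ h

end Types

end Groth.Agent.Lib.Helper19.KerG
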