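import Mathlib
import Groth.Prelude.Def_SGA3b
import Groth.Agent.Lib.Helper19.KerG3

/-!
# Kernels of homomorphisms from groups of multiplicative type to affine groups, part 4 (helper19)

`kernel_isMultType_of_finiteType`: the kernel of a homomorphism from a group of multiplicative
type to an affine group of finite type is of multiplicative type.
-/

set_option autoImplicit false
universe u
open TensorProduct

namespace Groth.Agent.Lib.Helper19.KerG

open Groth.Agent.Lib.Helper1.MultType Groth.Agent.Lib.Helper19.GLift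
open Groth.Agent.Lib.Helper19 Groth.Agent.Lib.Helper28
open Groth.Agent.Lib.Helper19.KerMT

attribute [local instance] Classical.propDecidable

section Main

variable {R : Type u} [CommRing R] {A : Type u} [CommRing A] [HopfAlgebra R A]
  (J : Ideal A) [J.IsHopfIdeal R]
  {ι : Type u} [Fintype ι] {T : Type u} [CommRing T] [Algebra R T] {M : Type u}
  [CommGroup M] (dA : GLB R T A M) (a : KerGen R T A J ι)

/-- the kernel is diagonalisable over the component of the type of `σ₀` -/
theorem isDiag_component' (σ₀ : ι → M) :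
    SGA3b.IsDiag (T ⧸ Ideal.span {1 - keT J dA a σ₀})
      ((T ⧸ Ideal.span {1 - keT J dA a σ₀}) ⊗[R] (A ⧸ J)) := by
  obtain ⟨E, hE⟩ : ∃ E : T, E = keT J dA a σ₀ := ⟨_, rfl⟩
  rw [← hE]
  obtain ⟨F, hF⟩ : ∃ F : Finset (ι → M), F = (Sig (kxx J dA a)).filter (cls σ₀) := ⟨_, rfl⟩
  have hEsum : E = ∑ σ ∈ F, ee (kxx J dA a) σ := by rw [hE, hF]; rfl
  have hFcls : ∀ σ ∈ F, cls σ₀ σ := by
    intro σ hσ
    rw [hF] at hσ
    exact (Finset.mem_filter.1 hσ).2
  obtain ⟨e', he'⟩ : ∃ e' : {σ // σ ∈ F} → T ⧸ Ideal.span {1 - E},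
      e' = fun k => Ideal.Quotient.mk _ (ee (kxx J dA a) k.1) := ⟨_, rfl⟩
  have hmkE : Ideal.Quotient.mk (Ideal.span {1 - E}) E = 1 := by
    have h : Ideal.Quotient.mk (Ideal.span {1 - E}) (1 - E) = 0 :=
      Ideal.Quotient.eq_zero_iff_mem.2 (Ideal.subset_span rfl)
    rw [map_sub, map_one, sub_eq_zero] at h
    exact h.symm
  have hsum : ∑ k, e' k = 1 := by
    rw [he', Finset.sum_coe_sort F (fun σ => Ideal.Quotient.mk (Ideal.span {1 - E})
      (ee (kxx J dA a) σ)), ← map_sum, ← hEsum, hmkE]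
  have horth : ∀ k k', k ≠ k' → e' k * e' k' = 0 := by
    intro k k' hkk'
    rw [he']
    show Ideal.Quotient.mk _ (ee (kxx J dA a) k.1) * Ideal.Quotient.mk _ (ee (kxx J dA a) k'.1) = 0
    rw [← map_mul, ee_mul_of_ne _ (kxx_gl J dA a) (fun h => hkk' (Subtype.ext h)), map_zero]
  have hcomp : ∀ k : {σ // σ ∈ F}, Nonempty (GLB R (Ti e' k) (A ⧸ J)
      (M ⧸ Subgroup.closure (Set.range σ₀))) := by
    intro k
    have hk : ((prj R e' k).comp (Ideal.Quotient.mkₐ R (Ideal.span {1 - E})))
        (ee (kxx J dA a) k.1) = 1 := by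
      have h1 := prj_self (R := R) e' k
      rw [he'] at h1
      rw [he']
      exact h1
    obtain ⟨d⟩ := nonempty_glb_component' J dA a
      ((prj R e' k).comp (Ideal.Quotient.mkₐ R (Ideal.span {1 - E}))) k.1 hk
    have hcls : cls σ₀ k.1 := hFcls k.1 k.2
    obtain ⟨ε⟩ := hcls
    exact ⟨d.congr ε.symm⟩
  obtain ⟨d⟩ := nonempty_glb_of_components e' hsum horth (fun k => Classical.choice (hcomp k))
  exact d.isDiag

include dA a in
theorem exists_away_const_gen [Module.Flat R T] (g₀ : R)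
    (hunit : IsUnit (algebraMap R T g₀))
    (hprime0 : ∀ q : Ideal R, q.IsPrime → g₀ ∉ q →
      ∃ Q : Ideal T, Q.IsPrime ∧ Q.comap (algebraMap R T) = q)
    (p : Ideal R) [hp : p.IsPrime] (hg₀ : g₀ ∉ p) :
    ∃ g : R, g ∉ p ∧
      SGA3b.IsMultTypeConst (Localization.Away g) (Localization.Away g ⊗[R] (A ⧸ J)) := by
  -- a prime over `p` and its component
  obtain ⟨P₀, hP₀, hP₀p⟩ := hprime0 p hp hg₀
  have hσ₀ : ∃ σ₀ ∈ Sig (kxx J dA a), ee (kxx J dA a) σ₀ ∉ P₀ := by
    by_contra hcon
    push Not at hcon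
    have h1 : (1 : T) ∈ P₀ := by
      rw [← sum_ee _ (kxx_gl J dA a)]
      exact Ideal.sum_mem _ hcon
    exact hP₀.ne_top ((Ideal.eq_top_iff_one _).2 h1)
  obtain ⟨σ₀, hσ₀S, hσ₀P⟩ := hσ₀
  obtain ⟨E, hE⟩ : ∃ E : T, E = keT J dA a σ₀ := ⟨_, rfl⟩
  have hEdesc : E ⊗ₜ[R] (1 : T) = (1 : T) ⊗ₜ[R] E := by
    rw [hE]
    exact keT_tmul_one J dA a σ₀
  have hEidem : IsIdempotentElem E := by
    rw [hE]
    exact keT_mul_self J dA a σ₀
  have hEP : E ∉ P₀ := by
    intro hmem
    apply hσ₀P
    rw [← keT_mul_ee J dA a σ₀ hσ₀S, ← hE]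
    exact Ideal.mul_mem_right _ _ hmem
  -- descent of the idempotent
  letI : Algebra (Localization.Away g₀) T :=
    (IsLocalization.Away.lift g₀ hunit).toAlgebra
  haveI : IsScalarTower R (Localization.Away g₀) T :=
    IsScalarTower.of_algebraMap_eq fun r =>
      (IsLocalization.Away.lift_eq g₀ hunit r).symm
  haveI : Module.FaithfullyFlat (Localization.Away g₀) T :=
    faithfullyFlat_away g₀ T hprime0
  obtain ⟨n, a', ha'⟩ := exists_descent_elem g₀ T E hEdesc
  refine ⟨g₀ * a', ?_, ?_⟩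
  · intro hg
    rcases hp.mem_or_mem hg with h1 | h1
    · exact hg₀ h1
    · have h3 : algebraMap R T a' ∈ P₀ := by
        rw [← hP₀p] at h1
        exact h1
      rw [← ha'] at h3
      rcases hP₀.mem_or_mem h3 with h4 | h4
      · exact hEP h4
      · exact hP₀.ne_top (Ideal.eq_top_of_isUnit_mem _ h4 (hunit.pow n))
  · have hmkE : Ideal.Quotient.mk (Ideal.span {1 - E}) E = 1 := by
      have h : Ideal.Quotient.mk (Ideal.span {1 - E}) (1 - E) = 0 :=
        Ideal.Quotient.eq_zero_iff_mem.2 (Ideal.subset_span rfl)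
      rw [map_sub, map_one, sub_eq_zero] at h
      exact h.symm
    haveI : IsLocalization.Away E (T ⧸ Ideal.span {1 - E}) :=
      IsLocalization.away_of_isIdempotentElem hEidem Ideal.mk_ker Ideal.Quotient.mk_surjective
    haveI : Module.Flat T (T ⧸ Ideal.span {1 - E}) :=
      IsLocalization.flat _ (Submonoid.powers E)
    haveI : Module.Flat R (T ⧸ Ideal.span {1 - E}) :=
      Module.Flat.trans R T _
    apply isMultTypeConst_away (g₀ * a') (T ⧸ Ideal.span {1 - E})
    · obtain ⟨u, hu⟩ : ∃ u : T, u = algebraMap R T g₀ := ⟨_, rfl⟩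
      have hunit' : IsUnit u := by rw [hu]; exact hunit
      have ha'' : E * u ^ n = algebraMap R T a' := by rw [hu]; exact ha'
      have h2 : algebraMap R T (g₀ * a') = u * (E * u ^ n) := by
        rw [map_mul (algebraMap R T) g₀ a', ← hu, ha'']
      have h1 : algebraMap R (T ⧸ Ideal.span {1 - E}) (g₀ * a') =
          Ideal.Quotient.mk (Ideal.span {1 - E}) (u * (E * u ^ n)) := by
        rw [← h2]
        rfl
      rw [h1, map_mul, map_mul, map_pow, hmkE, one_mul]
      exact (hunit'.map (Ideal.Quotient.mk (Ideal.span {1 - E}))).mul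
        ((hunit'.map (Ideal.Quotient.mk (Ideal.span {1 - E}))).pow n)
    · intro q hq hgq
      haveI := hq
      have hq1 : g₀ ∉ q := fun h => hgq (Ideal.mul_mem_right _ _ h)
      have hq2 : a' ∉ q := fun h => hgq (Ideal.mul_mem_left _ _ h)
      obtain ⟨Q₀, hQ₀, hQ₀q⟩ := hprime0 q hq hq1
      haveI := hQ₀
      have hEQ : E ∉ Q₀ := by
        intro hmem
        apply hq2
        rw [← hQ₀q, Ideal.mem_comap, ← ha']
        exact Ideal.mul_mem_right _ _ hmem
      have h1E : Ideal.span {1 - E} ≤ Q₀ := by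
        rw [Ideal.span_le, Set.singleton_subset_iff]
        have h0 : E * (1 - E) ∈ Q₀ := by
          rw [mul_sub, mul_one, hEidem.eq, sub_self]
          exact Q₀.zero_mem
        rcases hQ₀.mem_or_mem h0 with h | h
        · exact absurd h hEQ
        · exact h
      obtain ⟨Q, hQ, hQc⟩ := exists_prime_quot (Ideal.span {1 - E}) Q₀ h1E
      refine ⟨Q, hQ, ?_⟩
      rw [IsScalarTower.algebraMap_eq R T (T ⧸ Ideal.span {1 - E}), ← Ideal.comap_comap]
      show (Q.comap (Ideal.Quotient.mk (Ideal.span {1 - E}))).comap _ = q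
      rw [hQc, hQ₀q]
    · rw [hE]
      exact isDiag_component' J dA a σ₀

end Main

section Final

variable {R : Type u} [CommRing R] {A : Type u} [CommRing A] [HopfAlgebra R A]
  {C : Type u} [CommRing C] [HopfAlgebra R C] (φ : C →ₐc[R] A)
  (J : Ideal A) [J.IsHopfIdeal R]
  (hJ : J = Ideal.map φ (RingHom.ker (Bialgebra.counitAlgHom R C)))

include hJ in
/-- The kernel of a homomorphism from a group of multiplicative type to an affine group of finite
type is of multiplicative type. -/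
theorem kernel_isMultType_of_finiteType (hA : SGA3b.IsMultType R A)
    (hCft : Algebra.FiniteType R C) : SGA3b.IsMultType R (A ⧸ J) := by
  apply isMultType_of_forall_prime
  intro p hp
  haveI := hp
  obtain ⟨sA, hsA, hA'⟩ := hA
  have exA : ∃ f ∈ sA, f ∉ p := by
    by_contra hcon
    push Not at hcon
    have h1 : Ideal.span sA ≤ p := Ideal.span_le.2 hcon
    rw [hsA] at h1
    exact hp.ne_top (top_le_iff.1 h1)
  obtain ⟨f, hfA, hf⟩ := exA
  obtain ⟨cA⟩ := Chart.nonempty_of_const (hA' f hfA)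
  have hbijA : Function.Bijective cA.thetaB :=
    ⟨Function.LeftInverse.injective (g := cA.theta) cA.theta_thetaB,
      fun z => ⟨cA.theta z, cA.thetaB_theta z⟩⟩
  have dA : GLB R cA.S A cA.N := GLB.ofEquiv (BialgEquiv.ofBijective cA.thetaB hbijA)
  obtain ⟨ι, _, ⟨a⟩⟩ := exists_kerGen φ J hJ hCft dA
  exact exists_away_const_gen J dA a f cA.isUnit_f
    (fun q hq hfq => by haveI := hq; exact cA.exists_prime q hfq) p hf

end Final

end Groth.Agent.Lib.Helper19.KerG
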