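import Mathlib
import Groth.Prelude.Def_ComodSub

/-!
# Dual comodule of a finitely presented comodule over a flat coalgebra (helper19)

* `dth_bijective`: for `M` finitely presented and `N` flat, `M^* ⊗ N → Hom(M, N)` is bijective.
* `mkL`: the left comodule structure on `M^*` from a linear map `lam : M^* → A ⊗ M^*` reading as `ldualFun`.
-/

open TensorProduct

namespace Groth.Agent.Lib.Helper19.LDual

universe u v w

section Bij

variable (k : Type u) [CommRing k] (M : Type w) [AddCommGroup M] [Module k M]
  [Module.FinitePresentation k M] (N : Type v) [AddCommGroup N] [Module k N] [Module.Flat k N]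

theorem dth_surjective : Function.Surjective (dualTensorHom k M N) := by
  intro f
  obtain ⟨n, h₂, h₃, hf⟩ := Module.Flat.exists_factorization_of_finitePresentation f
  refine ⟨∑ i : Fin n, ((Finsupp.lapply i) ∘ₗ h₂) ⊗ₜ[k] h₃ (Finsupp.single i 1), ?_⟩
  ext m
  rw [map_sum, LinearMap.sum_apply, hf]
  simp only [dualTensorHom_apply, LinearMap.comp_apply, Finsupp.lapply_apply]
  conv_rhs => rw [← Finsupp.univ_sum_single (h₂ m)]
  rw [map_sum]
  refine Finset.sum_congr rfl fun i _ => ?_
  rw [← map_smul, Finsupp.smul_single, smul_eq_mul, mul_one]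

theorem sum_tmul_eq_zero {ι : Type*} [Fintype ι] (φ : ι → Module.Dual k M) (a : ι → N)
    (h : ∀ m, ∑ i, φ i m • a i = 0) : ∑ i, φ i ⊗ₜ[k] a i = 0 := by
  classical
  let fM : M →ₗ[k] (ι →₀ k) :=
    (Finsupp.linearEquivFunOnFinite k k ι).symm.toLinearMap ∘ₗ LinearMap.pi φ
  let xN : (ι →₀ k) →ₗ[k] N := Finsupp.linearCombination k a
  have hfM : ∀ m i, fM m i = φ i m := by
    intro m i
    simp [fM]
  have hxN : ∀ v : ι →₀ k, xN v = ∑ i, v i • a i := by
    intro v
    simp only [xN, Finsupp.linearCombination_apply]
    rw [Finsupp.sum_fintype]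
    intro i
    exact zero_smul _ _
  have hcomp : xN ∘ₗ fM = 0 := by
    ext m
    rw [LinearMap.comp_apply, hxN, LinearMap.zero_apply]
    simp only [hfM]
    exact h m
  obtain ⟨p, a', y, hxy, ha'⟩ := Module.Flat.exists_factorization_of_comp_eq_zero_of_free hcomp
  have ha : ∀ i : ι, a i = ∑ j : Fin p, (a' (Finsupp.single i 1)) j • y (Finsupp.single j 1) := by
    intro i
    have h1 : a i = xN (Finsupp.single i 1) := by
      simp [xN]
    rw [h1, hxy, LinearMap.comp_apply]
    conv_lhs => rw [← Finsupp.univ_sum_single (a' (Finsupp.single i 1))]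
    rw [map_sum]
    refine Finset.sum_congr rfl fun j _ => ?_
    rw [← map_smul, Finsupp.smul_single, smul_eq_mul, mul_one]
  have hφ : ∀ j : Fin p, ∑ i : ι, (a' (Finsupp.single i 1)) j • φ i = 0 := by
    intro j
    ext m
    have h2 := LinearMap.congr_fun ha' m
    have h3 : fM m = ∑ i : ι, φ i m • Finsupp.single i (1 : k) := by
      ext i'
      rw [hfM]
      simp [Finsupp.single_apply]
    simp only [LinearMap.comp_apply, LinearMap.zero_apply] at h2
    rw [h3, map_sum] at h2
    have h4 := DFunLike.congr_fun h2 j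
    simp only [map_smul, Finsupp.coe_finset_sum, Finset.sum_apply, Finsupp.coe_smul,
      Pi.smul_apply, smul_eq_mul, Finsupp.coe_zero, Pi.zero_apply] at h4
    simp only [LinearMap.sum_apply, LinearMap.smul_apply, LinearMap.zero_apply, smul_eq_mul]
    rw [← h4]
    exact Finset.sum_congr rfl fun i _ => mul_comm _ _
  calc ∑ i, φ i ⊗ₜ[k] a i
      = ∑ i, ∑ j : Fin p, φ i ⊗ₜ[k] ((a' (Finsupp.single i 1)) j • y (Finsupp.single j 1)) := by
        refine Finset.sum_congr rfl fun i _ => ?_
        rw [ha i, TensorProduct.tmul_sum]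
    _ = ∑ j : Fin p, ∑ i, ((a' (Finsupp.single i 1)) j • φ i) ⊗ₜ[k] y (Finsupp.single j 1) := by
        rw [Finset.sum_comm]
        refine Finset.sum_congr rfl fun j _ => Finset.sum_congr rfl fun i _ => ?_
        rw [TensorProduct.smul_tmul]
    _ = ∑ j : Fin p, (∑ i, (a' (Finsupp.single i 1)) j • φ i) ⊗ₜ[k] y (Finsupp.single j 1) := by
        refine Finset.sum_congr rfl fun j _ => ?_
        rw [TensorProduct.sum_tmul]
    _ = 0 := by
        refine Finset.sum_eq_zero fun j _ => ?_
        rw [hφ j, TensorProduct.zero_tmul]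

theorem dth_injective : Function.Injective (dualTensorHom k M N) := by
  rw [injective_iff_map_eq_zero]
  intro x hx
  obtain ⟨S, rfl⟩ := TensorProduct.exists_finset x
  rw [← Finset.sum_coe_sort S (fun i => i.1 ⊗ₜ[k] i.2)]
  apply sum_tmul_eq_zero k M N (fun i : S => (i : Module.Dual k M × N).1)
    (fun i : S => (i : Module.Dual k M × N).2)
  intro m
  have h1 := LinearMap.congr_fun hx m
  rw [map_sum, LinearMap.sum_apply] at h1
  simp only [dualTensorHom_apply, LinearMap.zero_apply] at h1
  rw [Finset.sum_coe_sort S (fun i => i.1 m • i.2)]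
  exact h1

theorem dth_bijective : Function.Bijective (dualTensorHom k M N) :=
  ⟨dth_injective k M N, dth_surjective k M N⟩

end Bij

section Main

variable {k : Type u} [CommRing k] {A : Type v} [AddCommGroup A] [Module k A] [Coalgebra k A]
  {M : Type w} [AddCommGroup M] [Module k M]

/-- The reading map `N ⊗ M^* → Hom(M, N)`, `n ⊗ φ ↦ (m ↦ φ m • n)`. -/
noncomputable def rd (N : Type*) [AddCommGroup N] [Module k N] :
    N ⊗[k] Module.Dual k M →ₗ[k] (M →ₗ[k] N) :=
  dualTensorHom k M N ∘ₗ (TensorProduct.comm k N (Module.Dual k M)).toLinearMap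

theorem rd_tmul (N : Type*) [AddCommGroup N] [Module k N] (n : N) (φ : Module.Dual k M) (m : M) :
    rd N (n ⊗ₜ[k] φ) m = φ m • n := by
  simp [rd, dualTensorHom_apply]

/-- `ldualFun` as a linear map in the form. -/
noncomputable def ldualLin (c : HopfRep.Comod k A M) : Module.Dual k M →ₗ[k] (M →ₗ[k] A) where
  toFun g := ComodSub.ldualFun c g
  map_add' g g' := by
    ext m
    simp [ComodSub.ldualFun, LinearMap.rTensor_add]
  map_smul' r g := by
    ext m
    simp [ComodSub.ldualFun, LinearMap.rTensor_smul]

theorem aux1 (g : Module.Dual k M) (z : (M ⊗[k] A) ⊗[k] A) :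
    (TensorProduct.lid k A).toLinearMap.rTensor A ((g.rTensor A).rTensor A z) =
      TensorProduct.lid k (A ⊗[k] A) (g.rTensor (A ⊗[k] A) (TensorProduct.assoc k M A A z)) := by
  induction z using TensorProduct.induction_on with
  | zero => simp
  | add x y hx hy => simp only [map_add, hx, hy]
  | tmul t b =>
    induction t using TensorProduct.induction_on with
    | zero => simp
    | add x y hx hy => simp only [TensorProduct.add_tmul, map_add, hx, hy]
    | tmul u a => simp [TensorProduct.smul_tmul']

theorem aux2 (g : Module.Dual k M) (t : M ⊗[k] A) :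
    TensorProduct.lid k (A ⊗[k] A)
        (g.rTensor (A ⊗[k] A) ((CoalgebraStruct.comul (R := k) (A := A)).lTensor M t)) =
      CoalgebraStruct.comul (R := k) (TensorProduct.lid k A (g.rTensor A t)) := by
  induction t using TensorProduct.induction_on with
  | zero => simp
  | add x y hx hy => simp only [map_add, hx, hy]
  | tmul u a => simp

theorem rTensor_ldualFun (c : HopfRep.Comod k A M) (g : Module.Dual k M) (m : M) :
    (ComodSub.ldualFun c g).rTensor A (c.coact m) =
      CoalgebraStruct.comul (R := k) (ComodSub.ldualFun c g m) := by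
  have hc := LinearMap.congr_fun c.coassoc m
  simp only [LinearMap.comp_apply, LinearEquiv.coe_coe] at hc
  unfold ComodSub.ldualFun
  rw [LinearMap.rTensor_comp, LinearMap.rTensor_comp]
  simp only [LinearMap.comp_apply]
  rw [aux1, hc, aux2]
  rfl

/-- The reading map `A ⊗ (A ⊗ M^*) → Hom(M, A ⊗ A)`. -/
noncomputable def R2 : A ⊗[k] (A ⊗[k] Module.Dual k M) →ₗ[k] (M →ₗ[k] A ⊗[k] A) :=
  rd (k := k) (M := M) (A ⊗[k] A) ∘ₗ
    (TensorProduct.assoc k A A (Module.Dual k M)).symm.toLinearMap

theorem R2_tmul (a : A) (y : A ⊗[k] Module.Dual k M) (m : M) :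
    R2 (a ⊗ₜ[k] y) m = a ⊗ₜ[k] (rd A y m) := by
  induction y using TensorProduct.induction_on with
  | zero => simp
  | add x y hx hy => simp only [TensorProduct.tmul_add, map_add, LinearMap.add_apply, hx, hy]
  | tmul b φ => simp [R2, rd_tmul, TensorProduct.tmul_smul]

theorem R2_injective (h : Function.Injective (dualTensorHom k M (A ⊗[k] A))) :
    Function.Injective (R2 (k := k) (A := A) (M := M)) := by
  intro x y hxy
  unfold R2 rd at hxy
  simp only [LinearMap.comp_apply, LinearEquiv.coe_coe] at hxy
  exact (TensorProduct.assoc k A A _).symm.injective ((TensorProduct.comm k _ _).injective (h hxy))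

theorem aux3 (a : A) (φ : Module.Dual k M) (t : M ⊗[k] A) :
    a ⊗ₜ[k] (TensorProduct.lid k A (φ.rTensor A t)) = (rd A (a ⊗ₜ[k] φ)).rTensor A t := by
  induction t using TensorProduct.induction_on with
  | zero => simp
  | add x y hx hy => simp only [map_add, TensorProduct.tmul_add, hx, hy]
  | tmul u b => simp [rd_tmul, TensorProduct.smul_tmul]

theorem R2_lTensor (c : HopfRep.Comod k A M) (lam : Module.Dual k M →ₗ[k] A ⊗[k] Module.Dual k M)
    (hlam : ∀ g, rd A (lam g) = ComodSub.ldualFun c g) (y : A ⊗[k] Module.Dual k M) (m : M) :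
    R2 (lam.lTensor A y) m = (rd A y).rTensor A (c.coact m) := by
  induction y using TensorProduct.induction_on with
  | zero => simp
  | add x y hx hy =>
    simp only [map_add, LinearMap.add_apply, LinearMap.rTensor_add, hx, hy]
  | tmul a φ =>
    rw [LinearMap.lTensor_tmul, R2_tmul, hlam φ, ← aux3]
    rfl

theorem R2_assoc_comul (y : A ⊗[k] Module.Dual k M) (m : M) :
    R2 (TensorProduct.assoc k A A (Module.Dual k M)
        ((CoalgebraStruct.comul (R := k) (A := A)).rTensor (Module.Dual k M) y)) m =
      CoalgebraStruct.comul (R := k) (rd A y m) := by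
  induction y using TensorProduct.induction_on with
  | zero => simp
  | add x y hx hy => simp only [map_add, LinearMap.add_apply, hx, hy]
  | tmul a φ => simp [R2, rd_tmul]

theorem lid_counit (y : A ⊗[k] Module.Dual k M) (m : M) :
    TensorProduct.lid k (Module.Dual k M)
        ((CoalgebraStruct.counit (R := k) (A := A)).rTensor (Module.Dual k M) y) m =
      CoalgebraStruct.counit (R := k) (rd A y m) := by
  induction y using TensorProduct.induction_on with
  | zero => simp
  | add x y hx hy => simp only [map_add, LinearMap.add_apply, hx, hy]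
  | tmul a φ => simp [rd_tmul, mul_comm]

theorem aux4 (g : Module.Dual k M) (t : M ⊗[k] A) :
    CoalgebraStruct.counit (R := k) (TensorProduct.lid k A (g.rTensor A t)) =
      g (TensorProduct.rid k M ((CoalgebraStruct.counit (R := k) (A := A)).lTensor M t)) := by
  induction t using TensorProduct.induction_on with
  | zero => simp
  | add x y hx hy => simp only [map_add, hx, hy]
  | tmul u b => simp [mul_comm]

theorem counit_ldualFun (c : HopfRep.Comod k A M) (g : Module.Dual k M) (m : M) :
    CoalgebraStruct.counit (R := k) (ComodSub.ldualFun c g m) = g m := by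
  have hc := LinearMap.congr_fun c.counit_comp m
  simp only [LinearMap.comp_apply, LinearMap.flip_apply, TensorProduct.mk_apply] at hc
  rw [ComodSub.ldualFun_apply, aux4, hc]
  simp

/-- The left comodule structure on `M^*` with a given coaction reading as `ldualFun`. -/
noncomputable def mkL (c : HopfRep.Comod k A M)
    (lam : Module.Dual k M →ₗ[k] A ⊗[k] Module.Dual k M)
    (hlam : ∀ g, rd A (lam g) = ComodSub.ldualFun c g)
    (hinj2 : Function.Injective (dualTensorHom k M (A ⊗[k] A))) :
    ComodSub.LComod k A (Module.Dual k M) where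
  coact := lam
  coassoc := by
    apply LinearMap.ext
    intro g
    apply R2_injective hinj2
    ext m
    simp only [LinearMap.comp_apply, LinearEquiv.coe_coe]
    rw [R2_lTensor c lam hlam, R2_assoc_comul, hlam g, rTensor_ldualFun]
  counit_comp := by
    apply LinearMap.ext
    intro g
    apply (TensorProduct.lid k (Module.Dual k M)).injective
    ext m
    simp only [LinearMap.comp_apply, TensorProduct.mk_apply, TensorProduct.lid_tmul, one_smul]
    rw [lid_counit, hlam g, counit_ldualFun]

theorem exists_lam (c : HopfRep.Comod k A M)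
    (hbij : Function.Bijective (dualTensorHom k M A)) :
    ∃ lam : Module.Dual k M →ₗ[k] A ⊗[k] Module.Dual k M,
      ∀ g, rd A (lam g) = ComodSub.ldualFun c g := by
  let E := LinearEquiv.ofBijective (dualTensorHom k M A) hbij
  refine ⟨(TensorProduct.comm k A (Module.Dual k M)).symm.toLinearMap ∘ₗ
    E.symm.toLinearMap ∘ₗ ldualLin c, fun g => ?_⟩
  have h1 : dualTensorHom k M A (E.symm (ldualLin c g)) = ldualLin c g := E.apply_symm_apply _
  simp only [rd, LinearMap.comp_apply, LinearEquiv.coe_coe, LinearEquiv.apply_symm_apply, h1]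
  rfl

end Main

end Groth.Agent.Lib.Helper19.LDual
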