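import Groth.Agent.Lib.Helper19.Coalg1
import Groth.Prelude.Def_GLin5
import Groth.Prelude.Def_ComodSub

/-!
# Affine algebraic groups are linear (helper19)

* `mc b i j`: matrix coefficients of a finite-dimensional comodule with respect to a basis;
  `coact_basis`, `comul_mc`, `counit_mc`.
* For a matrix `M` over a commutative Hopf algebra with `Δ M_ij = Σ M_il ⊗ M_lj`, `ε M_ij = δ_ij`:
  `mul_map_antipode`, `comul_det`, `comul_detInv`, `toGL M hΔ hε : O(GL_n) →ₐc A` with `toGL_X`.
* `exists_surjective`: a finitely generated commutative Hopf algebra over a field is a quotient of some `O(GL_n)`.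
-/

universe u v w

open TensorProduct

namespace Groth.Agent.Lib.Helper19.LinearGrp

open Groth.Agent.Lib.Helper19.Reynolds
open Groth.Agent.Lib.Helper19.Coalg
open Groth.Agent.Lib.Helper28.ComodHom

section MatCoeff

variable {K : Type u} {C : Type v} [Field K] [AddCommGroup C] [Module K C] [Coalgebra K C]
variable {V : Type w} [AddCommGroup V] [Module K V] [HopfRep.Comod K C V]
variable {n : ℕ} (b : Module.Basis (Fin n) K V)

/-- matrix coefficients of a comodule with respect to a basis -/
noncomputable def mc (i j : Fin n) : C := cfm (C := C) (b.coord i) (b j)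

omit [Coalgebra K C] [HopfRep.Comod K C V] in
lemma sum_basis_tmul_lsl (t : V ⊗[K] C) : ∑ l, b l ⊗ₜ[K] lsl (b.coord l) t = t := by
  induction t using TensorProduct.induction_on with
  | zero => simp
  | tmul v c =>
    simp only [lsl_tmul]
    simp_rw [← TensorProduct.smul_tmul, ← TensorProduct.sum_tmul]
    congr 1
    simp only [Module.Basis.coord_apply]
    exact b.sum_repr v
  | add x y hx hy =>
    simp only [map_add, TensorProduct.tmul_add, Finset.sum_add_distrib, hx, hy]

lemma coact_basis (j : Fin n) :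
    HopfRep.Comod.coact (k := K) (A := C) (b j) = ∑ l, b l ⊗ₜ[K] mc (C := C) b l j := by
  have h := sum_basis_tmul_lsl (C := C) b (HopfRep.Comod.coact (k := K) (A := C) (b j))
  exact h.symm

lemma comul_mc (i j : Fin n) :
    Coalgebra.comul (R := K) (mc (C := C) b i j) =
      ∑ l, mc (C := C) b i l ⊗ₜ[K] mc (C := C) b l j := by
  have h := LinearMap.congr_fun (isComodHom_cfm (C := C) (b.coord i)) (b j)
  simp only [LinearMap.comp_apply] at h
  rw [coact_basis b j, map_sum] at h
  simp only [LinearMap.rTensor_tmul] at h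
  exact h

lemma counit_mc (i j : Fin n) :
    Coalgebra.counit (R := K) (mc (C := C) b i j) = if i = j then (1 : K) else 0 := by
  unfold mc
  rw [counit_cfm, Module.Basis.coord_apply, Module.Basis.repr_self, Finsupp.single_apply]
  by_cases h : i = j
  · subst h; simp
  · rw [if_neg h, if_neg (Ne.symm h)]

end MatCoeff

section Hopf

variable {k : Type u} {A : Type v} [CommRing k] [CommRing A] [HopfAlgebra k A]
variable {n : ℕ} (M : Matrix (Fin n) (Fin n) A)
variable (hΔ : ∀ i j, Coalgebra.comul (R := k) (M i j) = ∑ l, M i l ⊗ₜ[k] M l j)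
variable (hε : ∀ i j, Coalgebra.counit (R := k) (M i j) = if i = j then (1 : k) else 0)

include hΔ hε in
lemma mul_map_antipode : M * M.map (HopfAlgebra.antipode k) = 1 := by
  ext i j
  rw [Matrix.mul_apply, Matrix.one_apply]
  have h := HopfAlgebra.mul_antipode_lTensor_comul_apply (R := k) (M i j)
  rw [hΔ, map_sum, map_sum, hε] at h
  simp only [LinearMap.lTensor_tmul, LinearMap.mul'_apply] at h
  simp only [Matrix.map_apply]
  rw [h]
  split_ifs <;> simp

include hΔ hε in
lemma det_mul_det : M.det * (M.map (HopfAlgebra.antipode k)).det = 1 := by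
  rw [← Matrix.det_mul, mul_map_antipode M hΔ hε, Matrix.det_one]

include hΔ in
lemma comul_det : Coalgebra.comul (R := k) M.det = M.det ⊗ₜ[k] M.det := by
  change Bialgebra.comulAlgHom k A M.det = _
  rw [AlgHom.map_det]
  have h : (Bialgebra.comulAlgHom k A).mapMatrix M =
      (Algebra.TensorProduct.includeLeft : A →ₐ[k] A ⊗[k] A).mapMatrix M *
      (Algebra.TensorProduct.includeRight : A →ₐ[k] A ⊗[k] A).mapMatrix M := by
    ext i j
    rw [Matrix.mul_apply]
    simp only [AlgHom.mapMatrix_apply, Matrix.map_apply, Bialgebra.comulAlgHom_apply,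
      Algebra.TensorProduct.includeLeft_apply, Algebra.TensorProduct.includeRight_apply,
      Algebra.TensorProduct.tmul_mul_tmul, mul_one, one_mul]
    exact hΔ i j
  rw [h, Matrix.det_mul, ← AlgHom.map_det, ← AlgHom.map_det]
  simp [Algebra.TensorProduct.tmul_mul_tmul]

include hε in
lemma counit_det : Coalgebra.counit (R := k) M.det = 1 := by
  change Bialgebra.counitAlgHom k A M.det = 1
  rw [AlgHom.map_det]
  have : (Bialgebra.counitAlgHom k A).mapMatrix M = 1 := by
    ext i j
    simp only [AlgHom.mapMatrix_apply, Matrix.map_apply, Matrix.one_apply,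
      Bialgebra.counitAlgHom_apply]
    exact hε i j
  rw [this, Matrix.det_one]

include hΔ hε in
lemma comul_detInv : Coalgebra.comul (R := k) (M.map (HopfAlgebra.antipode k)).det =
    (M.map (HopfAlgebra.antipode k)).det ⊗ₜ[k] (M.map (HopfAlgebra.antipode k)).det := by
  have h1 : M.det * (M.map (HopfAlgebra.antipode k)).det = 1 := det_mul_det M hΔ hε
  have h2 : Coalgebra.comul (R := k) M.det *
      ((M.map (HopfAlgebra.antipode k)).det ⊗ₜ[k] (M.map (HopfAlgebra.antipode k)).det) = 1 := by
    rw [comul_det M hΔ, Algebra.TensorProduct.tmul_mul_tmul, h1, Algebra.TensorProduct.one_def]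
  have h3 : Coalgebra.comul (R := k) (M.map (HopfAlgebra.antipode k)).det *
      Coalgebra.comul (R := k) M.det = 1 := by
    rw [← Bialgebra.comul_mul, mul_comm, h1, Bialgebra.comul_one]
  calc Coalgebra.comul (R := k) (M.map (HopfAlgebra.antipode k)).det
      = Coalgebra.comul (R := k) (M.map (HopfAlgebra.antipode k)).det * 1 := (mul_one _).symm
    _ = Coalgebra.comul (R := k) (M.map (HopfAlgebra.antipode k)).det *
          (Coalgebra.comul (R := k) M.det *
            ((M.map (HopfAlgebra.antipode k)).det ⊗ₜ[k] (M.map (HopfAlgebra.antipode k)).det)) := by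
        rw [h2]
    _ = (Coalgebra.comul (R := k) (M.map (HopfAlgebra.antipode k)).det *
          Coalgebra.comul (R := k) M.det) *
            ((M.map (HopfAlgebra.antipode k)).det ⊗ₜ[k] (M.map (HopfAlgebra.antipode k)).det) :=
        (mul_assoc _ _ _).symm
    _ = _ := by rw [h3, one_mul]

include hΔ hε in
lemma counit_detInv : Coalgebra.counit (R := k) (M.map (HopfAlgebra.antipode k)).det = 1 := by
  have h1 : M.det * (M.map (HopfAlgebra.antipode k)).det = 1 := det_mul_det M hΔ hε
  have h2 := congrArg (Coalgebra.counit (R := k) (A := A)) h1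
  rw [Bialgebra.counit_mul, counit_det M hε, one_mul, Bialgebra.counit_one] at h2
  exact h2

/-- the algebra map `O(GL_n) → A` attached to a matrix corepresentation -/
noncomputable def toGLAlg : CoordGrp.GLn n k →ₐ[k] A :=
  CoordGrp.GLn.pt n k M (M.map (HopfAlgebra.antipode k)).det (det_mul_det M hΔ hε)

@[simp] lemma toGLAlg_X (i j : Fin n) : toGLAlg M hΔ hε (CoordGrp.GLn.X i j) = M i j :=
  CoordGrp.GLn.pt_X _ _ _ i j

@[simp] lemma toGLAlg_Dinv :
    toGLAlg M hΔ hε CoordGrp.GLn.Dinv = (M.map (HopfAlgebra.antipode k)).det :=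
  CoordGrp.GLn.pt_Dinv _ _ _

lemma counit_comp_toGLAlg : (Bialgebra.counitAlgHom k A).comp (toGLAlg M hΔ hε) =
    Bialgebra.counitAlgHom k (CoordGrp.GLn n k) := by
  apply CoordGrp.GLn.algHom_ext
  · intro i j
    rw [AlgHom.comp_apply, toGLAlg_X, Bialgebra.counitAlgHom_apply, Bialgebra.counitAlgHom_apply,
      hε, CoordGrp.GLn.counit_X]
  · rw [AlgHom.comp_apply, toGLAlg_Dinv, Bialgebra.counitAlgHom_apply,
      Bialgebra.counitAlgHom_apply, counit_detInv M hΔ hε, CoordGrp.GLn.counit_Dinv]

lemma map_comp_comul_toGLAlg :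
    (Algebra.TensorProduct.map (toGLAlg M hΔ hε) (toGLAlg M hΔ hε)).comp
      (Bialgebra.comulAlgHom k (CoordGrp.GLn n k)) =
    (Bialgebra.comulAlgHom k A).comp (toGLAlg M hΔ hε) := by
  apply CoordGrp.GLn.algHom_ext
  · intro i j
    rw [AlgHom.comp_apply, AlgHom.comp_apply, toGLAlg_X, Bialgebra.comulAlgHom_apply,
      Bialgebra.comulAlgHom_apply, hΔ, CoordGrp.GLn.comul_X, map_sum]
    simp only [Algebra.TensorProduct.map_tmul, toGLAlg_X]
  · rw [AlgHom.comp_apply, AlgHom.comp_apply, toGLAlg_Dinv, Bialgebra.comulAlgHom_apply,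
      Bialgebra.comulAlgHom_apply, comul_detInv M hΔ hε, CoordGrp.GLn.comul_Dinv,
      Algebra.TensorProduct.map_tmul, toGLAlg_Dinv]

/-- the bialgebra map `O(GL_n) → A` attached to a matrix corepresentation -/
noncomputable def toGL : CoordGrp.GLn n k →ₐc[k] A :=
  BialgHom.ofAlgHom (toGLAlg M hΔ hε) (counit_comp_toGLAlg M hΔ hε) (map_comp_comul_toGLAlg M hΔ hε)

lemma toGL_apply (x : CoordGrp.GLn n k) : toGL M hΔ hε x = toGLAlg M hΔ hε x := rfl

@[simp] lemma toGL_X (i j : Fin n) : toGL M hΔ hε (CoordGrp.GLn.X i j) = M i j :=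
  toGLAlg_X M hΔ hε i j

end Hopf

section Main

/-- Every affine algebraic group over a field is linear. -/
theorem exists_surjective (k : Type u) (A : Type v) [Field k] [CommRing A] [HopfAlgebra k A]
    [Algebra.FiniteType k A] :
    ∃ (n : ℕ) (π : CoordGrp.GLn n k →ₐc[k] A), Function.Surjective π := by
  classical
  obtain ⟨F, hF⟩ := (Algebra.FiniteType.out : (⊤ : Subalgebra k A).FG)
  let V : Submodule k A := ⨆ a : (F : Set A), gen (K := k) (C := A) (a : A)
  have hVsub : HopfRep.IsSubcomod (k := k) (A := A) V :=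
    isSubcomod_iSup _ (fun a => isSubcomod_gen _)
  haveI : ∀ a : (F : Set A), FiniteDimensional k (gen (K := k) (C := A) (a : A)) :=
    fun a => finiteDimensional_gen _
  haveI : FiniteDimensional k V := Submodule.finiteDimensional_iSup _
  have hFV : ∀ a ∈ F, a ∈ V := fun a ha =>
    Submodule.mem_iSup_of_mem (⟨a, ha⟩ : (F : Set A)) (mem_gen a)
  letI cV : HopfRep.Comod k A V := ComodSub.Comod.restr (HopfRep.Comod.regular k A) V hVsub
  let b : Module.Basis (Fin (Module.finrank k V)) k V := Module.finBasis k V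
  let M : Matrix (Fin (Module.finrank k V)) (Fin (Module.finrank k V)) A :=
    fun i j => mc (C := A) b i j
  have hΔ : ∀ i j, Coalgebra.comul (R := k) (M i j) = ∑ l, M i l ⊗ₜ[k] M l j :=
    fun i j => comul_mc b i j
  have hε : ∀ i j, Coalgebra.counit (R := k) (M i j) = if i = j then (1 : k) else 0 :=
    fun i j => counit_mc b i j
  have hb : ∀ j, ((b j : V) : A) = ∑ l, Coalgebra.counit (R := k) ((b l : V) : A) • M l j := by
    intro j
    have h1 := ComodSub.restr_coact_coe (HopfRep.Comod.regular k A) V hVsub (b j)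
    have h1' : V.subtype.rTensor A (HopfRep.Comod.coact (k := k) (A := A) (b j)) =
        Coalgebra.comul (R := k) ((b j : V) : A) := h1
    rw [coact_basis b j, map_sum] at h1'
    simp only [LinearMap.rTensor_tmul, Submodule.subtype_apply] at h1'
    have h2 := congrArg (fun t => TensorProduct.lid k A
      ((Coalgebra.counit (R := k) (A := A)).rTensor A t)) h1'
    simp only [map_sum, LinearMap.rTensor_tmul, TensorProduct.lid_tmul] at h2
    have h3 : TensorProduct.lid k A ((Coalgebra.counit (R := k) (A := A)).rTensor A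
        (Coalgebra.comul (R := k) ((b j : V) : A))) = ((b j : V) : A) := by
      rw [Coalgebra.rTensor_counit_comul]; simp
    rw [← h3]
    exact h2.symm
  refine ⟨Module.finrank k V, toGL M hΔ hε, ?_⟩
  have hrange : ∀ v : V, (v : A) ∈ (toGLAlg M hΔ hε).range := by
    intro v
    rw [← b.sum_repr v, Submodule.coe_sum]
    refine Subalgebra.sum_mem _ (fun i _ => ?_)
    rw [Submodule.coe_smul]
    refine Subalgebra.smul_mem _ ?_ _
    rw [hb i]
    refine Subalgebra.sum_mem _ (fun l _ => Subalgebra.smul_mem _ ?_ _)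
    exact ⟨CoordGrp.GLn.X l i, toGLAlg_X M hΔ hε l i⟩
  have hle : Algebra.adjoin k (F : Set A) ≤ (toGLAlg M hΔ hε).range :=
    Algebra.adjoin_le (fun x hx => hrange ⟨x, hFV x hx⟩)
  rw [hF] at hle
  intro a
  obtain ⟨x, hx⟩ := hle (Algebra.mem_top : a ∈ (⊤ : Subalgebra k A))
  exact ⟨x, hx⟩

end Main

end Groth.Agent.Lib.Helper19.LinearGrp
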