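import Mathlib
import Groth.Agent.Lib.Helper19.ComodNoeth
import Groth.Agent.Lib.Helper19.LinearGrp
import Groth.Prelude.Def_ComodSub

/-!
# The equivariant resolution property gives a closed embedding into `GL_d` (helper19)

`R` Noetherian, `A` a flat commutative Hopf algebra of finite type over `R` such that every comodule
finite over `R` is a quotient of a finite projective one.  Then `A` is generated by the entries of
a matrix corepresentation with invertible determinant (`exists_matrix_corep`).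

A finite projective comodule `E` with a projective coordinate system `(e_l, φ_l)` has coefficients
`a i j = (φ_i ⊗ id)(ρ e_j)` with `Δ a = a ⊗ a`, `ε a = P` where `P = (φ_i e_j)` is idempotent and
`a = a P = P a`; hence `a + (1 - P)` is a matrix corepresentation.
-/

set_option autoImplicit false
universe u v w

open TensorProduct

namespace Groth.Agent.Lib.Helper19.LinearRes

open Groth.Agent.Lib.Helper19.ComodNoeth

section Slice

variable {R : Type u} [CommRing R] {E : Type w} [AddCommGroup E] [Module R E]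
  {N : Type*} [AddCommGroup N] [Module R N]

/-- left slice by a linear form -/
noncomputable def lslR (φ : E →ₗ[R] R) : E ⊗[R] N →ₗ[R] N :=
  (TensorProduct.lid R N).toLinearMap ∘ₗ φ.rTensor N

@[simp] lemma lslR_tmul (φ : E →ₗ[R] R) (x : E) (c : N) :
    lslR φ (x ⊗ₜ[R] c) = φ x • c := by
  simp [lslR]

variable {n : ℕ} (e : Fin n → E) (φ : Fin n → (E →ₗ[R] R))

lemma sum_tmul_lslR (hsum : ∀ x, ∑ l, φ l x • e l = x) (t : E ⊗[R] N) :
    ∑ l, e l ⊗ₜ[R] lslR (φ l) t = t := by
  induction t using TensorProduct.induction_on with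
  | zero => simp
  | tmul x c =>
    simp only [lslR_tmul]
    simp_rw [← TensorProduct.smul_tmul, ← TensorProduct.sum_tmul]
    rw [hsum]
  | add x y hx hy =>
    simp only [map_add, TensorProduct.tmul_add, Finset.sum_add_distrib, hx, hy]

lemma lslR_assoc_tmul {N' : Type*} [AddCommGroup N'] [Module R N'] (ψ : E →ₗ[R] R)
    (t : E ⊗[R] N) (c : N') :
    lslR ψ (TensorProduct.assoc R E N N' (t ⊗ₜ[R] c)) = lslR ψ t ⊗ₜ[R] c := by
  induction t using TensorProduct.induction_on with
  | zero => simp
  | tmul x a => simp [TensorProduct.smul_tmul']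
  | add x y hx hy => simp only [TensorProduct.add_tmul, map_add, hx, hy]

lemma lslR_lTensor {N' : Type*} [AddCommGroup N'] [Module R N'] (ψ : E →ₗ[R] R)
    (g : N →ₗ[R] N') (t : E ⊗[R] N) :
    lslR ψ (g.lTensor E t) = g (lslR ψ t) := by
  induction t using TensorProduct.induction_on with
  | zero => simp
  | tmul x a => simp
  | add x y hx hy => simp only [map_add, hx, hy]

end Slice

section Coeff

variable {R : Type u} [CommRing R] {A : Type v} [CommRing A] [Bialgebra R A]
  {E : Type w} [AddCommGroup E] [Module R E] [HopfRep.Comod R A E]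
  {n : ℕ} (e : Fin n → E) (φ : Fin n → (E →ₗ[R] R))

/-- coefficient map -/
noncomputable def cf (ψ : E →ₗ[R] R) : E →ₗ[R] A :=
  lslR ψ ∘ₗ HopfRep.Comod.coact (k := R) (A := A)

lemma cf_apply (ψ : E →ₗ[R] R) (x : E) :
    cf (A := A) ψ x = lslR ψ (HopfRep.Comod.coact (k := R) (A := A) x) := rfl

include e φ in
lemma coact_eq_sum (hsum : ∀ x, ∑ l, φ l x • e l = x) (x : E) :
    HopfRep.Comod.coact (k := R) (A := A) x = ∑ l, e l ⊗ₜ[R] cf (A := A) (φ l) x :=
  (sum_tmul_lslR e φ hsum _).symm

lemma comul_cf (hsum : ∀ x, ∑ l, φ l x • e l = x) (ψ : E →ₗ[R] R) (x : E) :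
    CoalgebraStruct.comul (R := R) (cf (A := A) ψ x) =
      ∑ l, cf (A := A) ψ (e l) ⊗ₜ[R] cf (A := A) (φ l) x := by
  have hco := LinearMap.congr_fun (HopfRep.Comod.coassoc (k := R) (A := A) (V := E)) x
  simp only [LinearMap.comp_apply, LinearEquiv.coe_coe] at hco
  have h1 := coact_eq_sum (A := A) e φ hsum x
  calc CoalgebraStruct.comul (R := R) (cf (A := A) ψ x)
      = lslR ψ ((CoalgebraStruct.comul (R := R) (A := A)).lTensor E
          (HopfRep.Comod.coact (k := R) (A := A) x)) := (lslR_lTensor ψ _ _).symm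
    _ = lslR ψ (TensorProduct.assoc R E A A
          (((HopfRep.Comod.coact (k := R) (A := A)).rTensor A)
            (HopfRep.Comod.coact (k := R) (A := A) x))) := by rw [hco]
    _ = lslR ψ (TensorProduct.assoc R E A A
          (((HopfRep.Comod.coact (k := R) (A := A)).rTensor A)
            (∑ l, e l ⊗ₜ[R] cf (A := A) (φ l) x))) :=
        congrArg (fun t => lslR ψ (TensorProduct.assoc R E A A
          (((HopfRep.Comod.coact (k := R) (A := A)).rTensor A) t))) h1
    _ = ∑ l, cf (A := A) ψ (e l) ⊗ₜ[R] cf (A := A) (φ l) x := by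
        simp only [map_sum, LinearMap.rTensor_tmul, lslR_assoc_tmul]
        rfl

lemma counit_cf (ψ : E →ₗ[R] R) (x : E) :
    CoalgebraStruct.counit (R := R) (cf (A := A) ψ x) = ψ x := by
  have h1 := LinearMap.congr_fun (HopfRep.Comod.counit_comp (k := R) (A := A) (V := E)) x
  simp only [LinearMap.comp_apply] at h1
  rw [cf_apply, ← lslR_lTensor, h1]
  show lslR ψ (x ⊗ₜ[R] (1 : R)) = ψ x
  rw [lslR_tmul, smul_eq_mul, mul_one]

lemma sum_smul_cf (hsum : ∀ x, ∑ l, φ l x • e l = x) (ψ : E →ₗ[R] R) (x : E) :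
    ∑ l, ψ (e l) • cf (A := A) (φ l) x = cf (A := A) ψ x := by
  have h1 := coact_eq_sum (A := A) e φ hsum x
  have h2 := congrArg (lslR ψ) h1
  rw [map_sum] at h2
  simp only [lslR_tmul] at h2
  rw [cf_apply, h2]

end Coeff

section Matrix

variable {R : Type u} [CommRing R] {A : Type v} [CommRing A] [Bialgebra R A] {n : ℕ}

/-- If `Δ a = a ⊗ a`, `ε a = P`, `a P = a = P a`, then `a + (1 - P)` is a matrix
corepresentation. -/
theorem corep_of_idem (a : Matrix (Fin n) (Fin n) A) (P : Matrix (Fin n) (Fin n) R)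
    (hΔ : ∀ i j, CoalgebraStruct.comul (R := R) (a i j) = ∑ l, a i l ⊗ₜ[R] a l j)
    (hε : ∀ i j, CoalgebraStruct.counit (R := R) (a i j) = P i j)
    (haP : ∀ i j, ∑ l, P l j • a i l = a i j) (hPa : ∀ i j, ∑ l, P i l • a l j = a i j)
    (hPP : P * P = P) :
    (∀ i j, CoalgebraStruct.comul (R := R) (a i j + algebraMap R A ((1 - P) i j)) =
      ∑ l, (a i l + algebraMap R A ((1 - P) i l)) ⊗ₜ[R]
        (a l j + algebraMap R A ((1 - P) l j))) ∧
    (∀ i j, CoalgebraStruct.counit (R := R) (a i j + algebraMap R A ((1 - P) i j)) =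
      if i = j then 1 else 0) := by
  classical
  have hidem : (1 - P) * (1 - P) = 1 - P := (IsIdempotentElem.one_sub hPP)
  have hc1 : ∀ i j, ∑ l, (1 - P) l j • a i l = 0 := by
    intro i j
    simp only [Matrix.sub_apply, sub_smul, Finset.sum_sub_distrib, haP, Matrix.one_apply,
      ite_smul, one_smul, zero_smul, Finset.sum_ite_eq', Finset.mem_univ, if_true, sub_self]
  have hc2 : ∀ i j, ∑ l, (1 - P) i l • a l j = 0 := by
    intro i j
    simp only [Matrix.sub_apply, sub_smul, Finset.sum_sub_distrib, hPa, Matrix.one_apply,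
      ite_smul, one_smul, zero_smul, Finset.sum_ite_eq, Finset.mem_univ, if_true, sub_self]
  constructor
  · intro i j
    rw [map_add, hΔ, Bialgebra.comul_algebraMap]
    simp only [TensorProduct.add_tmul, TensorProduct.tmul_add, Finset.sum_add_distrib]
    have t2 : ∑ l, a i l ⊗ₜ[R] algebraMap R A ((1 - P) l j) = 0 := by
      have : ∀ l, a i l ⊗ₜ[R] algebraMap R A ((1 - P) l j) =
          ((1 - P) l j • a i l) ⊗ₜ[R] (1 : A) := by
        intro l
        rw [Algebra.algebraMap_eq_smul_one, TensorProduct.tmul_smul, TensorProduct.smul_tmul']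
      simp_rw [this]
      rw [← TensorProduct.sum_tmul, hc1, TensorProduct.zero_tmul]
    have t3 : ∑ l, algebraMap R A ((1 - P) i l) ⊗ₜ[R] a l j = 0 := by
      have : ∀ l, algebraMap R A ((1 - P) i l) ⊗ₜ[R] a l j =
          (1 : A) ⊗ₜ[R] ((1 - P) i l • a l j) := by
        intro l
        rw [Algebra.algebraMap_eq_smul_one, TensorProduct.smul_tmul]
      simp_rw [this]
      rw [← TensorProduct.tmul_sum, hc2, TensorProduct.tmul_zero]
    have t4 : ∑ l, algebraMap R A ((1 - P) i l) ⊗ₜ[R] algebraMap R A ((1 - P) l j) =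
        algebraMap R (A ⊗[R] A) ((1 - P) i j) := by
      have : ∀ l, algebraMap R A ((1 - P) i l) ⊗ₜ[R] algebraMap R A ((1 - P) l j) =
          ((1 - P) i l * (1 - P) l j) • ((1 : A) ⊗ₜ[R] (1 : A)) := by
        intro l
        rw [Algebra.algebraMap_eq_smul_one, Algebra.algebraMap_eq_smul_one,
          TensorProduct.smul_tmul_smul]
      simp_rw [this]
      rw [← Finset.sum_smul, ← Matrix.mul_apply, hidem, Algebra.algebraMap_eq_smul_one,
        Algebra.TensorProduct.one_def]
    rw [t2, t3, t4, add_zero, zero_add]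
  · intro i j
    rw [map_add, hε, Bialgebra.counit_algebraMap, Matrix.sub_apply, Matrix.one_apply]
    ring

end Matrix

section Main

variable {R : Type u} [CommRing R] [IsNoetherianRing R] {A : Type u} [CommRing A]
  [HopfAlgebra R A] [Module.Flat R A] [Algebra.FiniteType R A]

theorem exists_matrix_corep
    (hRE : ∀ (F : Type u) [AddCommGroup F] [Module R F] [HopfRep.Comod R A F] [Module.Finite R F],
      ∃ (E : Type u) (_ : AddCommGroup E) (_ : Module R E) (_ : HopfRep.Comod R A E)
        (π : E →ₗ[R] F),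
        Module.Finite R E ∧ Module.Projective R E ∧ Function.Surjective π ∧
        HopfRep.Comod.coact (k := R) (A := A) ∘ₗ π =
          π.rTensor A ∘ₗ HopfRep.Comod.coact (k := R) (A := A) (V := E)) :
    ∃ (d : ℕ) (a : Matrix (Fin d) (Fin d) A),
      (∀ i j, CoalgebraStruct.comul (R := R) (a i j) = ∑ l, a i l ⊗ₜ[R] a l j) ∧
      (∀ i j, CoalgebraStruct.counit (R := R) (a i j) = if i = j then 1 else 0) ∧
      ∃ u : A, u * a.det = 1 ∧
        Algebra.adjoin R (Set.range (fun p : Fin d × Fin d => a p.1 p.2) ∪ {u}) = ⊤ := by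
  classical
  obtain ⟨s, hs⟩ := (Algebra.FiniteType.out : (⊤ : Subalgebra R A).FG)
  obtain ⟨V, hV, hVfin, hsV⟩ := exists_fg_subcomod (R := R) (C := A) (E := A) s
  haveI := hVfin
  letI cV : HopfRep.Comod R A V := ComodSub.Comod.restr (HopfRep.Comod.regular R A) V hV
  obtain ⟨E, _, _, cE, π, hEfin, hEproj, hπ, hπhom⟩ := hRE V
  haveI := hEfin
  haveI := hEproj
  -- projective coordinates
  obtain ⟨n, f, hf⟩ := Module.Finite.exists_fin' R E
  obtain ⟨h, hh⟩ := Module.projective_lifting_property f LinearMap.id hf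
  obtain ⟨e, he_def⟩ : ∃ e : Fin n → E, e = fun l => f (fun j => if l = j then 1 else 0) :=
    ⟨_, rfl⟩
  obtain ⟨φ, hφ_def⟩ : ∃ φ : Fin n → (E →ₗ[R] R), φ = fun l => LinearMap.proj l ∘ₗ h :=
    ⟨_, rfl⟩
  have hsum : ∀ x, ∑ l, φ l x • e l = x := by
    intro x
    have h1 := LinearMap.pi_apply_eq_sum_univ f (h x)
    have h2 : f (h x) = x := LinearMap.congr_fun hh x
    rw [h2] at h1
    rw [he_def, hφ_def]
    exact h1.symm
  -- the matrices
  obtain ⟨a, ha_def⟩ : ∃ a : Matrix (Fin n) (Fin n) A, a = fun i j => cf (A := A) (φ i) (e j) :=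
    ⟨_, rfl⟩
  obtain ⟨P, hP_def⟩ : ∃ P : Matrix (Fin n) (Fin n) R, P = fun i j => φ i (e j) := ⟨_, rfl⟩
  have haij : ∀ i j, a i j = cf (A := A) (φ i) (e j) := fun i j => by rw [ha_def]
  have hPij : ∀ i j, P i j = φ i (e j) := fun i j => by rw [hP_def]
  have hΔ : ∀ i j, CoalgebraStruct.comul (R := R) (a i j) = ∑ l, a i l ⊗ₜ[R] a l j := by
    intro i j
    simp only [haij]
    exact comul_cf e φ hsum (φ i) (e j)
  have hε : ∀ i j, CoalgebraStruct.counit (R := R) (a i j) = P i j := by
    intro i j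
    rw [haij, hPij]
    exact counit_cf (φ i) (e j)
  have haP : ∀ i j, ∑ l, P l j • a i l = a i j := by
    intro i j
    simp only [haij, hPij]
    rw [← (hsum (e j))]
    conv_rhs => rw [map_sum]
    simp only [map_smul]
    rw [hsum (e j)]
  have hPa : ∀ i j, ∑ l, P i l • a l j = a i j := by
    intro i j
    simp only [haij, hPij]
    exact sum_smul_cf e φ hsum (φ i) (e j)
  have hPP : P * P = P := by
    ext i j
    rw [Matrix.mul_apply]
    simp only [hPij]
    have h1 := congrArg (φ i) (hsum (e j))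
    rw [map_sum] at h1
    simp only [map_smul, smul_eq_mul] at h1
    rw [← h1]
    exact Finset.sum_congr rfl fun l _ => mul_comm _ _
  obtain ⟨hΔ', hε'⟩ := corep_of_idem a P hΔ hε haP hPa hPP
  obtain ⟨a', ha'_def⟩ : ∃ a' : Matrix (Fin n) (Fin n) A,
      a' = fun i j => a i j + algebraMap R A ((1 - P) i j) := ⟨_, rfl⟩
  have ha'ij : ∀ i j, a' i j = a i j + algebraMap R A ((1 - P) i j) := fun i j => by rw [ha'_def]
  have hΔa' : ∀ i j, CoalgebraStruct.comul (R := R) (a' i j) = ∑ l, a' i l ⊗ₜ[R] a' l j := by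
    intro i j
    simp only [ha'ij]
    exact hΔ' i j
  have hεa' : ∀ i j, CoalgebraStruct.counit (R := R) (a' i j) = if i = j then 1 else 0 := by
    intro i j
    rw [ha'ij]
    exact hε' i j
  refine ⟨n, a', hΔa', hεa', (a'.map (HopfAlgebra.antipode R)).det, ?_, ?_⟩
  · rw [mul_comm]
    exact Groth.Agent.Lib.Helper19.LinearGrp.det_mul_det a' hΔa' hεa'
  · -- generation
    rw [eq_top_iff, ← hs]
    apply Algebra.adjoin_le
    intro g hg
    obtain ⟨S, hS_def⟩ : ∃ S : Subalgebra R A, S = Algebra.adjoin R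
        (Set.range (fun p : Fin n × Fin n => a' p.1 p.2) ∪
          {(a'.map (HopfAlgebra.antipode R)).det}) := ⟨_, rfl⟩
    rw [← hS_def]
    have ha'S : ∀ i j, a' i j ∈ S := by
      intro i j
      rw [hS_def]
      exact Algebra.subset_adjoin (Or.inl ⟨(i, j), rfl⟩)
    have haS : ∀ i j, a i j ∈ S := by
      intro i j
      have h1 : a i j = a' i j - algebraMap R A ((1 - P) i j) := by
        rw [ha'ij, add_sub_cancel_right]
      rw [h1]
      exact S.sub_mem (ha'S i j) (S.algebraMap_mem _)
    have hcfS : ∀ l (x : E), cf (A := A) (φ l) x ∈ S := by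
      intro l x
      rw [← hsum x, map_sum]
      refine S.sum_mem fun j _ => ?_
      rw [map_smul, ← haij]
      exact S.smul_mem (haS l j) _
    obtain ⟨x, hx⟩ := hπ ⟨g, hsV hg⟩
    -- the comultiplication of `π x`
    have h1 : CoalgebraStruct.comul (R := R) (g : A) =
        ∑ l, ((π (e l) : V) : A) ⊗ₜ[R] cf (A := A) (φ l) x := by
      have h2 := ComodSub.restr_coact_coe (HopfRep.Comod.regular R A) V hV (π x)
      have h3 := LinearMap.congr_fun hπhom x
      simp only [LinearMap.comp_apply] at h3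
      have h4 : ((π x : V) : A) = g := by rw [hx]
      have h5 : CoalgebraStruct.comul (R := R) (g : A) =
          V.subtype.rTensor A (π.rTensor A (HopfRep.Comod.coact (k := R) (A := A) x)) := by
        rw [← h3, ← h4]
        exact h2.symm
      rw [h5, coact_eq_sum (A := A) e φ hsum x, map_sum, map_sum]
      simp only [LinearMap.rTensor_tmul]
      rfl
    have h6 := congrArg (fun t => TensorProduct.lid R A
      ((CoalgebraStruct.counit (R := R) (A := A)).rTensor A t)) h1
    simp only [Coalgebra.rTensor_counit_comul, TensorProduct.lid_tmul, one_smul, map_sum,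
      LinearMap.rTensor_tmul] at h6
    rw [h6]
    exact S.sum_mem fun l _ => S.smul_mem (hcfS l x) _

end Main

end Groth.Agent.Lib.Helper19.LinearRes
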