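import Groth.Agent.Lib.Helper19.Reynolds2

/-!
# Linear reductivity in all universes (helper19)

`HopfRep.IsLinearlyReductive K A` only speaks about comodules in the universe of `A`.  Every
finite-dimensional comodule is isomorphic to one living in that universe (`transportComod` along a linear
equivalence with a subspace of `Fin n → A`), so semisimplicity holds in every universe
(`isSemisimpleComod_of_finite`), and every comodule is semisimple over its operator algebra
(`isSemisimpleModule_opAlg'`).
-/

set_option autoImplicit false
set_option linter.unusedSectionVars false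
universe u v w w'

open TensorProduct

namespace Groth.Agent.Lib.Helper19.Luna

open Groth.Agent.Lib.Helper19.Reynolds

section Transport

variable {K : Type u} {C : Type v} [Field K] [AddCommGroup C] [Module K C] [Coalgebra K C]
variable {V : Type w} [AddCommGroup V] [Module K V] [HopfRep.Comod K C V]
variable {V' : Type w'} [AddCommGroup V'] [Module K V']

/-- The coaction transported along a linear equivalence. -/
noncomputable def coactT (e : V ≃ₗ[K] V') : V' →ₗ[K] V' ⊗[K] C :=
  e.toLinearMap.rTensor C ∘ₗ HopfRep.Comod.coact (k := K) (A := C) ∘ₗ e.symm.toLinearMap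

lemma coactT_apply (e : V ≃ₗ[K] V') (v : V) :
    coactT (C := C) e (e v) =
      e.toLinearMap.rTensor C (HopfRep.Comod.coact (k := K) (A := C) v) := by
  simp [coactT]

/-- Transport of a comodule structure along a linear equivalence. -/
@[reducible] noncomputable def transportComod (e : V ≃ₗ[K] V') : HopfRep.Comod K C V' where
  coact := coactT (C := C) e
  coassoc := by
    apply LinearMap.ext
    intro v'
    obtain ⟨v, rfl⟩ := e.surjective v'
    have n1 : ∀ s : (V ⊗[K] C) ⊗[K] C,
        TensorProduct.assoc K V' C C (((e.toLinearMap.rTensor C).rTensor C) s) =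
          e.toLinearMap.rTensor (C ⊗[K] C) (TensorProduct.assoc K V C C s) := by
      intro s
      induction s using TensorProduct.induction_on with
      | zero => simp
      | tmul x c =>
        induction x using TensorProduct.induction_on with
        | zero => simp
        | tmul w' c' => simp
        | add a b ha hb => simp only [TensorProduct.add_tmul, map_add, ha, hb]
      | add a b ha hb => simp only [map_add, ha, hb]
    have n2 : ∀ t : V ⊗[K] C,
        ((coactT (C := C) e).rTensor C) (e.toLinearMap.rTensor C t) =
          ((e.toLinearMap.rTensor C).rTensor C)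
            ((HopfRep.Comod.coact (k := K) (A := C)).rTensor C t) := by
      intro t
      induction t using TensorProduct.induction_on with
      | zero => simp
      | tmul x c =>
        simp only [LinearMap.rTensor_tmul, LinearEquiv.coe_coe]
        rw [coactT_apply]
      | add a b ha hb => simp only [map_add, ha, hb]
    have n3 : ∀ t : V ⊗[K] C,
        (Coalgebra.comul (R := K) (A := C)).lTensor V' (e.toLinearMap.rTensor C t) =
          e.toLinearMap.rTensor (C ⊗[K] C) ((Coalgebra.comul (R := K) (A := C)).lTensor V t) := by
      intro t
      induction t using TensorProduct.induction_on with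
      | zero => simp
      | tmul w' c => simp
      | add a b ha hb => simp only [map_add, ha, hb]
    simp only [LinearMap.comp_apply, LinearEquiv.coe_coe]
    rw [coactT_apply, n2, n1, n3]
    have h3 := LinearMap.congr_fun (HopfRep.Comod.coassoc (k := K) (A := C) (V := V)) v
    simp only [LinearMap.comp_apply, LinearEquiv.coe_coe] at h3
    rw [h3]
  counit_comp := by
    apply LinearMap.ext
    intro v'
    obtain ⟨v, rfl⟩ := e.surjective v'
    have n4 : ∀ t : V ⊗[K] C,
        (Coalgebra.counit (R := K) (A := C)).lTensor V' (e.toLinearMap.rTensor C t) =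
          e.toLinearMap.rTensor K ((Coalgebra.counit (R := K) (A := C)).lTensor V t) := by
      intro t
      induction t using TensorProduct.induction_on with
      | zero => simp
      | tmul w' c => simp
      | add a b ha hb => simp only [map_add, ha, hb]
    simp only [LinearMap.comp_apply]
    rw [coactT_apply, n4]
    have h4 := LinearMap.congr_fun (HopfRep.Comod.counit_comp (k := K) (A := C) (V := V)) v
    simp only [LinearMap.comp_apply] at h4
    rw [h4]
    simp

lemma opT_transport (e : V ≃ₗ[K] V') (f : C →ₗ[K] K) (v : V) :
    e (opT K C V f v) = @opT K C _ _ _ _ V' _ _ (transportComod e) f (e v) := by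
  show e (slice f (HopfRep.Comod.coact (k := K) (A := C) v)) = slice f (coactT (C := C) e (e v))
  rw [coactT_apply, slice_rTensor]
  rfl

/-- Semisimplicity transfers along an isomorphism of comodules. -/
theorem isSemisimpleComod_of_equiv [HopfRep.Comod K C V'] (e : V ≃ₗ[K] V')
    (he : ∀ (f : C →ₗ[K] K) (v : V), e (opT K C V f v) = opT K C V' f (e v))
    (h : HopfRep.IsSemisimpleComod K C V') : HopfRep.IsSemisimpleComod K C V := by
  intro W hW
  rw [isSubcomod_iff] at hW
  have hW' : HopfRep.IsSubcomod (k := K) (A := C) (W.map e.toLinearMap) := by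
    rw [isSubcomod_iff]
    rintro f _ ⟨w, hw, rfl⟩
    exact ⟨opT K C V f w, hW f w hw, he f w⟩
  obtain ⟨W₂, hW₂, hc⟩ := h _ hW'
  refine ⟨W₂.comap e.toLinearMap, ?_, ?_⟩
  · rw [isSubcomod_iff] at hW₂ ⊢
    intro f w hw
    show e (opT K C V f w) ∈ W₂
    rw [he]
    exact hW₂ f _ hw
  · constructor
    · rw [disjoint_iff, eq_bot_iff]
      rintro x ⟨hx1, hx2⟩
      have h1 : e x ∈ W.map e.toLinearMap ⊓ W₂ := ⟨⟨x, hx1, rfl⟩, hx2⟩
      rw [hc.inf_eq_bot, Submodule.mem_bot] at h1
      rw [Submodule.mem_bot]
      exact e.map_eq_zero_iff.mp h1
    · rw [codisjoint_iff, eq_top_iff]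
      intro x _
      have h1 : e x ∈ W.map e.toLinearMap ⊔ W₂ := by
        rw [hc.sup_eq_top]; trivial
      obtain ⟨a, ⟨w, hw, rfl⟩, b, hb, hab⟩ := Submodule.mem_sup.mp h1
      have hx : x = w + e.symm b := by
        apply e.injective
        rw [map_add, e.apply_symm_apply]
        exact hab.symm
      rw [hx]
      refine Submodule.add_mem_sup hw ?_
      show e (e.symm b) ∈ W₂
      rw [e.apply_symm_apply]
      exact hb

end Transport

section Model

variable {K : Type u} {A : Type v} [Field K] [CommRing A] [Bialgebra K A]
variable {V : Type w} [AddCommGroup V] [Module K V] [HopfRep.Comod K A V]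

lemma algebraMap_injective_of_bialgebra : Function.Injective (algebraMap K A) := by
  haveI : Nontrivial A := ⟨⟨0, 1, fun h => by
    have h1 := congrArg (Coalgebra.counit (R := K) (A := A)) h
    rw [map_zero, Bialgebra.counit_one] at h1
    exact zero_ne_one h1⟩⟩
  exact (algebraMap K A).injective

/-- For a linearly reductive bialgebra, finite-dimensional comodules in every universe are
semisimple. -/
theorem isSemisimpleComod_of_finite (hG : HopfRep.IsLinearlyReductive K A) [Module.Finite K V] :
    HopfRep.IsSemisimpleComod K A V := by
  classical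
  let b := Module.finBasis K V
  let ι : V →ₗ[K] (Fin (Module.finrank K V) → A) :=
    LinearMap.pi fun i => (Algebra.linearMap K A) ∘ₗ (b.coord i)
  have hι : Function.Injective ι := by
    rw [← LinearMap.ker_eq_bot, LinearMap.ker_eq_bot']
    intro x hx
    apply b.ext_elem
    intro i
    have h1 := congrFun hx i
    simp only [ι, LinearMap.pi_apply, LinearMap.comp_apply, Algebra.linearMap_apply,
      Pi.zero_apply] at h1
    rw [map_zero, Finsupp.zero_apply]
    apply algebraMap_injective_of_bialgebra (K := K) (A := A)
    rw [map_zero]
    exact h1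
  let e : V ≃ₗ[K] LinearMap.range ι := LinearEquiv.ofInjective ι hι
  letI : HopfRep.Comod K A (LinearMap.range ι) := transportComod e
  haveI : Module.Finite K (LinearMap.range ι) := Module.Finite.equiv e
  exact isSemisimpleComod_of_equiv e (fun f v => opT_transport e f v)
    (hG (LinearMap.range ι) inferInstance)

theorem complementedLattice_Iic_toOp' (hG : HopfRep.IsLinearlyReductive K A) (W : Submodule K V)
    (hW : HopfRep.IsSubcomod (k := K) (A := A) W) [FiniteDimensional K W] :
    ComplementedLattice (Set.Iic (toOp W hW)) := by
  rw [Set.Iic.complementedLattice_iff]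
  intro N₁ hN₁
  letI := subComod W hW
  have hss : HopfRep.IsSemisimpleComod K A W := isSemisimpleComod_of_finite hG
  have hW₁ : HopfRep.IsSubcomod (k := K) (A := A) (N₁.restrictScalars K) :=
    isSubcomod_restrictScalars N₁
  have hW₁le : N₁.restrictScalars K ≤ W := fun x hx => hN₁ hx
  have hW₁' : HopfRep.IsSubcomod (k := K) (A := A) ((N₁.restrictScalars K).comap W.subtype) := by
    rw [isSubcomod_iff] at hW₁ ⊢
    intro f w hw
    show ((opT K A W f w : W) : V) ∈ N₁.restrictScalars K
    rw [coe_opT_sub]
    exact hW₁ f _ hw
  obtain ⟨W₂', hW₂', hc⟩ := hss _ hW₁'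
  have hW₂ : HopfRep.IsSubcomod (k := K) (A := A) (W₂'.map W.subtype) := by
    rw [isSubcomod_iff] at hW₂' ⊢
    rintro f _ ⟨w, hw, rfl⟩
    exact ⟨opT K A W f w, hW₂' f w hw, coe_opT_sub W hW f w⟩
  have hW₂le : W₂'.map W.subtype ≤ W := by
    rintro _ ⟨w, _, rfl⟩
    exact w.2
  have h1 : N₁.restrictScalars K = ((N₁.restrictScalars K).comap W.subtype).map W.subtype := by
    rw [Submodule.map_comap_subtype]
    exact (inf_eq_right.mpr hW₁le).symm
  refine ⟨toOp (W₂'.map W.subtype) hW₂, fun x hx => hW₂le hx, ?_, ?_⟩
  · apply Submodule.restrictScalars_injective K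
    rw [Submodule.restrictScalars_inf, toOp_restrictScalars, Submodule.restrictScalars_bot, h1,
      ← Submodule.map_inf _ W.injective_subtype, hc.inf_eq_bot, Submodule.map_bot]
  · apply Submodule.restrictScalars_injective K
    rw [Submodule.restrictScalars_sup, toOp_restrictScalars, toOp_restrictScalars, h1,
      ← Submodule.map_sup, hc.sup_eq_top, Submodule.map_subtype_top]

/-- For a linearly reductive bialgebra every comodule, in any universe, is a semisimple module over its
operator algebra. -/
theorem isSemisimpleModule_opAlg' (hG : HopfRep.IsLinearlyReductive K A) :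
    IsSemisimpleModule (opAlg K A V) V := by
  rw [isSemisimpleModule_iff]
  refine complementedLattice_of_complementedLattice_Iic (s := Set.univ)
    (f := fun v : V => toOp (gen (K := K) (C := A) v) (isSubcomod_gen v)) (fun v _ => ?_) ?_
  · haveI := finiteDimensional_gen (K := K) (C := A) v
    exact complementedLattice_Iic_toOp' hG _ _
  · rw [eq_top_iff]
    intro v _
    exact Submodule.mem_iSup_of_mem v (Submodule.mem_iSup_of_mem (Set.mem_univ v) (mem_gen v))

end Model

end Groth.Agent.Lib.Helper19.Luna
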