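import Groth.Agent.Lib.Helper19.LunaA
import Groth.Prelude.Def_GLin
import Groth.Prelude.Def_W4c1tameactTame

/-!
# Reynolds operators of a comodule algebra and of a Hopf module over it (helper19)

For a linearly reductive bialgebra `H`, a comodule algebra `A` and an `(A, H)`-Hopf module `M`,
`exists_reynolds_pair` provides Reynolds operators `E_A`, `E_M` (projections onto the invariants) with
`E_M (a • x) = E_A a • x` for invariant `x`, `E_M (a • y) = a • E_M y` and `E_A (a * b) = a * E_A b`
for invariant `a`, and `E_A W ⊆ W` for every subcomodule `W` of `A`.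
-/

set_option autoImplicit false
set_option linter.unusedSectionVars false
universe u v w w'

open TensorProduct

namespace Groth.Agent.Lib.Helper19.Luna

open Groth.Agent.Lib.Helper19.Reynolds

section Pair

variable {K : Type u} {H : Type v} [Field K] [CommRing H] [Bialgebra K H]
variable {A : Type w} [CommRing A] [Algebra K A] [HopfRep.Comod K H A] [GLin.IsCoactAlg K H A]

lemma hmSMul_self (s t : A ⊗[K] H) : TameAct.hmSMul K H A A s t = s * t := by
  induction s using TensorProduct.induction_on with
  | zero => simp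
  | tmul a h =>
    induction t using TensorProduct.induction_on with
    | zero => simp
    | tmul b h' =>
      rw [TameAct.hmSMul_tmul, Algebra.TensorProduct.tmul_mul_tmul, smul_eq_mul]
    | add x y hx hy => rw [map_add, hx, hy, mul_add]
  | add x y hx hy => rw [map_add, LinearMap.add_apply, hx, hy, add_mul]

/-- A comodule algebra is a Hopf module over itself. -/
theorem isHopfMod_self : TameAct.IsHopfMod K H A A where
  coact_smul b m := by
    rw [smul_eq_mul, GLin.IsCoactAlg.coact_mul, hmSMul_self]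

variable {M : Type w'} [AddCommGroup M] [Module K M] [Module A M] [IsScalarTower K A M]
  [HopfRep.Comod K H M] [TameAct.IsHopfMod K H A M]

lemma slice_hmSMul_tmul_one (f : H →ₗ[K] K) (t : A ⊗[K] H) (x : M) :
    slice f (TameAct.hmSMul K H A M t (x ⊗ₜ[K] (1 : H))) = slice f t • x := by
  induction t using TensorProduct.induction_on with
  | zero => simp
  | tmul a h => rw [TameAct.hmSMul_tmul, mul_one, slice_tmul, slice_tmul, smul_assoc]
  | add a b ha hb => simp only [map_add, LinearMap.add_apply, ha, hb, add_smul]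

lemma slice_hmSMul_one_tmul (f : H →ₗ[K] K) (a : A) (s : M ⊗[K] H) :
    slice f (TameAct.hmSMul K H A M (a ⊗ₜ[K] (1 : H)) s) = a • slice f s := by
  induction s using TensorProduct.induction_on with
  | zero => simp
  | tmul y h => rw [TameAct.hmSMul_tmul, one_mul, slice_tmul, slice_tmul, smul_comm]
  | add x y hx hy => simp only [map_add, hx, hy, smul_add]

lemma opT_smul_of_fixed (f : H →ₗ[K] K) (a : A) (x : M) (hx : x ∈ HopfRep.fixedPts K H M) :
    opT K H M f (a • x) = opT K H A f a • x := by
  have hxc : HopfRep.Comod.coact (k := K) (A := H) x = x ⊗ₜ[K] (1 : H) := hx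
  rw [opT_apply, opT_apply, TameAct.IsHopfMod.coact_smul (k := K) (A := H) (B := A), hxc,
    slice_hmSMul_tmul_one]

lemma opT_smul_of_invariant (f : H →ₗ[K] K) (a : A) (ha : a ∈ GLin.invariants K H A) (y : M) :
    opT K H M f (a • y) = a • opT K H M f y := by
  have hac : HopfRep.Comod.coact (k := K) (A := H) a = a ⊗ₜ[K] (1 : H) := ha
  rw [opT_apply, opT_apply, TameAct.IsHopfMod.coact_smul (k := K) (A := H) (B := A), hac,
    slice_hmSMul_one_tmul]

lemma mem_invariants_iff_mem_fixedPts (a : A) :
    a ∈ GLin.invariants K H A ↔ a ∈ HopfRep.fixedPts K H A := Iff.rfl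

/-- The Reynolds operators of `A` and `M`. -/
theorem exists_reynolds_pair (hG : HopfRep.IsLinearlyReductive K H) :
    ∃ (EA : A →ₗ[K] A) (EM : M →ₗ[K] M),
      (∀ a, EA a ∈ GLin.invariants K H A) ∧ (∀ a ∈ GLin.invariants K H A, EA a = a) ∧
      (∀ y, EM y ∈ HopfRep.fixedPts K H M) ∧ (∀ y ∈ HopfRep.fixedPts K H M, EM y = y) ∧
      (∀ (a : A) (x : M), x ∈ HopfRep.fixedPts K H M → EM (a • x) = EA a • x) ∧
      (∀ a : A, a ∈ GLin.invariants K H A → ∀ y : M, EM (a • y) = a • EM y) ∧
      (∀ a : A, a ∈ GLin.invariants K H A → ∀ b : A, EA (a * b) = a * EA b) ∧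
      (∀ W : Submodule K A, HopfRep.IsSubcomod (k := K) (A := H) W → ∀ a ∈ W, EA a ∈ W) := by
  have hssA : IsSemisimpleModule (opAlg K H A) A := isSemisimpleModule_opAlg' hG
  have hssM : IsSemisimpleModule (opAlg K H M) M := isSemisimpleModule_opAlg' hG
  obtain ⟨EA, CA, hCA, hA1, hA2, hA3, hA4, hA5⟩ := exists_reynolds hssA
  obtain ⟨EM, CM, hCM, hM1, hM2, hM3, hM4, hM5⟩ := exists_reynolds hssM
  haveI : TameAct.IsHopfMod K H A A := isHopfMod_self
  refine ⟨EA, EM, fun a => (mem_invariants_iff_mem_fixedPts _).mpr (hA1 a),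
    fun a ha => hA2 a ((mem_invariants_iff_mem_fixedPts a).mp ha), hM1, hM2, ?_, ?_, ?_, ?_⟩
  · intro a x hx
    let ψ : A →ₗ[K] M := ((LinearMap.lsmul A M).flip x).restrictScalars K
    have hψ : ∀ v : A, ψ v = v • x := fun v => rfl
    have h := reynolds_natural hssA EA CA hCA hA1 hA3 EM hM1 hM2 hM5 ψ
      (fun f v => by rw [hψ, hψ, opT_smul_of_fixed f v x hx]) a
    rw [hψ, hψ] at h
    exact h.symm
  · intro a ha y
    let ψ : M →ₗ[K] M := (LinearMap.lsmul A M a).restrictScalars K
    have hψ : ∀ v : M, ψ v = a • v := fun v => rfl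
    have h := reynolds_natural hssM EM CM hCM hM1 hM3 EM hM1 hM2 hM5 ψ
      (fun f v => by rw [hψ, hψ, opT_smul_of_invariant f a ha v]) y
    rw [hψ, hψ] at h
    exact h.symm
  · intro a ha b
    let ψ : A →ₗ[K] A := LinearMap.mulLeft K a
    have hψ : ∀ v : A, ψ v = a * v := fun v => rfl
    have h := reynolds_natural hssA EA CA hCA hA1 hA3 EA hA1 hA2 hA5 ψ
      (fun f v => by
        rw [hψ, hψ]
        have := opT_smul_of_invariant (M := A) f a ha v
        simpa only [smul_eq_mul] using this.symm) b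
    rw [hψ, hψ] at h
    exact h.symm
  · intro W hW
    refine reynolds_preserves hssA EA ((isComodHom_iff_commute EA).mpr hA5)
      (LinearMap.ext fun a => hA2 _ (hA1 a)) (fun x => ⟨fun h => ?_, hA2 x⟩) W hW
    rw [← h]
    exact hA1 x

end Pair

end Groth.Agent.Lib.Helper19.Luna
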