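import Mathlib
import Groth.Agent.S0545

/-!
# Chevalley's lemma for finite modules over a complete Noetherian local ring (helper19)

Universe-polymorphic module versions of helper4's `Chevalley` (which treats ideals):
* `isAdicComplete_of_finite'`: finite modules over a Noetherian adically complete ring are complete;
* `mem_of_forall_mem_sup_pow`: submodules of a finite module over a Noetherian local ring are closed;
* `chevalley`: a descending sequence of submodules with zero intersection is eventually contained in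
  any given `𝔪^t • ⊤`.
-/

set_option autoImplicit false
set_option linter.style.haveILetI false
set_option linter.unusedSectionVars false
set_option linter.unusedVariables false
set_option maxHeartbeats 800000

universe u v

open IsLocalRing

namespace Groth.Agent.Lib.Helper19.Luna

/-- finite modules over a Noetherian adically complete ring are adically complete -/
theorem isAdicComplete_of_finite' {R : Type u} [CommRing R] [IsNoetherianRing R] (I : Ideal R)
    [IsAdicComplete I R] (N : Type v) [AddCommGroup N] [Module R N] [Module.Finite R N] :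
    IsAdicComplete I N := by
  classical
  haveI : IsHausdorff I N := IsHausdorff.of_le_jacobson I N (IsAdicComplete.le_jacobson_bot I)
  obtain ⟨n, f, hf⟩ := Module.Finite.exists_fin' R N
  haveI : IsPrecomplete I N :=
    Groth.Agent.S0545.isPrecomplete_of_surjective I f hf
      (Groth.Agent.S0545.isPrecomplete_pi I R inferInstance)
  exact {}

section closed

variable {R : Type u} [CommRing R] [IsNoetherianRing R] [IsLocalRing R]
variable {N : Type v} [AddCommGroup N] [Module R N] [Module.Finite R N]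

/-- submodules of a finite module over a Noetherian local ring are closed in the adic topology. -/
lemma mem_of_forall_mem_sup_pow (F : Submodule R N) (x : N)
    (h : ∀ t : ℕ, x ∈ F ⊔ (maximalIdeal R ^ t • ⊤ : Submodule R N)) : x ∈ F := by
  have hbot := Ideal.iInf_pow_smul_eq_bot_of_isLocalRing (R := R) (M := N ⧸ F) (maximalIdeal R)
    (Ideal.IsMaximal.ne_top (maximalIdeal.isMaximal R))
  have hx : F.mkQ x ∈ (⨅ i : ℕ, maximalIdeal R ^ i • ⊤ : Submodule R (N ⧸ F)) := by
    rw [Submodule.mem_iInf]
    intro t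
    obtain ⟨a, ha, e, he, rfl⟩ := Submodule.mem_sup.1 (h t)
    have h0 : F.mkQ a = 0 := by
      rw [Submodule.mkQ_apply, Submodule.Quotient.mk_eq_zero]; exact ha
    rw [map_add, h0, zero_add]
    have h1 : F.mkQ e ∈ (maximalIdeal R ^ t • ⊤ : Submodule R N).map F.mkQ :=
      Submodule.mem_map_of_mem he
    rw [Submodule.map_smul''] at h1
    exact Submodule.smul_mono le_rfl le_top h1
  rw [hbot, Submodule.mem_bot, Submodule.mkQ_apply, Submodule.Quotient.mk_eq_zero] at hx
  exact hx

lemma isArtinian_quot (t : ℕ) :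
    IsArtinian R (N ⧸ (maximalIdeal R ^ t • ⊤ : Submodule R N)) := by
  cases t with
  | zero =>
    have : Subsingleton (N ⧸ ((maximalIdeal R) ^ 0 • (⊤ : Submodule R N))) := by
      rw [pow_zero, Ideal.one_eq_top, Submodule.top_smul]
      infer_instance
    infer_instance
  | succ n =>
    have hmin : maximalIdeal R ∈ ((maximalIdeal R) ^ (n + 1)).minimalPrimes := by
      refine ⟨⟨inferInstance, Ideal.pow_le_self (Nat.succ_ne_zero n)⟩, fun q hq _ => ?_⟩
      have := hq.1
      exact Ideal.IsPrime.le_of_pow_le hq.2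
    have : IsArtinianRing (R ⧸ (maximalIdeal R) ^ (n + 1)) :=
      IsLocalRing.quotient_artinian_of_mem_minimalPrimes_of_isLocalRing _ hmin
    have : IsScalarTower R (R ⧸ (maximalIdeal R) ^ (n + 1))
        (N ⧸ ((maximalIdeal R) ^ (n + 1) • (⊤ : Submodule R N))) :=
      (Module.isTorsionBySet_quotient_ideal_smul N
        ((maximalIdeal R) ^ (n + 1))).isScalarTower (S := R)
    have : Module.Finite (R ⧸ (maximalIdeal R) ^ (n + 1))
        (N ⧸ ((maximalIdeal R) ^ (n + 1) • (⊤ : Submodule R N))) :=
      Module.Finite.of_restrictScalars_finite R _ _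
    exact isArtinian_of_surjective_algebraMap
      (R := R ⧸ (maximalIdeal R) ^ (n + 1)) (S := R) Ideal.Quotient.mk_surjective

/-- a descending sequence of submodules is stationary modulo `𝔪^t`. -/
lemma exists_stable (J : ℕ → Submodule R N) (hJ : Antitone J) (t : ℕ) :
    ∃ K : ℕ, ∀ k, K ≤ k → J k ⊔ (maximalIdeal R ^ t • ⊤ : Submodule R N) =
      J K ⊔ (maximalIdeal R ^ t • ⊤ : Submodule R N) := by
  haveI : IsArtinian R (N ⧸ (maximalIdeal R ^ t • ⊤ : Submodule R N)) := isArtinian_quot t
  let f : ℕ →o (Submodule R (N ⧸ (maximalIdeal R ^ t • ⊤ : Submodule R N)))ᵒᵈ :=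
    ⟨fun k => OrderDual.toDual
        (Submodule.map (maximalIdeal R ^ t • ⊤ : Submodule R N).mkQ (J k)),
      fun a b hab => OrderDual.toDual_le_toDual.2 (Submodule.map_mono (hJ hab))⟩
  obtain ⟨K, hK⟩ := IsArtinian.monotone_stabilizes f
  refine ⟨K, fun k hk => ?_⟩
  have h1 : Submodule.map (maximalIdeal R ^ t • ⊤ : Submodule R N).mkQ (J K) =
      Submodule.map (maximalIdeal R ^ t • ⊤ : Submodule R N).mkQ (J k) :=
    congrArg OrderDual.ofDual (hK k hk)
  have h2 := congrArg (Submodule.comap (maximalIdeal R ^ t • ⊤ : Submodule R N).mkQ) h1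
  rw [Submodule.comap_map_mkQ, Submodule.comap_map_mkQ] at h2
  rw [sup_comm (J k), sup_comm (J K)]
  exact h2.symm

variable [IsAdicComplete (maximalIdeal R) R]

/-- **Chevalley's lemma** for finite modules. -/
theorem chevalley (J : ℕ → Submodule R N) (hJ : Antitone J) (h0 : ⨅ k, J k = ⊥) (t₀ : ℕ) :
    ∃ k, J k ≤ (maximalIdeal R ^ t₀ • ⊤ : Submodule R N) := by
  classical
  haveI : IsAdicComplete (maximalIdeal R) N := isAdicComplete_of_finite' _ N
  by_contra hcon
  have hcon' : ∀ k, ¬ J k ≤ (maximalIdeal R ^ t₀ • ⊤ : Submodule R N) := fun k hk => hcon ⟨k, hk⟩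
  let P : ℕ → Submodule R N := fun t => (maximalIdeal R ^ t • ⊤ : Submodule R N)
  have hPdef : ∀ t, P t = (maximalIdeal R ^ t • ⊤ : Submodule R N) := fun t => rfl
  have hPanti : ∀ t t', t ≤ t' → P t' ≤ P t := fun t t' h =>
    Submodule.smul_mono_left (Ideal.pow_le_pow_right h)
  let S : ℕ → Submodule R N := fun t => ⨅ k, J k ⊔ P t
  have hSdef : ∀ t, S t = ⨅ k, J k ⊔ P t := fun t => rfl
  have hS : ∀ t, ∃ K, ∀ k, K ≤ k → S t = J k ⊔ P t := by
    intro t
    obtain ⟨K, hK⟩ := exists_stable J hJ t
    refine ⟨K, fun k hk => ?_⟩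
    rw [hPdef, hK k hk]
    apply le_antisymm (iInf_le _ K)
    refine le_iInf fun k' => ?_
    rcases le_total K k' with h | h
    · rw [hPdef, hK k' h]
    · exact sup_le_sup_right (hJ h) _
  have hSanti : ∀ t t', t ≤ t' → S t' ≤ S t := fun t t' h =>
    iInf_mono fun k => sup_le_sup_left (hPanti t t' h) _
  have hmS : ∀ t, P t ≤ S t := fun t => le_iInf fun k => le_sup_right
  have step : ∀ t (x : S t), ∃ x' : S (t + 1), (x : N) - (x' : N) ∈ P t := by
    intro t x
    obtain ⟨K1, hK1⟩ := hS t
    obtain ⟨K2, hK2⟩ := hS (t + 1)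
    have hx : (x : N) ∈ J (max K1 K2) ⊔ P t := by
      rw [← hK1 (max K1 K2) (le_max_left _ _)]
      exact x.2
    obtain ⟨a, ha, e, he, hae⟩ := Submodule.mem_sup.1 hx
    refine ⟨⟨a, ?_⟩, ?_⟩
    · rw [hK2 (max K1 K2) (le_max_right _ _)]
      exact Submodule.mem_sup_left ha
    · have : (x : N) - a = e := by rw [← hae]; abel
      rw [this]
      exact he
  choose g hg using step
  obtain ⟨K0, hK0⟩ := hS t₀
  obtain ⟨x0, hx0J, hx0⟩ := SetLike.not_le_iff_exists.1 (hcon' K0)
  have hx0S : x0 ∈ S t₀ := by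
    rw [hK0 K0 le_rfl]
    exact Submodule.mem_sup_left hx0J
  let x : ℕ → N := fun j => Nat.rec x0
    (fun j xj => if h : xj ∈ S (t₀ + j) then ((g (t₀ + j) ⟨xj, h⟩ : S (t₀ + j + 1)) : N) else 0) j
  have hx_succ : ∀ j, x (j + 1) =
      if h : x j ∈ S (t₀ + j) then ((g (t₀ + j) ⟨x j, h⟩ : S (t₀ + j + 1)) : N) else 0 :=
    fun j => rfl
  have hxmem : ∀ j, x j ∈ S (t₀ + j) := by
    intro j
    induction j with
    | zero => exact hx0S
    | succ j ih =>
      rw [hx_succ, dif_pos ih]
      exact (g (t₀ + j) ⟨x j, ih⟩).2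
  have hxstep : ∀ j, x j - x (j + 1) ∈ P (t₀ + j) := by
    intro j
    rw [hx_succ, dif_pos (hxmem j)]
    exact hg (t₀ + j) ⟨x j, hxmem j⟩
  let f : ℕ → N := fun n => x (n - t₀)
  have hfdef : ∀ n, f n = x (n - t₀) := fun n => rfl
  have hfstep : ∀ n, f n - f (n + 1) ∈ P n := by
    intro n
    rcases Nat.lt_or_ge n t₀ with h | h
    · have h1 : n - t₀ = 0 := by omega
      have h2 : n + 1 - t₀ = 0 := by omega
      rw [hfdef, hfdef, h1, h2, sub_self]
      exact zero_mem _
    · obtain ⟨j, rfl⟩ := Nat.exists_eq_add_of_le h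
      have h1 : t₀ + j - t₀ = j := by omega
      have h2 : t₀ + j + 1 - t₀ = j + 1 := by omega
      rw [hfdef, hfdef, h1, h2]
      exact hxstep j
  have hcauchy : ∀ a b, a ≤ b → f a - f b ∈ P a := by
    intro a b hab
    induction b, hab using Nat.le_induction with
    | base => rw [sub_self]; exact zero_mem _
    | succ b hb ih =>
      have h1 : f a - f (b + 1) = (f a - f b) + (f b - f (b + 1)) := by abel
      rw [h1]
      exact add_mem ih (hPanti a b hb (hfstep b))
  obtain ⟨L, hL⟩ := IsPrecomplete.prec (I := maximalIdeal R) (M := N) inferInstance (f := f) (by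
    intro a b hab
    rw [SModEq.sub_mem]
    exact hcauchy a b hab)
  have hL' : ∀ n, f n - L ∈ P n := by
    intro n
    have h1 := hL n
    rw [SModEq.sub_mem] at h1
    exact h1
  have hfmem : ∀ n, t₀ ≤ n → f n ∈ S n := by
    intro n hn
    obtain ⟨j, rfl⟩ := Nat.exists_eq_add_of_le hn
    have h1 : t₀ + j - t₀ = j := by omega
    rw [hfdef, h1]
    exact hxmem j
  have hLS : ∀ t, L ∈ S t := by
    intro t
    have h1 : f (max t t₀) ∈ S t := hSanti t _ (le_max_left _ _) (hfmem _ (le_max_right _ _))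
    have h2 : f (max t t₀) - L ∈ S t :=
      hmS t (hPanti t _ (le_max_left _ _) (hL' _))
    have h3 : L = f (max t t₀) - (f (max t t₀) - L) := by abel
    rw [h3]
    exact sub_mem h1 h2
  have hLJ : ∀ k, L ∈ J k := fun k => mem_of_forall_mem_sup_pow (J k) L (fun t => by
    have h1 := hLS t
    rw [hSdef, Submodule.mem_iInf] at h1
    exact h1 k)
  have hL0 : L = 0 := by
    have h1 : L ∈ (⨅ k, J k : Submodule R N) := (Submodule.mem_iInf _).2 hLJ
    rw [h0] at h1
    exact h1
  apply hx0
  have h3 := hL' t₀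
  have h4 : f t₀ = x0 := by
    rw [hfdef, Nat.sub_self]
    rfl
  rw [h4, hL0, sub_zero] at h3
  exact h3

end closed

end Groth.Agent.Lib.Helper19.Luna
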