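import Groth.Agent.Lib.Helper19.LunaB
import Groth.Agent.Lib.Helper19.LunaC

/-!
# Invariants of a Hopf module are separated and complete for the filtration induced by a stable
maximal ideal (helper19)

`main`: `H` linearly reductive, `A` a Noetherian comodule algebra, `m` a stable maximal ideal, `A^H`
a complete Noetherian local ring, `M` a finite Hopf module: the filtration `(m^n M) ∩ M^H` of `M^H`
is separated and complete.
-/

set_option autoImplicit false
set_option linter.style.haveILetI false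
set_option linter.unusedSectionVars false
set_option linter.unusedVariables false
set_option maxHeartbeats 800000
universe u v w w'

open TensorProduct

namespace Groth.Agent.Lib.Helper19.Luna

section Main

variable {k : Type u} [Field k] {H : Type v} [CommRing H] [Bialgebra k H]
  {A : Type w} [CommRing A] [Algebra k A] [IsNoetherianRing A] [HopfRep.Comod k H A]
  [GLin.IsCoactAlg k H A]
  (m : Ideal A) [hmax : m.IsMaximal]
  [IsLocalRing ↥(GLin.invariants k H A)] [IsNoetherianRing ↥(GLin.invariants k H A)]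
  [IsAdicComplete (IsLocalRing.maximalIdeal ↥(GLin.invariants k H A)) ↥(GLin.invariants k H A)]
  {M : Type w'} [AddCommGroup M] [Module k M] [Module A M] [IsScalarTower k A M]
  [Module.Finite A M] [HopfRep.Comod k H M] [TameAct.IsHopfMod k H A M]

set_option quotPrecheck false in
local notation "RR" => ↥(GLin.invariants k H A)
set_option quotPrecheck false in
local notation "𝔫" => IsLocalRing.maximalIdeal ↥(GLin.invariants k H A)

theorem main (hG : HopfRep.IsLinearlyReductive k H)
    (hm : HopfRep.IsSubcomod (k := k) (A := H) (m.restrictScalars k)) :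
    (∀ x ∈ HopfRep.fixedPts k H M, (∀ n : ℕ, x ∈ (m ^ n • ⊤ : Submodule A M)) → x = 0) ∧
    ∀ x : ℕ → M, (∀ n, x n ∈ HopfRep.fixedPts k H M) →
      (∀ n, x (n + 1) - x n ∈ (m ^ n • ⊤ : Submodule A M)) →
      ∃ y ∈ HopfRep.fixedPts k H M, ∀ n, y - x n ∈ (m ^ n • ⊤ : Submodule A M) := by
  classical
  obtain ⟨EA, EM, hA1, hA2, hM1, hM2, hP1, hP2, hP3, hP4⟩ :=
    exists_reynolds_pair (K := k) (H := H) (A := A) (M := M) hG
  have hEAm : ∀ a ∈ m, EA a ∈ m := fun a ha => hP4 (m.restrictScalars k) hm a ha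
  -- invariants lying in `m` are in the maximal ideal of the invariant ring
  have hnon : ∀ ρ : RR, (ρ : A) ∈ m → ρ ∈ 𝔫 := by
    intro ρ hρ
    rw [IsLocalRing.mem_maximalIdeal, mem_nonunits_iff]
    intro hu
    have hu' : IsUnit ((GLin.invariants k H A).val ρ) := hu.map (GLin.invariants k H A).val
    exact hmax.ne_top (Ideal.eq_top_of_isUnit_mem _ hρ hu')
  -- the maximal ideal of the invariant ring lies in `m`
  have hnm : ∀ ρ : RR, ρ ∈ 𝔫 → (ρ : A) ∈ m := by
    intro ρ hρ
    by_contra hcon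
    obtain ⟨y, i, hi, hyi⟩ := hmax.exists_inv hcon
    have h1 : EA (y * (ρ : A)) + EA i = 1 := by
      rw [← map_add, hyi]
      exact hA2 1 (one_mem _)
    rw [mul_comm, hP3 (ρ : A) ρ.2 y] at h1
    have h2 : ρ * ⟨EA y, hA1 y⟩ + ⟨EA i, hA1 i⟩ = (1 : RR) := Subtype.ext (by simpa using h1)
    have h3 : (1 : RR) ∈ 𝔫 := by
      rw [← h2]
      exact Ideal.add_mem _ (Ideal.mul_mem_right _ _ hρ) (hnon ⟨EA i, hA1 i⟩ (hEAm i hi))
    exact (Ideal.ne_top_iff_one _).mp (IsLocalRing.maximalIdeal.isMaximal _).ne_top h3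
  -- part (i)
  have part1 : ∀ x ∈ HopfRep.fixedPts k H M,
      (∀ n : ℕ, x ∈ (m ^ n • ⊤ : Submodule A M)) → x = 0 := by
    intro x hx hxn
    have h1 : x ∈ (⨅ i : ℕ, m ^ i • ⊤ : Submodule A M) := (Submodule.mem_iInf _).mpr hxn
    obtain ⟨r, hr⟩ := (Ideal.mem_iInf_smul_pow_eq_bot_iff m x).mp h1
    have h2 : EA (r : A) • x = x := by
      rw [← hP1 (r : A) x hx, hr, hM2 x hx]
    have hρm : (⟨EA (r : A), hA1 _⟩ : RR) ∈ 𝔫 := hnon _ (hEAm _ r.2)
    have hu : IsUnit (1 - (⟨EA (r : A), hA1 _⟩ : RR)) :=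
      IsLocalRing.isUnit_one_sub_self_of_mem_nonunits _ ((IsLocalRing.mem_maximalIdeal _).mp hρm)
    have hu' : IsUnit ((1 : A) - EA (r : A)) := by
      have := hu.map (GLin.invariants k H A).val
      simpa using this
    have h3 : ((1 : A) - EA (r : A)) • x = 0 := by rw [sub_smul, one_smul, h2, sub_self]
    exact (hu'.smul_left_cancel).mp (by rw [h3, smul_zero])
  refine ⟨part1, ?_⟩
  -- the invariants as a module over the invariant ring
  let N : Submodule RR M :=
    { carrier := {y | y ∈ HopfRep.fixedPts k H M}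
      add_mem' := fun {a b} ha hb => (HopfRep.fixedPts k H M).add_mem ha hb
      zero_mem' := (HopfRep.fixedPts k H M).zero_mem
      smul_mem' := fun r y hy => by
        show (r : A) • y ∈ HopfRep.fixedPts k H M
        have h : (r : A) • y = EM ((r : A) • y) := by rw [hP2 (r : A) r.2 y, hM2 y hy]
        rw [h]
        exact hM1 _ }
  have hN : ∀ y : M, y ∈ N ↔ y ∈ HopfRep.fixedPts k H M := fun y => Iff.rfl
  haveI hfin : Module.Finite RR N := by
    haveI : IsNoetherian A M := isNoetherian_of_isNoetherianRing_of_finite A M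
    have hfg : (Submodule.span A (HopfRep.fixedPts k H M : Set M)).FG := IsNoetherian.noetherian _
    obtain ⟨t, ht, hspan⟩ := (Submodule.fg_span_iff_fg_span_finset_subset _).mp hfg
    rw [Module.Finite.iff_fg]
    refine ⟨t, ?_⟩
    apply le_antisymm
    · rw [Submodule.span_le]
      exact fun y hy => ht hy
    · intro x hx
      have hx' : x ∈ Submodule.span A (t : Set M) := by
        rw [← hspan]
        exact Submodule.subset_span hx
      obtain ⟨c, -, hc⟩ := Submodule.mem_span_finset.mp hx'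
      have hx2 : x = ∑ a ∈ t, EA (c a) • a := by
        calc x = EM x := (hM2 x hx).symm
          _ = EM (∑ a ∈ t, c a • a) := by rw [hc]
          _ = ∑ a ∈ t, EM (c a • a) := map_sum _ _ _
          _ = ∑ a ∈ t, EA (c a) • a := Finset.sum_congr rfl fun a ha => hP1 (c a) a (ht ha)
      rw [hx2]
      refine Submodule.sum_mem _ fun a ha => ?_
      have h : EA (c a) • a = (⟨EA (c a), hA1 _⟩ : RR) • a := rfl
      rw [h]
      exact Submodule.smul_mem _ _ (Submodule.subset_span ha)
  -- the filtration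
  let F : ℕ → Submodule RR N := fun n =>
    { carrier := {y | (y : M) ∈ (m ^ n • ⊤ : Submodule A M)}
      add_mem' := fun {a b} ha hb => by
        show ((a : M) + (b : M)) ∈ (m ^ n • ⊤ : Submodule A M)
        exact add_mem ha hb
      zero_mem' := by
        show (0 : M) ∈ (m ^ n • ⊤ : Submodule A M)
        exact zero_mem _
      smul_mem' := fun r y hy => by
        show (r : A) • (y : M) ∈ (m ^ n • ⊤ : Submodule A M)
        exact Submodule.smul_mem _ _ hy }
  have hFmem : ∀ n (y : N), y ∈ F n ↔ (y : M) ∈ (m ^ n • ⊤ : Submodule A M) := fun n y => Iff.rfl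
  have hFanti : Antitone F := fun a b hab y hy =>
    (hFmem a y).mpr (Submodule.smul_mono_left (Ideal.pow_le_pow_right hab) ((hFmem b y).mp hy))
  have hF0 : ⨅ n, F n = ⊥ := by
    rw [eq_bot_iff]
    intro y hy
    rw [Submodule.mem_iInf] at hy
    have h0 : (y : M) = 0 := part1 (y : M) y.2 (fun n => (hFmem n y).mp (hy n))
    rw [Submodule.mem_bot]
    exact Subtype.ext h0
  have hchev : ∀ j, ∃ n, F n ≤ (𝔫 ^ j • ⊤ : Submodule RR N) := fun j => chevalley F hFanti hF0 j
  choose c hc using hchev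
  have hPF : ∀ j (y : N), y ∈ (𝔫 ^ j • ⊤ : Submodule RR N) →
      (y : M) ∈ (m ^ j • ⊤ : Submodule A M) := by
    intro j y hy
    refine Submodule.smul_induction_on hy ?_ ?_
    · intro r hr z _
      show (r : A) • (z : M) ∈ (m ^ j • ⊤ : Submodule A M)
      refine Submodule.smul_mem_smul ?_ Submodule.mem_top
      have h1 : (GLin.invariants k H A).val r ∈ (𝔫 ^ j).map (GLin.invariants k H A).val :=
        Ideal.mem_map_of_mem _ hr
      rw [Ideal.map_pow] at h1
      have h0 : (𝔫).map (GLin.invariants k H A).val ≤ m := by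
        rw [Ideal.map_le_iff_le_comap]
        intro ρ hρ
        exact hnm ρ hρ
      exact Ideal.pow_right_mono h0 j h1
    · intro a b ha hb
      show ((a : M) + (b : M)) ∈ (m ^ j • ⊤ : Submodule A M)
      exact add_mem ha hb
  -- part (ii)
  intro x hx hstep
  let ξ : ℕ → N := fun n => ⟨x n, hx n⟩
  have hξ : ∀ n, ((ξ n : N) : M) = x n := fun n => rfl
  have hcau : ∀ a b, a ≤ b → ξ b - ξ a ∈ F a := by
    intro a b hab
    induction b, hab using Nat.le_induction with
    | base => rw [sub_self]; exact zero_mem _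
    | succ b hb ih =>
      have h1 : ξ (b + 1) - ξ a = (ξ (b + 1) - ξ b) + (ξ b - ξ a) := by abel
      rw [h1]
      refine add_mem (hFanti hb ?_) ih
      exact (hFmem b _).mpr (hstep b)
  let σ : ℕ → ℕ := fun a => (Finset.range (a + 1)).sup c ⊔ a
  have hσmono : Monotone σ := fun a b hab =>
    sup_le_sup (Finset.sup_mono (Finset.range_mono (Nat.succ_le_succ hab))) hab
  have hσc : ∀ a, c a ≤ σ a := fun a =>
    le_sup_of_le_left (Finset.le_sup (f := c) (Finset.self_mem_range_succ a))
  have hσa : ∀ a, a ≤ σ a := fun a => le_sup_right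
  haveI : IsAdicComplete 𝔫 N := isAdicComplete_of_finite' _ N
  obtain ⟨L, hL⟩ := IsPrecomplete.prec (I := 𝔫) (M := N) inferInstance
    (f := fun a => ξ (σ a)) (by
      intro a b hab
      rw [SModEq.sub_mem]
      have h1 : ξ (σ b) - ξ (σ a) ∈ F (σ a) := hcau _ _ (hσmono hab)
      have h2 : ξ (σ b) - ξ (σ a) ∈ (𝔫 ^ a • ⊤ : Submodule RR N) := hc a (hFanti (hσc a) h1)
      have h3 : ξ (σ a) - ξ (σ b) = -(ξ (σ b) - ξ (σ a)) := by abel
      rw [h3]
      exact neg_mem h2)
  refine ⟨(L : M), L.2, fun n => ?_⟩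
  have h1 : ξ (σ n) - L ∈ (𝔫 ^ n • ⊤ : Submodule RR N) := by
    have := hL n
    rwa [SModEq.sub_mem] at this
  have h2 : ((ξ (σ n) - L : N) : M) ∈ (m ^ n • ⊤ : Submodule A M) := hPF n _ h1
  have h3 : ((ξ (σ n) - ξ n : N) : M) ∈ (m ^ n • ⊤ : Submodule A M) :=
    (hFmem n _).mp (hcau n (σ n) (hσa n))
  have h4 : (L : M) - x n = ((ξ (σ n) - ξ n : N) : M) - ((ξ (σ n) - L : N) : M) := by
    rw [Submodule.coe_sub, Submodule.coe_sub, hξ, hξ]
    abel
  rw [h4]
  exact sub_mem h3 h2

end Main

end Groth.Agent.Lib.Helper19.Luna
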