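import Mathlib
import Groth.Prelude.Def_SGA3b
import Groth.Agent.Lib.Helper28.MultQuot
import Groth.Agent.Lib.Helper19.HopfVand

/-!
# Closed subgroups of groups of multiplicative type with trivial closed fibre (helper19)

`main`: over a local ring `R`, a Hopf ideal `J` of a Hopf algebra `A` of multiplicative type and of
finite type, with `J + 𝔪 A = Ker ε + 𝔪 A`, is equal to `Ker ε` (SGA3 IX 5.3-type statement; no
finiteness hypothesis on `A ⧸ J` is needed).
-/

set_option autoImplicit false
universe u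
open TensorProduct

namespace Groth.Agent.Lib.Helper19.MultTrivSub

open Groth.Agent.Lib.Helper28.MultQuot Groth.Agent.Lib.Helper19.HopfVand

section ConvPow

variable {S : Type u} [CommRing S] {D : Type u} [CommRing D] [Bialgebra S D]

/-- the `n`-th power endomorphism -/
noncomputable def pw (n : ℕ) : D →ₐ[S] D :=
  WithConv.ofConv ((WithConv.toConv (AlgHom.id S D)) ^ n)

lemma pw_groupLike {z : D} (hz : IsGroupLikeElem S z) (n : ℕ) : pw (S := S) n z = z ^ n := by
  induction n with
  | zero =>
    have h : pw (S := S) (D := D) 0 z = algebraMap S D (Coalgebra.counit (R := S) z) := by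
      unfold pw
      rw [pow_zero]
      rfl
    rw [h, hz.counit_eq_one, map_one, pow_zero]
  | succ n ih =>
    have h : pw (S := S) (n + 1) z =
        ((WithConv.toConv (AlgHom.id S D)) ^ n * WithConv.toConv (AlgHom.id S D)).ofConv z := by
      unfold pw
      rw [pow_succ]
    rw [h, AlgHom.convMul_apply, hz.comul_eq_tmul_self, Algebra.TensorProduct.lift_tmul,
      WithConv.ofConv_toConv, AlgHom.coe_id, id_eq, pow_succ]
    exact congrArg (fun y => y * z) ih

end ConvPow

lemma wf_subgroup {M : Type u} [CommGroup M] (hM : Group.FG M) :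
    WellFounded (fun a b : Subgroup M => b < a) := by
  haveI := hM
  haveI : Module.Finite ℤ (Additive M) := Module.Finite.iff_addGroup_fg.2 inferInstance
  haveI : IsNoetherian ℤ (Additive M) := isNoetherian_of_isNoetherianRing_of_finite ℤ _
  have hwf : WellFounded (fun a b : Submodule ℤ (Additive M) => b < a) := wellFounded_gt
  let f : Subgroup M ≃o Submodule ℤ (Additive M) :=
    Subgroup.toAddSubgroup.trans AddSubgroup.toIntSubmodule
  refine Subrelation.wf (r := InvImage (fun a b : Submodule ℤ (Additive M) => b < a) f) ?_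
    (InvImage.wf f hwf)
  intro a b hab
  exact f.lt_iff_lt.2 hab

section Core

variable {R : Type u} [CommRing R] [IsLocalRing R] {A : Type u} [CommRing A] [HopfAlgebra R A]
  (J : Ideal A) [J.IsHopfIdeal R]
  {Rf R' S : Type u} [CommRing Rf] [CommRing R'] [CommRing S] [IsLocalRing S]
  [Algebra R Rf] [Algebra Rf R'] [Algebra R' S] [Algebra Rf S] [Algebra R S]
  [IsScalarTower Rf R' S] [IsScalarTower R Rf S] [Module.FaithfullyFlat R S]
  {M : Type u} [CommGroup M]

theorem core
    (hs : J ⊔ Ideal.map (algebraMap R A) (IsLocalRing.maximalIdeal R) =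
      RingHom.ker (Bialgebra.counitAlgHom R A) ⊔
        Ideal.map (algebraMap R A) (IsLocalRing.maximalIdeal R))
    (h𝔫 : Ideal.map (algebraMap R S) (IsLocalRing.maximalIdeal R) ≤ IsLocalRing.maximalIdeal S)
    (hM : Group.FG M) (e : R' ⊗[Rf] (Rf ⊗[R] A) ≃ₐc[R'] MonoidAlgebra R' M) :
    RingHom.ker (Bialgebra.counitAlgHom R A) ≤ J := by
  classical
  let π : A →ₐc[R] A ⧸ J := Bialgebra.Quotient.mkBialgHom (R := R) J
  have hπ : Function.Surjective π := Ideal.Quotient.mk_surjective
  let Θ : S ⊗[R'] (R' ⊗[Rf] (Rf ⊗[R] A)) →ₐc[S] S ⊗[R] (A ⧸ J) :=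
    (Bialgebra.TensorProduct.map (BialgHom.id S S) π).comp
      ((cancelBialgHom (L := R) (R' := Rf) (K := S) (B := A)).comp
        (cancelBialgHom (L := Rf) (R' := R') (K := S) (B := Rf ⊗[R] A)))
  have hΘ : Function.Surjective Θ := by
    intro y
    obtain ⟨y1, rfl⟩ := map_id_surjective (S := S) π hπ y
    obtain ⟨y2, rfl⟩ := cancelBialgHom_surjective (L := R) (R' := Rf) (K := S) (B := A) y1
    obtain ⟨y3, rfl⟩ :=
      cancelBialgHom_surjective (L := Rf) (R' := R') (K := S) (B := Rf ⊗[R] A) y2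
    exact ⟨y3, rfl⟩
  -- the group-like elements
  let g : M →* S ⊗[R] (A ⧸ J) :=
    { toFun := fun m => Θ ((1 : S) ⊗ₜ[R'] e.symm (MonoidAlgebra.of R' M m))
      map_one' := by
        show Θ ((1 : S) ⊗ₜ[R'] e.symm (MonoidAlgebra.of R' M 1)) = 1
        rw [map_one (MonoidAlgebra.of R' M), map_one e.symm, ← Algebra.TensorProduct.one_def,
          map_one Θ]
      map_mul' := by
        intro a b
        show Θ ((1 : S) ⊗ₜ[R'] e.symm (MonoidAlgebra.of R' M (a * b))) =
          Θ ((1 : S) ⊗ₜ[R'] e.symm (MonoidAlgebra.of R' M a)) *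
            Θ ((1 : S) ⊗ₜ[R'] e.symm (MonoidAlgebra.of R' M b))
        rw [map_mul (MonoidAlgebra.of R' M), map_mul e.symm, ← map_mul Θ,
          Algebra.TensorProduct.tmul_mul_tmul, mul_one] }
  have hgdef : ∀ m, g m = Θ ((1 : S) ⊗ₜ[R'] e.symm (MonoidAlgebra.of R' M m)) := fun m => rfl
  have hgl : ∀ m, IsGroupLikeElem S (g m) := by
    intro m
    have h1 : IsGroupLikeElem R' (MonoidAlgebra.of R' M m) := MonoidAlgebra.isGroupLikeElem_of m
    exact (isGroupLikeElem_one_tmul (K := S) (h1.map e.symm)).map Θ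
  have hspan : Submodule.span S (Set.range g) = ⊤ := by
    have key1 : ∀ z : MonoidAlgebra R' M,
        Θ ((1 : S) ⊗ₜ[R'] e.symm z) ∈ Submodule.span S (Set.range g) := by
      intro z
      induction z using MonoidAlgebra.induction_linear with
      | zero => simp
      | add x y hx hy =>
        rw [map_add, TensorProduct.tmul_add, map_add]
        exact Submodule.add_mem _ hx hy
      | single m r =>
        have h1 : (MonoidAlgebra.single m r : MonoidAlgebra R' M) =
            r • MonoidAlgebra.single m 1 := by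
          rw [MonoidAlgebra.smul_single, smul_eq_mul, mul_one]
        have h2 : (1 : S) ⊗ₜ[R'] (r • e.symm (MonoidAlgebra.single m (1 : R'))) =
            (algebraMap R' S r) • ((1 : S) ⊗ₜ[R'] e.symm (MonoidAlgebra.single m (1 : R'))) := by
          rw [TensorProduct.tmul_smul, TensorProduct.smul_tmul', TensorProduct.smul_tmul',
            Algebra.smul_def, smul_eq_mul]
        rw [h1, map_smul, h2, map_smul]
        exact Submodule.smul_mem _ _ (Submodule.subset_span ⟨m, rfl⟩)
    rw [eq_top_iff]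
    rintro w -
    obtain ⟨y, rfl⟩ := hΘ w
    induction y using TensorProduct.induction_on with
    | zero => simp
    | tmul c x =>
      have h3 : c ⊗ₜ[R'] x = c • ((1 : S) ⊗ₜ[R'] e.symm (e x)) := by
        rw [TensorProduct.smul_tmul', smul_eq_mul, mul_one, BialgEquiv.symm_apply_apply]
      rw [h3, map_smul]
      exact Submodule.smul_mem _ _ (key1 _)
    | add x y hx hy => rw [map_add]; exact Submodule.add_mem _ hx hy
  -- the ideal `𝔫`
  obtain ⟨𝔫, h𝔫def⟩ : ∃ 𝔫 : Ideal S,
      𝔫 = Ideal.map (algebraMap R S) (IsLocalRing.maximalIdeal R) := ⟨_, rfl⟩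
  have hunitS : ∀ s : S, s - 1 ∈ 𝔫 → IsUnit s := by
    intro s hs'
    by_contra hns
    have h1 : s ∈ IsLocalRing.maximalIdeal S := (IsLocalRing.mem_maximalIdeal s).2 hns
    have h2 : (1 : S) ∈ IsLocalRing.maximalIdeal S := by
      have h3 : (1 : S) = s - (s - 1) := by ring
      rw [h3]
      exact Ideal.sub_mem _ h1 (h𝔫 (h𝔫def ▸ hs'))
    exact (IsLocalRing.maximalIdeal.isMaximal S).ne_top ((Ideal.eq_top_iff_one _).2 h2)
  -- elements of `D` are congruent to their counit modulo `𝔫 D`
  have hb : ∀ b : A ⧸ J, ((1 : S) ⊗ₜ[R] b : S ⊗[R] (A ⧸ J)) -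
      algebraMap S (S ⊗[R] (A ⧸ J)) (algebraMap R S (Coalgebra.counit (R := R) b)) ∈
        Ideal.map (algebraMap S (S ⊗[R] (A ⧸ J))) 𝔫 := by
    intro b
    obtain ⟨a, rfl⟩ := Ideal.Quotient.mk_surjective b
    have h1 : a - algebraMap R A (Coalgebra.counit (R := R) a) ∈
        RingHom.ker (Bialgebra.counitAlgHom R A) := by
      rw [RingHom.mem_ker, map_sub, AlgHom.commutes]
      simp
    have h2 : a - algebraMap R A (Coalgebra.counit (R := R) a) ∈
        J ⊔ Ideal.map (algebraMap R A) (IsLocalRing.maximalIdeal R) := by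
      rw [hs]; exact Ideal.mem_sup_left h1
    obtain ⟨j, hj, y, hy, hjy⟩ := Submodule.mem_sup.1 h2
    let ρ : A →+* S ⊗[R] (A ⧸ J) :=
      (Algebra.TensorProduct.includeRight : (A ⧸ J) →ₐ[R] S ⊗[R] (A ⧸ J)).toRingHom.comp
        (Ideal.Quotient.mk J)
    have hρ : ρ.comp (algebraMap R A) =
        (algebraMap S (S ⊗[R] (A ⧸ J))).comp (algebraMap R S) := by
      ext r
      show (Algebra.TensorProduct.includeRight : (A ⧸ J) →ₐ[R] S ⊗[R] (A ⧸ J))
        (algebraMap R (A ⧸ J) r) = _
      rw [AlgHom.commutes, IsScalarTower.algebraMap_apply R S (S ⊗[R] (A ⧸ J))]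
      rfl
    have h3 : ρ y ∈ Ideal.map (algebraMap S (S ⊗[R] (A ⧸ J))) 𝔫 := by
      have h4 := Ideal.mem_map_of_mem ρ hy
      rw [Ideal.map_map, hρ, ← Ideal.map_map, ← h𝔫def] at h4
      exact h4
    have h4 : ρ j = 0 := by
      show (1 : S) ⊗ₜ[R] (Ideal.Quotient.mk J j) = 0
      rw [Ideal.Quotient.eq_zero_iff_mem.2 hj, tmul_zero]
    have h6 : ((1 : S) ⊗ₜ[R] (Ideal.Quotient.mk J a) : S ⊗[R] (A ⧸ J)) -
        algebraMap S (S ⊗[R] (A ⧸ J))
          (algebraMap R S (Coalgebra.counit (R := R) (Ideal.Quotient.mk J a))) = ρ y := by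
      have h7 : algebraMap S (S ⊗[R] (A ⧸ J))
          (algebraMap R S (Coalgebra.counit (R := R) (Ideal.Quotient.mk J a))) =
          ρ (algebraMap R A (Coalgebra.counit (R := R) a)) :=
        (RingHom.congr_fun hρ _).symm
      rw [h7]
      show ρ a - ρ _ = ρ y
      rw [← map_sub, ← hjy, map_add, h4, zero_add]
    rw [h6]; exact h3
  have hcl : ∀ d : S ⊗[R] (A ⧸ J), d - algebraMap S _ (Coalgebra.counit (R := S) d) ∈
      Ideal.map (algebraMap S (S ⊗[R] (A ⧸ J))) 𝔫 := by
    intro d
    induction d using TensorProduct.induction_on with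
    | zero => simp
    | tmul s b =>
      have hc : Coalgebra.counit (R := S) (s ⊗ₜ[R] b : S ⊗[R] (A ⧸ J)) =
          s * algebraMap R S (Coalgebra.counit (R := R) b) := by
        rw [TensorProduct.counit_tmul, CommSemiring.counit_apply, Algebra.smul_def, mul_comm]
      have hm : (s ⊗ₜ[R] b : S ⊗[R] (A ⧸ J)) =
          algebraMap S (S ⊗[R] (A ⧸ J)) s * ((1 : S) ⊗ₜ[R] b) := by
        rw [Algebra.TensorProduct.algebraMap_apply, Algebra.TensorProduct.tmul_mul_tmul]
        simp
      rw [hc, map_mul, hm, ← mul_sub]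
      exact Ideal.mul_mem_left _ (algebraMap S (S ⊗[R] (A ⧸ J)) s) (hb b)
    | add x y hx hy =>
      have h1 : x + y - algebraMap S (S ⊗[R] (A ⧸ J)) (Coalgebra.counit (R := S) (x + y)) =
          (x - algebraMap S _ (Coalgebra.counit (R := S) x)) +
            (y - algebraMap S _ (Coalgebra.counit (R := S) y)) := by
        rw [map_add, map_add]; ring
      rw [h1]; exact Ideal.add_mem _ hx hy
  -- the setup
  let T : Setup 𝔫 M (S ⊗[R] (A ⧸ J)) :=
    { ε := Bialgebra.counitAlgHom S (S ⊗[R] (A ⧸ J))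
      g := g
      ψ := fun n => pw n
      hunit := fun s hs' => (hunitS s hs').map (algebraMap S (S ⊗[R] (A ⧸ J)))
      hspan := hspan
      hε := fun m => (hgl m).counit_eq_one
      hψ := fun n m => pw_groupLike (hgl m) n
      hmem := fun m => by
        have h1 := hcl (g m)
        rw [(hgl m).counit_eq_one, map_one] at h1
        exact h1 }
  have htriv : ∀ m, g m = 1 :=
    Setup.trivial (𝔫 := 𝔫) (wf_subgroup hM) (MonoidHom.id M).ker M (MonoidHom.id M)
      Function.surjective_id rfl (S ⊗[R] (A ⧸ J)) T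
  have hall : ∀ d : S ⊗[R] (A ⧸ J), d = algebraMap S _ (Coalgebra.counit (R := S) d) := by
    intro d
    have hd : d ∈ Submodule.span S (Set.range g) := by rw [hspan]; exact Submodule.mem_top
    refine Submodule.span_induction
      (p := fun d _ => d = algebraMap S (S ⊗[R] (A ⧸ J)) (Coalgebra.counit (R := S) d))
      ?_ ?_ ?_ ?_ hd
    · rintro _ ⟨m, rfl⟩
      rw [(hgl m).counit_eq_one, map_one]
      exact htriv m
    · simp
    · intro x y _ _ hx hy
      rw [map_add, map_add, ← hx, ← hy]
    · intro s x _ hx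
      rw [map_smul, smul_eq_mul, map_mul, ← hx]
      exact Algebra.smul_def s x
  intro a ha
  rw [RingHom.mem_ker] at ha
  have h1 := hall ((1 : S) ⊗ₜ[R] (Ideal.Quotient.mk J a))
  have h2 : Coalgebra.counit (R := S)
      ((1 : S) ⊗ₜ[R] (Ideal.Quotient.mk J a) : S ⊗[R] (A ⧸ J)) = 0 := by
    rw [TensorProduct.counit_tmul]
    have h3 : Coalgebra.counit (R := R) (Ideal.Quotient.mk J a) = 0 := ha
    rw [h3, zero_smul]
  rw [h2, map_zero] at h1
  have h3 : Ideal.Quotient.mk J a = 0 := by
    apply Module.FaithfullyFlat.tensorProduct_mk_injective (A := R) (B := S) (A ⧸ J)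
    rw [TensorProduct.mk_apply, h1, map_zero]
  exact Ideal.Quotient.eq_zero_iff_mem.1 h3

end Core

section Main

variable {R : Type u} [CommRing R] [IsLocalRing R] {A : Type u} [CommRing A] [HopfAlgebra R A]

theorem main (hft : Algebra.FiniteType R A) (hH : SGA3b.IsMultType R A)
    (J : Ideal A) [J.IsHopfIdeal R]
    (hs : J ⊔ Ideal.map (algebraMap R A) (IsLocalRing.maximalIdeal R) =
      RingHom.ker (Bialgebra.counitAlgHom R A) ⊔
        Ideal.map (algebraMap R A) (IsLocalRing.maximalIdeal R)) :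
    J = RingHom.ker (Bialgebra.counitAlgHom R A) := by
  classical
  have hJle : J ≤ RingHom.ker (Bialgebra.counitAlgHom R A) := by
    intro x hx
    rw [RingHom.mem_ker]
    exact Submodule.IsCoideal.counit_eq_zero (I := J.restrictScalars R) hx
  refine le_antisymm hJle ?_
  obtain ⟨s, hs1, hmt⟩ := hH
  have hex : ∃ f ∈ s, IsUnit f := by
    by_contra hcon
    push Not at hcon
    have hle : Ideal.span s ≤ IsLocalRing.maximalIdeal R := by
      rw [Ideal.span_le]
      intro f hf
      exact (IsLocalRing.mem_maximalIdeal f).2 (hcon f hf)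
    rw [hs1] at hle
    exact (IsLocalRing.maximalIdeal.isMaximal R).ne_top (top_le_iff.1 hle)
  obtain ⟨f, hfs, hfu⟩ := hex
  obtain ⟨R', _, _, hff, M, _, ⟨e⟩⟩ := hmt f hfs
  letI : Algebra R R' :=
    ((algebraMap (Localization.Away f) R').comp (algebraMap R (Localization.Away f))).toAlgebra
  haveI : IsScalarTower R (Localization.Away f) R' := IsScalarTower.of_algebraMap_eq fun _ => rfl
  haveI : Module.FaithfullyFlat R (Localization.Away f) := by
    have hle : Submonoid.powers f ≤ IsUnit.submonoid R := by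
      rw [Submonoid.powers_le]
      exact hfu
    exact Module.FaithfullyFlat.of_linearEquiv R R
      (IsLocalization.atUnits R (Submonoid.powers f) (S := Localization.Away f)
        hle).toLinearEquiv.symm
  haveI : Module.FaithfullyFlat R R' := Module.FaithfullyFlat.trans R (Localization.Away f) R'
  have hne : Ideal.map (algebraMap R R') (IsLocalRing.maximalIdeal R) ≠ ⊤ := by
    intro htop
    have h1 := Module.FaithfullyFlat.submodule_ne_top (R := R) (M := R')
      (IsLocalRing.maximalIdeal.isMaximal R)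
    apply h1
    rw [Ideal.smul_top_eq_map, htop]
    rfl
  obtain ⟨𝔮, h𝔮max, h𝔮le⟩ := Ideal.exists_le_maximal _ hne
  haveI : 𝔮.IsPrime := h𝔮max.isPrime
  haveI : Module.Flat R R' := inferInstance
  haveI : Module.Flat R (Localization.AtPrime 𝔮) := inferInstance
  have h𝔫 : Ideal.map (algebraMap R (Localization.AtPrime 𝔮)) (IsLocalRing.maximalIdeal R) ≤
      IsLocalRing.maximalIdeal (Localization.AtPrime 𝔮) := by
    rw [IsScalarTower.algebraMap_eq R R' (Localization.AtPrime 𝔮), ← Ideal.map_map,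
      ← Localization.AtPrime.map_eq_maximalIdeal]
    exact Ideal.map_mono h𝔮le
  haveI : IsLocalHom (algebraMap R (Localization.AtPrime 𝔮)) :=
    ((IsLocalRing.local_hom_TFAE (algebraMap R (Localization.AtPrime 𝔮))).out 0 2).2 h𝔫
  haveI : Module.FaithfullyFlat R (Localization.AtPrime 𝔮) :=
    Module.FaithfullyFlat.of_flat_of_isLocalHom
  have hM : Group.FG M := by
    haveI := hft
    haveI : Nontrivial R' :=
      ⟨⟨0, 1, fun h => h𝔮max.ne_top ((Ideal.eq_top_iff_one _).2 (h ▸ 𝔮.zero_mem))⟩⟩
    have h1 : Algebra.FiniteType R'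
        (R' ⊗[Localization.Away f] (Localization.Away f ⊗[R] A)) := inferInstance
    have h2 : Algebra.FiniteType R' (MonoidAlgebra R' M) := h1.equiv (e : _ ≃ₐ[R'] _)
    exact MonoidAlgebra.finiteType_iff_group_fg.1 h2
  exact core J hs h𝔫 hM e

end Main

end Groth.Agent.Lib.Helper19.MultTrivSub
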