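import Mathlib
import Groth.Agent.S7221

/-!
# Base change of `H^{-1}` of naive cotangent complexes: homotopy invariance (helper19)

* `ker_finite_projective`: kernel of a surjection of a finite projective onto a projective.
* `bcH1Same`, `bcH1Map_comp_same`, `bcH1Map_indep`, `bcH1Same_comp_self`: functoriality,
  independence of the morphism of extensions, invariance of `NLCx.bcH1`.
* `transfer`: the kernel of `bcH1Map` does not depend on the extensions (with maps both ways).
-/

set_option autoImplicit false
universe u
open TensorProduct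

namespace Groth.Agent.Lib.Helper19.NLbc

section Split

theorem ker_finite_projective {R N M' : Type*} [CommRing R] [AddCommGroup N] [Module R N]
    [AddCommGroup M'] [Module R M'] [Module.Finite R N] [Module.Projective R N]
    [Module.Projective R M'] (φ : N →ₗ[R] M') (hφ : Function.Surjective φ) :
    Module.Finite R (LinearMap.ker φ) ∧ Module.Projective R (LinearMap.ker φ) := by
  obtain ⟨s, hs⟩ := Module.projective_lifting_property φ LinearMap.id hφ
  have hs' : ∀ y, φ (s y) = y := fun y => LinearMap.congr_fun hs y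
  let p : N →ₗ[R] LinearMap.ker φ := (LinearMap.id - s ∘ₗ φ).codRestrict _ (fun x => by
    rw [LinearMap.mem_ker, LinearMap.sub_apply, LinearMap.id_apply, LinearMap.comp_apply,
      map_sub, hs', sub_self])
  have hp : ∀ x : LinearMap.ker φ, p x.1 = x := by
    intro x
    apply Subtype.ext
    have hx : φ x.1 = 0 := x.2
    show x.1 - s (φ x.1) = x.1
    rw [hx, map_zero, sub_zero]
  exact ⟨Module.Finite.of_surjective p (fun y => ⟨y.1, hp y⟩),
    Module.Projective.of_split (LinearMap.ker φ).subtype p (LinearMap.ext hp)⟩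

end Split

section BC

variable {R S R' S' : Type u} [CommRing R] [CommRing S] [CommRing R'] [CommRing S']
  [Algebra R S] [Algebra R' S'] [Algebra R R'] [Algebra S S'] [Algebra R S']
  [IsScalarTower R R' S'] [IsScalarTower R S S']

open Algebra.Extension

theorem bc_key {P : Algebra.Extension.{u} R S} {P' : Algebra.Extension.{u} R' S'}
    (f : P.Hom P') :
    P'.cotangentComplex ∘ₗ LinearMap.liftBaseChange S' (Cotangent.map f) =
      LinearMap.liftBaseChange S' (CotangentSpace.map f) ∘ₗ
        P.cotangentComplex.baseChange S' := by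
  ext z
  simpa using (CotangentSpace.map_cotangentComplex f z).symm

theorem ker_bcH1Map_finite_projective_of
    {P : Algebra.Extension.{u} R S} {P' : Algebra.Extension.{u} R' S'} (f : P.Hom P')
    (hψ : Function.Injective (LinearMap.liftBaseChange S' (CotangentSpace.map f)))
    (h : Module.Finite S' (LinearMap.ker (LinearMap.liftBaseChange S' (Cotangent.map f))) ∧
      Module.Projective S' (LinearMap.ker (LinearMap.liftBaseChange S' (Cotangent.map f)))) :
    Module.Finite S' (LinearMap.ker (NLCx.bcH1Map (S' := S') f)) ∧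
      Module.Projective S' (LinearMap.ker (NLCx.bcH1Map (S' := S') f)) := by
  obtain ⟨φ, hφdef⟩ : ∃ φ, φ = LinearMap.liftBaseChange S' (Cotangent.map f) := ⟨_, rfl⟩
  rw [← hφdef] at h
  have hmem : ∀ y : LinearMap.ker φ, y.1 ∈ NLCx.bcH1 P S' := by
    intro y
    show P.cotangentComplex.baseChange S' y.1 = 0
    apply hψ
    rw [map_zero]
    have h3 := congr($(bc_key (S' := S') f) y.1)
    simp only [LinearMap.coe_comp, Function.comp_apply] at h3
    rw [← h3, ← hφdef, show φ y.1 = 0 from y.2, map_zero]
  let Φ : LinearMap.ker (NLCx.bcH1Map (S' := S') f) →ₗ[S'] LinearMap.ker φ :=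
    ((NLCx.bcH1 P S').subtype ∘ₗ
      (LinearMap.ker (NLCx.bcH1Map (S' := S') f)).subtype).codRestrict _
      (fun x => by
        rw [LinearMap.mem_ker, hφdef]
        have hx : NLCx.bcH1Map (S' := S') f x.1 = 0 := x.2
        show (NLCx.bcH1Map (S' := S') f x.1).1 = 0
        rw [hx]; rfl)
  have hinj : Function.Injective Φ := by
    intro x y hxy
    have h0 := congrArg Subtype.val hxy
    exact Subtype.ext (Subtype.ext h0)
  have hsurj : Function.Surjective Φ := by
    intro y
    refine ⟨⟨⟨y.1, hmem y⟩, ?_⟩, Subtype.ext rfl⟩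
    rw [LinearMap.mem_ker]
    apply Algebra.Extension.h1Cotangentι_ext
    have hy : φ y.1 = 0 := y.2
    have hy' : (LinearMap.liftBaseChange S' (Cotangent.map f)) y.1 = 0 := by
      rw [← hφdef]; exact hy
    exact hy'
  let e := LinearEquiv.ofBijective Φ ⟨hinj, hsurj⟩
  haveI := h.1
  haveI := h.2
  exact ⟨Module.Finite.equiv e.symm, Module.Projective.of_equiv e.symm⟩

variable {P Q : Algebra.Extension.{u} R S} {P' Q' : Algebra.Extension.{u} R' S'}

theorem same_key (u : P.Hom Q) :
    Q.cotangentComplex ∘ₗ Cotangent.map u = CotangentSpace.map u ∘ₗ P.cotangentComplex :=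
  LinearMap.ext fun x => (CotangentSpace.map_cotangentComplex u x).symm

/-- The map `H^{-1}(NL(P) ⊗ S') → H^{-1}(NL(Q) ⊗ S')` induced by a morphism of extensions of
`S` over `R`. -/
noncomputable def bcH1Same (u : P.Hom Q) : NLCx.bcH1 P S' →ₗ[S'] NLCx.bcH1 Q S' :=
  ((Cotangent.map u).baseChange S').restrict (fun x hx => by
    show Q.cotangentComplex.baseChange S' ((Cotangent.map u).baseChange S' x) = 0
    have h1 : P.cotangentComplex.baseChange S' x = 0 := hx
    rw [← LinearMap.comp_apply, ← LinearMap.baseChange_comp, same_key u,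
      LinearMap.baseChange_comp, LinearMap.comp_apply, h1, map_zero])

theorem bcH1Map_comp_same (g : Q.Hom P') (u : P.Hom Q) (x : NLCx.bcH1 P S') :
    NLCx.bcH1Map (S' := S') (g.comp u) x = NLCx.bcH1Map (S' := S') g (bcH1Same u x) := by
  apply Algebra.Extension.h1Cotangentι_ext
  show LinearMap.liftBaseChange S' (Cotangent.map (g.comp u)) x.1 =
    LinearMap.liftBaseChange S' (Cotangent.map g) ((Cotangent.map u).baseChange S' x.1)
  generalize x.1 = y
  induction y using TensorProduct.induction_on with
  | zero => simp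
  | tmul s c =>
    rw [LinearMap.liftBaseChange_tmul, LinearMap.baseChange_tmul, LinearMap.liftBaseChange_tmul,
      Cotangent.map_comp]
    rfl
  | add y z hy hz => rw [map_add, map_add, map_add, hy, hz]

theorem bcH1Map_indep (f₁ f₂ : P.Hom P') (x : NLCx.bcH1 P S') :
    NLCx.bcH1Map (S' := S') f₁ x = NLCx.bcH1Map (S' := S') f₂ x := by
  apply Algebra.Extension.h1Cotangentι_ext
  show LinearMap.liftBaseChange S' (Cotangent.map f₁) x.1 =
    LinearMap.liftBaseChange S' (Cotangent.map f₂) x.1
  have key : ∀ z : S' ⊗[S] P.Cotangent,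
      LinearMap.liftBaseChange S' (Cotangent.map f₁) z -
        LinearMap.liftBaseChange S' (Cotangent.map f₂) z =
        LinearMap.liftBaseChange S' (f₁.sub f₂) (P.cotangentComplex.baseChange S' z) := by
    intro z
    induction z using TensorProduct.induction_on with
    | zero => simp
    | tmul s m =>
      rw [LinearMap.liftBaseChange_tmul, LinearMap.liftBaseChange_tmul,
        LinearMap.baseChange_tmul, LinearMap.liftBaseChange_tmul, ← smul_sub]
      congr 1
      exact congr($(Cotangent.map_sub_map f₁ f₂) m)
    | add y z hy hz =>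
      rw [map_add, map_add, map_add, map_add, ← hy, ← hz]; abel
  have hx : P.cotangentComplex.baseChange S' x.1 = 0 := x.2
  have h := key x.1
  rw [hx, map_zero, sub_eq_zero] at h
  exact h

theorem bcH1Same_comp_self (u : P.Hom Q) (u' : Q.Hom P) (x : NLCx.bcH1 P S') :
    bcH1Same (S' := S') u' (bcH1Same (S' := S') u x) = x := by
  apply Subtype.ext
  show (Cotangent.map u').baseChange S' ((Cotangent.map u).baseChange S' x.1) = x.1
  have key : ∀ z : S' ⊗[S] P.Cotangent,
      (Cotangent.map u').baseChange S' ((Cotangent.map u).baseChange S' z) - z =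
        ((u'.comp u).sub (Algebra.Extension.Hom.id P)).baseChange S'
          (P.cotangentComplex.baseChange S' z) := by
    intro z
    induction z using TensorProduct.induction_on with
    | zero => simp
    | tmul s m =>
      rw [LinearMap.baseChange_tmul, LinearMap.baseChange_tmul, LinearMap.baseChange_tmul,
        LinearMap.baseChange_tmul, ← TensorProduct.tmul_sub]
      congr 1
      have h1 := congr($(Cotangent.map_sub_map (u'.comp u) (Algebra.Extension.Hom.id P)) m)
      rw [Cotangent.map_comp, Cotangent.map_id] at h1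
      exact h1
    | add y z hy hz =>
      rw [map_add, map_add, map_add, map_add, ← hy, ← hz]; abel
  have hx : P.cotangentComplex.baseChange S' x.1 = 0 := x.2
  have h := key x.1
  rw [hx, map_zero, sub_eq_zero] at h
  exact h

theorem transfer (u : P.Hom Q) (u' : Q.Hom P) (w : Q'.Hom P') (w' : P'.Hom Q')
    (f : P.Hom P') (D : Q.Hom Q')
    (h : Module.Finite S' (LinearMap.ker (NLCx.bcH1Map (S' := S') f)) ∧
      Module.Projective S' (LinearMap.ker (NLCx.bcH1Map (S' := S') f))) :
    Module.Finite S' (LinearMap.ker (NLCx.bcH1Map (S' := S') D)) ∧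
      Module.Projective S' (LinearMap.ker (NLCx.bcH1Map (S' := S') D)) := by
  have hwinj : Function.Injective (Algebra.Extension.H1Cotangent.map w) :=
    fun a b hab => (Algebra.Extension.H1Cotangent.equiv w w').injective hab
  have hΦ : ∀ x ∈ LinearMap.ker (NLCx.bcH1Map (S' := S') f),
      bcH1Same (S' := S') u x ∈ LinearMap.ker (NLCx.bcH1Map (S' := S') D) := by
    intro x hx
    rw [LinearMap.mem_ker] at hx ⊢
    apply hwinj
    rw [map_zero, ← bcH1Map_comp_same, ← Groth.Agent.S7221.bcH1Map_comp,
      bcH1Map_indep _ f, hx]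
  have hΨ : ∀ y ∈ LinearMap.ker (NLCx.bcH1Map (S' := S') D),
      bcH1Same (S' := S') u' y ∈ LinearMap.ker (NLCx.bcH1Map (S' := S') f) := by
    intro y hy
    rw [LinearMap.mem_ker] at hy ⊢
    rw [← bcH1Map_comp_same, bcH1Map_indep _ (w.comp D), Groth.Agent.S7221.bcH1Map_comp, hy,
      map_zero]
  let Φ := (bcH1Same (S' := S') u).restrict hΦ
  let Ψ := (bcH1Same (S' := S') u').restrict hΨ
  let e : LinearMap.ker (NLCx.bcH1Map (S' := S') f) ≃ₗ[S']
      LinearMap.ker (NLCx.bcH1Map (S' := S') D) :=
    LinearEquiv.ofLinear Φ Ψ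
      (LinearMap.ext fun y => Subtype.ext (bcH1Same_comp_self u' u y.1))
      (LinearMap.ext fun x => Subtype.ext (bcH1Same_comp_self u u' x.1))
  haveI := h.1
  haveI := h.2
  exact ⟨Module.Finite.equiv e, Module.Projective.of_equiv e⟩

end BC

end Groth.Agent.Lib.Helper19.NLbc
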