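import Mathlib
import Groth.Agent.Lib.Helper19.LiftStd
import Groth.Agent.Lib.Helper19.SmoothRetract
import Groth.Agent.Lib.Helper24.FrobLiftEtale

/-!
# Lifting smooth algebras along a surjection with nilpotent kernel

Let `I` be a nilpotent ideal of `R` and `A₀` a smooth `R/I`-algebra.  Then there is a smooth
`R`-algebra `A` with `A/IA ≅ A₀`.

Proof: `A₀` is a retract of a standard smooth `R/I`-algebra `C₀` (`SmoothRetract`), which lifts to a
smooth `R`-algebra `C` (`LiftStd`).  The idempotent endomorphism `e₀` of `C₀` with image `A₀` lifts to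
an `R`-algebra endomorphism `e` of `C` (formal smoothness).  Since `e² - e` has values in `IC`, it is
nilpotent as an `R`-linear map; a Fitting-type argument shows that `e` is bijective on the range of
`eⁿ`, which gives an idempotent algebra endomorphism `ε` of `C` reducing to `e₀`.  Its range is the
required `A` (a retract of `C`).
-/

namespace Groth.Agent.Lib.Helper19.NilSmoothLift

universe u

section Fitting

variable {R : Type*} [CommRing R] {C : Type*} [CommRing C] [Algebra R C]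

lemma exists_pow_eq (E : Module.End R C) (k : ℕ) (hN : (E - E * E) ^ k = 0) :
    ∃ Q : Module.End R C, Commute E Q ∧ E ^ k = E ^ (k + 1) * Q := by
  obtain ⟨S, hS⟩ : ∃ S : Module.End R C, S = ∑ j ∈ Finset.range k, (1 - E) ^ j := ⟨_, rfl⟩
  have hc1 : Commute E (1 - E) := (Commute.one_right E).sub_right (Commute.refl E)
  have hcomm : Commute E S := by
    rw [hS]
    exact Commute.sum_right _ _ _ (fun j _ => hc1.pow_right j)
  have hSE : S * E = 1 - (1 - E) ^ k := by
    have h := geom_sum_mul_neg (1 - E) k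
    rw [← hS, sub_sub_cancel] at h
    exact h
  have hzero : E ^ k * (1 - E) ^ k = 0 := by
    rw [← hc1.mul_pow]
    have h3 : E * (1 - E) = E - E * E := by
      rw [mul_sub, mul_one]
    rw [h3, hN]
  refine ⟨S, hcomm, ?_⟩
  rw [pow_succ, mul_assoc, hcomm.eq, hSE, mul_sub, mul_one, hzero, sub_zero]

lemma pow_eq_zero_of_forall_mem (I : Ideal R) (k : ℕ) (hI : I ^ k = ⊥) (N : Module.End R C)
    (hN : ∀ c, N c ∈ (I • ⊤ : Submodule R C)) : N ^ k = 0 := by
  have key : ∀ j : ℕ, ∀ c, (N ^ j) c ∈ (I ^ j • ⊤ : Submodule R C) := by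
    intro j
    induction j with
    | zero =>
      intro c
      have h0 : (I ^ 0 • ⊤ : Submodule R C) = ⊤ := by
        rw [pow_zero, Ideal.one_eq_top, Submodule.top_smul]
      rw [h0]; exact Submodule.mem_top
    | succ j ih =>
      intro c
      rw [pow_succ' N, Module.End.mul_apply]
      have h2 : Submodule.map N (I ^ j • ⊤ : Submodule R C) ≤ I ^ (j + 1) • ⊤ := by
        rw [Submodule.map_smul'', pow_succ, Submodule.mul_smul]
        refine Submodule.smul_mono le_rfl ?_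
        rintro _ ⟨x, -, rfl⟩
        exact hN x
      exact h2 ⟨_, ih c, rfl⟩
  ext c
  have h := key k c
  rw [hI, Submodule.bot_smul] at h
  simpa using h

theorem exists_idem (e : C →ₐ[R] C) (n : ℕ)
    (hN : (e.toLinearMap - e.toLinearMap * e.toLinearMap : Module.End R C) ^ n = 0) :
    ∃ ε : C →ₐ[R] C, (∀ c, ε (ε c) = ε c) ∧ (∀ c, ∃ c', ε c = e^[n] c') ∧
      (∀ c, e^[n] (ε c) = e^[n] c) := by
  obtain ⟨Q, hQc, hQ⟩ := exists_pow_eq e.toLinearMap n hN
  have hEpow : ∀ (m : ℕ) (c : C), (e.toLinearMap ^ m : Module.End R C) c = e^[m] c := by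
    intro m c
    rw [Module.End.pow_apply]
    rfl
  have hQcomm : ∀ c, e (Q c) = Q (e c) := by
    intro c
    have := LinearMap.congr_fun hQc.eq c
    simpa [Module.End.mul_apply] using this
  have hQk : ∀ c, e^[n] c = e^[n + 1] (Q c) := by
    intro c
    have := LinearMap.congr_fun hQ c
    rw [Module.End.mul_apply, hEpow, hEpow] at this
    exact this
  have hQiter : ∀ (m : ℕ) (c : C), e^[m] (Q c) = Q (e^[m] c) := by
    intro m
    induction m with
    | zero => intro c; rfl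
    | succ m ih =>
      intro c
      rw [Function.iterate_succ_apply', Function.iterate_succ_apply', ih, hQcomm]
  have hpow_apply : ∀ c, (e ^ n) c = e^[n] c := fun c => by rw [AlgHom.coe_pow]
  obtain ⟨A, hAdef⟩ : ∃ A : Subalgebra R C, A = (e ^ n).range := ⟨_, rfl⟩
  have hmemA : ∀ x : C, x ∈ A ↔ ∃ c, e^[n] c = x := by
    intro x
    rw [hAdef]
    exact (AlgHom.mem_range (e ^ n)).trans
      ⟨fun ⟨c, hc⟩ => ⟨c, by rw [← hpow_apply]; exact hc⟩,
        fun ⟨c, hc⟩ => ⟨c, by rw [hpow_apply]; exact hc⟩⟩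
  have he_mem : ∀ a : A, e (a : C) ∈ A := by
    intro a
    obtain ⟨c, hc⟩ := (hmemA _).1 a.2
    exact (hmemA _).2 ⟨e c, by
      rw [← Function.iterate_succ_apply, Function.iterate_succ_apply', hc]⟩
  obtain ⟨eA, heA_val⟩ : ∃ eA : A →ₐ[R] A, ∀ a : A, ((eA a : A) : C) = e (a : C) :=
    ⟨(e.comp A.val).codRestrict A he_mem, fun _ => rfl⟩
  have hbij : Function.Bijective eA := by
    constructor
    · rw [injective_iff_map_eq_zero]
      intro a ha
      have h0 : e (a : C) = 0 := by rw [← heA_val, ha]; rfl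
      obtain ⟨c, hc⟩ := (hmemA _).1 a.2
      apply Subtype.ext
      show (a : C) = 0
      rw [← hc, hQk c, hQiter, Function.iterate_succ_apply', hc, h0, map_zero]
    · intro a
      obtain ⟨c, hc⟩ := (hmemA _).1 a.2
      refine ⟨⟨e^[n] (Q c), (hmemA _).2 ⟨Q c, rfl⟩⟩, ?_⟩
      apply Subtype.ext
      rw [heA_val]
      show e (e^[n] (Q c)) = (a : C)
      rw [← Function.iterate_succ_apply' (⇑e) n (Q c), ← hQk, hc]
  obtain ⟨σ, hσ_val⟩ : ∃ σ : A ≃ₐ[R] A, ∀ a : A, ((σ a : A) : C) = e (a : C) :=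
    ⟨AlgEquiv.ofBijective eA hbij, fun a => heA_val a⟩
  have hσpow : ∀ (m : ℕ) (a : A), (((σ ^ m) a : A) : C) = e^[m] (a : C) := by
    intro m
    induction m with
    | zero => intro a; rw [pow_zero, AlgEquiv.one_apply]; rfl
    | succ m ih =>
      intro a
      rw [pow_succ', AlgEquiv.mul_apply, hσ_val, ih, Function.iterate_succ_apply']
  obtain ⟨r, hr_val⟩ : ∃ r : C →ₐ[R] A, ∀ c, ((r c : A) : C) = e^[n] c :=
    ⟨(e ^ n).codRestrict A (fun c => (hmemA _).2 ⟨c, (hpow_apply c).symm⟩),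
      fun c => hpow_apply c⟩
  obtain ⟨τ, hτ⟩ : ∃ τ : A ≃ₐ[R] A, τ = (σ ^ n).symm := ⟨_, rfl⟩
  refine ⟨A.val.comp ((τ : A →ₐ[R] A).comp r), ?_, ?_, ?_⟩
  · intro c
    obtain ⟨a, ha⟩ : ∃ a : A, a = τ (r c) := ⟨_, rfl⟩
    have h1 : r (a : C) = (σ ^ n) a := Subtype.ext (by rw [hr_val, hσpow])
    show ((τ (r ((τ (r c) : A) : C)) : A) : C) = ((τ (r c) : A) : C)
    rw [← ha, h1]
    congr 1
    rw [hτ]
    exact (σ ^ n).symm_apply_apply a
  · intro c
    obtain ⟨c', hc'⟩ := (hmemA _).1 (τ (r c)).2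
    exact ⟨c', hc'.symm⟩
  · intro c
    show e^[n] ((τ (r c) : A) : C) = e^[n] c
    rw [← hσpow, ← hr_val c]
    congr 1
    rw [hτ]
    exact (σ ^ n).apply_symm_apply (r c)

end Fitting

section Retract

variable {R : Type*} [CommRing R] {C A : Type*} [CommRing C] [CommRing A]
  [Algebra R C] [Algebra R A]

theorem formallySmooth_of_retract [Algebra.FormallySmooth R C] (ι : A →ₐ[R] C) (π : C →ₐ[R] A)
    (h : π.comp ι = AlgHom.id R A) : Algebra.FormallySmooth R A := by
  refine Algebra.FormallySmooth.of_comp_surjective ?_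
  intro B _ _ J hJ f
  obtain ⟨g, hg⟩ := Algebra.FormallySmooth.comp_surjective R C J hJ (f.comp π)
  refine ⟨g.comp ι, ?_⟩
  rw [← AlgHom.comp_assoc, hg, AlgHom.comp_assoc, h, AlgHom.comp_id]

theorem finitePresentation_of_retract [Algebra.FinitePresentation R C] (ι : A →ₐ[R] C)
    (π : C →ₐ[R] A) (h : π.comp ι = AlgHom.id R A) : Algebra.FinitePresentation R A := by
  classical
  have hπι : ∀ a, π (ι a) = a := fun a => AlgHom.congr_fun h a
  have hsurj : Function.Surjective π := fun a => ⟨ι a, hπι a⟩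
  refine Algebra.FinitePresentation.of_surjective hsurj ?_
  obtain ⟨s, hs⟩ := (Algebra.FiniteType.out : (⊤ : Subalgebra R C).FG)
  refine ⟨s.image (fun c => c - ι (π c)), ?_⟩
  apply le_antisymm
  · rw [Ideal.span_le]
    intro x hx
    simp only [Finset.coe_image, Set.mem_image, Finset.mem_coe] at hx
    obtain ⟨c, -, rfl⟩ := hx
    rw [SetLike.mem_coe, RingHom.mem_ker]
    show π (c - ι (π c)) = 0
    rw [map_sub, hπι, sub_self]
  · intro c hc
    obtain ⟨𝔞, h𝔞⟩ : ∃ 𝔞 : Ideal C,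
        𝔞 = Ideal.span (↑(s.image (fun c => c - ι (π c))) : Set C) := ⟨_, rfl⟩
    rw [← h𝔞]
    have heq : (Ideal.Quotient.mkₐ R 𝔞) = (Ideal.Quotient.mkₐ R 𝔞).comp (ι.comp π) := by
      apply AlgHom.ext_of_adjoin_eq_top hs
      intro x hx
      simp only [AlgHom.comp_apply, Ideal.Quotient.mkₐ_eq_mk]
      rw [Ideal.Quotient.eq, h𝔞]
      exact Ideal.subset_span (Finset.mem_coe.2 (Finset.mem_image.2 ⟨x, Finset.mem_coe.1 hx, rfl⟩))
    have hc' : π c = 0 := hc
    have h2 : Ideal.Quotient.mk 𝔞 c = Ideal.Quotient.mk 𝔞 (ι (π c)) := AlgHom.congr_fun heq c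
    rw [hc', map_zero, map_zero] at h2
    exact Ideal.Quotient.eq_zero_iff_mem.1 h2

end Retract

/-- **Smooth algebras lift along nilpotent thickenings.** -/
theorem exists_smooth_lift_of_nilpotent {R : Type u} [CommRing R] (I : Ideal R)
    (hI : IsNilpotent I) {A₀ : Type u} [CommRing A₀] [Algebra (R ⧸ I) A₀]
    [Algebra.Smooth (R ⧸ I) A₀] :
    ∃ (A : Type u) (_ : CommRing A) (_ : Algebra R A), Algebra.Smooth R A ∧
      Nonempty ((A ⧸ I.map (algebraMap R A)) ≃ₐ[R ⧸ I] A₀) := by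
  obtain ⟨C₀, _, _, _, _, -, ⟨ρ₀⟩, hstd⟩ :=
    SmoothRetract.exists_smooth_retract_isStandardSmooth (R := R ⧸ I) (A := A₀)
  have := hstd
  obtain ⟨C, _, _, hCsm, ⟨Ψ⟩⟩ := LiftStd.exists_lift I (A₀ := C₀)
  have : Algebra.FormallySmooth R C := hCsm.formallySmooth
  have : Algebra.FinitePresentation R C := hCsm.finitePresentation
  obtain ⟨k, hk⟩ := hI
  obtain ⟨θ, hθapp⟩ : ∃ θ : C →+* C₀,
      ∀ c, θ c = Ψ (Ideal.Quotient.mk (I.map (algebraMap R C)) c) :=
    ⟨Ψ.toAlgHom.toRingHom.comp (Ideal.Quotient.mk (I.map (algebraMap R C))), fun _ => rfl⟩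
  have hθsurj : Function.Surjective θ := by
    intro x
    obtain ⟨y, rfl⟩ := Ψ.surjective x
    obtain ⟨c, rfl⟩ := Ideal.Quotient.mk_surjective y
    exact ⟨c, hθapp c⟩
  have hθker : ∀ c, θ c = 0 ↔ c ∈ I.map (algebraMap R C) := by
    intro c
    rw [hθapp, map_eq_zero_iff Ψ Ψ.injective, Ideal.Quotient.eq_zero_iff_mem]
  have hθalg : ∀ r : R,
      θ (algebraMap R C r) = algebraMap (R ⧸ I) C₀ (Ideal.Quotient.mk I r) := by
    intro r
    rw [hθapp]
    exact Ψ.commutes (Ideal.Quotient.mk I r)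
  obtain ⟨e₀, he₀app⟩ : ∃ e₀ : C₀ →+* C₀, ∀ x, e₀ x = algebraMap A₀ C₀ (ρ₀ x) :=
    ⟨(algebraMap A₀ C₀).comp ρ₀.toRingHom, fun _ => rfl⟩
  have he₀idem : ∀ x, e₀ (e₀ x) = e₀ x := by
    intro x; rw [he₀app, he₀app, ρ₀.commutes]; rfl
  have he₀alg : ∀ s : R ⧸ I, e₀ (algebraMap (R ⧸ I) C₀ s) = algebraMap (R ⧸ I) C₀ s := by
    intro s
    rw [he₀app, IsScalarTower.algebraMap_apply (R ⧸ I) A₀ C₀, ρ₀.commutes]
    rfl
  have hkerθ : RingHom.ker θ = I.map (algebraMap R C) := by
    ext c; rw [RingHom.mem_ker]; exact hθker c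
  have hnil : IsNilpotent (RingHom.ker θ) := by
    refine ⟨k, ?_⟩
    rw [hkerθ, ← Ideal.map_pow, hk]
    simp
  obtain ⟨h, hh1, hh2⟩ := Groth.Agent.Lib.Helper24.FrobLiftEtale.exists_lift_ringHom
    (R := R) (S := C) θ hθsurj hnil (algebraMap R C) (e₀.comp θ) (by
      ext r
      simp only [RingHom.comp_apply]
      rw [hθalg, he₀alg])
  obtain ⟨e, he⟩ : ∃ e : C →ₐ[R] C, ∀ c, e c = h c :=
    ⟨{ h with commutes' := fun r => RingHom.congr_fun hh1 r }, fun _ => rfl⟩
  have heθ : ∀ c, θ (e c) = e₀ (θ c) := by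
    intro c; rw [he]; exact RingHom.congr_fun hh2 c
  have hNmem : ∀ c, (e.toLinearMap - e.toLinearMap * e.toLinearMap : Module.End R C) c ∈
      (I • ⊤ : Submodule R C) := by
    intro c
    rw [Ideal.smul_top_eq_map]
    show e c - e (e c) ∈ I.map (algebraMap R C)
    rw [← hθker]
    simp only [map_sub, heθ, he₀idem, sub_self]
  have hNk : (e.toLinearMap - e.toLinearMap * e.toLinearMap : Module.End R C) ^ (k + 1) = 0 :=
    pow_eq_zero_of_forall_mem I (k + 1) (by rw [pow_succ, hk]; simp) _ hNmem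
  obtain ⟨ε, hεidem, hεrange, hεpow⟩ := exists_idem e (k + 1) hNk
  have hiterθ : ∀ (m : ℕ) (c : C), θ (e^[m] c) = e₀^[m] (θ c) := by
    intro m
    induction m with
    | zero => intro c; rfl
    | succ m ih =>
      intro c
      rw [Function.iterate_succ_apply', Function.iterate_succ_apply', heθ, ih]
  have he₀iter : ∀ (m : ℕ) (x : C₀), e₀^[m + 1] x = e₀ x := by
    intro m
    induction m with
    | zero => intro x; rfl
    | succ m ih => intro x; rw [Function.iterate_succ_apply', ih, he₀idem]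
  have hθε : ∀ c, θ (ε c) = e₀ (θ c) := by
    intro c
    obtain ⟨c', hc'⟩ := hεrange c
    have h1 : θ (ε c) = e₀ (θ c') := by rw [hc', hiterθ, he₀iter]
    have h2 : e₀ (θ (ε c)) = e₀ (θ c) := by
      have := congrArg θ (hεpow c)
      rw [hiterθ, hiterθ, he₀iter, he₀iter] at this
      exact this
    rw [← h2, h1, he₀idem]
  obtain ⟨A, hAdef⟩ : ∃ A : Subalgebra R C, A = ε.range := ⟨_, rfl⟩
  have hmemA : ∀ x : C, x ∈ A ↔ ∃ c, ε c = x := by
    intro x; rw [hAdef]; exact AlgHom.mem_range ε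
  obtain ⟨π, hπ⟩ : ∃ π : C →ₐ[R] A, ∀ c, ((π c : A) : C) = ε c :=
    ⟨ε.codRestrict A (fun c => (hmemA _).2 ⟨c, rfl⟩), fun _ => rfl⟩
  have hπι : π.comp A.val = AlgHom.id R A := by
    refine AlgHom.ext (fun a => Subtype.ext ?_)
    obtain ⟨c, hc⟩ := (hmemA _).1 a.2
    show ((π (a : C) : A) : C) = (a : C)
    rw [hπ, ← hc, hεidem]
  have : Algebra.FormallySmooth R A := formallySmooth_of_retract A.val π hπι
  have : Algebra.FinitePresentation R A := finitePresentation_of_retract A.val π hπι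
  refine ⟨A, inferInstance, inferInstance, ⟨inferInstance, inferInstance⟩, ?_⟩
  obtain ⟨α, hα⟩ : ∃ α : A →+* A₀, ∀ a : A, α a = ρ₀ (θ (a : C)) :=
    ⟨ρ₀.toRingHom.comp (θ.comp A.val.toRingHom), fun _ => rfl⟩
  have hα_alg : ∀ r : R,
      α (algebraMap R A r) = algebraMap (R ⧸ I) A₀ (Ideal.Quotient.mk I r) := by
    intro r
    rw [hα]
    show ρ₀ (θ (algebraMap R C r)) = _
    rw [hθalg, IsScalarTower.algebraMap_apply (R ⧸ I) A₀ C₀, ρ₀.commutes]
    rfl
  have hα_surj : Function.Surjective α := by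
    intro a₀
    obtain ⟨c, hc⟩ := hθsurj (algebraMap A₀ C₀ a₀)
    refine ⟨π c, ?_⟩
    rw [hα, hπ, hθε, hc, he₀app, ρ₀.commutes, ρ₀.commutes]
    rfl
  have hα_ker : ∀ a : A, α a = 0 ↔ a ∈ I.map (algebraMap R A) := by
    intro a
    constructor
    · intro ha
      rw [hα] at ha
      obtain ⟨c, hc⟩ := (hmemA _).1 a.2
      have hεa : ε (a : C) = (a : C) := by rw [← hc, hεidem]
      have hθa : θ (a : C) = 0 := by
        rw [← hεa, hθε, he₀app, ha, map_zero]
      have hmem : (a : C) ∈ (I • ⊤ : Submodule R C) := by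
        rw [Ideal.smul_top_eq_map]
        exact (hθker _).1 hθa
      have h3 : π.toLinearMap (a : C) ∈
          Submodule.map π.toLinearMap (I • ⊤ : Submodule R C) := ⟨_, hmem, rfl⟩
      rw [Submodule.map_smul''] at h3
      have h4 : π.toLinearMap (a : C) = a := Subtype.ext (by
        show ((π (a : C) : A) : C) = (a : C)
        rw [hπ, hεa])
      rw [h4] at h3
      have h5 : (I • Submodule.map π.toLinearMap (⊤ : Submodule R C) : Submodule R A) ≤ I • ⊤ :=
        Submodule.smul_mono le_rfl le_top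
      have h6 := h5 h3
      rw [Ideal.smul_top_eq_map] at h6
      exact h6
    · intro ha
      have hle : I.map (algebraMap R A) ≤ RingHom.ker α := by
        rw [Ideal.map_le_iff_le_comap]
        intro r hr
        rw [Ideal.mem_comap, RingHom.mem_ker, hα_alg, Ideal.Quotient.eq_zero_iff_mem.2 hr,
          map_zero]
      exact RingHom.mem_ker.1 (hle ha)
  refine ⟨AlgEquiv.ofRingEquiv (f := RingEquiv.ofBijective
    (Ideal.Quotient.lift (I.map (algebraMap R A)) α (fun a ha => (hα_ker a).2 ha))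
    ⟨?_, ?_⟩) ?_⟩
  · rw [injective_iff_map_eq_zero]
    intro x hx
    obtain ⟨a, rfl⟩ := Ideal.Quotient.mk_surjective x
    rw [Ideal.Quotient.lift_mk] at hx
    exact Ideal.Quotient.eq_zero_iff_mem.2 ((hα_ker a).1 hx)
  · intro a₀
    obtain ⟨a, ha⟩ := hα_surj a₀
    exact ⟨Ideal.Quotient.mk _ a, by rw [Ideal.Quotient.lift_mk]; exact ha⟩
  · intro x
    obtain ⟨r, rfl⟩ := Ideal.Quotient.mk_surjective x
    show α (algebraMap R A r) = algebraMap (R ⧸ I) A₀ (Ideal.Quotient.mk I r)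
    exact hα_alg r

end Groth.Agent.Lib.Helper19.NilSmoothLift
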