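import Mathlib
import Groth.Prelude.Def_ArtFun4
import Groth.Agent.Lib.Helper19.AffDefAlg

/-!
# The rings `A[x,y]/(xy - f)` (helper19)

* `NR f = A[x,y]/(xy - f)` with its generators `xb`, `yb`, the universal property `liftRing`,
  `liftAlg`, `ringHom_ext'`;
* `flat_NR`: `NR f` is flat over `A` (it is a retract of a free module: the two maps to the Laurent
  ring `x ↦ u, y ↦ f u⁻¹` and `x ↦ f u, y ↦ u⁻¹` recover the coefficients of `xⁿ` and `yⁿ`).
-/

set_option autoImplicit false
set_option maxHeartbeats 400000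
set_option linter.style.haveILetI false
set_option linter.unusedSectionVars false
universe u

open MvPolynomial

noncomputable section

namespace Groth.Agent.Lib.Helper19.Node

section Ring

variable {A : Type u} [CommRing A]

/-- the ideal `(xy - f)` of `A[x,y]`. -/
def nodeIdeal (f : A) : Ideal (MvPolynomial (Fin 2) A) := Ideal.span {X 0 * X 1 - C f}

/-- the ring `A[x,y]/(xy - f)`. -/
abbrev NR (f : A) : Type u := MvPolynomial (Fin 2) A ⧸ nodeIdeal f

variable (f : A)

/-- the class of `x`. -/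
def xb : NR f := Ideal.Quotient.mk (nodeIdeal f) (X 0)

/-- the class of `y`. -/
def yb : NR f := Ideal.Quotient.mk (nodeIdeal f) (X 1)

lemma algebraMap_eq (a : A) :
    algebraMap A (NR f) a = Ideal.Quotient.mk (nodeIdeal f) (C a) := rfl

lemma xb_mul_yb : xb f * yb f = algebraMap A (NR f) f := by
  rw [algebraMap_eq, xb, yb, ← map_mul, ← sub_eq_zero, ← map_sub, Ideal.Quotient.eq_zero_iff_mem]
  exact Ideal.subset_span rfl

variable {f} {S : Type*} [CommRing S]

/-- ring homomorphisms out of `A[x,y]/(xy - f)`. -/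
def liftRing (φ : A →+* S) (a b : S) (h : a * b = φ f) : NR f →+* S :=
  Ideal.Quotient.lift (nodeIdeal f) (eval₂Hom φ ![a, b]) (by
    intro p hp
    have hle : nodeIdeal f ≤ RingHom.ker (eval₂Hom φ ![a, b]) := by
      rw [nodeIdeal, Ideal.span_le, Set.singleton_subset_iff, SetLike.mem_coe, RingHom.mem_ker,
        map_sub, map_mul, eval₂Hom_X', eval₂Hom_X', eval₂Hom_C]
      simp [h]
    exact hle hp)

@[simp] lemma liftRing_algebraMap (φ : A →+* S) (a b : S) (h : a * b = φ f) (c : A) :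
    liftRing φ a b h (algebraMap A (NR f) c) = φ c := by
  rw [algebraMap_eq]
  exact (Ideal.Quotient.lift_mk _ _ _).trans (eval₂Hom_C _ _ _)

@[simp] lemma liftRing_xb (φ : A →+* S) (a b : S) (h : a * b = φ f) :
    liftRing φ a b h (xb f) = a := by
  rw [xb]
  exact (Ideal.Quotient.lift_mk _ _ _).trans (eval₂Hom_X' _ _ _)

@[simp] lemma liftRing_yb (φ : A →+* S) (a b : S) (h : a * b = φ f) :
    liftRing φ a b h (yb f) = b := by
  rw [yb]
  exact (Ideal.Quotient.lift_mk _ _ _).trans (eval₂Hom_X' _ _ _)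

lemma ringHom_ext' {g₁ g₂ : NR f →+* S}
    (hA : ∀ c, g₁ (algebraMap A (NR f) c) = g₂ (algebraMap A (NR f) c))
    (hx : g₁ (xb f) = g₂ (xb f)) (hy : g₁ (yb f) = g₂ (yb f)) : g₁ = g₂ := by
  apply Ideal.Quotient.ringHom_ext
  apply MvPolynomial.ringHom_ext
  · intro c; exact hA c
  · intro i
    revert i
    rw [Fin.forall_fin_two]
    exact ⟨hx, hy⟩

variable {S' : Type*} [CommRing S'] [Algebra A S']

/-- `A`-algebra homomorphisms out of `A[x,y]/(xy - f)`. -/
def liftAlg (a b : S') (h : a * b = algebraMap A S' f) : NR f →ₐ[A] S' :=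
  { liftRing (algebraMap A S') a b h with
    commutes' := fun c => liftRing_algebraMap _ _ _ _ c }

@[simp] lemma liftAlg_xb (a b : S') (h : a * b = algebraMap A S' f) : liftAlg a b h (xb f) = a :=
  liftRing_xb (algebraMap A S') a b h

@[simp] lemma liftAlg_yb (a b : S') (h : a * b = algebraMap A S' f) : liftAlg a b h (yb f) = b :=
  liftRing_yb (algebraMap A S') a b h

lemma smul_eq (a : A) (w : NR f) : a • w = algebraMap A (NR f) a * w := Algebra.smul_def a w

lemma mk_monomial (s : Fin 2 →₀ ℕ) (a : A) :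
    Ideal.Quotient.mk (nodeIdeal f) (monomial s a) = a • (xb f ^ s 0 * yb f ^ s 1) := by
  rw [monomial_eq, Finsupp.prod_fintype _ _ (fun i => pow_zero _), Fin.prod_univ_two, map_mul,
    map_mul, map_pow, map_pow, smul_eq, algebraMap_eq]
  rfl

end Ring

section FlatSec

open MonoidAlgebra

variable {A : Type u} [CommRing A] (f : A)

/-- `a uⁿ` in the Laurent ring. -/
noncomputable def uu (n : ℤ) (a : A) : MonoidAlgebra A (Multiplicative ℤ) :=
  single (Multiplicative.ofAdd n) a

lemma uu_mul (n m : ℤ) (a b : A) : uu n a * uu m b = uu (n + m) (a * b) := by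
  rw [uu, uu, single_mul_single]; rfl

lemma uu_pow (a : A) (d : ℕ) : (uu 1 a) ^ d = uu (d : ℤ) (a ^ d) := by
  induction d with
  | zero => rw [pow_zero, pow_zero, Nat.cast_zero, uu, ofAdd_zero, MonoidAlgebra.one_def]
  | succ d ih => rw [pow_succ, ih, uu_mul, Nat.cast_succ, pow_succ]

lemma uu_neg_pow (a : A) (d : ℕ) : (uu (-1) a) ^ d = uu (-(d : ℤ)) (a ^ d) := by
  induction d with
  | zero => rw [pow_zero, pow_zero, Nat.cast_zero, neg_zero, uu, ofAdd_zero, MonoidAlgebra.one_def]
  | succ d ih =>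
    rw [pow_succ, ih, uu_mul, pow_succ]
    congr 1
    push_cast
    ring

lemma algebraMap_uu (c : A) : algebraMap A (MonoidAlgebra A (Multiplicative ℤ)) c = uu 0 c := rfl

/-- `x ↦ u, y ↦ f u⁻¹`. -/
noncomputable def phi1 : NR f →ₐ[A] MonoidAlgebra A (Multiplicative ℤ) :=
  liftAlg (uu 1 1) (uu (-1) f) (by rw [uu_mul, algebraMap_uu, one_mul]; rfl)

/-- `x ↦ f u, y ↦ u⁻¹`. -/
noncomputable def phi2 : NR f →ₐ[A] MonoidAlgebra A (Multiplicative ℤ) :=
  liftAlg (uu 1 f) (uu (-1) 1) (by rw [uu_mul, algebraMap_uu, mul_one]; rfl)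

/-- the reduced monomials `xⁿ`. -/
noncomputable def bx (h : Multiplicative ℤ) : NR f :=
  if 0 ≤ Multiplicative.toAdd h then xb f ^ (Multiplicative.toAdd h).toNat else 0

/-- the reduced monomials `yⁿ`, `n > 0`. -/
noncomputable def byy (h : Multiplicative ℤ) : NR f :=
  if Multiplicative.toAdd h < 0 then yb f ^ (-(Multiplicative.toAdd h)).toNat else 0

/-- extraction of the `x`-part. -/
noncomputable def rx : MonoidAlgebra A (Multiplicative ℤ) →ₗ[A] NR f :=
  (Finsupp.linearCombination A (bx f)) ∘ₗ (MonoidAlgebra.coeffLinearEquiv A).toLinearMap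

/-- extraction of the `y`-part. -/
noncomputable def ry : MonoidAlgebra A (Multiplicative ℤ) →ₗ[A] NR f :=
  (Finsupp.linearCombination A (byy f)) ∘ₗ (MonoidAlgebra.coeffLinearEquiv A).toLinearMap

lemma rx_uu (n : ℤ) (a : A) : rx f (uu n a) = a • bx f (Multiplicative.ofAdd n) := by
  change Finsupp.linearCombination A (bx f) ((single (Multiplicative.ofAdd n) a).coeff) = _
  rw [coeff_single, Finsupp.linearCombination_single]

lemma ry_uu (n : ℤ) (a : A) : ry f (uu n a) = a • byy f (Multiplicative.ofAdd n) := by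
  change Finsupp.linearCombination A (byy f) ((single (Multiplicative.ofAdd n) a).coeff) = _
  rw [coeff_single, Finsupp.linearCombination_single]

/-- the retraction composed with the inclusion. -/
noncomputable def Rl : NR f →ₗ[A] NR f :=
  (rx f) ∘ₗ (phi1 f).toLinearMap + (ry f) ∘ₗ (phi2 f).toLinearMap

lemma Rl_apply (z : NR f) : Rl f z = rx f (phi1 f z) + ry f (phi2 f z) := rfl

lemma Rl_xpow (d : ℕ) : Rl f (xb f ^ d) = xb f ^ d := by
  have e1 : phi1 f (xb f ^ d) = uu d 1 := by rw [map_pow, phi1, liftAlg_xb, uu_pow, one_pow]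
  have e2 : phi2 f (xb f ^ d) = uu d (f ^ d) := by rw [map_pow, phi2, liftAlg_xb, uu_pow]
  rw [Rl_apply, e1, e2, rx_uu, ry_uu,
    bx, byy, toAdd_ofAdd, if_pos (Int.natCast_nonneg d), if_neg (not_lt.mpr (Int.natCast_nonneg d)),
    Int.toNat_natCast, one_smul, smul_zero, add_zero]

lemma Rl_ypow (d : ℕ) : Rl f (yb f ^ d) = yb f ^ d := by
  rcases d with _ | e
  · have := Rl_xpow f 0
    rwa [pow_zero] at this ⊢
  · have hneg : -((e + 1 : ℕ) : ℤ) < 0 := by
      have : (0 : ℤ) < ((e + 1 : ℕ) : ℤ) := by exact_mod_cast Nat.succ_pos e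
      omega
    have e1 : phi1 f (yb f ^ (e + 1)) = uu (-((e + 1 : ℕ) : ℤ)) (f ^ (e + 1)) := by
      rw [map_pow, phi1, liftAlg_yb, uu_neg_pow]
    have e2 : phi2 f (yb f ^ (e + 1)) = uu (-((e + 1 : ℕ) : ℤ)) 1 := by
      rw [map_pow, phi2, liftAlg_yb, uu_neg_pow, one_pow]
    rw [Rl_apply, e1, e2,
      rx_uu, ry_uu, bx, byy, toAdd_ofAdd, if_neg (not_le.mpr hneg), if_pos hneg, neg_neg,
      Int.toNat_natCast, one_smul, smul_zero, zero_add]

lemma xpow_mul_ypow_of_le {i j : ℕ} (d : ℕ) (h : i = j + d) :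
    xb f ^ i * yb f ^ j = (f ^ j) • xb f ^ d := by
  subst h
  have : xb f ^ (j + d) * yb f ^ j = xb f ^ d * (xb f * yb f) ^ j := by ring
  rw [this, xb_mul_yb, ← map_pow, smul_eq, mul_comm]

lemma xpow_mul_ypow_of_ge {i j : ℕ} (d : ℕ) (h : j = i + d) :
    xb f ^ i * yb f ^ j = (f ^ i) • yb f ^ d := by
  subst h
  have : xb f ^ i * yb f ^ (i + d) = yb f ^ d * (xb f * yb f) ^ i := by ring
  rw [this, xb_mul_yb, ← map_pow, smul_eq, mul_comm]

lemma Rl_eq (z : NR f) : Rl f z = z := by
  obtain ⟨p, rfl⟩ := Ideal.Quotient.mk_surjective z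
  induction p using MvPolynomial.induction_on' with
  | monomial s a =>
    rw [mk_monomial, map_smul]
    congr 1
    rcases le_total (s 1) (s 0) with hle | hle
    · obtain ⟨d, hd⟩ := Nat.exists_eq_add_of_le hle
      rw [xpow_mul_ypow_of_le f d hd, map_smul, Rl_xpow]
    · obtain ⟨d, hd⟩ := Nat.exists_eq_add_of_le hle
      rw [xpow_mul_ypow_of_ge f d hd, map_smul, Rl_ypow]
  | add p q hp hq => rw [map_add, map_add, hp, hq]

instance flat_NR : Module.Flat A (NR f) := by
  haveI : Module.Free A (MonoidAlgebra A (Multiplicative ℤ)) :=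
    Module.Free.of_equiv (MonoidAlgebra.coeffLinearEquiv A).symm
  refine Module.Flat.of_retract
    (M := MonoidAlgebra A (Multiplicative ℤ) × MonoidAlgebra A (Multiplicative ℤ))
    (LinearMap.prod (phi1 f).toLinearMap (phi2 f).toLinearMap)
    (LinearMap.coprod (rx f) (ry f)) ?_
  apply LinearMap.ext
  intro z
  exact Rl_eq f z

end FlatSec

end Groth.Agent.Lib.Helper19.Node
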