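import Mathlib
import Groth.Prelude.Def_ArtFun4
import Groth.Agent.Lib.Helper19.AffDefAlg
import Groth.Agent.Lib.Helper19.NodeRing

/-!
# The deformations `xy = f` of the node over an Artinian local algebra (helper19)

`nodeData A f hf : AData A (C0 k)` for `f ∈ 𝔪_A`: the flat `A`-algebra `A[x,y]/(xy - f)` with its
projection to `k[x,y]/(xy)`.
-/

set_option autoImplicit false
set_option maxHeartbeats 400000
set_option linter.style.haveILetI false
set_option linter.unusedSectionVars false
universe u

open MvPolynomial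

noncomputable section

namespace Groth.Agent.Lib.Helper19.Node

open ArtFun ArtFun.Art Groth.Agent.Lib.Helper19.AffDef

/-- the coordinate ring of the node. -/
abbrev C0 (k : Type u) [Field k] : Type u :=
  MvPolynomial (Fin 2) k ⧸ Ideal.span {(X 0 * X 1 : MvPolynomial (Fin 2) k)}

variable {k : Type u} [Field k]

/-- the class of `x` in the node. -/
def x0 : C0 k := Ideal.Quotient.mk _ (X 0)

/-- the class of `y` in the node. -/
def y0 : C0 k := Ideal.Quotient.mk _ (X 1)

lemma x0_mul_y0 : (x0 * y0 : C0 k) = 0 := by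
  rw [x0, y0, ← map_mul, Ideal.Quotient.eq_zero_iff_mem]
  exact Ideal.subset_span rfl

variable (A : Art k k)

/-- `A → k → k[x,y]/(xy)`. -/
def phi0 : A →+* C0 k := (algebraMap k (C0 k)).comp A.res.toRingHom

lemma phi0_apply (a : A) : phi0 A a = algebraMap k (C0 k) (A.res a) := rfl

variable (f : A) (hf : f ∈ IsLocalRing.maximalIdeal A)

include hf in
lemma res_f : A.res f = 0 := (mem_maximalIdeal_iff A f).mp hf

/-- the projection `A[x,y]/(xy - f) → k[x,y]/(xy)`. -/
def piN : NR f →+* C0 k :=
  liftRing (phi0 A) x0 y0 (by rw [x0_mul_y0, phi0_apply, res_f A f hf, map_zero])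

lemma piN_algebraMap (a : A) : piN A f hf (algebraMap A (NR f) a) = algebraMap k (C0 k) (A.res a) := by
  rw [piN, liftRing_algebraMap, phi0_apply]

lemma piN_xb : piN A f hf (xb f) = x0 := liftRing_xb _ _ _ _

lemma piN_yb : piN A f hf (yb f) = y0 := liftRing_yb _ _ _ _

lemma piN_comp_mk : (piN A f hf).comp (Ideal.Quotient.mk (nodeIdeal f)) =
    (Ideal.Quotient.mk (Ideal.span {(X 0 * X 1 : MvPolynomial (Fin 2) k)})).comp
      (map A.res.toRingHom) := by
  apply MvPolynomial.ringHom_ext
  · intro c
    rw [RingHom.comp_apply, RingHom.comp_apply, map_C, ← algebraMap_eq, piN_algebraMap]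
    rfl
  · intro i
    rw [RingHom.comp_apply, RingHom.comp_apply, map_X]
    revert i
    rw [Fin.forall_fin_two]
    exact ⟨piN_xb A f hf, piN_yb A f hf⟩

lemma res_comp_algebraMap : A.res.toRingHom.comp (algebraMap k A) = RingHom.id k :=
  RingHom.ext fun c => A.res.commutes c

lemma piN_surjective : Function.Surjective (piN A f hf) := by
  intro z
  obtain ⟨p, rfl⟩ := Ideal.Quotient.mk_surjective z
  refine ⟨Ideal.Quotient.mk (nodeIdeal f) (map (algebraMap k A) p), ?_⟩
  have h1 := RingHom.congr_fun (piN_comp_mk A f hf) (map (algebraMap k A) p)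
  rw [RingHom.comp_apply, RingHom.comp_apply, map_map, res_comp_algebraMap, map_id] at h1
  exact h1

lemma ker_piN : RingHom.ker (piN A f hf) =
    (IsLocalRing.maximalIdeal A).map (algebraMap A (NR f)) := by
  apply le_antisymm
  · intro z hz
    obtain ⟨p, rfl⟩ := Ideal.Quotient.mk_surjective z
    have h0 : Ideal.Quotient.mk (Ideal.span {(X 0 * X 1 : MvPolynomial (Fin 2) k)})
        (map A.res.toRingHom p) = 0 := by
      have h1 := RingHom.congr_fun (piN_comp_mk A f hf) p
      rw [RingHom.comp_apply, RingHom.comp_apply] at h1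
      rw [← h1]
      exact hz
    rw [Ideal.Quotient.eq_zero_iff_mem, Ideal.mem_span_singleton'] at h0
    obtain ⟨q₀, hq₀⟩ := h0
    have hmapq : map A.res.toRingHom (map (algebraMap k A) q₀) = q₀ := by
      rw [map_map, res_comp_algebraMap, map_id]
    have hgen : map A.res.toRingHom (X 0 * X 1 - C f) = (X 0 * X 1 : MvPolynomial (Fin 2) k) := by
      rw [map_sub, map_mul, map_X, map_X, map_C]
      have : A.res.toRingHom f = 0 := res_f A f hf
      rw [this, C_0, sub_zero]
    have hp0 : map A.res.toRingHom (p - map (algebraMap k A) q₀ * (X 0 * X 1 - C f)) = 0 := by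
      rw [map_sub, map_mul, hmapq, hgen, hq₀, sub_self]
    have hmem : p - map (algebraMap k A) q₀ * (X 0 * X 1 - C f) ∈
        (IsLocalRing.maximalIdeal A).map (C : A →+* MvPolynomial (Fin 2) A) := by
      rw [MvPolynomial.mem_map_C_iff]
      intro m
      rw [mem_maximalIdeal_iff]
      have h2 := congrArg (fun r => coeff m r) hp0
      simp only [coeff_map, coeff_zero] at h2
      exact h2
    have hmk : Ideal.Quotient.mk (nodeIdeal f) p =
        Ideal.Quotient.mk (nodeIdeal f) (p - map (algebraMap k A) q₀ * (X 0 * X 1 - C f)) := by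
      rw [map_sub, Ideal.Quotient.eq_zero_iff_mem.mpr
        (Ideal.mul_mem_left _ _ (Ideal.subset_span rfl) :
          map (algebraMap k A) q₀ * (X 0 * X 1 - C f) ∈ nodeIdeal f), sub_zero]
    rw [hmk]
    have h3 := Ideal.mem_map_of_mem (Ideal.Quotient.mk (nodeIdeal f)) hmem
    rw [Ideal.map_map] at h3
    exact h3
  · rw [Ideal.map_le_iff_le_comap]
    intro a ha
    rw [Ideal.mem_comap, RingHom.mem_ker, piN_algebraMap, (mem_maximalIdeal_iff A a).mp ha, map_zero]

/-- the deformation `xy = f` of the node over `A`, in algebraic form. -/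
def nodeData : AData A (C0 k) where
  R := NR f
  π := piN A f hf
  h1 := piN_algebraMap A f hf
  h2 := piN_surjective A f hf
  h3 := ker_piN A f hf

lemma nodeData_congr {f f' : A} (h : f = f') (hf : f ∈ IsLocalRing.maximalIdeal A)
    (hf' : f' ∈ IsLocalRing.maximalIdeal A) :
    (nodeData A f hf).toDefSch.cl = (nodeData A f' hf').toDefSch.cl := by
  subst h
  rfl

end Groth.Agent.Lib.Helper19.Node
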