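import Mathlib
import Groth.Prelude.Def_ArtFun4
import Groth.Agent.Lib.Helper19.AffDefAlg
import Groth.Agent.Lib.Helper19.NodeData

/-!
# Isomorphisms between the deformations `xy = f` of the node (helper19)

* `iso_of_unit`: `xy = f` and `xy = u f` are isomorphic deformations for a unit `u ≡ 1`;
* `mem_of_iso`: if `xy = f` and `xy = f'` are isomorphic deformations then `f ∈ 𝔪² + (f')`.
* `bc_iso`: the base change of `xy = f` along `g` is `xy = g f`.
-/

set_option autoImplicit false
set_option maxHeartbeats 400000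
set_option linter.style.haveILetI false
set_option linter.unusedSectionVars false
universe u

open MvPolynomial CategoryTheory CategoryTheory.Limits AlgebraicGeometry

noncomputable section

namespace Groth.Agent.Lib.Helper19.Node

open ArtFun ArtFun.Art Groth.Agent.Lib.Helper19.AffDef

variable {k : Type u} [Field k]

theorem iso_of_unit (A : Art k k) (f u v : A) (huv : u * v = 1) (hu : A.res u = 1)
    (hf : f ∈ IsLocalRing.maximalIdeal A) (huf : u * f ∈ IsLocalRing.maximalIdeal A) :
    Nonempty (DefSch.Iso (nodeData A f hf).toDefSch (nodeData A (u * f) huf).toDefSch) := by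
  rw [iso_iff]
  have hv : A.res v = 1 := by
    have := congrArg A.res huv
    rwa [map_mul, hu, one_mul, map_one] at this
  let to_ : NR f →ₐ[A] NR (u * f) :=
    liftAlg (algebraMap A (NR (u * f)) v * xb (u * f)) (yb (u * f)) (by
      rw [mul_assoc, xb_mul_yb, ← map_mul, ← mul_assoc, mul_comm v u, huv, one_mul])
  let from_ : NR (u * f) →ₐ[A] NR f :=
    liftAlg (algebraMap A (NR f) u * xb f) (yb f) (by
      rw [mul_assoc, xb_mul_yb, ← map_mul])
  have to_x : to_ (xb f) = algebraMap A (NR (u * f)) v * xb (u * f) := liftAlg_xb _ _ _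
  have to_y : to_ (yb f) = yb (u * f) := liftAlg_yb _ _ _
  have from_x : from_ (xb (u * f)) = algebraMap A (NR f) u * xb f := liftAlg_xb _ _ _
  have from_y : from_ (yb (u * f)) = yb f := liftAlg_yb _ _ _
  have h1 : to_.toRingHom.comp from_.toRingHom = RingHom.id _ := by
    apply ringHom_ext'
    · intro c
      change to_ (from_ (algebraMap A _ c)) = algebraMap A _ c
      rw [from_.commutes, to_.commutes]
    · change to_ (from_ (xb (u * f))) = xb (u * f)
      rw [from_x, map_mul, to_.commutes, to_x, ← mul_assoc, ← map_mul, huv, map_one, one_mul]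
    · change to_ (from_ (yb (u * f))) = yb (u * f)
      rw [from_y, to_y]
  have h2 : from_.toRingHom.comp to_.toRingHom = RingHom.id _ := by
    apply ringHom_ext'
    · intro c
      change from_ (to_ (algebraMap A _ c)) = algebraMap A _ c
      rw [to_.commutes, from_.commutes]
    · change from_ (to_ (xb f)) = xb f
      rw [to_x, map_mul, from_.commutes, from_x, ← mul_assoc, ← map_mul, mul_comm v u, huv, map_one,
        one_mul]
    · change from_ (to_ (yb f)) = yb f
      rw [to_y, from_y]
  refine ⟨RingEquiv.ofRingHom to_.toRingHom from_.toRingHom h1 h2, ?_, ?_⟩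
  · intro a
    exact to_.commutes a
  · intro r
    have hcomp : (piN A (u * f) huf).comp to_.toRingHom = piN A f hf := by
      apply ringHom_ext'
      · intro c
        change piN A (u * f) huf (to_ (algebraMap A _ c)) = _
        rw [to_.commutes, piN_algebraMap, piN_algebraMap]
      · change piN A (u * f) huf (to_ (xb f)) = _
        rw [to_x, map_mul, piN_algebraMap, piN_xb, piN_xb, hv, map_one, one_mul]
      · change piN A (u * f) huf (to_ (yb f)) = _
        rw [to_y, piN_yb, piN_yb]
    exact RingHom.congr_fun hcomp r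

lemma rho_aux0 {A : Type u} [CommRing A] (f' : A) :
    Ideal.Quotient.mk (Ideal.span {f'}) f' = 0 :=
  Ideal.Quotient.eq_zero_iff_mem.mpr (Ideal.subset_span (Set.mem_singleton f'))

lemma rho_aux {A : Type u} [CommRing A] (f' : A) :
    (0 : A ⧸ Ideal.span {f'}) * 0 = algebraMap A (A ⧸ Ideal.span {f'}) f' := by
  rw [mul_zero]
  exact (rho_aux0 f').symm

/-- the map `A[x,y]/(xy - f') → A/(f')` killing `x` and `y`. -/
def rho {A : Type u} [CommRing A] (f' : A) : NR f' →ₐ[A] (A ⧸ Ideal.span {f'}) :=
  liftAlg (S' := A ⧸ Ideal.span {f'}) 0 0 (rho_aux f')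

lemma rho_xb {A : Type u} [CommRing A] (f' : A) : rho f' (xb f') = 0 := liftAlg_xb _ _ _

lemma rho_yb {A : Type u} [CommRing A] (f' : A) : rho f' (yb f') = 0 := liftAlg_yb _ _ _

lemma rho_mem {A : Type u} [CommRing A] (f' : A) (I : Ideal A) (w : NR f')
    (hw : w ∈ I.map (algebraMap A (NR f'))) :
    rho f' w ∈ I.map (Ideal.Quotient.mk (Ideal.span {f'})) := by
  have h3 := Ideal.mem_map_of_mem (rho f').toRingHom hw
  rw [Ideal.map_map] at h3
  have hc : (rho f').toRingHom.comp (algebraMap A (NR f')) = Ideal.Quotient.mk (Ideal.span {f'}) :=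
    RingHom.ext fun a => (rho f').commutes a
  rw [hc] at h3
  exact h3

theorem mem_of_ringEquiv (A : Art k k) (f f' : A) (hf : f ∈ IsLocalRing.maximalIdeal A)
    (hf' : f' ∈ IsLocalRing.maximalIdeal A) (θ : NR f ≃+* NR f')
    (hθA : ∀ a : A, θ (algebraMap A (NR f) a) = algebraMap A (NR f') a)
    (hθπ : ∀ r : NR f, piN A f' hf' (θ r) = piN A f hf r) :
    f ∈ IsLocalRing.maximalIdeal A ^ 2 ⊔ Ideal.span {f'} := by
  have hker : ∀ w : NR f', piN A f' hf' w = 0 →
      rho f' w ∈ (IsLocalRing.maximalIdeal A).map (Ideal.Quotient.mk (Ideal.span {f'})) := by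
    intro w hw
    apply rho_mem
    rw [← ker_piN A f' hf']
    exact hw
  have hX : rho f' (θ (xb f)) ∈
      (IsLocalRing.maximalIdeal A).map (Ideal.Quotient.mk (Ideal.span {f'})) := by
    have := hker (θ (xb f) - xb f') (by rw [map_sub, hθπ, piN_xb, piN_xb, sub_self])
    rwa [map_sub, rho_xb, sub_zero] at this
  have hY : rho f' (θ (yb f)) ∈
      (IsLocalRing.maximalIdeal A).map (Ideal.Quotient.mk (Ideal.span {f'})) := by
    have := hker (θ (yb f) - yb f') (by rw [map_sub, hθπ, piN_yb, piN_yb, sub_self])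
    rwa [map_sub, rho_yb, sub_zero] at this
  have hXY : rho f' (θ (xb f)) * rho f' (θ (yb f)) = Ideal.Quotient.mk (Ideal.span {f'}) f := by
    rw [← map_mul, ← map_mul, xb_mul_yb, hθA, (rho f').commutes, Ideal.Quotient.algebraMap_eq]
  have hmem : Ideal.Quotient.mk (Ideal.span {f'}) f ∈
      (IsLocalRing.maximalIdeal A ^ 2).map (Ideal.Quotient.mk (Ideal.span {f'})) := by
    rw [pow_two, Ideal.map_mul, ← hXY]
    exact Ideal.mul_mem_mul hX hY
  exact Ideal.mem_quotient_iff_mem_sup.mp hmem

theorem mem_of_iso (A : Art k k) (f f' : A) (hf : f ∈ IsLocalRing.maximalIdeal A)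
    (hf' : f' ∈ IsLocalRing.maximalIdeal A)
    (h : Nonempty (DefSch.Iso (nodeData A f hf).toDefSch (nodeData A f' hf').toDefSch)) :
    f ∈ IsLocalRing.maximalIdeal A ^ 2 ⊔ Ideal.span {f'} := by
  obtain ⟨θ, hθA, hθπ⟩ := (iso_iff (nodeData A f hf) (nodeData A f' hf')).mp h
  exact mem_of_ringEquiv A f f' hf hf' θ hθA hθπ

section BC

variable {A B : Art k k} (g : A ⟶ B) (f : A)

/-- the comparison map `A[x,y]/(xy - f) → B[x,y]/(xy - g f)`. -/
def beta : NR f →+* NR (g f) :=
  liftRing ((algebraMap B (NR (g f))).comp g.toAlgHom.toRingHom) (xb (g f)) (yb (g f)) (by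
    rw [xb_mul_yb]; rfl)

lemma beta_algebraMap (a : A) : beta g f (algebraMap A (NR f) a) = algebraMap B (NR (g f)) (g a) := by
  rw [beta, liftRing_algebraMap]; rfl

lemma beta_xb : beta g f (xb f) = xb (g f) := liftRing_xb _ _ _ _

lemma beta_yb : beta g f (yb f) = yb (g f) := liftRing_yb _ _ _ _

theorem isPushout_bc :
    IsPushout (CommRingCat.ofHom (algebraMap A (NR f))) (CommRingCat.ofHom g.toAlgHom.toRingHom)
      (CommRingCat.ofHom (beta g f)) (CommRingCat.ofHom (algebraMap B (NR (g f)))) := by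
  have w : CommRingCat.ofHom (algebraMap A (NR f)) ≫ CommRingCat.ofHom (beta g f) =
      CommRingCat.ofHom g.toAlgHom.toRingHom ≫ CommRingCat.ofHom (algebraMap B (NR (g f))) := by
    ext a
    exact beta_algebraMap g f a
  have hcond : ∀ (s : PushoutCocone (CommRingCat.ofHom (algebraMap A (NR f)))
      (CommRingCat.ofHom g.toAlgHom.toRingHom)) (a : A),
      s.inl.hom (algebraMap A (NR f) a) = s.inr.hom (g a) := fun s a =>
    congrArg (fun h : CommRingCat.of A ⟶ s.pt => h.hom a) s.condition
  have hh : ∀ s : PushoutCocone (CommRingCat.ofHom (algebraMap A (NR f)))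
      (CommRingCat.ofHom g.toAlgHom.toRingHom),
      s.inl.hom (xb f) * s.inl.hom (yb f) = s.inr.hom (g f) := by
    intro s
    rw [← map_mul, xb_mul_yb, hcond]
  refine ⟨⟨w⟩, ⟨PushoutCocone.IsColimit.mk w
    (fun s => CommRingCat.ofHom (liftRing s.inr.hom (s.inl.hom (xb f)) (s.inl.hom (yb f)) (hh s)))
    ?_ ?_ ?_⟩⟩
  · intro s
    apply CommRingCat.hom_ext
    change (liftRing s.inr.hom (s.inl.hom (xb f)) (s.inl.hom (yb f)) (hh s)).comp (beta g f) =
      s.inl.hom
    apply ringHom_ext'
    · intro c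
      rw [RingHom.comp_apply, beta_algebraMap, liftRing_algebraMap, hcond]
    · rw [RingHom.comp_apply, beta_xb, liftRing_xb]
    · rw [RingHom.comp_apply, beta_yb, liftRing_yb]
  · intro s
    apply CommRingCat.hom_ext
    change (liftRing s.inr.hom (s.inl.hom (xb f)) (s.inl.hom (yb f)) (hh s)).comp
      (algebraMap B (NR (g f))) = s.inr.hom
    exact RingHom.ext fun b => by rw [RingHom.comp_apply, liftRing_algebraMap]
  · intro s m hm1 hm2
    apply CommRingCat.hom_ext
    change m.hom = liftRing s.inr.hom (s.inl.hom (xb f)) (s.inl.hom (yb f)) (hh s)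
    have e1 : ∀ r, m.hom (beta g f r) = s.inl.hom r := fun r =>
      congrArg (fun h : CommRingCat.of (NR f) ⟶ s.pt => h.hom r) hm1
    have e2 : ∀ b, m.hom (algebraMap B (NR (g f)) b) = s.inr.hom b := fun b =>
      congrArg (fun h : CommRingCat.of B ⟶ s.pt => h.hom b) hm2
    apply ringHom_ext'
    · intro c
      rw [e2, liftRing_algebraMap]
    · rw [← beta_xb g f, e1, beta_xb, liftRing_xb]
    · rw [← beta_yb g f, e1, beta_yb, liftRing_yb]

theorem bc_iso (hf : f ∈ IsLocalRing.maximalIdeal A) (hgf : g f ∈ IsLocalRing.maximalIdeal B) :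
    Nonempty (DefSch.Iso ((nodeData A f hf).toDefSch.baseChange g)
      (nodeData B (g f) hgf).toDefSch) := by
  have hP : IsPullback (Spec.map (CommRingCat.ofHom (beta g f))) (nodeData B (g f) hgf).toDefSch.f
      (nodeData A f hf).toDefSch.f (specMap g) :=
    isPullback_SpecMap_of_isPushout _ _ _ _ (isPushout_bc g f)
  have hπ : (piN B (g f) hgf).comp (beta g f) = piN A f hf := by
    apply ringHom_ext'
    · intro c
      rw [RingHom.comp_apply, beta_algebraMap, piN_algebraMap, piN_algebraMap, res_app]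
    · rw [RingHom.comp_apply, beta_xb, piN_xb, piN_xb]
    · rw [RingHom.comp_apply, beta_yb, piN_yb, piN_yb]
  refine ⟨{ iso := (IsPullback.of_hasPullback (nodeData A f hf).toDefSch.f (specMap g)).isoIsPullback
              _ _ hP
            hom_f := IsPullback.isoIsPullback_hom_snd _ _ _ _
            i_hom := ?_ }⟩
  apply hP.hom_ext
  · refine (Category.assoc _ _ _).trans ?_
    refine (congrArg (fun t => ((nodeData A f hf).toDefSch.baseChange g).i ≫ t)
      (IsPullback.isoIsPullback_hom_fst _ _ (IsPullback.of_hasPullback _ _) hP)).trans ?_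
    refine (DefSch.baseChange_i_fst (nodeData A f hf).toDefSch g).trans ?_
    change Spec.map (CommRingCat.ofHom (piN A f hf)) =
      Spec.map (CommRingCat.ofHom (piN B (g f) hgf)) ≫ Spec.map (CommRingCat.ofHom (beta g f))
    rw [← Spec.map_comp, ← CommRingCat.ofHom_comp, hπ]
  · refine (Category.assoc _ _ _).trans ?_
    refine (congrArg (fun t => ((nodeData A f hf).toDefSch.baseChange g).i ≫ t)
      (IsPullback.isoIsPullback_hom_snd _ _ (IsPullback.of_hasPullback _ _) hP)).trans ?_
    exact (DefSch.baseChange_i_f (nodeData A f hf).toDefSch g).trans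
      (DefSch.i_f (nodeData B (g f) hgf).toDefSch).symm

end BC

end Groth.Agent.Lib.Helper19.Node
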