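import Mathlib
import Groth.Prelude.Def_ArtFun4
import Groth.Agent.Lib.Helper19.ArtFunBasic
import Groth.Agent.Lib.Helper19.ArtFunLength
import Groth.Agent.Lib.Helper19.ArtFunHR
import Groth.Agent.Lib.Helper19.NodeIso

/-!
# The deformation functor of the node is not pro-representable (helper19)

`not_prorep_of`: given an object `B` with elements `t, m ∈ 𝔪_B` such that `θ = m t ≠ 0` is killed by
`𝔪_B`, the two deformations `xy = τ` and `xy = τ + σ` over `G = B ×_{B/θ} B` (`τ = (t, t)`,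
`σ = (θ, 0)`) restrict to isomorphic deformations on both factors and are not isomorphic; a
pro-representable functor preserves fibre products.
-/

set_option autoImplicit false
set_option maxHeartbeats 400000
set_option linter.style.haveILetI false
set_option linter.unusedSectionVars false
universe u

open MvPolynomial CategoryTheory CategoryTheory.Limits AlgebraicGeometry

noncomputable section

namespace Groth.Agent.Lib.Helper19.Node

open ArtFun ArtFun.Art Groth.Agent.Lib.Helper19.AffDef Groth.Agent.Lib.Helper19.ArtFunBasic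
  Groth.Agent.Lib.Helper19.ArtFunLength Groth.Agent.Lib.Helper19.ArtFunHR

variable {k : Type u} [Field k]

/-- the deformation functor of the node. -/
abbrev nodeFunctor (k : Type u) [Field k] : Art k k ⥤ Type (u + 1) :=
  defFunctor (Λ := k) (Spec (CommRingCat.of (C0 k)))
    (Spec.map (CommRingCat.ofHom (algebraMap k (C0 k))))

/-- the class of `xy = f`. -/
def ncl (A : Art k k) (f : A) (hf : f ∈ IsLocalRing.maximalIdeal A) : (nodeFunctor k).obj A :=
  (nodeData A f hf).toDefSch.cl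

lemma ncl_congr (A : Art k k) {f f' : A} (h : f = f') (hf : f ∈ IsLocalRing.maximalIdeal A)
    (hf' : f' ∈ IsLocalRing.maximalIdeal A) : ncl A f hf = ncl A f' hf' := by
  subst h
  rfl

lemma map_ncl {A B : Art k k} (g : A ⟶ B) (f : A) (hf : f ∈ IsLocalRing.maximalIdeal A)
    (hgf : g f ∈ IsLocalRing.maximalIdeal B) :
    (nodeFunctor k).map g (ncl A f hf) = ncl B (g f) hgf := by
  change ((nodeData A f hf).toDefSch.baseChange g).cl = _
  exact Quotient.sound (bc_iso g f hf hgf)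

lemma ncl_unit (A : Art k k) (f u v : A) (huv : u * v = 1) (hu : A.res u = 1)
    (hf : f ∈ IsLocalRing.maximalIdeal A) (huf : u * f ∈ IsLocalRing.maximalIdeal A) :
    ncl A f hf = ncl A (u * f) huf :=
  Quotient.sound (iso_of_unit A f u v huv hu hf huf)

lemma mem_of_ncl_eq (A : Art k k) (f f' : A) (hf : f ∈ IsLocalRing.maximalIdeal A)
    (hf' : f' ∈ IsLocalRing.maximalIdeal A) (h : ncl A f hf = ncl A f' hf') :
    f ∈ IsLocalRing.maximalIdeal A ^ 2 ⊔ Ideal.span {f'} :=
  mem_of_iso A f f' hf hf' (Quotient.exact h)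

lemma map_mem_max {A B : Art k k} (g : A ⟶ B) {a : A} (ha : a ∈ IsLocalRing.maximalIdeal A) :
    g a ∈ IsLocalRing.maximalIdeal B := by
  rw [mem_maximalIdeal_iff, res_app]
  exact (mem_maximalIdeal_iff A a).mp ha

theorem not_prorep_of (B : Art k k) (t m : B) (ht : t ∈ IsLocalRing.maximalIdeal B)
    (hm : m ∈ IsLocalRing.maximalIdeal B) (hθ0 : m * t ≠ 0)
    (hθ : ∀ y ∈ IsLocalRing.maximalIdeal B, y * (m * t) = 0) :
    ¬ IsProrepresentable (nodeFunctor k) := by
  rintro ⟨⟨R, ξ, huniv⟩⟩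
  have hθm : m * t ∈ IsLocalRing.maximalIdeal B := Ideal.mul_mem_right _ _ hm
  have hK : Ideal.span {m * t} ≤ IsLocalRing.maximalIdeal B :=
    (Ideal.span_singleton_le_iff_mem _).mpr hθm
  obtain ⟨G, π₁, π₂, hG⟩ := exists_isFibreProd (quotMk B (Ideal.span {m * t}) hK)
    (quotMk B (Ideal.span {m * t}) hK) (quotMk_surjective B _ hK)
  have hker : ∀ b : B, quotMk B (Ideal.span {m * t}) hK b = 0 ↔ b ∈ Ideal.span {m * t} :=
    fun b => quotMk_eq_zero_iff B _ hK b
  obtain ⟨τ, hτ1, hτ2⟩ := hG.surj t t rfl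
  obtain ⟨σ, hσ1, hσ2⟩ := hG.surj (m * t) 0 (by
    rw [(hker (m * t)).mpr (Ideal.subset_span (Set.mem_singleton _))]
    exact (map_zero (quotMk B (Ideal.span {m * t}) hK).toAlgHom).symm)
  have hτm : τ ∈ IsLocalRing.maximalIdeal G := by
    rw [mem_maximalIdeal_iff, ← res_app π₁, hτ1]
    exact (mem_maximalIdeal_iff B t).mp ht
  have hσm : σ ∈ IsLocalRing.maximalIdeal G := by
    rw [mem_maximalIdeal_iff, ← res_app π₁, hσ1]
    exact (mem_maximalIdeal_iff B _).mp hθm
  have hτσm : τ + σ ∈ IsLocalRing.maximalIdeal G := add_mem hτm hσm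
  -- differences of the projections
  have hD1 : ∀ x : G, ∃ c : B, π₁ x - π₂ x = c * (m * t) := by
    intro x
    have h0 : quotMk B (Ideal.span {m * t}) hK (π₁ x - π₂ x) = 0 := by
      have := hG.w_apply x
      change (quotMk B (Ideal.span {m * t}) hK).toAlgHom (π₁ x - π₂ x) = 0
      rw [map_sub, sub_eq_zero]
      exact this
    rw [hker, Ideal.mem_span_singleton'] at h0
    obtain ⟨c, hc⟩ := h0
    exact ⟨c, hc.symm⟩
  have hD2 : ∀ x : G, ∀ y ∈ IsLocalRing.maximalIdeal B, (π₁ x - π₂ x) * y = 0 := by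
    intro x y hy
    obtain ⟨c, hc⟩ := hD1 x
    rw [hc, mul_assoc, mul_comm (m * t) y, hθ y hy, mul_zero]
  have hsq : ∀ q ∈ IsLocalRing.maximalIdeal G ^ 2, π₁ q = π₂ q := by
    intro q hq
    rw [pow_two] at hq
    refine Submodule.mul_induction_on hq ?_ ?_
    · intro a ha b hb
      have h1 := hD2 a (π₁ b) (map_mem_max π₁ hb)
      have h2 := hD2 b (π₂ a) (map_mem_max π₂ ha)
      have e1 : π₁ (a * b) = π₁ a * π₁ b := map_mul π₁.toAlgHom a b
      have e2 : π₂ (a * b) = π₂ a * π₂ b := map_mul π₂.toAlgHom a b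
      rw [e1, e2]
      linear_combination h1 + h2
    · intro x y hx hy
      have e1 : π₁ (x + y) = π₁ x + π₁ y := map_add π₁.toAlgHom x y
      have e2 : π₂ (x + y) = π₂ x + π₂ y := map_add π₂.toAlgHom x y
      rw [e1, e2, hx, hy]
  -- the two classes
  have e1 : (nodeFunctor k).map π₁ (ncl G τ hτm) = (nodeFunctor k).map π₁ (ncl G (τ + σ) hτσm) := by
    have hu : IsUnit (1 + m) := by
      by_contra h
      have h' := (IsLocalRing.mem_maximalIdeal _).mpr h
      rw [mem_maximalIdeal_iff, map_add, map_one, (mem_maximalIdeal_iff B m).mp hm, add_zero] at h'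
      exact one_ne_zero h'
    obtain ⟨w, hw⟩ := hu
    have huv : (1 + m) * ((w⁻¹ : Bˣ) : B) = 1 := by rw [← hw]; exact w.mul_inv
    have hres : B.res (1 + m) = 1 := by
      rw [map_add, map_one, (mem_maximalIdeal_iff B m).mp hm, add_zero]
    have hmem : (1 + m) * t ∈ IsLocalRing.maximalIdeal B := Ideal.mul_mem_left _ _ ht
    rw [map_ncl π₁ τ hτm (map_mem_max π₁ hτm), map_ncl π₁ (τ + σ) hτσm (map_mem_max π₁ hτσm),
      ncl_congr B hτ1 (map_mem_max π₁ hτm) ht,
      ncl_unit B t (1 + m) _ huv hres ht hmem]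
    apply ncl_congr
    have e : π₁ (τ + σ) = π₁ τ + π₁ σ := map_add π₁.toAlgHom τ σ
    rw [e, hτ1, hσ1]
    ring
  have e2 : (nodeFunctor k).map π₂ (ncl G τ hτm) = (nodeFunctor k).map π₂ (ncl G (τ + σ) hτσm) := by
    rw [map_ncl π₂ τ hτm (map_mem_max π₂ hτm), map_ncl π₂ (τ + σ) hτσm (map_mem_max π₂ hτσm)]
    apply ncl_congr
    have e : π₂ (τ + σ) = π₂ τ + π₂ σ := map_add π₂.toAlgHom τ σ
    rw [e, hσ2, add_zero]
  -- pro-representability forces the two classes to coincide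
  obtain ⟨v₀, hv₀⟩ := (huniv G).2 (ncl G τ hτm)
  obtain ⟨v₁, hv₁⟩ := (huniv G).2 (ncl G (τ + σ) hτσm)
  have hv : v₀ = v₁ := by
    apply hR_lift_unique hG
    · apply (huniv B).1
      rw [ξ.natural, ξ.natural, hv₀, hv₁]
      exact e1
    · apply (huniv B).1
      rw [ξ.natural, ξ.natural, hv₀, hv₁]
      exact e2
  have hcl : ncl G (τ + σ) hτσm = ncl G τ hτm := by rw [← hv₀, ← hv₁, hv]
  have hmem := mem_of_ncl_eq G (τ + σ) τ hτσm hτm hcl
  obtain ⟨q, hq, w, hw, hsum⟩ := Submodule.mem_sup.mp hmem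
  obtain ⟨c, rfl⟩ := Ideal.mem_span_singleton'.mp hw
  apply hθ0
  have hq12 := hsq q hq
  have a1 : π₁ (τ + σ) = t + m * t := by
    have e : π₁ (τ + σ) = π₁ τ + π₁ σ := map_add π₁.toAlgHom τ σ
    rw [e, hτ1, hσ1]
  have a2 : π₂ (τ + σ) = t := by
    have e : π₂ (τ + σ) = π₂ τ + π₂ σ := map_add π₂.toAlgHom τ σ
    rw [e, hτ2, hσ2, add_zero]
  have b1 : π₁ (q + c * τ) = π₁ q + π₁ c * t := by
    have e : π₁ (q + c * τ) = π₁ q + π₁ c * π₁ τ := by
      rw [show π₁ (q + c * τ) = π₁ q + π₁ (c * τ) from map_add π₁.toAlgHom q (c * τ),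
        show π₁ (c * τ) = π₁ c * π₁ τ from map_mul π₁.toAlgHom c τ]
    rw [e, hτ1]
  have b2 : π₂ (q + c * τ) = π₂ q + π₂ c * t := by
    have e : π₂ (q + c * τ) = π₂ q + π₂ c * π₂ τ := by
      rw [show π₂ (q + c * τ) = π₂ q + π₂ (c * τ) from map_add π₂.toAlgHom q (c * τ),
        show π₂ (c * τ) = π₂ c * π₂ τ from map_mul π₂.toAlgHom c τ]
    rw [e, hτ2]
  have hc0 := hD2 c t ht
  rw [← hsum] at a1 a2
  rw [b1] at a1
  rw [b2] at a2
  linear_combination a2 - a1 + hc0 + hq12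

end Groth.Agent.Lib.Helper19.Node
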