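import Mathlib
import Groth.Prelude.Def_ArtFun4
import Groth.Agent.Lib.Helper19.NodeMain

/-!
# The ring `k[ε₁, ε₂]/(ε₁², ε₂²)` and the node (helper19)

`BBart k : Art k k` is `DualNumber (DualNumber k)`; with `t = ε₂`, `m = ε₁` it satisfies the
hypotheses of `not_prorep_of`, whence `node_not_prorep`.
-/

set_option autoImplicit false
set_option maxHeartbeats 400000
set_option linter.style.haveILetI false
set_option linter.unusedSectionVars false
universe u

open CategoryTheory AlgebraicGeometry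

noncomputable section

namespace Groth.Agent.Lib.Helper19.Node

open ArtFun ArtFun.Art

variable (k : Type u) [Field k]

/-- `k[ε₁, ε₂]/(ε₁², ε₂²)`. -/
abbrev BB : Type u := DualNumber (DualNumber k)

theorem isLocalRing_BB : IsLocalRing (BB k) := by
  haveI : IsLocalRing (DualNumber k) := isLocalRing_tsze k k
  refine IsLocalRing.of_isUnit_or_isUnit_one_sub_self fun a => ?_
  rcases IsLocalRing.isUnit_or_isUnit_one_sub_self a.fst with h | h
  · exact Or.inl (TrivSqZeroExt.isUnit_iff_isUnit_fst.mpr h)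
  · exact Or.inr (TrivSqZeroExt.isUnit_iff_isUnit_fst.mpr
      (by rwa [TrivSqZeroExt.fst_sub, TrivSqZeroExt.fst_one]))

theorem isArtinianRing_BB : IsArtinianRing (BB k) := by
  haveI : IsArtinianRing (DualNumber k) := isArtinianRing_tsze k k
  haveI : Module.Finite (DualNumber k) (BB k) :=
    inferInstanceAs (Module.Finite (DualNumber k) (DualNumber k × DualNumber k))
  haveI : IsScalarTower (DualNumber k) (BB k) (BB k) :=
    @IsScalarTower.right (DualNumber k) (BB k) _ _ _
  exact IsArtinianRing.of_finite (DualNumber k) _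

/-- the augmentation. -/
def resBB : BB k →ₐ[k] k :=
  (TrivSqZeroExt.fstHom k k k).comp (TrivSqZeroExt.fstHom k (DualNumber k) (DualNumber k))

lemma resBB_apply (a : BB k) : resBB k a = a.fst.fst := rfl

/-- `k[ε₁, ε₂]/(ε₁², ε₂²)` as an object. -/
def BBart : Art k k :=
  haveI := isLocalRing_BB k
  haveI := isArtinianRing_BB k
  Art.of (BB k) (resBB k) (fun c => ⟨TrivSqZeroExt.inl (TrivSqZeroExt.inl c), rfl⟩)

lemma theta_BB : (TrivSqZeroExt.inl (TrivSqZeroExt.inr 1) : BB k) * TrivSqZeroExt.inr 1 =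
    TrivSqZeroExt.inr (TrivSqZeroExt.inr 1) := by
  rw [TrivSqZeroExt.inl_mul_inr, smul_eq_mul, mul_one]

lemma theta_ne : (TrivSqZeroExt.inl (TrivSqZeroExt.inr 1) : BB k) * TrivSqZeroExt.inr 1 ≠ 0 := by
  rw [theta_BB]
  intro h
  exact one_ne_zero (congrArg (fun a : BB k => a.snd.snd) h)

lemma theta_kill (y : BB k) (hy : y.fst.fst = 0) :
    y * ((TrivSqZeroExt.inl (TrivSqZeroExt.inr 1) : BB k) * TrivSqZeroExt.inr 1) = 0 := by
  rw [theta_BB]
  apply TrivSqZeroExt.ext
  · change y.fst * 0 = 0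
    rw [mul_zero]
  · change y.fst • (TrivSqZeroExt.inr 1 : DualNumber k) +
      MulOpposite.op (0 : DualNumber k) • y.snd = 0
    rw [MulOpposite.op_zero, zero_smul, add_zero, smul_eq_mul]
    apply TrivSqZeroExt.ext
    · change y.fst.fst * 0 = 0
      rw [mul_zero]
    · change y.fst.fst • (1 : k) + MulOpposite.op (0 : k) • y.fst.snd = 0
      rw [hy, zero_smul, MulOpposite.op_zero, zero_smul, add_zero]

theorem node_not_prorep : ¬ IsProrepresentable (nodeFunctor k) :=
  not_prorep_of (BBart k) (TrivSqZeroExt.inr 1 : BB k)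
    (TrivSqZeroExt.inl (TrivSqZeroExt.inr 1) : BB k)
    ((mem_maximalIdeal_iff (BBart k) _).mpr rfl) ((mem_maximalIdeal_iff (BBart k) _).mpr rfl)
    (theta_ne k) (fun y hy => theta_kill k y ((mem_maximalIdeal_iff (BBart k) y).mp hy))

end Groth.Agent.Lib.Helper19.Node
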