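import Mathlib
import Groth.Prelude.Def_W4c5ffgsreadingcourseOT
import Groth.Agent.Lib.Helper19.ConvBC

/-!
# Oort–Tate I: the action of `(ℤ/p)ˣ` on a commutative group killed by `p` and the eigenspace
decomposition of the augmentation ideal (helper19)
-/

set_option autoImplicit false
universe u

open TensorProduct

namespace Groth.Agent.Lib.Helper19.OT

open Groth.Agent.Lib.Helper19.ConvBC

section Pw

variable (R : Type u) [CommRing R] (A : Type u) [CommRing A] [HopfAlgebra R A]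

/-- the `n`-th power map -/
noncomputable abbrev pw (n : ℕ) : A →ₐ[R] A := SGA3b.powConv R A n

lemma pw_def (n : ℕ) : pw R A n = ((WithConv.toConv (AlgHom.id R A)) ^ n).ofConv := rfl

lemma pw_zero_apply (a : A) : pw R A 0 a = algebraMap R A (Coalgebra.counit (R := R) a) := by
  rw [pw_def, pow_zero]
  rfl

lemma pw_one : pw R A 1 = AlgHom.id R A := by
  rw [pw_def, pow_one, WithConv.ofConv_toConv]

lemma pw_comp (m n : ℕ) : (pw R A m).comp (pw R A n) = pw R A (m * n) := by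
  have h := comp_pow (pw R A m) (WithConv.toConv (AlgHom.id R A)) n
  rw [WithConv.ofConv_toConv, AlgHom.comp_id] at h
  have h2 : WithConv.toConv (pw R A m) = (WithConv.toConv (AlgHom.id R A)) ^ m := rfl
  rw [h2, ← pow_mul] at h
  exact h

lemma pw_mod (p : ℕ) (hp : (WithConv.toConv (AlgHom.id R A)) ^ p = 1) (n : ℕ) :
    pw R A n = pw R A (n % p) := by
  rw [pw_def, pw_def, pow_eq_pow_mod n hp]

lemma counit_pw (n : ℕ) (a : A) :
    Coalgebra.counit (R := R) (pw R A n a) = Coalgebra.counit (R := R) a := by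
  have h := comp_pow (Bialgebra.counitAlgHom R A) (WithConv.toConv (AlgHom.id R A)) n
  rw [WithConv.ofConv_toConv, AlgHom.comp_id] at h
  have h1 : WithConv.toConv (Bialgebra.counitAlgHom R A) = (1 : WithConv (A →ₐ[R] R)) := by
    apply WithConv.ext
    apply AlgHom.ext
    intro b
    rfl
  rw [h1, one_pow] at h
  have h2 := congrArg (fun f : A →ₐ[R] R => f a) h
  exact h2

end Pw

section Act

variable (R : Type u) [CommRing R] (A : Type u) [CommRing A] [HopfAlgebra R A]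
  {p : ℕ} [Fact p.Prime]

/-- the action of a unit of `ZMod p` -/
noncomputable def act (m : (ZMod p)ˣ) : A →ₐ[R] A := pw R A (m : ZMod p).val

lemma act_one : act R A (1 : (ZMod p)ˣ) = AlgHom.id R A := by
  haveI : Fact (1 < p) := ⟨(Fact.out : p.Prime).one_lt⟩
  unfold act
  rw [Units.val_one, ZMod.val_one, pw_one]

variable {R A}

lemma act_mul (hp : (WithConv.toConv (AlgHom.id R A)) ^ p = 1) (m n : (ZMod p)ˣ) :
    act R A (m * n) = (act R A m).comp (act R A n) := by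
  unfold act
  rw [pw_comp, Units.val_mul, ZMod.val_mul, ← pw_mod R A p hp]

lemma counit_act (m : (ZMod p)ˣ) (a : A) :
    Coalgebra.counit (R := R) (act R A m a) = Coalgebra.counit (R := R) a :=
  counit_pw R A _ a

end Act

section Chars

variable {R : Type u} [CommRing R] {p : ℕ} [Fact p.Prime] (u : R) (χ : (ZMod p)ˣ →* Rˣ)

/-- the orthogonality scalar -/
noncomputable def cc (i j : ℕ) : R :=
  u * ∑ m : (ZMod p)ˣ, ((χ m⁻¹ : Rˣ) : R) ^ i * ((χ m : Rˣ) : R) ^ j

lemma chi_pow (m : (ZMod p)ˣ) : ((χ m : Rˣ) : R) ^ (p - 1) = 1 := by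
  have h1 : m ^ (p - 1) = 1 := by
    rw [← ZMod.card_units p]
    exact pow_card_eq_one
  rw [← Units.val_pow_eq_pow_val, ← map_pow, h1, map_one, Units.val_one]

lemma pow_eq_of_modEq {x : R} {n : ℕ} (hx : x ^ n = 1) {i j : ℕ} (h : i ≡ j [MOD n]) :
    x ^ i = x ^ j := by
  rw [pow_eq_pow_mod i hx, pow_eq_pow_mod j hx, (show i % n = j % n from h)]

lemma chi_inv_mul (m : (ZMod p)ˣ) : ((χ m⁻¹ : Rˣ) : R) * ((χ m : Rˣ) : R) = 1 := by
  rw [← Units.val_mul, ← map_mul, inv_mul_cancel, map_one, Units.val_one]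

lemma cc_eq_one (hu : u * ((p - 1 : ℕ) : R) = 1) {i j : ℕ} (h : i ≡ j [MOD p - 1]) :
    cc u χ i j = 1 := by
  unfold cc
  have h1 : ∀ m : (ZMod p)ˣ, ((χ m⁻¹ : Rˣ) : R) ^ i * ((χ m : Rˣ) : R) ^ j = 1 := by
    intro m
    rw [pow_eq_of_modEq (chi_pow χ m⁻¹) h, ← mul_pow, chi_inv_mul, one_pow]
  rw [Finset.sum_congr rfl (fun m _ => h1 m), Finset.sum_const, Finset.card_univ, ZMod.card_units,
    nsmul_eq_mul, mul_one]
  exact hu

lemma exists_isUnit_sub_one (hχ : ∀ m : (ZMod p)ˣ, m ≠ 1 → IsUnit ((χ m : R) - 1)) {i j : ℕ}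
    (h : ¬ i ≡ j [MOD p - 1]) :
    ∃ g : (ZMod p)ˣ, IsUnit (((χ g⁻¹ : Rˣ) : R) ^ i * ((χ g : Rˣ) : R) ^ j - 1) := by
  obtain ⟨g, hg⟩ := IsCyclic.exists_generator (α := (ZMod p)ˣ)
  have hord : orderOf g = p - 1 := by
    rw [orderOf_eq_card_of_forall_mem_zpowers hg, Nat.card_eq_fintype_card, ZMod.card_units]
  refine ⟨g, ?_⟩
  have hne : g⁻¹ ^ i * g ^ j ≠ 1 := by
    intro h1
    apply h
    rw [inv_pow, inv_mul_eq_one] at h1
    rw [← hord]
    exact pow_eq_pow_iff_modEq.1 h1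
  have h2 := hχ _ hne
  rw [map_mul, map_pow, map_pow, Units.val_mul, Units.val_pow_eq_pow_val,
    Units.val_pow_eq_pow_val] at h2
  exact h2

lemma cc_eq_zero (hχ : ∀ m : (ZMod p)ˣ, m ≠ 1 → IsUnit ((χ m : R) - 1)) {i j : ℕ}
    (h : ¬ i ≡ j [MOD p - 1]) : cc u χ i j = 0 := by
  obtain ⟨g, hg⟩ := exists_isUnit_sub_one χ hχ h
  unfold cc
  obtain ⟨F, hF⟩ : ∃ F : (ZMod p)ˣ → R,
      ∀ m, F m = ((χ m⁻¹ : Rˣ) : R) ^ i * ((χ m : Rˣ) : R) ^ j := ⟨_, fun _ => rfl⟩
  have hmul : ∀ m, F (g * m) = F g * F m := by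
    intro m
    simp only [hF, mul_inv, map_mul, Units.val_mul, mul_pow]
    ring
  have h2 : F g * ∑ m, F m = ∑ m, F m := by
    rw [Finset.mul_sum]
    calc ∑ m, F g * F m = ∑ m, F (g * m) :=
          Finset.sum_congr rfl (fun m _ => (hmul m).symm)
      _ = ∑ m, F m := Equiv.sum_comp (Equiv.mulLeft g) F
  have h3 : (F g - 1) * ∑ m, F m = 0 := by rw [sub_mul, one_mul, h2, sub_self]
  rw [hF g] at h3
  have h4 := (hg.mul_right_eq_zero).1 h3
  rw [Finset.sum_congr rfl (fun m _ => (hF m).symm), h4, mul_zero]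

lemma sum_pow_eq_zero (hχ : ∀ m : (ZMod p)ˣ, m ≠ 1 → IsUnit ((χ m : R) - 1)) (m : (ZMod p)ˣ)
    (hm : m ≠ 1) : ∑ i ∈ Finset.range (p - 1), ((χ m : Rˣ) : R) ^ i = 0 := by
  have h1 := geom_sum_mul ((χ m : Rˣ) : R) (p - 1)
  rw [chi_pow χ m, sub_self] at h1
  exact ((hχ m hm).mul_left_eq_zero).1 h1

lemma not_modEq_of_lt {n i j : ℕ} (hi : i < n) (hj : j < n) (hij : i ≠ j) : ¬ i ≡ j [MOD n] := by
  intro h
  apply hij
  have h' : i % n = j % n := h
  rwa [Nat.mod_eq_of_lt hi, Nat.mod_eq_of_lt hj] at h'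

end Chars

section Proj

variable {R : Type u} [CommRing R] {A : Type u} [CommRing A] [HopfAlgebra R A]
  {p : ℕ} [Fact p.Prime] (u : R) (χ : (ZMod p)ˣ →* Rˣ)

lemma e_apply (i : ℕ) (a : A) : OortTate.proj R A p u χ i a =
    u • ∑ m : (ZMod p)ˣ, (((χ m⁻¹ : Rˣ) : R) ^ i) • act R A m a := by
  unfold OortTate.proj
  rw [LinearMap.smul_apply, LinearMap.sum_apply]
  rfl

lemma act_e (hp : (WithConv.toConv (AlgHom.id R A)) ^ p = 1) (i : ℕ) (n : (ZMod p)ˣ) (a : A) :
    act R A n (OortTate.proj R A p u χ i a) =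
      (((χ n : Rˣ) : R) ^ i) • OortTate.proj R A p u χ i a := by
  have hc : ∀ m : (ZMod p)ˣ, ((χ m⁻¹ : Rˣ) : R) ^ i =
      ((χ n : Rˣ) : R) ^ i * ((χ (n * m)⁻¹ : Rˣ) : R) ^ i := by
    intro m
    rw [← mul_pow, ← Units.val_mul, ← map_mul, mul_inv, ← mul_assoc, mul_inv_cancel, one_mul]
  calc act R A n (OortTate.proj R A p u χ i a)
      = u • ∑ m : (ZMod p)ˣ, (((χ m⁻¹ : Rˣ) : R) ^ i) • act R A (n * m) a := by
        rw [e_apply, map_smul, map_sum]
        congr 1
        apply Finset.sum_congr rfl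
        intro m _
        simp only [map_smul, act_mul hp n m, AlgHom.comp_apply]
    _ = u • ∑ m : (ZMod p)ˣ, (((χ n : Rˣ) : R) ^ i * ((χ (n * m)⁻¹ : Rˣ) : R) ^ i) •
          act R A (n * m) a := by
        congr 1
        apply Finset.sum_congr rfl
        intro m _
        rw [← hc m]
    _ = u • ∑ m : (ZMod p)ˣ, (((χ n : Rˣ) : R) ^ i * ((χ m⁻¹ : Rˣ) : R) ^ i) • act R A m a := by
        congr 1
        exact Equiv.sum_comp (Equiv.mulLeft n)
          (fun m => (((χ n : Rˣ) : R) ^ i * ((χ m⁻¹ : Rˣ) : R) ^ i) • act R A m a)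
    _ = (((χ n : Rˣ) : R) ^ i) • OortTate.proj R A p u χ i a := by
        rw [e_apply, smul_comm (((χ n : Rˣ) : R) ^ i) u]
        congr 1
        rw [Finset.smul_sum]
        apply Finset.sum_congr rfl
        intro m _
        rw [mul_smul]

lemma e_comm_act (hp : (WithConv.toConv (AlgHom.id R A)) ^ p = 1) (i : ℕ) (n : (ZMod p)ˣ) (a : A) :
    OortTate.proj R A p u χ i (act R A n a) = act R A n (OortTate.proj R A p u χ i a) := by
  rw [e_apply, e_apply, map_smul, map_sum]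
  congr 1
  apply Finset.sum_congr rfl
  intro m _
  rw [map_smul]
  congr 1
  have h1 : act R A m (act R A n a) = act R A (m * n) a := by
    rw [act_mul hp]
    rfl
  have h2 : act R A n (act R A m a) = act R A (n * m) a := by
    rw [act_mul hp]
    rfl
  rw [h1, h2, mul_comm]

lemma e_of_eigen (i j : ℕ) (a : A)
    (ha : ∀ m : (ZMod p)ˣ, act R A m a = (((χ m : Rˣ) : R) ^ j) • a) :
    OortTate.proj R A p u χ i a = cc u χ i j • a := by
  rw [e_apply]
  unfold cc
  rw [mul_smul, Finset.sum_smul]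
  congr 1
  apply Finset.sum_congr rfl
  intro m _
  rw [ha m, mul_smul]

lemma counit_e_eq_zero (i : ℕ) (a : A) (ha : Coalgebra.counit (R := R) a = 0) :
    Coalgebra.counit (R := R) (OortTate.proj R A p u χ i a) = 0 := by
  rw [e_apply, map_smul, map_sum, Finset.sum_eq_zero, smul_zero]
  intro m _
  rw [map_smul, counit_act, ha, smul_zero]

lemma mem_eigenAug (i : ℕ) (a : A) : a ∈ OortTate.eigenAug R A p χ i ↔
    Coalgebra.counit (R := R) a = 0 ∧
      ∀ m : (ZMod p)ˣ, act R A m a = (((χ m : Rˣ) : R) ^ i) • a := by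
  unfold OortTate.eigenAug
  rw [Submodule.mem_inf, LinearMap.mem_ker, Submodule.mem_iInf]
  constructor
  · rintro ⟨h1, h2⟩
    exact ⟨h1, fun m => Module.End.mem_eigenspace_iff.1 (h2 m)⟩
  · rintro ⟨h1, h2⟩
    exact ⟨h1, fun m => Module.End.mem_eigenspace_iff.2 (h2 m)⟩

lemma mem_ker_counit (a : A) : a ∈ LinearMap.ker (Bialgebra.counitAlgHom R A).toLinearMap ↔
    Coalgebra.counit (R := R) a = 0 := LinearMap.mem_ker

lemma e_mem (hp : (WithConv.toConv (AlgHom.id R A)) ^ p = 1) (i : ℕ) (a : A)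
    (ha : Coalgebra.counit (R := R) a = 0) :
    OortTate.proj R A p u χ i a ∈ OortTate.eigenAug R A p χ i := by
  rw [mem_eigenAug]
  exact ⟨counit_e_eq_zero u χ i a ha, fun m => act_e u χ hp i m a⟩

lemma e_eq_self (hu : u * ((p - 1 : ℕ) : R) = 1) {i j : ℕ} (hij : i ≡ j [MOD p - 1]) (a : A)
    (ha : a ∈ OortTate.eigenAug R A p χ j) : OortTate.proj R A p u χ i a = a := by
  rw [mem_eigenAug] at ha
  rw [e_of_eigen u χ i j a ha.2, cc_eq_one u χ hu hij, one_smul]

lemma e_eq_zero (hχ : ∀ m : (ZMod p)ˣ, m ≠ 1 → IsUnit ((χ m : R) - 1)) {i j : ℕ}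
    (hij : ¬ i ≡ j [MOD p - 1]) (a : A)
    (ha : a ∈ OortTate.eigenAug R A p χ j) : OortTate.proj R A p u χ i a = 0 := by
  rw [mem_eigenAug] at ha
  rw [e_of_eigen u χ i j a ha.2, cc_eq_zero u χ hχ hij, zero_smul]

lemma sum_e (hu : u * ((p - 1 : ℕ) : R) = 1)
    (hχ : ∀ m : (ZMod p)ˣ, m ≠ 1 → IsUnit ((χ m : R) - 1)) (a : A) :
    ∑ i ∈ Finset.range (p - 1), OortTate.proj R A p u χ i a = a := by
  have h1 : ∀ m : (ZMod p)ˣ, ∑ i ∈ Finset.range (p - 1),
      (((χ m⁻¹ : Rˣ) : R) ^ i) • act R A m a =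
        (if m = 1 then ((p - 1 : ℕ) : R) else 0) • act R A m a := by
    intro m
    rw [← Finset.sum_smul]
    congr 1
    split_ifs with hm
    · rw [hm, inv_one, map_one, Units.val_one]
      simp only [one_pow]
      rw [Finset.sum_const, Finset.card_range, nsmul_eq_mul, mul_one]
    · exact sum_pow_eq_zero χ hχ m⁻¹ (fun h => hm (inv_eq_one.1 h))
  calc ∑ i ∈ Finset.range (p - 1), OortTate.proj R A p u χ i a
      = ∑ i ∈ Finset.range (p - 1), u • ∑ m : (ZMod p)ˣ,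
          (((χ m⁻¹ : Rˣ) : R) ^ i) • act R A m a :=
        Finset.sum_congr rfl (fun i _ => e_apply u χ i a)
    _ = u • ∑ m : (ZMod p)ˣ, ∑ i ∈ Finset.range (p - 1),
          (((χ m⁻¹ : Rˣ) : R) ^ i) • act R A m a := by
        rw [← Finset.smul_sum, Finset.sum_comm]
    _ = u • ∑ m : (ZMod p)ˣ, (if m = 1 then ((p - 1 : ℕ) : R) else 0) • act R A m a := by
        rw [Finset.sum_congr rfl (fun m _ => h1 m)]
    _ = a := by
        rw [Finset.sum_eq_single (1 : (ZMod p)ˣ)]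
        · rw [if_pos rfl, act_one, AlgHom.coe_id, id_eq, smul_smul, hu, one_smul]
        · intro m _ hm
          rw [if_neg hm, zero_smul]
        · intro h
          exact absurd (Finset.mem_univ _) h

/-- **Eigenspace decomposition of the augmentation ideal.** -/
theorem decomposition (hu : u * ((p - 1 : ℕ) : R) = 1)
    (hχ : ∀ m : (ZMod p)ˣ, m ≠ 1 → IsUnit ((χ m : R) - 1))
    (hp : (WithConv.toConv (AlgHom.id R A)) ^ p = 1) :
    iSupIndep (fun i : Fin (p - 1) => OortTate.eigenAug R A p χ (i : ℕ)) ∧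
      (⨆ i : Fin (p - 1), OortTate.eigenAug R A p χ (i : ℕ)) =
        LinearMap.ker (Bialgebra.counitAlgHom R A).toLinearMap ∧
      ∀ i : ℕ, OortTate.eigenAug R A p χ i =
        Submodule.map (OortTate.proj R A p u χ i)
          (LinearMap.ker (Bialgebra.counitAlgHom R A).toLinearMap) := by
  refine ⟨?_, ?_, ?_⟩
  · rw [iSupIndep_def]
    intro i
    rw [Submodule.disjoint_def]
    intro a ha ha'
    have h1 : OortTate.proj R A p u χ (i : ℕ) a = a := e_eq_self u χ hu (Nat.ModEq.refl _) a ha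
    have h2 : (⨆ (j : Fin (p - 1)) (_ : j ≠ i), OortTate.eigenAug R A p χ (j : ℕ)) ≤
        LinearMap.ker (OortTate.proj R A p u χ (i : ℕ)) := by
      apply iSup_le
      intro j
      apply iSup_le
      intro hj b hb
      rw [LinearMap.mem_ker]
      exact e_eq_zero u χ hχ (not_modEq_of_lt i.2 j.2 (fun h => hj (Fin.ext h.symm))) b hb
    have h3 := h2 ha'
    rw [LinearMap.mem_ker, h1] at h3
    exact h3
  · apply le_antisymm
    · apply iSup_le
      intro i
      exact inf_le_left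
    · intro a ha
      rw [mem_ker_counit] at ha
      rw [← sum_e u χ hu hχ a, ← Fin.sum_univ_eq_sum_range]
      apply Submodule.sum_mem
      intro i _
      exact Submodule.mem_iSup_of_mem i (e_mem u χ hp (i : ℕ) a ha)
  · intro i
    apply le_antisymm
    · intro a ha
      refine ⟨a, ?_, e_eq_self u χ hu (Nat.ModEq.refl _) a ha⟩
      rw [SetLike.mem_coe, mem_ker_counit]
      exact ((mem_eigenAug χ i a).1 ha).1
    · rintro _ ⟨b, hb, rfl⟩
      rw [SetLike.mem_coe, mem_ker_counit] at hb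
      exact e_mem u χ hp i b hb

end Proj

end Groth.Agent.Lib.Helper19.OT
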