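import Mathlib
import Groth.Prelude.Def_W4c5ffgsreadingcourseOT
import Groth.Prelude.Def_CartDual
import Groth.Agent.Lib.Helper19.OT1

/-!
# Oort–Tate II: the power maps of the dual Hopf algebra are the transposes, and the duality of the
eigenspaces (helper19)
-/

set_option autoImplicit false
universe u

open TensorProduct

namespace Groth.Agent.Lib.Helper19.OT

open CartDual

section Lin

variable (R : Type u) [CommRing R] (A : Type u) [CommRing A] [HopfAlgebra R A]

lemma pw_toLinearMap (n : ℕ) : (pw R A n).toLinearMap =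
    ((WithConv.toConv (LinearMap.id : A →ₗ[R] A)) ^ n).ofConv := by
  have h := AlgHom.toLinearMap_convPow (WithConv.toConv (AlgHom.id R A)) n
  exact congrArg WithConv.ofConv h

lemma pw_apply_eq (n : ℕ) (a : A) : pw R A n a =
    ((WithConv.toConv (LinearMap.id : A →ₗ[R] A)) ^ n).ofConv a :=
  LinearMap.congr_fun (pw_toLinearMap R A n) a

end Lin

section Transpose

variable (R : Type u) [CommRing R] (A : Type u) [CommRing A] [HopfAlgebra R A]
  [Module.Finite R A] [Module.Projective R A]

/-- convolution powers of the identity of the dual are the transposes -/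
theorem convPow_dual (n : ℕ) (ξ : D R A) (a : A) :
    (((WithConv.toConv (LinearMap.id : D R A →ₗ[R] D R A)) ^ n).ofConv ξ).ofConv a =
      ξ.ofConv (((WithConv.toConv (LinearMap.id : A →ₗ[R] A)) ^ n).ofConv a) := by
  induction n generalizing ξ a with
  | zero =>
    rw [pow_zero, pow_zero]
    have h1 : ((1 : WithConv (D R A →ₗ[R] D R A)).ofConv ξ).ofConv a =
        ξ.ofConv 1 • algebraMap R R (Coalgebra.counit (R := R) a) := rfl
    have h2 : (1 : WithConv (A →ₗ[R] A)).ofConv a =
        algebraMap R A (Coalgebra.counit (R := R) a) := rfl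
    rw [h1, h2, Algebra.algebraMap_self_apply, Algebra.algebraMap_eq_smul_one, map_smul,
      smul_eq_mul, smul_eq_mul, mul_comm]
  | succ n ih =>
    have G : ∀ t : D R A ⊗[R] D R A,
        (LinearMap.mul' R (D R A) (TensorProduct.map
          ((WithConv.toConv (LinearMap.id : D R A →ₗ[R] D R A)) ^ n).ofConv LinearMap.id
            t)).ofConv a =
          ev₂ R A t (TensorProduct.map
            ((WithConv.toConv (LinearMap.id : A →ₗ[R] A)) ^ n).ofConv LinearMap.id
              (Coalgebra.comul (R := R) a)) := by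
      intro t
      induction t using TensorProduct.induction_on with
      | zero => simp only [map_zero, WithConv.ofConv_zero, LinearMap.zero_apply]
      | add t₁ t₂ h₁ h₂ =>
        simp only [map_add, WithConv.ofConv_add, LinearMap.add_apply, h₁, h₂]
      | tmul ξ' ξ'' =>
        rw [TensorProduct.map_tmul, LinearMap.mul'_apply, LinearMap.id_apply,
          LinearMap.convMul_apply]
        generalize Coalgebra.comul (R := R) a = s
        induction s using TensorProduct.induction_on with
        | zero => simp only [map_zero]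
        | add s₁ s₂ h₁ h₂ => simp only [map_add, h₁, h₂]
        | tmul b c =>
          rw [TensorProduct.map_tmul, LinearMap.mul'_apply, TensorProduct.map_tmul,
            LinearMap.id_apply, ev₂_tmul, ih ξ' b]
    have h3 : ev₂ R A (Coalgebra.comul (R := R) ξ) = ξ.ofConv ∘ₗ LinearMap.mul' R A :=
      CartDual.ev₂_comul R A ξ
    rw [pow_succ, pow_succ, LinearMap.convMul_apply, LinearMap.convMul_apply,
      WithConv.ofConv_toConv, WithConv.ofConv_toConv, G, h3, LinearMap.comp_apply]

variable [Coalgebra.IsCocomm R A]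

lemma pw_dual (n : ℕ) (ξ : D R A) (a : A) :
    (pw R (D R A) n ξ).ofConv a = ξ.ofConv (pw R A n a) := by
  rw [pw_apply_eq, pw_apply_eq]
  exact convPow_dual R A n ξ a

variable {p : ℕ} [Fact p.Prime]

lemma act_dual (m : (ZMod p)ˣ) (ξ : D R A) (a : A) :
    (act R (D R A) m ξ).ofConv a = ξ.ofConv (act R A m a) :=
  pw_dual R A _ ξ a

variable (u : R) (χ : (ZMod p)ˣ →* Rˣ)

lemma proj_dual (i : ℕ) (ξ : D R A) (a : A) :
    (OortTate.proj R (D R A) p u χ i ξ).ofConv a = ξ.ofConv (OortTate.proj R A p u χ i a) := by
  rw [e_apply, e_apply, WithConv.ofConv_smul, WithConv.ofConv_sum, LinearMap.smul_apply,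
    LinearMap.sum_apply, map_smul, map_sum]
  congr 1
  apply Finset.sum_congr rfl
  intro m _
  rw [WithConv.ofConv_smul, LinearMap.smul_apply, map_smul, act_dual]

/-- **Duality of the eigenspaces.** -/
theorem dual_restrict_bijective (hu : u * ((p - 1 : ℕ) : R) = 1)
    (hp : (WithConv.toConv (AlgHom.id R A)) ^ p = 1) (i : ℕ) :
    Function.Bijective (fun f : OortTate.eigenAug R (D R A) p χ i =>
      ((toDual R A) (f : D R A)).comp (OortTate.eigenAug R A p χ i).subtype) := by
  -- the projection onto the augmentation ideal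
  obtain ⟨π₀, hπ₀⟩ : ∃ π₀ : A →ₗ[R] A, ∀ a, π₀ a = a - algebraMap R A (Coalgebra.counit (R := R) a) :=
    ⟨LinearMap.id - Algebra.linearMap R A ∘ₗ (Coalgebra.counit (R := R) (A := A)), fun _ => rfl⟩
  have hπ₀c : ∀ a, Coalgebra.counit (R := R) (π₀ a) = 0 := by
    intro a
    rw [hπ₀, map_sub, Bialgebra.counit_algebraMap, sub_self]
  have hmem : ∀ a, OortTate.proj R A p u χ i (π₀ a) ∈ OortTate.eigenAug R A p χ i :=
    fun a => e_mem u χ hp i _ (hπ₀c a)
  -- evaluation of elements of the dual eigenspace
  have key : ∀ f : D R A, f ∈ OortTate.eigenAug R (D R A) p χ i → ∀ a : A,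
      f.ofConv a = f.ofConv (OortTate.proj R A p u χ i (π₀ a)) := by
    intro f hf a
    have h1 : OortTate.proj R (D R A) p u χ i f = f :=
      e_eq_self u χ hu (Nat.ModEq.refl _) f hf
    have hf1 : f.ofConv 1 = 0 := ((mem_eigenAug χ i f).1 hf).1
    have h2 : ∀ b : A, f.ofConv (OortTate.proj R A p u χ i b) = f.ofConv b := by
      intro b
      rw [← proj_dual, h1]
    have h3 : a = π₀ a + algebraMap R A (Coalgebra.counit (R := R) a) := by
      rw [hπ₀, sub_add_cancel]
    have h4 : f.ofConv (algebraMap R A (Coalgebra.counit (R := R) a)) = 0 := by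
      rw [Algebra.algebraMap_eq_smul_one, map_smul, hf1, smul_zero]
    rw [h2]
    conv_lhs => rw [h3]
    rw [map_add, h4, add_zero]
  constructor
  · intro f g hfg
    apply Subtype.ext
    apply WithConv.ext
    apply LinearMap.ext
    intro a
    rw [key f f.2 a, key g g.2 a]
    exact LinearMap.congr_fun hfg ⟨_, hmem a⟩
  · intro φ
    obtain ⟨q, hq⟩ : ∃ q : A →ₗ[R] OortTate.eigenAug R A p χ i,
        ∀ a, ((q a : OortTate.eigenAug R A p χ i) : A) = OortTate.proj R A p u χ i (π₀ a) :=
      ⟨LinearMap.codRestrict _ ((OortTate.proj R A p u χ i) ∘ₗ π₀) hmem, fun _ => rfl⟩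
    have hfmem : WithConv.toConv (φ ∘ₗ q) ∈ OortTate.eigenAug R (D R A) p χ i := by
      rw [mem_eigenAug]
      constructor
      · show φ (q 1) = 0
        have h1 : q 1 = 0 := by
          apply Subtype.ext
          rw [hq, hπ₀, Bialgebra.counit_one, map_one, sub_self, map_zero]
          rfl
        rw [h1, map_zero]
      · intro m
        apply WithConv.ext
        apply LinearMap.ext
        intro a
        rw [act_dual, WithConv.ofConv_smul, LinearMap.smul_apply]
        show φ (q (act R A m a)) = _ • φ (q a)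
        rw [← map_smul, ← map_smul]
        congr 1
        apply Subtype.ext
        rw [hq, hq]
        have h1 : π₀ (act R A m a) = act R A m (π₀ a) := by
          rw [hπ₀, hπ₀, map_sub, counit_act, AlgHom.commutes]
        rw [h1, e_comm_act u χ hp, act_e u χ hp, map_smul, map_smul]
    refine ⟨⟨WithConv.toConv (φ ∘ₗ q), hfmem⟩, ?_⟩
    apply LinearMap.ext
    intro x
    show φ (q (x : A)) = φ x
    congr 1
    apply Subtype.ext
    rw [hq, hπ₀, ((mem_eigenAug χ i (x : A)).1 x.2).1, map_zero, sub_zero]
    exact e_eq_self u χ hu (Nat.ModEq.refl _) _ x.2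

end Transpose

end Groth.Agent.Lib.Helper19.OT
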