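import Mathlib
import Groth.Prelude.Def_W4c5ffgsreadingcourseOT
import Groth.Agent.Lib.Helper19.OT1

/-!
# Oort–Tate III: the group algebra of `ℤ/p` (the Hopf algebra of `μ_p`), part 1 (helper19)

The elements `y_i`, their eigenspaces, linear independence and span.
-/

set_option autoImplicit false
universe u

open TensorProduct

namespace Groth.Agent.Lib.Helper19.OT

section GroupLike

variable {R : Type u} [CommRing R] {A : Type u} [CommRing A] [HopfAlgebra R A]

lemma pw_groupLike {z : A} (hz : IsGroupLikeElem R z) (n : ℕ) : pw R A n z = z ^ n := by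
  induction n with
  | zero => rw [pw_zero_apply, hz.counit_eq_one, map_one, pow_zero]
  | succ n ih =>
    have h : pw R A (n + 1) z =
        ((WithConv.toConv (AlgHom.id R A)) ^ n * WithConv.toConv (AlgHom.id R A)).ofConv z := by
      rw [pw_def, pow_succ]
    rw [h, AlgHom.convMul_apply, hz.comul_eq_tmul_self, Algebra.TensorProduct.lift_tmul,
      WithConv.ofConv_toConv, AlgHom.coe_id, id_eq, pow_succ]
    exact congrArg (fun y => y * z) ih

end GroupLike

section Congr

variable {R : Type u} [CommRing R] {A : Type u} [CommRing A] [HopfAlgebra R A]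
  {p : ℕ} [Fact p.Prime] (u : R) (χ : (ZMod p)ˣ →* Rˣ)

lemma proj_congr {i j : ℕ} (h : i ≡ j [MOD p - 1]) :
    OortTate.proj R A p u χ i = OortTate.proj R A p u χ j := by
  unfold OortTate.proj
  congr 1
  apply Finset.sum_congr rfl
  intro m _
  rw [pow_eq_of_modEq (chi_pow χ m⁻¹) h]

lemma eigenAug_congr {i j : ℕ} (h : i ≡ j [MOD p - 1]) :
    OortTate.eigenAug R A p χ i = OortTate.eigenAug R A p χ j := by
  ext a
  rw [mem_eigenAug, mem_eigenAug]
  constructor
  · rintro ⟨h1, h2⟩
    refine ⟨h1, fun m => ?_⟩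
    rw [h2 m, pow_eq_of_modEq (chi_pow χ m) h]
  · rintro ⟨h1, h2⟩
    refine ⟨h1, fun m => ?_⟩
    rw [h2 m, pow_eq_of_modEq (chi_pow χ m) h]

lemma modEq_self_sub_one : p ≡ 1 [MOD p - 1] := by
  have h1 : 1 ≤ p := (Fact.out : p.Prime).one_lt.le
  exact ((Nat.modEq_iff_dvd' h1).2 (dvd_refl _)).symm

lemma modEq_zero_sub_one : 0 ≡ p - 1 [MOD p - 1] := by
  exact ((Nat.modEq_iff_dvd' (Nat.zero_le _)).2 (by simp))

end Congr

section GrpAlg

variable (R : Type u) [CommRing R] (p : ℕ) [Fact p.Prime]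

/-- the group algebra of `ℤ/p` -/
abbrev B : Type u := MonoidAlgebra R (Multiplicative (ZMod p))

/-- the basis element `T ^ a` -/
noncomputable def tt (a : ZMod p) : B R p :=
  MonoidAlgebra.of R (Multiplicative (ZMod p)) (Multiplicative.ofAdd a)

lemma tt_zero : tt R p 0 = 1 := map_one _

lemma muT_eq : OortTate.muT R p = tt R p 1 := rfl

lemma tt_pow (a : ZMod p) (n : ℕ) : tt R p a ^ n = tt R p ((n : ZMod p) * a) := by
  unfold tt
  rw [← map_pow, ← ofAdd_nsmul, nsmul_eq_mul]

lemma isGroupLike_tt (a : ZMod p) : IsGroupLikeElem R (tt R p a) :=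
  MonoidAlgebra.isGroupLikeElem_of _

lemma counit_tt (a : ZMod p) : Coalgebra.counit (R := R) (tt R p a) = 1 :=
  (isGroupLike_tt R p a).counit_eq_one

lemma pw_tt (n : ℕ) (a : ZMod p) : pw R (B R p) n (tt R p a) = tt R p ((n : ZMod p) * a) := by
  rw [pw_groupLike (isGroupLike_tt R p a), tt_pow]

lemma act_tt (m : (ZMod p)ˣ) (a : ZMod p) :
    act R (B R p) m (tt R p a) = tt R p ((m : ZMod p) * a) := by
  unfold act
  rw [pw_tt, ZMod.natCast_zmod_val]

lemma single_eq_tt (g : Multiplicative (ZMod p)) :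
    (MonoidAlgebra.single g (1 : R) : B R p) = tt R p (Multiplicative.toAdd g) := rfl

lemma of_eq_tt (g : Multiplicative (ZMod p)) :
    (MonoidAlgebra.of R (Multiplicative (ZMod p)) g : B R p) = tt R p (Multiplicative.toAdd g) :=
  rfl

lemma hpB : (WithConv.toConv (AlgHom.id R (B R p))) ^ p = 1 := by
  apply WithConv.ext
  apply MonoidAlgebra.algHom_ext
  · intro g
    have h1 : ((WithConv.toConv (AlgHom.id R (B R p))) ^ p).ofConv (MonoidAlgebra.single g 1) =
        pw R (B R p) p (tt R p (Multiplicative.toAdd g)) := rfl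
    have h2 : (1 : WithConv (B R p →ₐ[R] B R p)).ofConv (MonoidAlgebra.single g 1) =
        algebraMap R (B R p) (Coalgebra.counit (R := R) (tt R p (Multiplicative.toAdd g))) := rfl
    rw [h1, h2, pw_tt, ZMod.natCast_self, zero_mul, tt_zero, counit_tt, map_one]
  · apply AlgHom.ext
    intro r
    exact (AlgHom.commutes _ r).trans (AlgHom.commutes _ r).symm

/-- the coefficient of `T` -/
noncomputable def coef1 : B R p →ₗ[R] R :=
  (Finsupp.lapply (Multiplicative.ofAdd (1 : ZMod p))) ∘ₗ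
    (MonoidAlgebra.coeffLinearEquiv R).toLinearMap

lemma coef1_tt (a : ZMod p) : coef1 R p (tt R p a) = if a = 1 then 1 else 0 := by
  show (MonoidAlgebra.single (Multiplicative.ofAdd a) (1 : R)).coeff
    (Multiplicative.ofAdd (1 : ZMod p)) = _
  rw [MonoidAlgebra.coeff_single, Finsupp.single_apply]
  by_cases h : a = 1
  · rw [if_pos h, if_pos (by rw [h])]
  · rw [if_neg h, if_neg (fun h' => h (Multiplicative.ofAdd.injective h'))]

lemma coef1_one : coef1 R p (1 : B R p) = 0 := by
  rw [← tt_zero, coef1_tt, if_neg zero_ne_one]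

variable {R p} (u : R) (χ : (ZMod p)ˣ →* Rˣ)

lemma ygen_eq (i : ℕ) : OortTate.ygen R p u χ i =
    u • ∑ m : (ZMod p)ˣ, (((χ m⁻¹ : Rˣ) : R) ^ i) • (tt R p (m : ZMod p) - 1) := by
  show OortTate.proj R (B R p) p u χ i (OortTate.muT R p - 1) = _
  rw [e_apply]
  congr 1
  apply Finset.sum_congr rfl
  intro m _
  rw [map_sub, map_one, muT_eq, act_tt, mul_one]

lemma coef1_ygen (i : ℕ) : coef1 R p (OortTate.ygen R p u χ i) = u := by
  rw [ygen_eq, map_smul, map_sum, Finset.sum_eq_single (1 : (ZMod p)ˣ)]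
  · rw [map_smul, map_sub, coef1_tt, coef1_one, Units.val_one, if_pos rfl, inv_one, map_one,
      Units.val_one, one_pow, sub_zero, smul_eq_mul, smul_eq_mul, mul_one, mul_one]
  · intro m _ hm
    have h1 : ((m : (ZMod p)ˣ) : ZMod p) ≠ 1 := fun h => hm (Units.ext h)
    rw [map_smul, map_sub, coef1_tt, coef1_one, if_neg h1, sub_zero, smul_zero]
  · intro h
    exact absurd (Finset.mem_univ _) h

lemma counit_muT_sub_one : Coalgebra.counit (R := R) (OortTate.muT R p - 1) = 0 := by
  rw [map_sub, muT_eq, counit_tt, Bialgebra.counit_one, sub_self]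

lemma ygen_mem (i : ℕ) : OortTate.ygen R p u χ i ∈ OortTate.eigenAug R (B R p) p χ i :=
  e_mem u χ (hpB R p) i _ counit_muT_sub_one

lemma proj_tt_sub_one (i : ℕ) (n : (ZMod p)ˣ) :
    OortTate.proj R (B R p) p u χ i (tt R p (n : ZMod p) - 1) =
      (((χ n : Rˣ) : R) ^ i) • OortTate.ygen R p u χ i := by
  have h1 : tt R p (n : ZMod p) - 1 = act R (B R p) n (OortTate.muT R p - 1) := by
    rw [map_sub, map_one, muT_eq, act_tt, mul_one]
  rw [h1, e_comm_act u χ (hpB R p), act_e u χ (hpB R p)]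

/-- the projection onto the augmentation ideal -/
noncomputable def pi0 (R : Type u) [CommRing R] (A : Type u) [CommRing A] [HopfAlgebra R A] :
    A →ₗ[R] A :=
  LinearMap.id - Algebra.linearMap R A ∘ₗ (Coalgebra.counit (R := R) (A := A))

lemma pi0_apply {A : Type u} [CommRing A] [HopfAlgebra R A] (a : A) :
    pi0 R A a = a - algebraMap R A (Coalgebra.counit (R := R) a) := rfl

lemma counit_pi0 {A : Type u} [CommRing A] [HopfAlgebra R A] (a : A) :
    Coalgebra.counit (R := R) (pi0 R A a) = 0 := by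
  rw [pi0_apply, map_sub, Bialgebra.counit_algebraMap, sub_self]

lemma pi0_of_counit {A : Type u} [CommRing A] [HopfAlgebra R A] (a : A)
    (ha : Coalgebra.counit (R := R) a = 0) : pi0 R A a = a := by
  rw [pi0_apply, ha, map_zero, sub_zero]

lemma proj_pi0_mem_span (i : ℕ) (z : B R p) :
    OortTate.proj R (B R p) p u χ i (pi0 R (B R p) z) ∈
      Submodule.span R {OortTate.ygen R p u χ i} := by
  induction z using MonoidAlgebra.induction_on with
  | of g =>
    rw [of_eq_tt, pi0_apply, counit_tt, map_one]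
    by_cases ha : Multiplicative.toAdd g = 0
    · rw [ha, tt_zero, sub_self, map_zero]
      exact Submodule.zero_mem _
    · have h1 : ((Units.mk0 (Multiplicative.toAdd g) ha : (ZMod p)ˣ) : ZMod p) =
          Multiplicative.toAdd g := rfl
      rw [← h1, proj_tt_sub_one]
      exact Submodule.smul_mem _ _ (Submodule.mem_span_singleton_self _)
  | add x y hx hy =>
    rw [map_add, map_add]
    exact Submodule.add_mem _ hx hy
  | smul r x hx =>
    rw [map_smul, map_smul]
    exact Submodule.smul_mem _ _ hx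

lemma eigen_eq_span (hu : u * ((p - 1 : ℕ) : R) = 1) (i : ℕ) :
    OortTate.eigenAug R (B R p) p χ i = Submodule.span R {OortTate.ygen R p u χ i} := by
  apply le_antisymm
  · intro x hx
    have h1 : OortTate.proj R (B R p) p u χ i x = x :=
      e_eq_self u χ hu (Nat.ModEq.refl _) x hx
    have h2 : pi0 R (B R p) x = x := pi0_of_counit x ((mem_eigenAug χ i x).1 hx).1
    rw [← h1, ← h2]
    exact proj_pi0_mem_span u χ i x
  · rw [Submodule.span_le, Set.singleton_subset_iff]
    exact ygen_mem u χ i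

lemma ker_eq_span (hu : u * ((p - 1 : ℕ) : R) = 1)
    (hχ : ∀ m : (ZMod p)ˣ, m ≠ 1 → IsUnit ((χ m : R) - 1)) :
    Submodule.span R (Set.range (fun i : Fin (p - 1) => OortTate.ygen R p u χ (i : ℕ))) =
      LinearMap.ker (Bialgebra.counitAlgHom R (B R p)).toLinearMap := by
  rw [← (decomposition (A := B R p) u χ hu hχ (hpB R p)).2.1, Submodule.span_range_eq_iSup]
  apply iSup_congr
  intro i
  rw [eigen_eq_span u χ hu]

lemma smul_ygen_eq_zero (hu : u * ((p - 1 : ℕ) : R) = 1) (i : ℕ) (r : R)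
    (h : r • OortTate.ygen R p u χ i = 0) : r = 0 := by
  have h1 := congrArg (coef1 R p) h
  rw [map_smul, coef1_ygen, map_zero, smul_eq_mul] at h1
  calc r = r * (u * ((p - 1 : ℕ) : R)) := by rw [hu, mul_one]
    _ = (r * u) * ((p - 1 : ℕ) : R) := by ring
    _ = 0 := by rw [h1, zero_mul]

lemma linearIndependent_ygen (hu : u * ((p - 1 : ℕ) : R) = 1)
    (hχ : ∀ m : (ZMod p)ˣ, m ≠ 1 → IsUnit ((χ m : R) - 1)) :
    LinearIndependent R (fun i : Fin (p - 1) => OortTate.ygen R p u χ (i : ℕ)) := by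
  rw [Fintype.linearIndependent_iff]
  intro g hg j
  have h1 := congrArg (OortTate.proj R (B R p) p u χ (j : ℕ)) hg
  rw [map_sum, map_zero, Finset.sum_eq_single j] at h1
  · rw [map_smul, e_eq_self u χ hu (Nat.ModEq.refl _) _ (ygen_mem u χ (j : ℕ))] at h1
    exact smul_ygen_eq_zero u χ hu _ _ h1
  · intro i _ hij
    rw [map_smul, e_eq_zero u χ hχ (not_modEq_of_lt j.2 i.2 (fun h => hij (Fin.ext h.symm))) _
      (ygen_mem u χ (i : ℕ)), smul_zero]
  · intro h
    exact absurd (Finset.mem_univ _) h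

lemma pow_ygen_mem (t : ℕ) (ht : 1 ≤ t) :
    OortTate.ygen R p u χ 1 ^ t ∈ OortTate.eigenAug R (B R p) p χ t := by
  have h1 := (mem_eigenAug χ 1 _).1 (ygen_mem u χ 1)
  rw [mem_eigenAug]
  constructor
  · have h2 : Coalgebra.counit (R := R) (OortTate.ygen R p u χ 1 ^ t) =
        (Coalgebra.counit (R := R) (OortTate.ygen R p u χ 1)) ^ t :=
      map_pow (Bialgebra.counitAlgHom R (B R p)) _ t
    rw [h2, h1.1, zero_pow (by omega)]
  · intro m
    rw [map_pow, h1.2 m, smul_pow, pow_one]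

theorem exists_w (hu : u * ((p - 1 : ℕ) : R) = 1) (t : ℕ) (ht : 1 ≤ t) :
    ∃ w : R, OortTate.ygen R p u χ 1 ^ t = w • OortTate.ygen R p u χ t := by
  have h1 := pow_ygen_mem u χ t ht
  rw [eigen_eq_span u χ hu, Submodule.mem_span_singleton] at h1
  obtain ⟨w, hw⟩ := h1
  exact ⟨w, hw.symm⟩

end GrpAlg

end Groth.Agent.Lib.Helper19.OT
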