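import Mathlib
import Groth.Prelude.Def_W4c5ffgsreadingcourseOT
import Groth.Agent.Lib.Helper19.OT3
import Groth.Agent.Lib.Helper19.PrimeOrder

/-!
# Oort–Tate IV: the group algebra of `ℤ/p`, part 2: `y_1 ^ t = w_t y_t` with `w_t` a unit
(helper19)
-/

set_option autoImplicit false
universe u

open TensorProduct

namespace Groth.Agent.Lib.Helper19.OT

section BaseChange

variable {R : Type u} [CommRing R] {k : Type u} [CommRing k] (φ : R →+* k) (p : ℕ)
  [Fact p.Prime]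

/-- base change of the group algebra -/
noncomputable def Phi : B R p →+* B k p :=
  MonoidAlgebra.mapRingHom (Multiplicative (ZMod p)) φ

lemma Phi_tt (a : ZMod p) : Phi φ p (tt R p a) = tt k p a := by
  show MonoidAlgebra.mapRingHom _ φ (MonoidAlgebra.single (Multiplicative.ofAdd a) (1 : R)) =
    MonoidAlgebra.single (Multiplicative.ofAdd a) (1 : k)
  rw [MonoidAlgebra.mapRingHom_single, map_one]

lemma Phi_algebraMap (r : R) :
    Phi φ p (algebraMap R (B R p) r) = algebraMap k (B k p) (φ r) := by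
  show MonoidAlgebra.mapRingHom _ φ (MonoidAlgebra.single 1 r) = MonoidAlgebra.single 1 (φ r)
  rw [MonoidAlgebra.mapRingHom_single]

lemma Phi_smul (r : R) (x : B R p) : Phi φ p (r • x) = φ r • Phi φ p x := by
  rw [Algebra.smul_def, map_mul, Phi_algebraMap, ← Algebra.smul_def]

/-- base change of the character -/
noncomputable def chiMap (χ : (ZMod p)ˣ →* Rˣ) : (ZMod p)ˣ →* kˣ :=
  (Units.map (φ : R →* k)).comp χ

lemma chiMap_apply (χ : (ZMod p)ˣ →* Rˣ) (m : (ZMod p)ˣ) :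
    ((chiMap φ p χ m : kˣ) : k) = φ ((χ m : Rˣ) : R) := rfl

lemma Phi_ygen (u : R) (χ : (ZMod p)ˣ →* Rˣ) (i : ℕ) :
    Phi φ p (OortTate.ygen R p u χ i) = OortTate.ygen k p (φ u) (chiMap φ p χ) i := by
  rw [ygen_eq, ygen_eq, Phi_smul, map_sum]
  congr 1
  apply Finset.sum_congr rfl
  intro m _
  rw [Phi_smul, map_sub, Phi_tt, map_one, map_pow, chiMap_apply]

lemma hu_map {u : R} (hu : u * ((p - 1 : ℕ) : R) = 1) : φ u * ((p - 1 : ℕ) : k) = 1 := by
  rw [← map_natCast φ, ← map_mul, hu, map_one]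

lemma hχ_map (χ : (ZMod p)ˣ →* Rˣ)
    (hχ : ∀ m : (ZMod p)ˣ, m ≠ 1 → IsUnit ((χ m : R) - 1)) :
    ∀ m : (ZMod p)ˣ, m ≠ 1 → IsUnit ((chiMap φ p χ m : k) - 1) := by
  intro m hm
  have h := (hχ m hm).map φ
  rw [map_sub, map_one] at h
  exact h

lemma hχp_map (χ : (ZMod p)ˣ →* Rˣ)
    (hχp : ∀ m : (ZMod p)ˣ, ((χ m : Rˣ) : R) - (((m : ZMod p).val : ℕ) : R) ∈
      Ideal.span ({(p : R)} : Set R)) :
    ∀ m : (ZMod p)ˣ, ((chiMap φ p χ m : kˣ) : k) - (((m : ZMod p).val : ℕ) : k) ∈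
      Ideal.span ({(p : k)} : Set k) := by
  intro m
  have h := hχp m
  rw [Ideal.mem_span_singleton] at h ⊢
  have h2 := map_dvd φ h
  rw [map_sub, map_natCast, map_natCast] at h2
  exact h2

end BaseChange

section Field

variable {k : Type u} [Field k] {p : ℕ} [Fact p.Prime] (u : k) (χ : (ZMod p)ˣ →* kˣ)

lemma ygen_ne_zero (hu : u * ((p - 1 : ℕ) : k) = 1) (i : ℕ) : OortTate.ygen k p u χ i ≠ 0 := by
  intro h
  have h1 := smul_ygen_eq_zero u χ hu i 1 (by rw [one_smul, h])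
  exact one_ne_zero h1

lemma pow_ne_zero_of_ne (hu : u * ((p - 1 : ℕ) : k) = 1) (h0 : ((p : ℕ) : k) ≠ 0) (t : ℕ) :
    OortTate.ygen k p u χ 1 ^ t ≠ 0 := by
  haveI : Module.Finite k (B k p) :=
    Module.Finite.of_basis (MonoidAlgebra.basis (Multiplicative (ZMod p)) k)
  haveI : IsReduced (B k p) := PrimeOrder.isReduced_of_finrank_ne_zero k (B k p)
    (by rw [PrimeOrder.finrank_monoidAlgebra_zmod]; exact h0)
  exact pow_ne_zero t (ygen_ne_zero u χ hu 1)

lemma pow_ne_zero_of_eq (hu : u * ((p - 1 : ℕ) : k) = 1)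
    (hχp : ∀ m : (ZMod p)ˣ, ((χ m : kˣ) : k) - (((m : ZMod p).val : ℕ) : k) ∈
      Ideal.span ({(p : k)} : Set k))
    (h0 : ((p : ℕ) : k) = 0) (t : ℕ) (ht : t ≤ p - 1) :
    OortTate.ygen k p u χ 1 ^ t ≠ 0 := by
  classical
  have hp : p.Prime := Fact.out
  have hp2 := hp.two_le
  haveI : CharP k p := by
    haveI := ringChar.charP k
    have hdvd : ringChar k ∣ p := (CharP.cast_eq_zero_iff k (ringChar k) p).1 h0
    rcases (Nat.dvd_prime hp).1 hdvd with h1 | h1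
    · exact absurd h1 CharP.ringChar_ne_one
    · rw [← h1]
      infer_instance
  have hχv : ∀ m : (ZMod p)ˣ, ((χ m : kˣ) : k) = (((m : ZMod p).val : ℕ) : k) := by
    intro m
    have h := hχp m
    rw [h0, Ideal.mem_span_singleton, zero_dvd_iff] at h
    exact sub_eq_zero.1 h
  have hc : ∀ a : ZMod p, ((a.val : ℕ) : k) = ZMod.castHom (dvd_refl p) k a := by
    intro a
    rw [ZMod.castHom_apply, ZMod.natCast_val]
  obtain ⟨I, hI⟩ : ∃ I : Ideal (Polynomial k), I = Ideal.span {(Polynomial.X : Polynomial k) ^ p} :=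
    ⟨_, rfl⟩
  obtain ⟨mkA, hmkA⟩ : ∃ mkA : Polynomial k →ₐ[k] Polynomial k ⧸ I,
      ∀ q, mkA q = Ideal.Quotient.mk I q := ⟨Ideal.Quotient.mkₐ k I, fun _ => rfl⟩
  obtain ⟨x, hx⟩ : ∃ x : Polynomial k ⧸ I, x = mkA (1 + Polynomial.X) := ⟨_, rfl⟩
  have hXp : mkA ((Polynomial.X : Polynomial k) ^ p) = 0 := by
    rw [hmkA, Ideal.Quotient.eq_zero_iff_mem, hI]
    exact Ideal.mem_span_singleton_self _
  have hxp : x ^ p = 1 := by
    rw [hx, ← map_pow, add_pow_char, one_pow, map_add, map_one, hXp, add_zero]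
  obtain ⟨f, hf⟩ : ∃ f : Multiplicative (ZMod p) →* (Polynomial k ⧸ I),
      ∀ g, f g = x ^ (Multiplicative.toAdd g).val :=
    ⟨{ toFun := fun g => x ^ (Multiplicative.toAdd g).val
       map_one' := by rw [toAdd_one, ZMod.val_zero, pow_zero]
       map_mul' := fun g h => by
        rw [toAdd_mul, ZMod.val_add, ← pow_eq_pow_mod _ hxp, pow_add] }, fun _ => rfl⟩
  obtain ⟨ψ, hψ⟩ : ∃ ψ : B k p →ₐ[k] (Polynomial k ⧸ I),
      ∀ a : ZMod p, ψ (tt k p a) = x ^ a.val :=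
    ⟨MonoidAlgebra.lift k _ _ f, fun a =>
      (MonoidAlgebra.lift_of f (Multiplicative.ofAdd a)).trans (hf _)⟩
  obtain ⟨V, hV⟩ : ∃ V : Polynomial k, V = u • ∑ m : (ZMod p)ˣ, ((χ m⁻¹ : kˣ) : k) •
      ∑ j ∈ Finset.range ((m : ZMod p).val), (1 + Polynomial.X) ^ j := ⟨_, rfl⟩
  have hgeo : ∀ n : ℕ, mkA ((∑ j ∈ Finset.range n, (1 + Polynomial.X) ^ j) * Polynomial.X) =
      x ^ n - 1 := by
    intro n
    have h1 := geom_sum_mul (1 + (Polynomial.X : Polynomial k)) n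
    rw [add_sub_cancel_left] at h1
    rw [h1, map_sub, map_pow, map_one, hx]
  have hψy : ψ (OortTate.ygen k p u χ 1) = mkA (V * Polynomial.X) := by
    rw [hV, smul_mul_assoc, Finset.sum_mul, map_smul, map_sum, ygen_eq, map_smul, map_sum]
    congr 1
    apply Finset.sum_congr rfl
    intro m _
    have e1 : ψ ((((χ m⁻¹ : kˣ) : k) ^ 1) • (tt k p (m : ZMod p) - 1)) =
        ((χ m⁻¹ : kˣ) : k) • (x ^ (m : ZMod p).val - 1) := by
      rw [map_smul, map_sub, map_one, hψ, pow_one]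
    have e2 : mkA ((((χ m⁻¹ : kˣ) : k) • ∑ j ∈ Finset.range (m : ZMod p).val,
        (1 + Polynomial.X) ^ j) * Polynomial.X) =
        ((χ m⁻¹ : kˣ) : k) • (x ^ (m : ZMod p).val - 1) := by
      rw [smul_mul_assoc, map_smul, hgeo]
    rw [e1, e2]
  have hV0 : V.coeff 0 = 1 := by
    have h1 : ∀ m : (ZMod p)ˣ, Polynomial.eval 0 (((χ m⁻¹ : kˣ) : k) •
        ∑ j ∈ Finset.range (m : ZMod p).val, (1 + (Polynomial.X : Polynomial k)) ^ j) = 1 := by
      intro m
      rw [Polynomial.eval_smul, Polynomial.eval_finsetSum]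
      simp only [Polynomial.eval_pow, Polynomial.eval_add, Polynomial.eval_one, Polynomial.eval_X,
        add_zero, one_pow]
      rw [Finset.sum_const, Finset.card_range, nsmul_eq_mul, mul_one, smul_eq_mul, hχv, hc, hc,
        ← map_mul, ← Units.val_mul, inv_mul_cancel, Units.val_one, map_one]
    rw [Polynomial.coeff_zero_eq_eval_zero, hV, Polynomial.eval_smul, Polynomial.eval_finsetSum,
      Finset.sum_congr rfl (fun m _ => h1 m), Finset.sum_const, Finset.card_univ,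
      ZMod.card_units, nsmul_eq_mul, mul_one, smul_eq_mul, hu]
  intro hy
  have h1 : mkA ((V * Polynomial.X) ^ t) = 0 := by
    rw [map_pow, ← hψy, ← map_pow, hy, map_zero]
  rw [hmkA, Ideal.Quotient.eq_zero_iff_mem, hI, Ideal.mem_span_singleton] at h1
  have h2 : (Polynomial.X : Polynomial k) ^ p = Polynomial.X ^ t * Polynomial.X ^ (p - t) := by
    rw [← pow_add]
    congr 1
    omega
  rw [mul_pow, mul_comm (V ^ t), h2] at h1
  have h3 : (Polynomial.X : Polynomial k) ^ (p - t) ∣ V ^ t :=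
    (mul_dvd_mul_iff_left (pow_ne_zero t Polynomial.X_ne_zero)).1 h1
  have h4 : (Polynomial.X : Polynomial k) ∣ V ^ t :=
    dvd_trans (dvd_pow_self _ (by omega)) h3
  rw [Polynomial.X_dvd_iff, Polynomial.coeff_zero_eq_eval_zero, Polynomial.eval_pow,
    ← Polynomial.coeff_zero_eq_eval_zero, hV0, one_pow] at h4
  exact one_ne_zero h4

lemma pow_ne_zero_field (hu : u * ((p - 1 : ℕ) : k) = 1)
    (hχp : ∀ m : (ZMod p)ˣ, ((χ m : kˣ) : k) - (((m : ZMod p).val : ℕ) : k) ∈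
      Ideal.span ({(p : k)} : Set k))
    (t : ℕ) (ht : t ≤ p - 1) : OortTate.ygen k p u χ 1 ^ t ≠ 0 := by
  by_cases h0 : ((p : ℕ) : k) = 0
  · exact pow_ne_zero_of_eq u χ hu hχp h0 t ht
  · exact pow_ne_zero_of_ne u χ hu h0 t

end Field

section Main

variable {R : Type u} [CommRing R] {p : ℕ} [Fact p.Prime] (u : R) (χ : (ZMod p)ˣ →* Rˣ)

theorem isUnit_w (hu : u * ((p - 1 : ℕ) : R) = 1)
    (hχp : ∀ m : (ZMod p)ˣ, ((χ m : Rˣ) : R) - (((m : ZMod p).val : ℕ) : R) ∈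
      Ideal.span ({(p : R)} : Set R))
    (t : ℕ) (ht : t ≤ p - 1) (w : R)
    (hw : OortTate.ygen R p u χ 1 ^ t = w • OortTate.ygen R p u χ t) : IsUnit w := by
  by_contra hnu
  obtain ⟨𝔪, hmax, hwm⟩ := exists_max_ideal_of_mem_nonunits (mem_nonunits_iff.2 hnu)
  haveI := hmax
  letI : Field (R ⧸ 𝔪) := Ideal.Quotient.field 𝔪
  have h1 := congrArg (Phi (Ideal.Quotient.mk 𝔪) p) hw
  rw [map_pow, Phi_ygen, Phi_smul, Phi_ygen,
    (Ideal.Quotient.eq_zero_iff_mem.2 hwm : Ideal.Quotient.mk 𝔪 w = 0), zero_smul] at h1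
  exact pow_ne_zero_field (Ideal.Quotient.mk 𝔪 u) (chiMap (Ideal.Quotient.mk 𝔪) p χ)
    (hu_map (Ideal.Quotient.mk 𝔪) p hu) (hχp_map (Ideal.Quotient.mk 𝔪) p χ hχp) t ht h1

theorem main473 (hu : u * ((p - 1 : ℕ) : R) = 1)
    (hχ : ∀ m : (ZMod p)ˣ, m ≠ 1 → IsUnit ((χ m : R) - 1))
    (hχp : ∀ m : (ZMod p)ˣ, ((χ m : Rˣ) : R) - (((m : ZMod p).val : ℕ) : R) ∈
      Ideal.span ({(p : R)} : Set R)) :
    LinearIndependent R (fun i : Fin (p - 1) => OortTate.ygen R p u χ (i : ℕ)) ∧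
      Submodule.span R (Set.range (fun i : Fin (p - 1) => OortTate.ygen R p u χ (i : ℕ))) =
        LinearMap.ker (Bialgebra.counitAlgHom R
          (MonoidAlgebra R (Multiplicative (ZMod p)))).toLinearMap ∧
      Algebra.adjoin R
        ({OortTate.ygen R p u χ 1} : Set (MonoidAlgebra R (Multiplicative (ZMod p)))) = ⊤ ∧
      ∃! w : R, OortTate.ygen R p u χ 1 ^ p = w • OortTate.ygen R p u χ 1 := by
  refine ⟨linearIndependent_ygen u χ hu hχ, ker_eq_span u χ hu hχ, ?_, ?_⟩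
  · rw [Algebra.eq_top_iff]
    have hp2 : 2 ≤ p := (Fact.out : p.Prime).two_le
    obtain ⟨S, hS⟩ : ∃ S : Subalgebra R (B R p),
        S = Algebra.adjoin R {OortTate.ygen R p u χ 1} := ⟨_, rfl⟩
    rw [← hS]
    have hy1 : OortTate.ygen R p u χ 1 ∈ S := by
      rw [hS]
      exact Algebra.subset_adjoin rfl
    have hyt : ∀ t, 1 ≤ t → t ≤ p - 1 → OortTate.ygen R p u χ t ∈ S := by
      intro t ht1 ht
      obtain ⟨w, hw⟩ := exists_w u χ hu t ht1
      obtain ⟨w', hw'⟩ := (isUnit_w u χ hu hχp t ht w hw).exists_left_inv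
      have h1 : OortTate.ygen R p u χ t = w' • OortTate.ygen R p u χ 1 ^ t := by
        rw [hw, smul_smul, hw', one_smul]
      rw [h1]
      exact S.smul_mem (S.pow_mem hy1 t) w'
    have hyi : ∀ i : Fin (p - 1), OortTate.ygen R p u χ (i : ℕ) ∈ S := by
      intro i
      by_cases hi : (i : ℕ) = 0
      · have h1 : OortTate.ygen R p u χ (i : ℕ) = OortTate.ygen R p u χ (p - 1) := by
          rw [hi]
          show OortTate.proj R (B R p) p u χ 0 _ = OortTate.proj R (B R p) p u χ (p - 1) _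
          rw [proj_congr u χ modEq_zero_sub_one]
        rw [h1]
        exact hyt (p - 1) (by omega) le_rfl
      · exact hyt i (by omega) (by have := i.2; omega)
    have hker : LinearMap.ker (Bialgebra.counitAlgHom R (B R p)).toLinearMap ≤
        Subalgebra.toSubmodule S := by
      rw [← ker_eq_span u χ hu hχ, Submodule.span_le]
      rintro _ ⟨i, rfl⟩
      exact hyi i
    intro x
    have h1 : x = pi0 R (B R p) x + algebraMap R (B R p) (Coalgebra.counit (R := R) x) := by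
      rw [pi0_apply, sub_add_cancel]
    rw [h1]
    exact S.add_mem (hker ((mem_ker_counit _).2 (counit_pi0 x))) (S.algebraMap_mem _)
  · obtain ⟨w, hw⟩ := exists_w u χ hu p (Fact.out : p.Prime).one_lt.le
    have h1 : OortTate.ygen R p u χ p = OortTate.ygen R p u χ 1 := by
      show OortTate.proj R (B R p) p u χ p _ = OortTate.proj R (B R p) p u χ 1 _
      rw [proj_congr u χ modEq_self_sub_one]
    rw [h1] at hw
    refine ⟨w, hw, ?_⟩
    intro w' hw'
    have h2 : (w' - w) • OortTate.ygen R p u χ 1 = 0 := by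
      rw [sub_smul, ← hw, ← hw', sub_self]
    exact sub_eq_zero.1 (smul_ygen_eq_zero u χ hu 1 _ h2)

end Main

end Groth.Agent.Lib.Helper19.OT
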