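import Mathlib
import Groth.Prelude.Def_W4c5ffgsreadingcourseOT
import Groth.Agent.Lib.Helper19.OT2
import Groth.Agent.Lib.Helper19.OT4

/-!
# Oort–Tate V: `I_1 ^ t = I_t` (helper19)

The group algebra of `ℤ/p` maps to the convolution algebra of linear endomorphisms of a
commutative Hopf algebra killed by `p` (`T ↦ id`); transporting `y_1 ^ t = w_t y_t` gives
`I_1 ^ t = I_t` for `1 ≤ t ≤ p - 1`.
-/

set_option autoImplicit false
universe u

open TensorProduct

namespace Groth.Agent.Lib.Helper19.OT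

/-- powers of an element of order dividing `p`, as a monoid hom from `ℤ/p` -/
noncomputable def zmodPowHom {M : Type*} [Monoid M] (p : ℕ) [NeZero p] (x : M) (hx : x ^ p = 1) :
    Multiplicative (ZMod p) →* M where
  toFun g := x ^ (Multiplicative.toAdd g).val
  map_one' := by rw [toAdd_one, ZMod.val_zero, pow_zero]
  map_mul' g h := by rw [toAdd_mul, ZMod.val_add, ← pow_eq_pow_mod _ hx, pow_add]

lemma zmodPowHom_apply {M : Type*} [Monoid M] (p : ℕ) [NeZero p] (x : M) (hx : x ^ p = 1)
    (g : Multiplicative (ZMod p)) : zmodPowHom p x hx g = x ^ (Multiplicative.toAdd g).val := rfl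

section ConvAlg

variable (R : Type u) [CommRing R] (A : Type u) [CommRing A] [HopfAlgebra R A]

/-- the identity, in the convolution algebra of linear endomorphisms -/
noncomputable def LL : WithConv (A →ₗ[R] A) := WithConv.toConv LinearMap.id

lemma LL_pow_apply (n : ℕ) (a : A) : ((LL R A) ^ n).ofConv a = pw R A n a :=
  (pw_apply_eq R A n a).symm

variable {R A}

lemma LL_pow_p {p : ℕ} (hp : (WithConv.toConv (AlgHom.id R A)) ^ p = 1) : (LL R A) ^ p = 1 := by
  have h := AlgHom.toLinearMap_convPow (WithConv.toConv (AlgHom.id R A)) p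
  rw [hp, AlgHom.toLinearMap_convOne] at h
  exact h.symm

variable {p : ℕ} [Fact p.Prime]

/-- the algebra map from the group algebra of `ℤ/p` to the convolution algebra, `T ↦ id` -/
noncomputable def phi (hp : (WithConv.toConv (AlgHom.id R A)) ^ p = 1) :
    B R p →ₐ[R] WithConv (A →ₗ[R] A) :=
  MonoidAlgebra.lift R _ _ (zmodPowHom p (LL R A) (LL_pow_p hp))

lemma phi_tt (hp : (WithConv.toConv (AlgHom.id R A)) ^ p = 1) (a : ZMod p) :
    phi hp (tt R p a) = (LL R A) ^ a.val :=
  MonoidAlgebra.lift_of _ _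

lemma phi_tt_apply (hp : (WithConv.toConv (AlgHom.id R A)) ^ p = 1) (a : ZMod p) (x : A) :
    (phi hp (tt R p a)).ofConv x = pw R A a.val x := by
  rw [phi_tt, LL_pow_apply]

lemma phi_tt_sub_one (hp : (WithConv.toConv (AlgHom.id R A)) ^ p = 1) (m : (ZMod p)ˣ) (x : A) :
    (phi hp (tt R p (m : ZMod p) - 1)).ofConv x = act R A m (pi0 R A x) := by
  rw [map_sub, map_one, WithConv.ofConv_sub, LinearMap.sub_apply, phi_tt_apply, pi0_apply,
    map_sub, AlgHom.commutes]
  rfl

/-- the image of `y_i` is the projector onto `I_i` -/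
theorem phi_ygen (hp : (WithConv.toConv (AlgHom.id R A)) ^ p = 1) (u : R)
    (χ : (ZMod p)ˣ →* Rˣ) (i : ℕ) (x : A) :
    (phi hp (OortTate.ygen R p u χ i)).ofConv x = OortTate.proj R A p u χ i (pi0 R A x) := by
  have h1 : phi hp (OortTate.ygen R p u χ i) =
      u • ∑ m : (ZMod p)ˣ, (((χ m⁻¹ : Rˣ) : R) ^ i) • phi hp (tt R p (m : ZMod p) - 1) := by
    rw [ygen_eq, map_smul, map_sum]
    congr 1
    apply Finset.sum_congr rfl
    intro m _
    rw [map_smul]
  rw [h1, WithConv.ofConv_smul, WithConv.ofConv_sum, LinearMap.smul_apply, LinearMap.sum_apply,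
    e_apply]
  congr 1
  apply Finset.sum_congr rfl
  intro m _
  rw [WithConv.ofConv_smul, LinearMap.smul_apply, phi_tt_sub_one]

end ConvAlg

section Pow

variable {R : Type u} [CommRing R] {A : Type u} [CommRing A] [HopfAlgebra R A]

/-- if `f` takes values in `N` then `f ^ t` takes values in `N ^ t` -/
lemma convPow_mem_pow (f : WithConv (A →ₗ[R] A)) (N : Submodule R A)
    (hf : ∀ a, f.ofConv a ∈ N) (t : ℕ) (a : A) : (f ^ t).ofConv a ∈ N ^ t := by
  induction t generalizing a with
  | zero =>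
    rw [pow_zero, pow_zero]
    show algebraMap R A (Coalgebra.counit (R := R) a) ∈ (1 : Submodule R A)
    exact Submodule.algebraMap_mem _
  | succ t ih =>
    rw [pow_succ, pow_succ, LinearMap.convMul_apply]
    generalize Coalgebra.comul (R := R) a = s
    induction s using TensorProduct.induction_on with
    | zero =>
      rw [map_zero, map_zero]
      exact Submodule.zero_mem _
    | add s₁ s₂ h₁ h₂ =>
      rw [map_add, map_add]
      exact Submodule.add_mem _ h₁ h₂
    | tmul b c =>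
      rw [TensorProduct.map_tmul, LinearMap.mul'_apply]
      exact Submodule.mul_mem_mul (ih b) (hf c)

variable {p : ℕ} [Fact p.Prime] (χ : (ZMod p)ˣ →* Rˣ)

lemma mul_mem_eigenAug (i j : ℕ) {a b : A} (ha : a ∈ OortTate.eigenAug R A p χ i)
    (hb : b ∈ OortTate.eigenAug R A p χ j) : a * b ∈ OortTate.eigenAug R A p χ (i + j) := by
  rw [mem_eigenAug] at ha hb ⊢
  constructor
  · rw [Bialgebra.counit_mul, ha.1, zero_mul]
  · intro m
    rw [map_mul, ha.2 m, hb.2 m, smul_mul_smul_comm, pow_add]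

lemma pow_eigen_le (t : ℕ) (ht : 1 ≤ t) :
    OortTate.eigenAug R A p χ 1 ^ t ≤ OortTate.eigenAug R A p χ t := by
  induction t, ht using Nat.le_induction with
  | base => rw [pow_one]
  | succ t ht ih =>
    rw [pow_succ, Submodule.mul_le]
    intro a ha b hb
    exact mul_mem_eigenAug χ t 1 (ih ha) hb

/-- **`I_1 ^ t = I_t` for `1 ≤ t ≤ p - 1`.** -/
theorem pow_eigen_eq (u : R) (hu : u * ((p - 1 : ℕ) : R) = 1)
    (hχp : ∀ m : (ZMod p)ˣ, ((χ m : Rˣ) : R) - (((m : ZMod p).val : ℕ) : R) ∈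
      Ideal.span ({(p : R)} : Set R))
    (hp : (WithConv.toConv (AlgHom.id R A)) ^ p = 1) (t : ℕ) (ht1 : 1 ≤ t) (ht : t ≤ p - 1) :
    OortTate.eigenAug R A p χ 1 ^ t = OortTate.eigenAug R A p χ t := by
  apply le_antisymm (pow_eigen_le χ t ht1)
  intro a ha
  obtain ⟨w, hw⟩ := exists_w u χ hu t ht1
  obtain ⟨w', hw'⟩ := (isUnit_w u χ hu hχp t ht w hw).exists_left_inv
  have h1 : OortTate.ygen R p u χ t = w' • OortTate.ygen R p u χ 1 ^ t := by
    rw [hw, smul_smul, hw', one_smul]
  have h2 : a = OortTate.proj R A p u χ t (pi0 R A a) := by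
    rw [pi0_of_counit a ((mem_eigenAug χ t a).1 ha).1, e_eq_self u χ hu (Nat.ModEq.refl _) a ha]
  have h3 : ∀ x : A, (phi hp (OortTate.ygen R p u χ 1)).ofConv x ∈
      OortTate.eigenAug R A p χ 1 := by
    intro x
    rw [phi_ygen]
    exact e_mem u χ hp 1 _ (counit_pi0 x)
  rw [h2, ← phi_ygen hp, h1, map_smul, map_pow, WithConv.ofConv_smul, LinearMap.smul_apply]
  exact Submodule.smul_mem _ _ (convPow_mem_pow _ _ h3 t a)

end Pow

end Groth.Agent.Lib.Helper19.OT
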