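import Mathlib
import Groth.Prelude.Def_W4c5ffgsreadingcourseOT
import Groth.Prelude.Def_AlphaP
import Groth.Agent.Lib.Helper19.OT5
import Groth.Agent.Lib.Helper19.PrimeOrder
import Groth.Agent.Lib.Helper19.FinOrd3

/-!
# Oort–Tate VI: over an algebraically closed field `I_1` is at most one-dimensional (helper19)
-/

set_option autoImplicit false
universe u

open TensorProduct

namespace Groth.Agent.Lib.Helper19.OT

open Groth.Agent.Lib.Helper19 Groth.Agent.Lib.Helper19.ConvBC

section Transport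

variable {R : Type u} [CommRing R] {A : Type u} [CommRing A] [HopfAlgebra R A]
  {A' : Type u} [CommRing A'] [HopfAlgebra R A']

/-- bialgebra maps commute with the power maps -/
lemma map_pw (f : A →ₐc[R] A') (n : ℕ) (a : A) : f (pw R A n a) = pw R A' n (f a) := by
  have h1 := comp_pow (f : A →ₐ[R] A') (WithConv.toConv (AlgHom.id R A)) n
  have h2 := pow_comp f (WithConv.toConv (AlgHom.id R A')) n
  rw [WithConv.ofConv_toConv, AlgHom.comp_id] at h1
  rw [WithConv.ofConv_toConv, AlgHom.id_comp] at h2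
  exact congrArg (fun g : A →ₐ[R] A' => g a) (h1.trans h2.symm)

variable {p : ℕ} [Fact p.Prime] (χ : (ZMod p)ˣ →* Rˣ)

lemma map_mem_eigenAug (f : A →ₐc[R] A') (i : ℕ) {a : A}
    (ha : a ∈ OortTate.eigenAug R A p χ i) : f a ∈ OortTate.eigenAug R A' p χ i := by
  rw [mem_eigenAug] at ha ⊢
  constructor
  · rw [← ha.1]
    exact CoalgHomClass.counit_comp_apply f a
  · intro m
    have h : pw R A (m : ZMod p).val a = (((χ m : Rˣ) : R) ^ i) • a := ha.2 m
    show pw R A' (m : ZMod p).val (f a) = _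
    rw [← map_pw, h, map_smul]

lemma exists_le_span_of_bijective (f : A →ₐc[R] A') (hf : Function.Bijective f) (i : ℕ) (y : A')
    (hy : OortTate.eigenAug R A' p χ i ≤ Submodule.span R {y}) :
    ∃ x : A, OortTate.eigenAug R A p χ i ≤ Submodule.span R {x} := by
  obtain ⟨x, hx⟩ := hf.2 y
  refine ⟨x, fun a ha => ?_⟩
  have h1 := hy (map_mem_eigenAug χ f i ha)
  rw [Submodule.mem_span_singleton] at h1 ⊢
  obtain ⟨c, hc⟩ := h1
  refine ⟨c, hf.1 ?_⟩
  rw [map_smul, hx, hc]

end Transport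

section Reduced

variable {K : Type u} [Field K] [IsAlgClosed K] {A : Type u} [CommRing A] [HopfAlgebra K A]
  {p : ℕ} [Fact p.Prime]

lemma eq_zero_of_point (hA : Module.finrank K A = p) [IsReduced A] (χ : (ZMod p)ˣ →* Kˣ) (i : ℕ)
    (g₀ : WithConv (A →ₐ[K] K)) (hg₀ : g₀ ≠ 1) (f : A)
    (hf : f ∈ OortTate.eigenAug K A p χ i) (h0 : g₀.ofConv f = 0) : f = 0 := by
  haveI : Module.Finite K A :=
    Module.finite_of_finrank_pos (by rw [hA]; exact (Fact.out : p.Prime).pos)
  have hcard : Nat.card (WithConv (A →ₐ[K] K)) = p := by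
    rw [Nat.card_congr (WithConv.equiv _), EtaleConst.card_algHom_eq K A, hA]
  have hid : (WithConv.toConv (AlgHom.id K A)) ^ p = 1 := by
    have h := FinOrd.id_pow_finrank_eq_one K A
    rwa [hA] at h
  by_contra hne
  obtain ⟨g, hg⟩ := EtaleConst.exists_algHom_ne_zero K hne
  obtain ⟨n, hn⟩ := (Submonoid.mem_powers_iff _ _).1
    (mem_powers_of_prime_card hcard hg₀ : WithConv.toConv g ∈ Submonoid.powers g₀)
  have h1 : g₀.ofConv.comp (pw K A n) = (g₀ ^ n).ofConv := by
    have h := comp_pow g₀.ofConv (WithConv.toConv (AlgHom.id K A)) n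
    rw [WithConv.ofConv_toConv, AlgHom.comp_id, WithConv.toConv_ofConv] at h
    exact h
  have h2 : g f = g₀.ofConv (pw K A n f) := by
    have h := congrArg (fun h : A →ₐ[K] K => h f) h1
    rw [hn] at h
    exact h.symm
  rw [pw_mod K A p hid n] at h2
  have hf' := (mem_eigenAug χ i f).1 hf
  by_cases hnp : n % p = 0
  · rw [hnp, pw_zero_apply, hf'.1, map_zero, map_zero] at h2
    exact hg h2
  · have hlt : n % p < p := Nat.mod_lt _ (Fact.out : p.Prime).pos
    have hne0 : ((n % p : ℕ) : ZMod p) ≠ 0 := by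
      intro h
      rw [ZMod.natCast_eq_zero_iff] at h
      exact hnp (Nat.eq_zero_of_dvd_of_lt h hlt)
    have hval : ((Units.mk0 _ hne0 : (ZMod p)ˣ) : ZMod p).val = n % p :=
      ZMod.val_natCast_of_lt hlt
    have h3 : pw K A ((Units.mk0 _ hne0 : (ZMod p)ˣ) : ZMod p).val f =
        (((χ (Units.mk0 _ hne0) : Kˣ) : K) ^ i) • f := hf'.2 (Units.mk0 _ hne0)
    rw [hval] at h3
    rw [h3, map_smul, h0, smul_zero] at h2
    exact hg h2

end Reduced

section Alpha

variable {K : Type u} [Field K] {p : ℕ} [Fact p.Prime] [CharP K p]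

lemma pw_x (n : ℕ) : pw K (AlphaP.A p K) n (AlphaP.x p K) = (n : K) • AlphaP.x p K := by
  induction n with
  | zero => rw [pw_zero_apply, AlphaP.counit_x, map_zero, Nat.cast_zero, zero_smul]
  | succ n ih =>
    have h : pw K (AlphaP.A p K) (n + 1) (AlphaP.x p K) =
        ((WithConv.toConv (AlgHom.id K (AlphaP.A p K))) ^ n *
          WithConv.toConv (AlgHom.id K (AlphaP.A p K))).ofConv (AlphaP.x p K) := by
      rw [pw_def, pow_succ]
    have ih' : ((WithConv.toConv (AlgHom.id K (AlphaP.A p K))) ^ n).ofConv (AlphaP.x p K) =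
        (n : K) • AlphaP.x p K := ih
    rw [h, AlgHom.convMul_apply, AlphaP.comul_x, map_add, Algebra.TensorProduct.lift_tmul,
      Algebra.TensorProduct.lift_tmul, ih']
    simp only [map_one, mul_one, one_mul, AlgHom.coe_id, id_eq]
    rw [Nat.cast_succ, add_smul, one_smul]

lemma act_x_pow (χ : (ZMod p)ˣ →* Kˣ)
    (hχp : ∀ m : (ZMod p)ˣ, ((χ m : Kˣ) : K) - (((m : ZMod p).val : ℕ) : K) ∈
      Ideal.span ({(p : K)} : Set K)) (m : (ZMod p)ˣ) (j : ℕ) :
    act K (AlphaP.A p K) m (AlphaP.x p K ^ j) =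
      (((χ m : Kˣ) : K) ^ j) • AlphaP.x p K ^ j := by
  have hχv : ((χ m : Kˣ) : K) = (((m : ZMod p).val : ℕ) : K) := by
    have h := hχp m
    rw [CharP.cast_eq_zero K p, Ideal.mem_span_singleton, zero_dvd_iff] at h
    exact sub_eq_zero.1 h
  have h1 : act K (AlphaP.A p K) m (AlphaP.x p K) = ((χ m : Kˣ) : K) • AlphaP.x p K := by
    rw [hχv]
    exact pw_x _
  rw [map_pow, h1, smul_pow]

lemma counit_x_pow (j : ℕ) (hj : 1 ≤ j) :
    Coalgebra.counit (R := K) (AlphaP.x p K ^ j) = 0 := by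
  have h2 : Coalgebra.counit (R := K) (AlphaP.x p K ^ j) =
      (Coalgebra.counit (R := K) (AlphaP.x p K)) ^ j :=
    map_pow (Bialgebra.counitAlgHom K (AlphaP.A p K)) (AlphaP.x p K) j
  rw [h2, AlphaP.counit_x, zero_pow (by omega)]

lemma proj_pi0_mem_span_alpha (u : K) (χ : (ZMod p)ˣ →* Kˣ)
    (hχ : ∀ m : (ZMod p)ˣ, m ≠ 1 → IsUnit ((χ m : K) - 1))
    (hχp : ∀ m : (ZMod p)ˣ, ((χ m : Kˣ) : K) - (((m : ZMod p).val : ℕ) : K) ∈
      Ideal.span ({(p : K)} : Set K)) (z : AlphaP.A p K) :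
    OortTate.proj K (AlphaP.A p K) p u χ 1 (pi0 K (AlphaP.A p K) z) ∈
      Submodule.span K {AlphaP.x p K} := by
  obtain ⟨f, rfl⟩ := AlphaP.mk_surjective p K z
  induction f using Polynomial.induction_on' with
  | add f g hf hg =>
    rw [map_add, map_add, map_add]
    exact Submodule.add_mem _ hf hg
  | monomial n c =>
    have h1 : AlphaP.mk p K (Polynomial.monomial n c) = c • AlphaP.x p K ^ n := by
      rw [← AlphaP.aeval_x, Polynomial.aeval_monomial, ← Algebra.smul_def]
    rw [h1, map_smul, map_smul]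
    apply Submodule.smul_mem
    rcases Nat.eq_zero_or_pos n with rfl | hn
    · rw [pow_zero, pi0_apply, Bialgebra.counit_one, map_one, sub_self, map_zero]
      exact Submodule.zero_mem _
    · rw [pi0_of_counit _ (counit_x_pow n hn),
        e_of_eigen u χ 1 n _ (fun m => act_x_pow χ hχp m n)]
      by_cases h1n : n = 1
      · subst h1n
        rw [pow_one]
        exact Submodule.smul_mem _ _ (Submodule.mem_span_singleton_self _)
      · by_cases hnp : p ≤ n
        · rw [AlphaP.x_pow_of_le p K hnp, smul_zero]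
          exact Submodule.zero_mem _
        · have hnm : ¬ 1 ≡ n [MOD p - 1] := by
            intro h
            have hd := (Nat.modEq_iff_dvd' hn).1 h
            have := Nat.le_of_dvd (by omega) hd
            omega
          rw [cc_eq_zero u χ hχ hnm, zero_smul]
          exact Submodule.zero_mem _

lemma eigen_alpha_le (u : K) (χ : (ZMod p)ˣ →* Kˣ) (hu : u * ((p - 1 : ℕ) : K) = 1)
    (hχ : ∀ m : (ZMod p)ˣ, m ≠ 1 → IsUnit ((χ m : K) - 1))
    (hχp : ∀ m : (ZMod p)ˣ, ((χ m : Kˣ) : K) - (((m : ZMod p).val : ℕ) : K) ∈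
      Ideal.span ({(p : K)} : Set K)) :
    OortTate.eigenAug K (AlphaP.A p K) p χ 1 ≤ Submodule.span K {AlphaP.x p K} := by
  intro a ha
  have h1 : OortTate.proj K (AlphaP.A p K) p u χ 1 a = a :=
    e_eq_self u χ hu (Nat.ModEq.refl _) a ha
  have h2 : pi0 K (AlphaP.A p K) a = a := pi0_of_counit a ((mem_eigenAug χ 1 a).1 ha).1
  rw [← h1, ← h2]
  exact proj_pi0_mem_span_alpha u χ hχ hχp a

end Alpha

section Main

/-- **Over an algebraically closed field, `I_1` of a group scheme of order `p` is spanned by one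
element.** -/
theorem exists_eigen_le_span (K : Type u) [Field K] [IsAlgClosed K] (A : Type u) [CommRing A]
    [HopfAlgebra K A] {p : ℕ} [Fact p.Prime] (hA : Module.finrank K A = p) (u : K)
    (χ : (ZMod p)ˣ →* Kˣ) (hu : u * ((p - 1 : ℕ) : K) = 1)
    (hχ : ∀ m : (ZMod p)ˣ, m ≠ 1 → IsUnit ((χ m : K) - 1))
    (hχp : ∀ m : (ZMod p)ˣ, ((χ m : Kˣ) : K) - (((m : ZMod p).val : ℕ) : K) ∈
      Ideal.span ({(p : K)} : Set K)) :
    ∃ x : A, OortTate.eigenAug K A p χ 1 ≤ Submodule.span K {x} := by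
  have hpp : p.Prime := Fact.out
  haveI : Module.Finite K A := Module.finite_of_finrank_pos (by rw [hA]; exact hpp.pos)
  by_cases hred : IsReduced A
  · have hcard : Nat.card (WithConv (A →ₐ[K] K)) = p := by
      rw [Nat.card_congr (WithConv.equiv _), EtaleConst.card_algHom_eq K A, hA]
    haveI : Finite (WithConv (A →ₐ[K] K)) :=
      Nat.finite_of_card_ne_zero (by rw [hcard]; exact hpp.ne_zero)
    haveI : Nontrivial (WithConv (A →ₐ[K] K)) :=
      Finite.one_lt_card_iff_nontrivial.1 (by rw [hcard]; exact hpp.one_lt)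
    obtain ⟨g₀, hg₀⟩ := exists_ne (1 : WithConv (A →ₐ[K] K))
    by_cases hex : ∃ f₁ ∈ OortTate.eigenAug K A p χ 1, g₀.ofConv f₁ ≠ 0
    · obtain ⟨f₁, hf₁, hne⟩ := hex
      refine ⟨f₁, fun f hf => ?_⟩
      rw [Submodule.mem_span_singleton]
      refine ⟨g₀.ofConv f / g₀.ofConv f₁, ?_⟩
      have h1 : f - (g₀.ofConv f / g₀.ofConv f₁) • f₁ = 0 := by
        apply eq_zero_of_point hA χ 1 g₀ hg₀ _
          (Submodule.sub_mem _ hf (Submodule.smul_mem _ _ hf₁))
        rw [map_sub, map_smul, smul_eq_mul, div_mul_cancel₀ _ hne, sub_self]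
      exact (sub_eq_zero.1 h1).symm
    · refine ⟨0, fun f hf => ?_⟩
      have h1 : f = 0 := eq_zero_of_point hA χ 1 g₀ hg₀ f hf (by
        by_contra h
        exact hex ⟨f, hf, h⟩)
      rw [h1]
      exact Submodule.zero_mem _
  · have h0 : ((p : ℕ) : K) = 0 := by
      by_contra h0
      exact hred (PrimeOrder.isReduced_of_finrank_ne_zero K A (by rw [hA]; exact h0))
    haveI : CharP K p := by
      haveI := ringChar.charP K
      have hdvd : ringChar K ∣ p := (CharP.cast_eq_zero_iff K (ringChar K) p).1 h0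
      rcases (Nat.dvd_prime hpp).1 hdvd with h1 | h1
      · exact absurd h1 CharP.ringChar_ne_one
      · rw [← h1]
        infer_instance
    rcases DistSub.exists_surjective_mu_or_alpha (k := K) p hred with ⟨f, hf⟩ | ⟨f, hf⟩
    · have hbij := PrimeOrder.bijective_of_surjective_of_finrank_eq (k := K) f hf
        (by rw [hA, PrimeOrder.finrank_monoidAlgebra_zmod])
      exact exists_le_span_of_bijective χ f hbij 1 (OortTate.ygen K p u χ 1)
        (le_of_eq (eigen_eq_span u χ hu 1))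
    · have hbij := PrimeOrder.bijective_of_surjective_of_finrank_eq (k := K) f hf
        (by rw [hA, AlphaP.finrank_eq])
      exact exists_le_span_of_bijective χ f hbij 1 (AlphaP.x p K)
        (eigen_alpha_le u χ hu hχ hχp)

end Main

end Groth.Agent.Lib.Helper19.OT
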