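import Mathlib
import Groth.Prelude.Def_W4c5ffgsreadingcourseOT
import Groth.Agent.Lib.Helper19.OT6

/-!
# Oort–Tate VII: the eigenspaces `I_i` are invertible modules (helper19)

For a commutative Hopf algebra `A`, finite projective of rank `p` over `R` and killed by `p`,
each `I_i` is a direct summand of `A`, of rank one at every prime, and `I_1 ^ t = I_t`.
-/

set_option autoImplicit false
universe u

open TensorProduct

namespace Groth.Agent.Lib.Helper19.OT

open Groth.Agent.Lib.Helper19 Groth.Agent.Lib.Helper19.ConvBC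

section Generalities

lemma submodule_pow_mono {R A : Type*} [CommSemiring R] [Semiring A] [Algebra R A]
    {M N : Submodule R A} (h : M ≤ N) (n : ℕ) : M ^ n ≤ N ^ n := by
  induction n with
  | zero => rw [pow_zero, pow_zero]
  | succ n ih =>
    rw [pow_succ, pow_succ]
    exact mul_le_mul' ih h

lemma finrank_le_one_of_le_span {K V : Type*} [Field K] [AddCommGroup V] [Module K V]
    (W : Submodule K V) (y : V) (h : W ≤ Submodule.span K {y}) : Module.finrank K W ≤ 1 :=
  (Submodule.finrank_mono h).trans ((finrank_span_le_card ({y} : Set V)).trans (by simp))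

lemma projective_pi_fin {R : Type*} [CommRing R] {n : ℕ} (M : Fin n → Type*)
    [∀ i, AddCommGroup (M i)] [∀ i, Module R (M i)] [∀ i, Module.Projective R (M i)] :
    Module.Projective R (∀ i, M i) :=
  Module.Projective.of_equiv' (DFinsupp.linearEquivFunOnFintype (R := R) (M := M))

/-- the rank at a prime is the dimension of the geometric fibre -/
lemma rankAtStalk_eq_finrank_bc {R : Type u} [CommRing R] (q : PrimeSpectrum R) (M : Type u)
    [AddCommGroup M] [Module R M] [Module.Finite R M] [Module.Flat R M] :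
    Module.rankAtStalk M q =
      Module.finrank (AlgebraicClosure q.asIdeal.ResidueField)
        (AlgebraicClosure q.asIdeal.ResidueField ⊗[R] M) := by
  let P : PrimeSpectrum (AlgebraicClosure q.asIdeal.ResidueField) := ⟨⊥, Ideal.isPrime_bot⟩
  have hP : P.comap (algebraMap R (AlgebraicClosure q.asIdeal.ResidueField)) = q := by
    apply PrimeSpectrum.ext
    ext x
    rw [PrimeSpectrum.comap_asIdeal, Ideal.mem_comap]
    show algebraMap R (AlgebraicClosure q.asIdeal.ResidueField) x ∈
      (⊥ : Ideal (AlgebraicClosure q.asIdeal.ResidueField)) ↔ _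
    rw [Ideal.mem_bot, IsScalarTower.algebraMap_apply R q.asIdeal.ResidueField
      (AlgebraicClosure q.asIdeal.ResidueField), map_eq_zero,
      Ideal.algebraMap_residueField_eq_zero]
  have h1 := Module.rankAtStalk_baseChange (R := R) (M := M) P
  rw [hP] at h1
  rw [← h1, Module.rankAtStalk_eq_finrank_of_free]
  rfl

end Generalities

section Summand

variable {R : Type u} [CommRing R] {A : Type u} [CommRing A] [HopfAlgebra R A]
  {p : ℕ} [Fact p.Prime] (u : R) (χ : (ZMod p)ˣ →* Rˣ)

/-- the projector of `A` onto `I_i` -/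
noncomputable def Pc (hp : (WithConv.toConv (AlgHom.id R A)) ^ p = 1) (i : ℕ) :
    A →ₗ[R] OortTate.eigenAug R A p χ i :=
  LinearMap.codRestrict _ (OortTate.proj R A p u χ i ∘ₗ pi0 R A)
    (fun a => e_mem u χ hp i _ (counit_pi0 a))

lemma Pc_coe (hp : (WithConv.toConv (AlgHom.id R A)) ^ p = 1) (i : ℕ) (a : A) :
    ((Pc u χ hp i a : OortTate.eigenAug R A p χ i) : A) =
      OortTate.proj R A p u χ i (pi0 R A a) := rfl

lemma Pc_self (hu : u * ((p - 1 : ℕ) : R) = 1)
    (hp : (WithConv.toConv (AlgHom.id R A)) ^ p = 1) (i : ℕ)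
    (x : OortTate.eigenAug R A p χ i) : Pc u χ hp i (x : A) = x := by
  apply Subtype.ext
  rw [Pc_coe, pi0_of_counit _ ((mem_eigenAug χ i _).1 x.2).1,
    e_eq_self u χ hu (Nat.ModEq.refl _) _ x.2]

lemma Pc_other (hχ : ∀ m : (ZMod p)ˣ, m ≠ 1 → IsUnit ((χ m : R) - 1))
    (hp : (WithConv.toConv (AlgHom.id R A)) ^ p = 1) {i j : ℕ} (hij : ¬ j ≡ i [MOD p - 1])
    (x : OortTate.eigenAug R A p χ i) : Pc u χ hp j (x : A) = 0 := by
  apply Subtype.ext
  rw [Pc_coe, pi0_of_counit _ ((mem_eigenAug χ i _).1 x.2).1, e_eq_zero u χ hχ hij _ x.2]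
  rfl

lemma Pc_algebraMap (hp : (WithConv.toConv (AlgHom.id R A)) ^ p = 1) (i : ℕ) (r : R) :
    Pc u χ hp i (algebraMap R A r) = 0 := by
  apply Subtype.ext
  rw [Pc_coe, pi0_apply, Bialgebra.counit_algebraMap, sub_self, map_zero]
  rfl

lemma Pc_comp_subtype (hu : u * ((p - 1 : ℕ) : R) = 1)
    (hp : (WithConv.toConv (AlgHom.id R A)) ^ p = 1) (i : ℕ) :
    (Pc u χ hp i).comp (OortTate.eigenAug R A p χ i).subtype = LinearMap.id := by
  apply LinearMap.ext
  intro x
  exact Pc_self u χ hu hp i x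

lemma finite_eigen (hu : u * ((p - 1 : ℕ) : R) = 1)
    (hp : (WithConv.toConv (AlgHom.id R A)) ^ p = 1) [Module.Finite R A] (i : ℕ) :
    Module.Finite R (OortTate.eigenAug R A p χ i) :=
  Module.Finite.of_surjective (Pc u χ hp i) (fun x => ⟨x, Pc_self u χ hu hp i x⟩)

lemma projective_eigen (hu : u * ((p - 1 : ℕ) : R) = 1)
    (hp : (WithConv.toConv (AlgHom.id R A)) ^ p = 1) [Module.Projective R A] (i : ℕ) :
    Module.Projective R (OortTate.eigenAug R A p χ i) :=
  Module.Projective.of_split (OortTate.eigenAug R A p χ i).subtype (Pc u χ hp i)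
    (Pc_comp_subtype u χ hu hp i)

/-- `A ≃ R × ∏ I_i` -/
noncomputable def decompEquiv (hu : u * ((p - 1 : ℕ) : R) = 1)
    (hχ : ∀ m : (ZMod p)ˣ, m ≠ 1 → IsUnit ((χ m : R) - 1))
    (hp : (WithConv.toConv (AlgHom.id R A)) ^ p = 1) :
    A ≃ₗ[R] R × (∀ i : Fin (p - 1), OortTate.eigenAug R A p χ (i : ℕ)) :=
  LinearEquiv.ofLinearMap
    (LinearMap.prod (Coalgebra.counit (R := R) (A := A))
      (LinearMap.pi (fun i : Fin (p - 1) => Pc u χ hp (i : ℕ))))
    (LinearMap.coprod (Algebra.linearMap R A)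
      (∑ i : Fin (p - 1), (OortTate.eigenAug R A p χ (i : ℕ)).subtype ∘ₗ LinearMap.proj i))
    (by
      apply LinearMap.ext
      rintro ⟨r, x⟩
      have hinv : (LinearMap.coprod (Algebra.linearMap R A)
          (∑ i : Fin (p - 1), (OortTate.eigenAug R A p χ (i : ℕ)).subtype ∘ₗ LinearMap.proj i))
            (r, x) = algebraMap R A r + ∑ i : Fin (p - 1), ((x i : _) : A) := by
        rw [LinearMap.coprod_apply, LinearMap.sum_apply]
        rfl
      rw [LinearMap.comp_apply, hinv, LinearMap.id_apply]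
      apply Prod.ext
      · show Coalgebra.counit (R := R) (algebraMap R A r + ∑ i : Fin (p - 1), ((x i : _) : A)) = r
        rw [map_add, Bialgebra.counit_algebraMap, map_sum, Finset.sum_eq_zero, add_zero]
        intro i _
        exact ((mem_eigenAug χ (i : ℕ) _).1 (x i).2).1
      · funext j
        show Pc u χ hp (j : ℕ) (algebraMap R A r + ∑ i : Fin (p - 1), ((x i : _) : A)) = x j
        rw [map_add, Pc_algebraMap, zero_add, map_sum, Finset.sum_eq_single j]
        · exact Pc_self u χ hu hp _ _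
        · intro i _ hij
          exact Pc_other u χ hχ hp
            (not_modEq_of_lt j.2 i.2 (fun h => hij (Fin.ext h.symm))) (x i)
        · intro h
          exact absurd (Finset.mem_univ _) h)
    (by
      apply LinearMap.ext
      intro a
      have h0 : ((LinearMap.coprod (Algebra.linearMap R A)
          (∑ i : Fin (p - 1), (OortTate.eigenAug R A p χ (i : ℕ)).subtype ∘ₗ
            LinearMap.proj i)) ∘ₗ
          (LinearMap.prod (Coalgebra.counit (R := R) (A := A))
            (LinearMap.pi (fun i : Fin (p - 1) => Pc u χ hp (i : ℕ))))) a =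
          algebraMap R A (Coalgebra.counit (R := R) a) +
            ∑ i : Fin (p - 1), OortTate.proj R A p u χ (i : ℕ) (pi0 R A a) := by
        rw [LinearMap.comp_apply, LinearMap.coprod_apply, LinearMap.sum_apply]
        rfl
      rw [h0, LinearMap.id_apply,
        Fin.sum_univ_eq_sum_range (fun i => OortTate.proj R A p u χ i (pi0 R A a)) (p - 1),
        sum_e u χ hu hχ, pi0_apply, add_sub_cancel])

end Summand

section BaseChange

variable {R : Type u} [CommRing R] {A : Type u} [CommRing A] [HopfAlgebra R A]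
  {p : ℕ} [Fact p.Prime] (u : R) (χ : (ZMod p)ˣ →* Rˣ)
  (K : Type u) [Field K] [Algebra R K]

lemma one_tmul_mem (i : ℕ) {x : A} (hx : x ∈ OortTate.eigenAug R A p χ i) :
    (1 : K) ⊗ₜ[R] x ∈ OortTate.eigenAug K (K ⊗[R] A) p (chiMap (algebraMap R K) p χ) i := by
  rw [mem_eigenAug] at hx ⊢
  constructor
  · rw [counit_one_tmul, hx.1, map_zero]
  · intro m
    have h : pw R A (m : ZMod p).val x = (((χ m : Rˣ) : R) ^ i) • x := hx.2 m
    have h2 : pw K (K ⊗[R] A) (m : ZMod p).val ((1 : K) ⊗ₜ[R] x) =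
        (1 : K) ⊗ₜ[R] pw R A (m : ZMod p).val x := pow_id_one_tmul R K A (m : ZMod p).val x
    show pw K (K ⊗[R] A) (m : ZMod p).val ((1 : K) ⊗ₜ[R] x) = _
    rw [h2, h, TensorProduct.tmul_smul, chiMap_apply, ← map_pow, algebraMap_smul]

lemma bc_mem (i : ℕ) (z : K ⊗[R] (OortTate.eigenAug R A p χ i)) :
    LinearMap.baseChange K (OortTate.eigenAug R A p χ i).subtype z ∈
      OortTate.eigenAug K (K ⊗[R] A) p (chiMap (algebraMap R K) p χ) i := by
  induction z using TensorProduct.induction_on with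
  | zero =>
    rw [map_zero]
    exact Submodule.zero_mem _
  | add z₁ z₂ h₁ h₂ =>
    rw [map_add]
    exact Submodule.add_mem _ h₁ h₂
  | tmul k x =>
    rw [LinearMap.baseChange_tmul]
    have h1 : k ⊗ₜ[R] ((OortTate.eigenAug R A p χ i).subtype x) =
        k • ((1 : K) ⊗ₜ[R] (x : A)) := by
      rw [TensorProduct.smul_tmul', smul_eq_mul, mul_one]
      rfl
    rw [h1]
    exact Submodule.smul_mem _ _ (one_tmul_mem χ K i x.2)

lemma finrank_bc_le (hu : u * ((p - 1 : ℕ) : R) = 1)
    (hp : (WithConv.toConv (AlgHom.id R A)) ^ p = 1) [Module.Finite R A] (i : ℕ) :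
    Module.finrank K (K ⊗[R] (OortTate.eigenAug R A p χ i)) ≤
      Module.finrank K (OortTate.eigenAug K (K ⊗[R] A) p (chiMap (algebraMap R K) p χ) i) := by
  have hinj : Function.Injective
      (LinearMap.baseChange K (OortTate.eigenAug R A p χ i).subtype) := by
    have h : (LinearMap.baseChange K (Pc u χ hp i)).comp
        (LinearMap.baseChange K (OortTate.eigenAug R A p χ i).subtype) = LinearMap.id := by
      rw [← LinearMap.baseChange_comp, Pc_comp_subtype u χ hu hp i, LinearMap.baseChange_id]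
    exact Function.LeftInverse.injective (fun z => LinearMap.congr_fun h z)
  apply LinearMap.finrank_le_finrank_of_injective
    (f := LinearMap.codRestrict _ (LinearMap.baseChange K (OortTate.eigenAug R A p χ i).subtype)
      (bc_mem χ K i))
  intro z₁ z₂ h
  apply hinj
  exact congrArg Subtype.val h

end BaseChange

section FieldCase

variable {K : Type u} [Field K] [IsAlgClosed K] {A : Type u} [CommRing A] [HopfAlgebra K A]
  {p : ℕ} [Fact p.Prime]

/-- over an algebraically closed field every `I_t` is at most one-dimensional -/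
lemma finrank_eigen_le_one (hA : Module.finrank K A = p) (u : K)
    (χ : (ZMod p)ˣ →* Kˣ) (hu : u * ((p - 1 : ℕ) : K) = 1)
    (hχ : ∀ m : (ZMod p)ˣ, m ≠ 1 → IsUnit ((χ m : K) - 1))
    (hχp : ∀ m : (ZMod p)ˣ, ((χ m : Kˣ) : K) - (((m : ZMod p).val : ℕ) : K) ∈
      Ideal.span ({(p : K)} : Set K)) (i : ℕ) :
    Module.finrank K (OortTate.eigenAug K A p χ i) ≤ 1 := by
  have hpp : p.Prime := Fact.out
  have hp2 := hpp.two_le
  haveI : Module.Finite K A := Module.finite_of_finrank_pos (by rw [hA]; exact hpp.pos)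
  have hid : (WithConv.toConv (AlgHom.id K A)) ^ p = 1 := by
    have h := FinOrd.id_pow_finrank_eq_one K A
    rwa [hA] at h
  obtain ⟨x, hx⟩ := exists_eigen_le_span K A hA u χ hu hχ hχp
  -- reduce to an exponent between `1` and `p - 1`
  obtain ⟨t, ht1, ht, hit⟩ : ∃ t, 1 ≤ t ∧ t ≤ p - 1 ∧ i ≡ t [MOD p - 1] := by
    by_cases h0 : i % (p - 1) = 0
    · refine ⟨p - 1, by omega, le_rfl, ?_⟩
      have h1 : i ≡ 0 [MOD p - 1] := h0
      exact h1.trans modEq_zero_sub_one
    · refine ⟨i % (p - 1), by omega, (Nat.mod_lt _ (by omega)).le, (Nat.mod_modEq _ _).symm⟩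
  rw [eigenAug_congr χ hit, ← pow_eigen_eq χ u hu hχp hid t ht1 ht]
  apply finrank_le_one_of_le_span _ (x ^ t)
  calc OortTate.eigenAug K A p χ 1 ^ t ≤ Submodule.span K {x} ^ t := submodule_pow_mono hx t
    _ = Submodule.span K {x ^ t} := by rw [Submodule.span_pow, Set.singleton_pow]

end FieldCase

section Rank

variable {R : Type u} [CommRing R] {A : Type u} [CommRing A] [HopfAlgebra R A]
  [Module.Finite R A] [Module.Projective R A]
  {p : ℕ} [Fact p.Prime] (u : R) (χ : (ZMod p)ˣ →* Rˣ)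

/-- the ranks of the `I_i`, `i < p - 1`, are at most one -/
lemma rank_eigen_le_one (hu : u * ((p - 1 : ℕ) : R) = 1)
    (hχ : ∀ m : (ZMod p)ˣ, m ≠ 1 → IsUnit ((χ m : R) - 1))
    (hχp : ∀ m : (ZMod p)ˣ, ((χ m : Rˣ) : R) - (((m : ZMod p).val : ℕ) : R) ∈
      Ideal.span ({(p : R)} : Set R))
    (hp : (WithConv.toConv (AlgHom.id R A)) ^ p = 1)
    (hrk : ∀ q : PrimeSpectrum R, Module.rankAtStalk A q = p) (i : ℕ) (q : PrimeSpectrum R) :
    haveI := finite_eigen u χ hu hp (A := A) i
    haveI := projective_eigen u χ hu hp (A := A) i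
    Module.rankAtStalk (OortTate.eigenAug R A p χ i) q ≤ 1 := by
  haveI := finite_eigen u χ hu hp (A := A) i
  haveI := projective_eigen u χ hu hp (A := A) i
  have hA : Module.finrank (AlgebraicClosure q.asIdeal.ResidueField)
      (AlgebraicClosure q.asIdeal.ResidueField ⊗[R] A) = p := by
    rw [← rankAtStalk_eq_finrank_bc q A, hrk q]
  rw [rankAtStalk_eq_finrank_bc q]
  refine (finrank_bc_le u χ (AlgebraicClosure q.asIdeal.ResidueField) hu hp i).trans ?_
  exact finrank_eigen_le_one hA (algebraMap R _ u) _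
    (hu_map (algebraMap R (AlgebraicClosure q.asIdeal.ResidueField)) p hu)
    (hχ_map (algebraMap R (AlgebraicClosure q.asIdeal.ResidueField)) p χ hχ)
    (hχp_map (algebraMap R (AlgebraicClosure q.asIdeal.ResidueField)) p χ hχp) i

/-- **The eigenspaces `I_i` are invertible and `I_1 ^ t = I_t`.** -/
theorem main469 (hu : u * ((p - 1 : ℕ) : R) = 1)
    (hχ : ∀ m : (ZMod p)ˣ, m ≠ 1 → IsUnit ((χ m : R) - 1))
    (hχp : ∀ m : (ZMod p)ˣ, ((χ m : Rˣ) : R) - (((m : ZMod p).val : ℕ) : R) ∈
      Ideal.span ({(p : R)} : Set R))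
    (hp : (WithConv.toConv (AlgHom.id R A)) ^ p = 1)
    (hrk : ∀ q : PrimeSpectrum R, Module.rankAtStalk A q = p) :
    (∀ i : ℕ, Module.Finite R (OortTate.eigenAug R A p χ i) ∧
        Module.Projective R (OortTate.eigenAug R A p χ i) ∧
        ∀ q : PrimeSpectrum R, Module.rankAtStalk (↥(OortTate.eigenAug R A p χ i)) q = 1) ∧
      ∀ t : ℕ, 1 ≤ t → t ≤ p - 1 →
        (OortTate.eigenAug R A p χ 1) ^ t = OortTate.eigenAug R A p χ t := by
  have hpp : p.Prime := Fact.out
  have hp2 := hpp.two_le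
  refine ⟨fun i => ⟨finite_eigen u χ hu hp i, projective_eigen u χ hu hp i, fun q => ?_⟩,
    fun t ht1 ht => pow_eigen_eq χ u hu hχp hp t ht1 ht⟩
  haveI : Nontrivial R := q.nontrivial
  haveI hfin : ∀ j : ℕ, Module.Finite R (OortTate.eigenAug R A p χ j) :=
    fun j => finite_eigen u χ hu hp j
  haveI hproj : ∀ j : ℕ, Module.Projective R (OortTate.eigenAug R A p χ j) :=
    fun j => projective_eigen u χ hu hp j
  haveI : Module.Projective R (∀ j : Fin (p - 1), OortTate.eigenAug R A p χ (j : ℕ)) :=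
    projective_pi_fin _
  -- the sum of the ranks
  have hsum : 1 + ∑ j : Fin (p - 1),
      Module.rankAtStalk (OortTate.eigenAug R A p χ (j : ℕ)) q = p := by
    have h1 := congrFun (Module.rankAtStalk_eq_of_equiv (decompEquiv u χ hu hχ hp (A := A))) q
    rw [hrk q, Module.rankAtStalk_prod, Pi.add_apply, Module.rankAtStalk_self, Pi.one_apply,
      Module.rankAtStalk_pi, finsum_eq_sum_of_fintype] at h1
    exact h1.symm
  have hle : ∀ j : Fin (p - 1),
      Module.rankAtStalk (OortTate.eigenAug R A p χ (j : ℕ)) q ≤ 1 :=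
    fun j => rank_eigen_le_one u χ hu hχ hχp hp hrk (j : ℕ) q
  have hall : ∀ j : Fin (p - 1),
      Module.rankAtStalk (OortTate.eigenAug R A p χ (j : ℕ)) q = 1 := by
    by_contra hcon
    push Not at hcon
    obtain ⟨j₀, hj₀⟩ := hcon
    have hlt : ∑ j : Fin (p - 1),
        Module.rankAtStalk (OortTate.eigenAug R A p χ (j : ℕ)) q < ∑ _j : Fin (p - 1), 1 := by
      apply Finset.sum_lt_sum (fun j _ => hle j)
      exact ⟨j₀, Finset.mem_univ _, lt_of_le_of_ne (hle j₀) hj₀⟩
    rw [Finset.sum_const, Finset.card_univ, Fintype.card_fin, smul_eq_mul, mul_one] at hlt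
    omega
  have hmod : i ≡ i % (p - 1) [MOD p - 1] := (Nat.mod_modEq _ _).symm
  have hi := hall ⟨i % (p - 1), Nat.mod_lt _ (by omega)⟩
  rw [eigenAug_congr χ hmod]
  exact hi

end Rank

end Groth.Agent.Lib.Helper19.OT
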