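import Mathlib
import Groth.Prelude.Def_W4c5ffgsreadingcourseOT
import Groth.Prelude.Def_CartDual
import Groth.Agent.Lib.Helper19.OT7
import Groth.Agent.Lib.Helper19.Deligne2

/-!
# Oort–Tate VIII: rank-one projective modules; `A ⊗ D ≃ End A`; the element `ϕ(y_1)` (helper19)
-/

set_option autoImplicit false
universe u

open TensorProduct

namespace Groth.Agent.Lib.Helper19.OT

open Groth.Agent.Lib.Helper19 Groth.Agent.Lib.Helper19.ConvBC CartDual

section RankOne

variable {R : Type u} [CommRing R] {M : Type u} [AddCommGroup M] [Module R M]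
  [Module.Finite R M] [Module.Projective R M]

lemma exists_basis_localization (hrk : ∀ q : PrimeSpectrum R, Module.rankAtStalk M q = 1)
    (P : Ideal R) [hP : P.IsMaximal] :
    Nonempty (Module.Basis (Fin 1) (Localization.AtPrime P) (Localization.AtPrime P ⊗[R] M)) := by
  haveI : Module.Free (Localization.AtPrime P) (Localization.AtPrime P ⊗[R] M) :=
    Module.free_of_flat_of_isLocalRing
  have hfr : Module.finrank (Localization.AtPrime P) (Localization.AtPrime P ⊗[R] M) = 1 := by
    rw [← Module.rankAtStalk_eq_finrank_tensorProduct ⟨P, hP.isPrime⟩, hrk]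
  exact ⟨Module.finBasisOfFinrankEq _ _ hfr⟩

lemma basis_fin_one_repr {S F : Type*} [CommRing S] [AddCommGroup F] [Module S F]
    (b : Module.Basis (Fin 1) S F) (z : F) : z = b.repr z 0 • b 0 := by
  conv_lhs => rw [← b.sum_repr z]
  rw [Fin.sum_univ_one]

/-- in a projective module of rank one, `l m • m' = l m' • m` -/
theorem smul_comm_of_rank_one (hrk : ∀ q : PrimeSpectrum R, Module.rankAtStalk M q = 1)
    (l : M →ₗ[R] R) (m m' : M) : l m • m' = l m' • m := by
  rw [← sub_eq_zero]
  apply Deligne.eq_zero_of_forall_localization (R₀ := R)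
  intro P hP
  obtain ⟨b⟩ := exists_basis_localization hrk P
  obtain ⟨Λ, hΛ⟩ : ∃ Λ : Localization.AtPrime P ⊗[R] M →ₗ[Localization.AtPrime P]
      Localization.AtPrime P, ∀ x : M, Λ ((1 : Localization.AtPrime P) ⊗ₜ[R] x) =
        algebraMap R (Localization.AtPrime P) (l x) := by
    refine ⟨(AlgebraTensorModule.rid R (Localization.AtPrime P)
      (Localization.AtPrime P)).toLinearMap ∘ₗ l.baseChange (Localization.AtPrime P), ?_⟩
    intro x
    show AlgebraTensorModule.rid R (Localization.AtPrime P) (Localization.AtPrime P)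
      (l.baseChange (Localization.AtPrime P) ((1 : Localization.AtPrime P) ⊗ₜ[R] x)) = _
    rw [LinearMap.baseChange_tmul, AlgebraTensorModule.rid_tmul, Algebra.algebraMap_eq_smul_one]
  have key : ∀ z z' : Localization.AtPrime P ⊗[R] M, Λ z • z' = Λ z' • z := by
    intro z z'
    obtain ⟨c, hc⟩ : ∃ c : Localization.AtPrime P, z = c • b 0 := ⟨_, basis_fin_one_repr b z⟩
    obtain ⟨c', hc'⟩ : ∃ c' : Localization.AtPrime P, z' = c' • b 0 :=
      ⟨_, basis_fin_one_repr b z'⟩
    rw [hc, hc', map_smul, map_smul, smul_eq_mul, smul_eq_mul, smul_smul, smul_smul]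
    congr 1
    ring
  have h1 : ∀ (r : R) (x : M), (1 : Localization.AtPrime P) ⊗ₜ[R] (r • x) =
      algebraMap R (Localization.AtPrime P) r • ((1 : Localization.AtPrime P) ⊗ₜ[R] x) := by
    intro r x
    rw [TensorProduct.tmul_smul, algebraMap_smul]
  rw [TensorProduct.tmul_sub, sub_eq_zero, h1, h1, ← hΛ, ← hΛ]
  exact key _ _

/-- a projective module of rank one is faithful -/
theorem eq_zero_of_smul_eq_zero (hrk : ∀ q : PrimeSpectrum R, Module.rankAtStalk M q = 1)
    (r : R) (h : ∀ m : M, r • m = 0) : r = 0 := by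
  apply Deligne.eq_zero_of_forall_localization (R₀ := R) (M := R)
  intro P hP
  obtain ⟨b⟩ := exists_basis_localization hrk P
  have h3 : ∀ z : Localization.AtPrime P ⊗[R] M,
      algebraMap R (Localization.AtPrime P) r • z = 0 := by
    intro z
    induction z using TensorProduct.induction_on with
    | zero => rw [smul_zero]
    | add z₁ z₂ h₁ h₂ => rw [smul_add, h₁, h₂, add_zero]
    | tmul k x => rw [algebraMap_smul, ← TensorProduct.tmul_smul, h x, TensorProduct.tmul_zero]
  have h1 : algebraMap R (Localization.AtPrime P) r = 0 := by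
    have h4 := congrArg (fun z => b.repr z 0) (h3 (b 0))
    have h6 : b.repr (algebraMap R (Localization.AtPrime P) r • b 0) 0 =
        algebraMap R (Localization.AtPrime P) r := by
      rw [map_smul, Module.Basis.repr_self, Finsupp.smul_apply, Finsupp.single_eq_same,
        smul_eq_mul, mul_one]
    have h7 : b.repr (0 : Localization.AtPrime P ⊗[R] M) 0 = 0 := by
      rw [LinearEquiv.map_zero, Finsupp.zero_apply]
    exact h6.symm.trans (h4.trans h7)
  have h5 : (1 : Localization.AtPrime P) ⊗ₜ[R] r =
      (algebraMap R (Localization.AtPrime P) r) ⊗ₜ[R] (1 : R) := by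
    rw [Algebra.algebraMap_eq_smul_one, TensorProduct.smul_tmul, smul_eq_mul, mul_one]
  rw [h5, h1, TensorProduct.zero_tmul]

end RankOne

section Theta

variable (R : Type u) [CommRing R] (A : Type u) [CommRing A] [HopfAlgebra R A]
  [Coalgebra.IsCocomm R A] [Module.Finite R A] [Module.Projective R A]

/-- `A ⊗ D ≃ End A`, `a ⊗ η ↦ (a' ↦ η a' • a)` -/
noncomputable def Theta : A ⊗[R] D R A ≃ₗ[R] WithConv (A →ₗ[R] A) :=
  (TensorProduct.comm R A (D R A)) ≪≫ₗ
    (TensorProduct.congr (toDual R A) (LinearEquiv.refl R A)) ≪≫ₗ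
      (dualTensorHomEquiv R A A) ≪≫ₗ (WithConv.linearEquiv R (A →ₗ[R] A)).symm

variable {R A}

lemma Theta_tmul (a : A) (η : D R A) (a' : A) :
    (Theta R A (a ⊗ₜ[R] η)).ofConv a' = η.ofConv a' • a := by
  show dualTensorHom R A A ((toDual R A η) ⊗ₜ[R] a) a' = _
  rw [dualTensorHom_apply]
  rfl

lemma Theta_formula (z : A ⊗[R] D R A) (a : A) :
    (Theta R A z).ofConv a = TensorProduct.rid R A
      (LinearMap.lTensor A ((Module.Dual.eval R A a) ∘ₗ (toDual R A).toLinearMap) z) := by
  induction z using TensorProduct.induction_on with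
  | zero => simp only [map_zero, WithConv.ofConv_zero, LinearMap.zero_apply]
  | add z₁ z₂ h₁ h₂ => simp only [map_add, WithConv.ofConv_add, LinearMap.add_apply, h₁, h₂]
  | tmul b η =>
    rw [Theta_tmul, LinearMap.lTensor_tmul, TensorProduct.rid_tmul]
    rfl

lemma Theta_one : Theta R A 1 = 1 := by
  apply WithConv.ext
  apply LinearMap.ext
  intro a'
  rw [Algebra.TensorProduct.one_def, Theta_tmul]
  show algebraMap R R (Coalgebra.counit (R := R) a') • (1 : A) =
    algebraMap R A (Coalgebra.counit (R := R) a')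
  rw [Algebra.algebraMap_self_apply, Algebra.algebraMap_eq_smul_one]

instance instRightDistribClassAD : RightDistribClass (A ⊗[R] D R A) := by
  let _ : Semiring (A ⊗[R] D R A) := inferInstance
  infer_instance

instance instLeftDistribClassAD : LeftDistribClass (A ⊗[R] D R A) := by
  let _ : Semiring (A ⊗[R] D R A) := inferInstance
  infer_instance

lemma Theta_mul (z z' : A ⊗[R] D R A) : Theta R A (z * z') = Theta R A z * Theta R A z' := by
  induction z using TensorProduct.induction_on with
  | zero =>
    have h0 : (0 : A ⊗[R] D R A) * z' = 0 := zero_mul z'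
    rw [h0, map_zero]
    exact (zero_mul _).symm
  | add z₁ z₂ h₁ h₂ =>
    have h0 : (z₁ + z₂) * z' = z₁ * z' + z₂ * z' := add_mul z₁ z₂ z'
    rw [h0, map_add, h₁, h₂, map_add]
    exact (add_mul _ _ _).symm
  | tmul a η =>
    induction z' using TensorProduct.induction_on with
    | zero =>
      have h0 : a ⊗ₜ[R] η * (0 : A ⊗[R] D R A) = 0 := mul_zero (a ⊗ₜ[R] η)
      rw [h0, map_zero]
      exact (mul_zero _).symm
    | add z₁ z₂ h₁ h₂ =>
      have h0 : a ⊗ₜ[R] η * (z₁ + z₂) = a ⊗ₜ[R] η * z₁ + a ⊗ₜ[R] η * z₂ :=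
        mul_add (a ⊗ₜ[R] η) z₁ z₂
      rw [h0, map_add, h₁, h₂, map_add]
      exact (mul_add _ _ _).symm
    | tmul b ζ =>
      rw [Algebra.TensorProduct.tmul_mul_tmul]
      apply WithConv.ext
      apply LinearMap.ext
      intro a'
      have e1 : (η * ζ).ofConv a' = LinearMap.mul' R R
          (TensorProduct.map η.ofConv ζ.ofConv (Coalgebra.comul (R := R) a')) :=
        LinearMap.convMul_apply η ζ a'
      have e2 : (Theta R A (a ⊗ₜ[R] η) * Theta R A (b ⊗ₜ[R] ζ)).ofConv a' =
          LinearMap.mul' R A (TensorProduct.map (Theta R A (a ⊗ₜ[R] η)).ofConv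
            (Theta R A (b ⊗ₜ[R] ζ)).ofConv (Coalgebra.comul (R := R) a')) :=
        LinearMap.convMul_apply _ _ a'
      rw [Theta_tmul, e1, e2]
      generalize Coalgebra.comul (R := R) a' = t
      induction t using TensorProduct.induction_on with
      | zero => simp only [map_zero, zero_smul]
      | add t₁ t₂ h₁ h₂ => simp only [map_add, add_smul, h₁, h₂]
      | tmul x y =>
        rw [TensorProduct.map_tmul, TensorProduct.map_tmul, LinearMap.mul'_apply,
          LinearMap.mul'_apply, Theta_tmul, Theta_tmul, smul_mul_smul_comm]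

/-- `Theta` as an algebra map -/
noncomputable def ThetaAlg : A ⊗[R] D R A →ₐ[R] WithConv (A →ₗ[R] A) :=
  AlgHom.ofLinearMap (Theta R A).toLinearMap Theta_one Theta_mul

lemma ThetaAlg_apply (z : A ⊗[R] D R A) : ThetaAlg z = Theta R A z := rfl

variable {p : ℕ} [Fact p.Prime]

lemma tt_eq_pow (a : ZMod p) : tt R p a = tt R p 1 ^ a.val := by
  rw [tt_pow, ZMod.natCast_zmod_val, mul_one]

theorem Theta_comp (hp : (WithConv.toConv (AlgHom.id R A)) ^ p = 1)
    (ϕ : MonoidAlgebra R (Multiplicative (ZMod p)) →ₐ[R] A ⊗[R] D R A)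
    (hϕ : Theta R A (ϕ (OortTate.muT R p)) = LL R A) (z : B R p) :
    Theta R A (ϕ z) = phi hp z := by
  haveI : Fact (1 < p) := ⟨(Fact.out : p.Prime).one_lt⟩
  have h : (ThetaAlg (R := R) (A := A)).comp ϕ = phi hp := by
    apply MonoidAlgebra.algHom_ext
    · intro g
      show ThetaAlg (ϕ (tt R p (Multiplicative.toAdd g))) =
        phi hp (tt R p (Multiplicative.toAdd g))
      have e1 : ϕ (tt R p 1 ^ (Multiplicative.toAdd g).val) =
          ϕ (tt R p 1) ^ (Multiplicative.toAdd g).val := ϕ.toRingHom.map_pow _ _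
      have e2 : ThetaAlg (ϕ (tt R p 1) ^ (Multiplicative.toAdd g).val) =
          ThetaAlg (ϕ (tt R p 1)) ^ (Multiplicative.toAdd g).val :=
        (ThetaAlg (R := R) (A := A)).toRingHom.map_pow _ _
      rw [tt_eq_pow, e1, e2, map_pow, ThetaAlg_apply, ← muT_eq, hϕ, muT_eq, phi_tt,
        ZMod.val_one, pow_one]
    · apply AlgHom.ext
      intro r
      exact (AlgHom.commutes _ r).trans (AlgHom.commutes _ r).symm
  exact congrArg (fun f : B R p →ₐ[R] WithConv (A →ₗ[R] A) => f z) h

end Theta

section Main477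

variable {R : Type u} [CommRing R] {A : Type u} [CommRing A] [HopfAlgebra R A]
  [Coalgebra.IsCocomm R A] [Module.Finite R A] [Module.Projective R A]
  {p : ℕ} [Fact p.Prime] (u : R) (χ : (ZMod p)ˣ →* Rˣ)

/-- elements of the dual eigenspace factor through the projector -/
lemma eigenD_apply (hu : u * ((p - 1 : ℕ) : R) = 1) (i : ℕ) (f : D R A)
    (hf : f ∈ OortTate.eigenAug R (D R A) p χ i) (a : A) :
    f.ofConv (OortTate.proj R A p u χ i (pi0 R A a)) = f.ofConv a := by
  have h1 : OortTate.proj R (D R A) p u χ i f = f :=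
    e_eq_self u χ hu (Nat.ModEq.refl _) f hf
  have hf1 : f.ofConv 1 = 0 := ((mem_eigenAug χ i f).1 hf).1
  rw [← proj_dual, h1, pi0_apply, map_sub, Algebra.algebraMap_eq_smul_one, map_smul, hf1,
    smul_zero, sub_zero]

theorem main477 (hu : u * ((p - 1 : ℕ) : R) = 1)
    (hχ : ∀ m : (ZMod p)ˣ, m ≠ 1 → IsUnit ((χ m : R) - 1))
    (hχp : ∀ m : (ZMod p)ˣ, ((χ m : Rˣ) : R) - (((m : ZMod p).val : ℕ) : R) ∈
      Ideal.span ({(p : R)} : Set R))
    (hrk : ∀ q : PrimeSpectrum R, Module.rankAtStalk A q = p)
    (δ : A ⊗[R] D R A)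
    (hδ : ∀ a : A, TensorProduct.rid R A
      (LinearMap.lTensor A ((Module.Dual.eval R A a) ∘ₗ (toDual R A).toLinearMap) δ) = a)
    (ϕ : MonoidAlgebra R (Multiplicative (ZMod p)) →ₐ[R] A ⊗[R] D R A)
    (hϕ : ϕ (OortTate.muT R p) = δ) :
    Submodule.span R {ϕ (OortTate.ygen R p u χ 1)} =
        LinearMap.range (TensorProduct.map (OortTate.eigenAug R A p χ 1).subtype
          (OortTate.eigenAug R (D R A) p χ 1).subtype) ∧
      ∀ r : R, r • ϕ (OortTate.ygen R p u χ 1) = 0 → r = 0 := by
  have hp : (WithConv.toConv (AlgHom.id R A)) ^ p = 1 :=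
    Deligne.id_pow_eq_one_of_rankAtStalk R A p hrk
  have hΘδ : Theta R A (ϕ (OortTate.muT R p)) = LL R A := by
    rw [hϕ]
    apply WithConv.ext
    apply LinearMap.ext
    intro a
    rw [Theta_formula]
    exact hδ a
  have hP : ∀ a : A, (Theta R A (ϕ (OortTate.ygen R p u χ 1))).ofConv a =
      OortTate.proj R A p u χ 1 (pi0 R A a) := by
    intro a
    rw [Theta_comp hp ϕ hΘδ, phi_ygen]
  obtain ⟨hfin, hproj, hrank⟩ := (main469 u χ hu hχ hχp hp hrk).1 1
  haveI := hfin
  haveI := hproj
  -- the restriction map `I_1(D) → (I_1(A))ᵛ`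
  obtain ⟨resD, hresD⟩ : ∃ resD : OortTate.eigenAug R (D R A) p χ 1 →ₗ[R]
      Module.Dual R (OortTate.eigenAug R A p χ 1),
      ∀ (f : OortTate.eigenAug R (D R A) p χ 1) (x : OortTate.eigenAug R A p χ 1),
        resD f x = (f : D R A).ofConv (x : A) :=
    ⟨(Module.Dual.transpose (R := R) (OortTate.eigenAug R A p χ 1).subtype) ∘ₗ
      (toDual R A).toLinearMap ∘ₗ (OortTate.eigenAug R (D R A) p χ 1).subtype, fun _ _ => rfl⟩
  have hbij : Function.Bijective resD := by
    have h1 := dual_restrict_bijective R A u χ hu hp 1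
    have h2 : (⇑resD : OortTate.eigenAug R (D R A) p χ 1 →
        Module.Dual R (OortTate.eigenAug R A p χ 1)) =
        (fun f : OortTate.eigenAug R (D R A) p χ 1 =>
          ((toDual R A) (f : D R A)).comp (OortTate.eigenAug R A p χ 1).subtype) := by
      funext f
      apply LinearMap.ext
      intro x
      exact hresD f x
    rw [h2]
    exact h1
  have hkey : ∀ (f : OortTate.eigenAug R (D R A) p χ 1) (a : A),
      resD f (Pc u χ hp 1 a) = (f : D R A).ofConv a := by
    intro f a
    rw [hresD, Pc_coe]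
    exact eigenD_apply u χ hu 1 _ f.2 a
  constructor
  · apply le_antisymm
    · rw [Submodule.span_le, Set.singleton_subset_iff]
      obtain ⟨eD, heD⟩ : ∃ eD : OortTate.eigenAug R (D R A) p χ 1 ≃ₗ[R]
          Module.Dual R (OortTate.eigenAug R A p χ 1), ∀ f, eD f = resD f :=
        ⟨LinearEquiv.ofBijective resD hbij, fun _ => rfl⟩
      have hgen : ∀ (w : Module.Dual R (OortTate.eigenAug R A p χ 1) ⊗[R]
          (OortTate.eigenAug R A p χ 1)) (a' : A),
          (Theta R A (TensorProduct.map (OortTate.eigenAug R A p χ 1).subtype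
            ((OortTate.eigenAug R (D R A) p χ 1).subtype ∘ₗ eD.symm.toLinearMap)
              (TensorProduct.comm R _ _ w))).ofConv a' =
            ((dualTensorHom R _ _ w (Pc u χ hp 1 a') : OortTate.eigenAug R A p χ 1) : A) := by
        intro w a'
        induction w using TensorProduct.induction_on with
        | zero =>
          simp only [map_zero, WithConv.ofConv_zero, LinearMap.zero_apply,
            ZeroMemClass.coe_zero]
        | add w₁ w₂ h₁ h₂ =>
          simp only [map_add, WithConv.ofConv_add, LinearMap.add_apply, h₁, h₂,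
            Submodule.coe_add]
        | tmul l x =>
          rw [TensorProduct.comm_tmul, TensorProduct.map_tmul, Theta_tmul, dualTensorHom_apply]
          have h1 : ((OortTate.eigenAug R (D R A) p χ 1).subtype ∘ₗ eD.symm.toLinearMap) l =
              ((eD.symm l : OortTate.eigenAug R (D R A) p χ 1) : D R A) := rfl
          rw [h1, ← hkey (eD.symm l) a', ← heD, LinearEquiv.apply_symm_apply]
          rfl
      have hz : ϕ (OortTate.ygen R p u χ 1) =
          TensorProduct.map (OortTate.eigenAug R A p χ 1).subtype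
            ((OortTate.eigenAug R (D R A) p χ 1).subtype ∘ₗ eD.symm.toLinearMap)
              (TensorProduct.comm R _ _
                ((dualTensorHomEquiv R (OortTate.eigenAug R A p χ 1)
                  (OortTate.eigenAug R A p χ 1)).symm LinearMap.id)) := by
        apply (Theta R A).injective
        apply WithConv.ext
        apply LinearMap.ext
        intro a'
        rw [hgen, hP]
        have h1 : dualTensorHom R _ _ ((dualTensorHomEquiv R (OortTate.eigenAug R A p χ 1)
            (OortTate.eigenAug R A p χ 1)).symm LinearMap.id) = LinearMap.id :=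
          (dualTensorHomEquiv R (OortTate.eigenAug R A p χ 1)
            (OortTate.eigenAug R A p χ 1)).apply_symm_apply LinearMap.id
        rw [h1, LinearMap.id_apply, Pc_coe]
      rw [hz, SetLike.mem_coe, LinearMap.mem_range]
      refine ⟨TensorProduct.map LinearMap.id eD.symm.toLinearMap (TensorProduct.comm R _ _
        ((dualTensorHomEquiv R (OortTate.eigenAug R A p χ 1)
          (OortTate.eigenAug R A p χ 1)).symm LinearMap.id)), ?_⟩
      rw [← LinearMap.comp_apply, ← TensorProduct.map_comp, LinearMap.comp_id]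
    · rintro _ ⟨y, rfl⟩
      rw [Submodule.mem_span_singleton]
      obtain ⟨contr, hcontr⟩ : ∃ contr : (OortTate.eigenAug R A p χ 1) ⊗[R]
          (OortTate.eigenAug R (D R A) p χ 1) →ₗ[R] R,
          ∀ x f, contr (x ⊗ₜ[R] f) = resD f x :=
        ⟨contractLeft R _ ∘ₗ TensorProduct.map resD LinearMap.id ∘ₗ
          (TensorProduct.comm R _ _).toLinearMap, fun _ _ => rfl⟩
      refine ⟨contr y, ?_⟩
      apply (Theta R A).injective
      apply WithConv.ext
      apply LinearMap.ext
      intro a'
      rw [map_smul, WithConv.ofConv_smul, LinearMap.smul_apply, hP]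
      induction y using TensorProduct.induction_on with
      | zero =>
        simp only [map_zero, zero_smul, WithConv.ofConv_zero, LinearMap.zero_apply]
      | add y₁ y₂ h₁ h₂ =>
        simp only [map_add, add_smul, WithConv.ofConv_add, LinearMap.add_apply, h₁, h₂]
      | tmul x f =>
        rw [hcontr, TensorProduct.map_tmul, Theta_tmul]
        have h1 := smul_comm_of_rank_one hrank (resD f) (x : OortTate.eigenAug R A p χ 1)
          (Pc u χ hp 1 a')
        have h2 := congrArg (fun z : OortTate.eigenAug R A p χ 1 => (z : A)) h1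
        rw [hkey] at h2
        exact h2
  · intro r hr
    apply eq_zero_of_smul_eq_zero (M := OortTate.eigenAug R A p χ 1) hrank r
    intro x
    apply Subtype.ext
    have h1 := congrArg (fun z => (Theta R A z).ofConv (x : A)) hr
    simp only [map_smul, map_zero, WithConv.ofConv_smul, WithConv.ofConv_zero,
      LinearMap.smul_apply, LinearMap.zero_apply] at h1
    rw [hP, ← Pc_coe u χ hp 1, Pc_self u χ hu hp 1 x] at h1
    exact h1

end Main477

end Groth.Agent.Lib.Helper19.OT
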