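import Mathlib
import Groth.Prelude.Def_W4c5ffgsreadingcourseOT
import Groth.Prelude.Def_CartDual
import Groth.Agent.Lib.Helper19.OT8

/-!
# Oort–Tate IX: the pairing `⟨ξ ^ s, x ^ t⟩ = δ_{st} w_t` and the classification by `(α, β)`
(helper19)
-/

set_option autoImplicit false
universe u

open TensorProduct

namespace Groth.Agent.Lib.Helper19.OT

open Groth.Agent.Lib.Helper19 Groth.Agent.Lib.Helper19.ConvBC CartDual

section DualHp

variable (R : Type u) [CommRing R] (A : Type u) [CommRing A] [HopfAlgebra R A]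
  [Coalgebra.IsCocomm R A] [Module.Finite R A] [Module.Projective R A]

/-- the dual of a group killed by `p` is killed by `p` -/
lemma hpD {p : ℕ} (hp : (WithConv.toConv (AlgHom.id R A)) ^ p = 1) :
    (WithConv.toConv (AlgHom.id R (D R A))) ^ p = 1 := by
  apply WithConv.ext
  apply AlgHom.ext
  intro ξ
  apply WithConv.ext
  apply LinearMap.ext
  intro a
  have h1 : (((WithConv.toConv (AlgHom.id R (D R A))) ^ p).ofConv ξ).ofConv a =
      ξ.ofConv (pw R A p a) := pw_dual R A p ξ a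
  have h2 : pw R A p a = algebraMap R A (Coalgebra.counit (R := R) a) := by
    rw [pw_def, hp]
    rfl
  have h3 : ((1 : WithConv (D R A →ₐ[R] D R A)).ofConv ξ).ofConv a =
      ξ.ofConv 1 * Coalgebra.counit (R := R) a := by
    show (algebraMap R (D R A) (Coalgebra.counit (R := R) ξ)).ofConv a = _
    rw [Algebra.algebraMap_eq_smul_one, WithConv.ofConv_smul, LinearMap.smul_apply, smul_eq_mul]
    rfl
  rw [h1, h2, h3, Algebra.algebraMap_eq_smul_one, map_smul, smul_eq_mul, mul_comm]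

end DualHp

section Gen

variable {R : Type u} [CommRing R] {H : Type u} [CommRing H] [HopfAlgebra R H]
  {p : ℕ} [Fact p.Prime] (u : R) (χ : (ZMod p)ˣ →* Rˣ)

lemma eigen_eq_span_pow (hu : u * ((p - 1 : ℕ) : R) = 1)
    (hχp : ∀ m : (ZMod p)ˣ, ((χ m : Rˣ) : R) - (((m : ZMod p).val : ℕ) : R) ∈
      Ideal.span ({(p : R)} : Set R))
    (hpH : (WithConv.toConv (AlgHom.id R H)) ^ p = 1) (y : H)
    (hy : Submodule.span R {y} = OortTate.eigenAug R H p χ 1) (t : ℕ) (ht1 : 1 ≤ t)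
    (ht : t ≤ p - 1) : OortTate.eigenAug R H p χ t = Submodule.span R {y ^ t} := by
  rw [← pow_eigen_eq χ u hu hχp hpH t ht1 ht, ← hy, Submodule.span_pow, Set.singleton_pow]

lemma pow_mem_eigen (y : H) (hy1 : y ∈ OortTate.eigenAug R H p χ 1) (t : ℕ) (ht1 : 1 ≤ t) :
    y ^ t ∈ OortTate.eigenAug R H p χ t :=
  pow_eigen_le χ t ht1 (Submodule.pow_mem_pow _ hy1 t)

lemma mem_span_pow (hu : u * ((p - 1 : ℕ) : R) = 1)
    (hχ : ∀ m : (ZMod p)ˣ, m ≠ 1 → IsUnit ((χ m : R) - 1))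
    (hχp : ∀ m : (ZMod p)ˣ, ((χ m : Rˣ) : R) - (((m : ZMod p).val : ℕ) : R) ∈
      Ideal.span ({(p : R)} : Set R))
    (hpH : (WithConv.toConv (AlgHom.id R H)) ^ p = 1) (y : H)
    (hy : Submodule.span R {y} = OortTate.eigenAug R H p χ 1) (h : H) :
    h ∈ Submodule.span R (Set.range (fun t : Fin p => y ^ (t : ℕ))) := by
  have hp2 := (Fact.out : p.Prime).two_le
  have h1 : h = algebraMap R H (Coalgebra.counit (R := R) h) + pi0 R H h := by
    rw [pi0_apply, add_sub_cancel]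
  rw [h1]
  apply Submodule.add_mem
  · rw [Algebra.algebraMap_eq_smul_one]
    apply Submodule.smul_mem
    apply Submodule.subset_span
    exact ⟨⟨0, by omega⟩, pow_zero y⟩
  · have h2 : pi0 R H h ∈ LinearMap.ker (Bialgebra.counitAlgHom R H).toLinearMap :=
      (mem_ker_counit _).2 (counit_pi0 h)
    rw [← (decomposition (A := H) u χ hu hχ hpH).2.1] at h2
    refine (iSup_le ?_ : (⨆ i : Fin (p - 1), OortTate.eigenAug R H p χ (i : ℕ)) ≤ _) h2
    intro i
    by_cases hi : (i : ℕ) = 0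
    · rw [hi, eigenAug_congr χ modEq_zero_sub_one,
        eigen_eq_span_pow u χ hu hχp hpH y hy (p - 1) (by omega) le_rfl, Submodule.span_le,
        Set.singleton_subset_iff]
      apply Submodule.subset_span
      exact ⟨⟨p - 1, by omega⟩, rfl⟩
    · rw [eigen_eq_span_pow u χ hu hχp hpH y hy i (by omega) (by have := i.2; omega),
        Submodule.span_le, Set.singleton_subset_iff]
      apply Submodule.subset_span
      exact ⟨⟨i, by have := i.2; omega⟩, rfl⟩

end Gen

section LinAlg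

variable {R : Type u} [CommRing R]

lemma li_of_dual_family {M : Type*} [AddCommGroup M] [Module R M] {n : ℕ} (v : Fin n → M)
    (l : Fin n → M →ₗ[R] R) (W : Fin n → R) (hW : ∀ s, IsUnit (W s))
    (h : ∀ s t, l s (v t) = if s = t then W s else 0) : LinearIndependent R v := by
  rw [Fintype.linearIndependent_iff]
  intro g hg s
  have h1 := congrArg (l s) hg
  rw [map_sum, map_zero, Finset.sum_eq_single s] at h1
  · rw [map_smul, h s s, if_pos rfl, smul_eq_mul] at h1
    exact (hW s).mul_left_eq_zero.1 h1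
  · intro t _ hts
    rw [map_smul, h s t, if_neg (Ne.symm hts), smul_zero]
  · intro h
    exact absurd (Finset.mem_univ _) h

lemma not_modEq_of_ne {n s t : ℕ} (hs1 : 1 ≤ s) (hs : s ≤ n) (ht1 : 1 ≤ t) (ht : t ≤ n)
    (hst : s ≠ t) : ¬ s ≡ t [MOD n] := by
  intro h
  rcases lt_or_gt_of_ne hst with h1 | h1
  · have hd := (Nat.modEq_iff_dvd' h1.le).1 h
    have := Nat.le_of_dvd (by omega) hd
    omega
  · have hd := (Nat.modEq_iff_dvd' h1.le).1 h.symm
    have := Nat.le_of_dvd (by omega) hd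
    omega

/-- an algebra with basis `1, y, …, y ^ (p-1)` and `y ^ p = α y` maps to any algebra with such an
element -/
theorem exists_algHom_of_pow_basis {H H' : Type u} [CommRing H] [Algebra R H] [CommRing H']
    [Algebra R H'] (p : ℕ) (hp2 : 2 ≤ p) (y : H) (b : Module.Basis (Fin p) R H)
    (hb : ∀ t : Fin p, b t = y ^ (t : ℕ)) (α : R) (hy : y ^ p = α • y) (y' : H')
    (hy' : y' ^ p = α • y') : ∃ f : H →ₐ[R] H', f y = y' := by
  obtain ⟨f, hf⟩ : ∃ f : H →ₗ[R] H', ∀ t : Fin p, f (y ^ (t : ℕ)) = y' ^ (t : ℕ) := by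
    refine ⟨b.constr R (fun t : Fin p => y' ^ (t : ℕ)), fun t => ?_⟩
    rw [← hb, Module.Basis.constr_basis]
  have hpow : ∀ n : ℕ, f (y ^ n) = y' ^ n := by
    intro n
    induction n using Nat.strong_induction_on with
    | _ n ih =>
      by_cases hn : n < p
      · exact hf ⟨n, hn⟩
      · have e1 : y ^ n = α • y ^ (n - p + 1) := by
          have h1 : n = (n - p) + p := by omega
          conv_lhs => rw [h1]
          rw [pow_add, hy, mul_smul_comm, ← pow_succ]
        have e2 : y' ^ n = α • y' ^ (n - p + 1) := by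
          have h1 : n = (n - p) + p := by omega
          conv_lhs => rw [h1]
          rw [pow_add, hy', mul_smul_comm, ← pow_succ]
        rw [e1, e2, map_smul, ih (n - p + 1) (by omega)]
  have hmul0 : ∀ s t : Fin p, f (b s * b t) = f (b s) * f (b t) := by
    intro s t
    rw [hb, hb, ← pow_add, hpow, hpow, hpow, pow_add]
  have hmul1 : ∀ (s : Fin p) (h' : H), f (b s * h') = f (b s) * f h' := by
    intro s h'
    have h1 : f ∘ₗ LinearMap.mulLeft R (b s) = LinearMap.mulLeft R (f (b s)) ∘ₗ f := by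
      apply b.ext
      intro t
      exact hmul0 s t
    exact LinearMap.congr_fun h1 h'
  have hmul : ∀ h h' : H, f (h * h') = f h * f h' := by
    intro h h'
    have h1 : f ∘ₗ LinearMap.mulRight R h' = LinearMap.mulRight R (f h') ∘ₗ f := by
      apply b.ext
      intro s
      exact hmul1 s h'
    exact LinearMap.congr_fun h1 h
  have hone : f 1 = 1 := by
    have h1 := hpow 0
    rwa [pow_zero, pow_zero] at h1
  refine ⟨AlgHom.ofLinearMap f hone hmul, ?_⟩
  have h1 := hpow 1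
  rwa [pow_one, pow_one] at h1

lemma algHom_ext_of_pow_basis {H H' : Type u} [CommRing H] [Algebra R H] [CommRing H']
    [Algebra R H'] {p : ℕ} (y : H) (b : Module.Basis (Fin p) R H)
    (hb : ∀ t : Fin p, b t = y ^ (t : ℕ)) (g₁ g₂ : H →ₐ[R] H') (h : g₁ y = g₂ y) : g₁ = g₂ := by
  apply AlgHom.toLinearMap_injective
  apply b.ext
  intro t
  rw [hb]
  show g₁ (y ^ (t : ℕ)) = g₂ (y ^ (t : ℕ))
  rw [map_pow, map_pow, h]

end LinAlg

section Pairing

variable {R : Type u} [CommRing R] {A : Type u} [CommRing A] [HopfAlgebra R A]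
  [Coalgebra.IsCocomm R A] [Module.Finite R A] [Module.Projective R A]
  {p : ℕ} [Fact p.Prime] (u : R) (χ : (ZMod p)ˣ →* Rˣ)

lemma pair_orth (hu : u * ((p - 1 : ℕ) : R) = 1)
    (hχ : ∀ m : (ZMod p)ˣ, m ≠ 1 → IsUnit ((χ m : R) - 1)) {s t : ℕ}
    (hst : ¬ s ≡ t [MOD p - 1]) (η : D R A) (hη : η ∈ OortTate.eigenAug R (D R A) p χ s)
    (a : A) (ha : a ∈ OortTate.eigenAug R A p χ t) : η.ofConv a = 0 := by
  have h1 : OortTate.proj R (D R A) p u χ s η = η := e_eq_self u χ hu (Nat.ModEq.refl _) η hη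
  rw [← h1, proj_dual, e_eq_zero u χ hχ hst a ha, map_zero]

lemma P1_eq (hu : u * ((p - 1 : ℕ) : R) = 1)
    (hp : (WithConv.toConv (AlgHom.id R A)) ^ p = 1) (x : A) (ξ : D R A)
    (hx : Submodule.span R {x} = OortTate.eigenAug R A p χ 1)
    (hξ1 : ξ ∈ OortTate.eigenAug R (D R A) p χ 1) (hxξ : ξ.ofConv x = 1) (a : A) :
    OortTate.proj R A p u χ 1 (pi0 R A a) = ξ.ofConv a • x := by
  have h1 : OortTate.proj R A p u χ 1 (pi0 R A a) ∈ Submodule.span R {x} := by
    rw [hx]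
    exact e_mem u χ hp 1 _ (counit_pi0 a)
  obtain ⟨c, hc⟩ := Submodule.mem_span_singleton.1 h1
  have h2 := eigenD_apply u χ hu 1 ξ hξ1 a
  rw [← hc, map_smul, hxξ, smul_eq_mul, mul_one] at h2
  rw [← hc, h2]

theorem pair_diag (hu : u * ((p - 1 : ℕ) : R) = 1)
    (hχ : ∀ m : (ZMod p)ˣ, m ≠ 1 → IsUnit ((χ m : R) - 1))
    (hχp : ∀ m : (ZMod p)ˣ, ((χ m : Rˣ) : R) - (((m : ZMod p).val : ℕ) : R) ∈
      Ideal.span ({(p : R)} : Set R))
    (hrk : ∀ q : PrimeSpectrum R, Module.rankAtStalk A q = p) (x : A) (ξ : D R A)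
    (hx : Submodule.span R {x} = OortTate.eigenAug R A p χ 1)
    (hξ1 : ξ ∈ OortTate.eigenAug R (D R A) p χ 1) (hxξ : ξ.ofConv x = 1)
    (t : ℕ) (ht1 : 1 ≤ t) (ht : t ≤ p - 1) (w : R)
    (hw : OortTate.ygen R p u χ 1 ^ t = w • OortTate.ygen R p u χ t) :
    (ξ ^ t).ofConv (x ^ t) = w := by
  have hp : (WithConv.toConv (AlgHom.id R A)) ^ p = 1 :=
    Deligne.id_pow_eq_one_of_rankAtStalk R A p hrk
  have hx1 : x ∈ OortTate.eigenAug R A p χ 1 := by
    rw [← hx]
    exact Submodule.mem_span_singleton_self x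
  have hxt : x ^ t ∈ OortTate.eigenAug R A p χ t := pow_mem_eigen χ x hx1 t ht1
  have h1 : Theta R A (x ⊗ₜ[R] ξ) = phi hp (OortTate.ygen R p u χ 1) := by
    apply WithConv.ext
    apply LinearMap.ext
    intro a
    rw [Theta_tmul, phi_ygen, P1_eq u χ hu hp x ξ hx hξ1 hxξ]
  have h2 : Theta R A ((x ^ t) ⊗ₜ[R] (ξ ^ t)) = w • phi hp (OortTate.ygen R p u χ t) := by
    have e1 : ThetaAlg ((x ⊗ₜ[R] ξ) ^ t) = ThetaAlg (x ⊗ₜ[R] ξ) ^ t :=
      (ThetaAlg (R := R) (A := A)).toRingHom.map_pow _ _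
    rw [← Algebra.TensorProduct.tmul_pow, ← ThetaAlg_apply, e1, ThetaAlg_apply, h1, ← map_pow,
      hw, map_smul]
  have h3 := congrArg (fun φ : WithConv (A →ₗ[R] A) => φ.ofConv (x ^ t)) h2
  simp only [WithConv.ofConv_smul, LinearMap.smul_apply] at h3
  rw [Theta_tmul, phi_ygen, pi0_of_counit _ ((mem_eigenAug χ t _).1 hxt).1,
    e_eq_self u χ hu (Nat.ModEq.refl _) _ hxt] at h3
  obtain ⟨-, -, hrank⟩ := (main469 u χ hu hχ hχp hp hrk).1 t
  haveI := ((main469 u χ hu hχ hχp hp hrk).1 t).1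
  haveI := ((main469 u χ hu hχ hχp hp hrk).1 t).2.1
  rw [← sub_eq_zero]
  apply eq_zero_of_smul_eq_zero (M := OortTate.eigenAug R A p χ t) hrank
  intro m
  apply Subtype.ext
  have hm : (m : A) ∈ Submodule.span R {x ^ t} := by
    rw [← eigen_eq_span_pow u χ hu hχp hp x hx t ht1 ht]
    exact m.2
  obtain ⟨k, hk⟩ := Submodule.mem_span_singleton.1 hm
  show ((ξ ^ t).ofConv (x ^ t) - w) • (m : A) = 0
  rw [← hk, smul_comm, sub_smul, h3, sub_self, smul_zero]

theorem pair_formula (hu : u * ((p - 1 : ℕ) : R) = 1)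
    (hχ : ∀ m : (ZMod p)ˣ, m ≠ 1 → IsUnit ((χ m : R) - 1))
    (hχp : ∀ m : (ZMod p)ˣ, ((χ m : Rˣ) : R) - (((m : ZMod p).val : ℕ) : R) ∈
      Ideal.span ({(p : R)} : Set R))
    (hrk : ∀ q : PrimeSpectrum R, Module.rankAtStalk A q = p) (x : A) (ξ : D R A)
    (hx : Submodule.span R {x} = OortTate.eigenAug R A p χ 1)
    (hξ : Submodule.span R {ξ} = OortTate.eigenAug R (D R A) p χ 1) (hxξ : ξ.ofConv x = 1)
    (W : ℕ → R) (hW0 : W 0 = 1)
    (hW : ∀ t, 1 ≤ t → OortTate.ygen R p u χ 1 ^ t = W t • OortTate.ygen R p u χ t)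
    (s t : Fin p) :
    (ξ ^ (s : ℕ)).ofConv (x ^ (t : ℕ)) = if s = t then W s else 0 := by
  have hx1 : x ∈ OortTate.eigenAug R A p χ 1 := by
    rw [← hx]
    exact Submodule.mem_span_singleton_self x
  have hξ1 : ξ ∈ OortTate.eigenAug R (D R A) p χ 1 := by
    rw [← hξ]
    exact Submodule.mem_span_singleton_self ξ
  by_cases hs : (s : ℕ) = 0
  · by_cases ht : (t : ℕ) = 0
    · have hst : s = t := Fin.ext (hs.trans ht.symm)
      rw [if_pos hst, hs, ht, pow_zero, pow_zero, hW0]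
      show algebraMap R R (Coalgebra.counit (R := R) (1 : A)) = 1
      rw [Bialgebra.counit_one, map_one]
    · have hst : s ≠ t := fun h => ht (by rw [← h]; exact hs)
      rw [if_neg hst, hs, pow_zero]
      show algebraMap R R (Coalgebra.counit (R := R) (x ^ (t : ℕ))) = 0
      rw [((mem_eigenAug χ t _).1 (pow_mem_eigen χ x hx1 t (by omega))).1, map_zero]
  · by_cases ht : (t : ℕ) = 0
    · have hst : s ≠ t := fun h => hs (by rw [h]; exact ht)
      rw [if_neg hst, ht, pow_zero]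
      exact ((mem_eigenAug χ s _).1 (pow_mem_eigen χ ξ hξ1 s (by omega))).1
    · by_cases hst : s = t
      · rw [if_pos hst, ← hst]
        exact pair_diag u χ hu hχ hχp hrk x ξ hx hξ1 hxξ s (by omega)
          (by have := s.2; omega) (W s) (hW s (by omega))
      · rw [if_neg hst]
        apply pair_orth u χ hu hχ _ _ (pow_mem_eigen χ ξ hξ1 s (by omega)) _
          (pow_mem_eigen χ x hx1 t (by omega))
        exact not_modEq_of_ne (by omega) (by have := s.2; omega) (by omega)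
          (by have := t.2; omega) (fun h => hst (Fin.ext h))

end Pairing

end Groth.Agent.Lib.Helper19.OT
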