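import Mathlib
import Groth.Prelude.Def_W4c5ffgsreadingcourseOT
import Groth.Prelude.Def_CartDual
import Groth.Agent.Lib.Helper19.OT9

/-!
# Oort–Tate X: groups of order `p` with the same `(α, β)` up to a unit are isomorphic (helper19)
-/

set_option autoImplicit false
universe u

open TensorProduct

namespace Groth.Agent.Lib.Helper19.OT

open Groth.Agent.Lib.Helper19 Groth.Agent.Lib.Helper19.ConvBC CartDual

section Sep

variable {R : Type u} [CommRing R] {A : Type u} [CommRing A] [Algebra R A] [Module.Finite R A]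
  [Module.Projective R A]

/-- pure tensors of functionals separate the points of `A ⊗ A` -/
lemma eq_of_ev₂ (z z' : A ⊗[R] A)
    (h : ∀ η₁ η₂ : D R A, ev₂ R A (η₁ ⊗ₜ[R] η₂) z = ev₂ R A (η₁ ⊗ₜ[R] η₂) z') : z = z' := by
  have h1 : ∀ y : D R A ⊗[R] D R A, ev₂ R A y z = ev₂ R A y z' := by
    intro y
    induction y using TensorProduct.induction_on with
    | zero => rw [map_zero, LinearMap.zero_apply, LinearMap.zero_apply]
    | tmul a b => exact h a b
    | add y₁ y₂ h₁ h₂ => rw [map_add, LinearMap.add_apply, LinearMap.add_apply, h₁, h₂]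
  apply (Module.bijective_dual_eval R (A ⊗[R] A)).injective
  apply LinearMap.ext
  intro φ
  obtain ⟨y, rfl⟩ := (ev₂ R A).surjective φ
  exact h1 y

end Sep

section Main

variable {R : Type u} [CommRing R] {p : ℕ} [Fact p.Prime] (u : R) (χ : (ZMod p)ˣ →* Rˣ)
  {A : Type u} [CommRing A] [HopfAlgebra R A] [Coalgebra.IsCocomm R A] [Module.Finite R A]
  [Module.Projective R A]
  {A' : Type u} [CommRing A'] [HopfAlgebra R A'] [Coalgebra.IsCocomm R A'] [Module.Finite R A']
  [Module.Projective R A']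

/-- power bases of `A` and of its dual -/
lemma exists_pow_bases (hu : u * ((p - 1 : ℕ) : R) = 1)
    (hχ : ∀ m : (ZMod p)ˣ, m ≠ 1 → IsUnit ((χ m : R) - 1))
    (hχp : ∀ m : (ZMod p)ˣ, ((χ m : Rˣ) : R) - (((m : ZMod p).val : ℕ) : R) ∈
      Ideal.span ({(p : R)} : Set R))
    (hrk : ∀ q : PrimeSpectrum R, Module.rankAtStalk A q = p) (x : A) (ξ : D R A)
    (hx : Submodule.span R {x} = OortTate.eigenAug R A p χ 1)
    (hξ : Submodule.span R {ξ} = OortTate.eigenAug R (D R A) p χ 1) (hxξ : ξ.ofConv x = 1)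
    (W : ℕ → R) (hW0 : W 0 = 1)
    (hW : ∀ t, 1 ≤ t → OortTate.ygen R p u χ 1 ^ t = W t • OortTate.ygen R p u χ t) :
    (∃ b : Module.Basis (Fin p) R A, ∀ t : Fin p, b t = x ^ (t : ℕ)) ∧
      (∃ b : Module.Basis (Fin p) R (D R A), ∀ t : Fin p, b t = ξ ^ (t : ℕ)) := by
  have hpA : (WithConv.toConv (AlgHom.id R A)) ^ p = 1 :=
    Deligne.id_pow_eq_one_of_rankAtStalk R A p hrk
  have hpDA := hpD R A hpA
  have hP := pair_formula u χ hu hχ hχp hrk x ξ hx hξ hxξ W hW0 hW
  have hWu : ∀ s : Fin p, IsUnit (W s) := by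
    intro s
    by_cases hs : (s : ℕ) = 0
    · rw [hs, hW0]
      exact isUnit_one
    · exact isUnit_w u χ hu hχp s (by have := s.2; omega) (W s) (hW s (by omega))
  constructor
  · have hli : LinearIndependent R (fun t : Fin p => x ^ (t : ℕ)) :=
      li_of_dual_family _ (fun s : Fin p => (ξ ^ (s : ℕ)).ofConv) (fun s => W s) hWu hP
    exact ⟨Module.Basis.mk hli (fun h _ => mem_span_pow u χ hu hχ hχp hpA x hx h),
      fun t => Module.Basis.mk_apply _ _ t⟩
  · have hli : LinearIndependent R (fun s : Fin p => ξ ^ (s : ℕ)) := by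
      apply li_of_dual_family _
        (fun t : Fin p => LinearMap.applyₗ (x ^ (t : ℕ)) ∘ₗ (toDual R A).toLinearMap)
        (fun s => W s) hWu
      intro s t
      show (ξ ^ (t : ℕ)).ofConv (x ^ (s : ℕ)) = _
      rw [hP t s]
      by_cases hst : s = t
      · rw [if_pos hst, if_pos hst.symm, hst]
      · rw [if_neg hst, if_neg (Ne.symm hst)]
    exact ⟨Module.Basis.mk hli (fun h _ => mem_span_pow u χ hu hχ hχp hpDA ξ hξ h),
      fun t => Module.Basis.mk_apply _ _ t⟩

theorem main475 (hu : u * ((p - 1 : ℕ) : R) = 1)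
    (hχ : ∀ m : (ZMod p)ˣ, m ≠ 1 → IsUnit ((χ m : R) - 1))
    (hχp : ∀ m : (ZMod p)ˣ, ((χ m : Rˣ) : R) - (((m : ZMod p).val : ℕ) : R) ∈
      Ideal.span ({(p : R)} : Set R))
    (hrk : ∀ q : PrimeSpectrum R, Module.rankAtStalk A q = p)
    (hrk' : ∀ q : PrimeSpectrum R, Module.rankAtStalk A' q = p)
    (x : A) (hx : Submodule.span R {x} = OortTate.eigenAug R A p χ 1)
    (ξ : D R A) (hξ : Submodule.span R {ξ} = OortTate.eigenAug R (D R A) p χ 1)
    (hxξ : ξ.ofConv x = 1)
    (x' : A') (hx' : Submodule.span R {x'} = OortTate.eigenAug R A' p χ 1)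
    (ξ' : D R A') (hξ' : Submodule.span R {ξ'} = OortTate.eigenAug R (D R A') p χ 1)
    (hxξ' : ξ'.ofConv x' = 1)
    (α β α' β' : R) (hα : x ^ p = α • x) (hβ : ξ ^ p = β • ξ) (hα' : x' ^ p = α' • x')
    (hβ' : ξ' ^ p = β' • ξ')
    (vv vi : R) (hvi : vi * vv = 1) (hαv : α' = vv ^ (p - 1) * α)
    (hβv : β' = vi ^ (p - 1) * β) : Nonempty (A ≃ₐc[R] A') := by
  have hp2 := (Fact.out : p.Prime).two_le
  have hWex : ∀ t : ℕ, ∃ w : R, (t = 0 → w = 1) ∧
      (1 ≤ t → OortTate.ygen R p u χ 1 ^ t = w • OortTate.ygen R p u χ t) := by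
    intro t
    by_cases ht : t = 0
    · exact ⟨1, fun _ => rfl, fun h => by omega⟩
    · obtain ⟨w, hw⟩ := exists_w u χ hu t (by omega)
      exact ⟨w, fun h => absurd h ht, fun _ => hw⟩
  choose W hW using hWex
  have hW0 : W 0 = 1 := (hW 0).1 rfl
  have hW1 : ∀ t, 1 ≤ t → OortTate.ygen R p u χ 1 ^ t = W t • OortTate.ygen R p u χ t :=
    fun t ht => (hW t).2 ht
  have hP := pair_formula u χ hu hχ hχp hrk x ξ hx hξ hxξ W hW0 hW1
  have hP' := pair_formula u χ hu hχ hχp hrk' x' ξ' hx' hξ' hxξ' W hW0 hW1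
  obtain ⟨⟨bA, hbA⟩, ⟨bD, hbD⟩⟩ := exists_pow_bases u χ hu hχ hχp hrk x ξ hx hξ hxξ W hW0 hW1
  obtain ⟨⟨bA', hbA'⟩, ⟨bD', hbD'⟩⟩ :=
    exists_pow_bases u χ hu hχ hχp hrk' x' ξ' hx' hξ' hxξ' W hW0 hW1
  have hvv : vv * vi = 1 := by
    rw [mul_comm]
    exact hvi
  have e_vi : vi ^ p = vi ^ (p - 1) * vi := by
    rw [← pow_succ, Nat.sub_add_cancel (by omega : 1 ≤ p)]
  have e_vv : vv ^ p = vv ^ (p - 1) * vv := by
    rw [← pow_succ, Nat.sub_add_cancel (by omega : 1 ≤ p)]
  have h11 : vi ^ (p - 1) * vv ^ (p - 1) = 1 := by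
    rw [← mul_pow, hvi, one_pow]
  -- the three algebra maps
  obtain ⟨f, hf⟩ := exists_algHom_of_pow_basis p hp2 x bA hbA α hα (vi • x') (by
    rw [smul_pow, hα', smul_smul, smul_smul, hαv, e_vi]
    congr 1
    calc vi ^ (p - 1) * vi * (vv ^ (p - 1) * α)
        = (vi ^ (p - 1) * vv ^ (p - 1)) * (α * vi) := by ring
      _ = α * vi := by rw [h11, one_mul])
  obtain ⟨f', hf'⟩ := exists_algHom_of_pow_basis p hp2 x' bA' hbA' α' hα' (vv • x) (by
    rw [smul_pow, hα, smul_smul, smul_smul, hαv, e_vv]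
    congr 1
    ring)
  obtain ⟨G, hG⟩ := exists_algHom_of_pow_basis p hp2 ξ' bD' hbD' β' hβ' (vi • ξ) (by
    rw [smul_pow, hβ, smul_smul, smul_smul, hβv, e_vi]
    congr 1
    ring)
  have h1 : f'.comp f = AlgHom.id R A := by
    apply algHom_ext_of_pow_basis x bA hbA
    show f' (f x) = x
    rw [hf, map_smul, hf', smul_smul, hvi, one_smul]
  have h2 : f.comp f' = AlgHom.id R A' := by
    apply algHom_ext_of_pow_basis x' bA' hbA'
    show f (f' x') = x'
    rw [hf', map_smul, hf, smul_smul, hvv, one_smul]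
  -- adjointness of `f` and `G`
  have hadj : ∀ (η' : D R A') (a : A), η'.ofConv (f a) = (G η').ofConv a := by
    have h3 : (LinearMap.lcomp R R f.toLinearMap) ∘ₗ (toDual R A').toLinearMap =
        (toDual R A).toLinearMap ∘ₗ G.toLinearMap := by
      apply bD'.ext
      intro s
      apply bA.ext
      intro t
      rw [hbD', hbA]
      show (ξ' ^ (s : ℕ)).ofConv (f (x ^ (t : ℕ))) = (G (ξ' ^ (s : ℕ))).ofConv (x ^ (t : ℕ))
      rw [map_pow f, map_pow G, hf, hG, smul_pow, smul_pow, map_smul, WithConv.ofConv_smul,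
        LinearMap.smul_apply, hP' s t, hP s t]
      by_cases hst : s = t
      · rw [hst]
      · rw [if_neg hst, smul_zero, smul_zero]
    intro η' a
    exact LinearMap.congr_fun (LinearMap.congr_fun h3 η') a
  have hcounit : ∀ a : A, Coalgebra.counit (R := R) (f a) = Coalgebra.counit (R := R) a := by
    intro a
    have h3 := hadj 1 a
    rw [map_one] at h3
    exact h3
  have hcomul : ∀ a : A, TensorProduct.map f.toLinearMap f.toLinearMap
      (Coalgebra.comul (R := R) a) = Coalgebra.comul (R := R) (f a) := by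
    intro a
    apply eq_of_ev₂
    intro η₁ η₂
    rw [ev₂_tmul_eq']
    have e1 : η₁.ofConv ∘ₗ f.toLinearMap = (G η₁).ofConv := LinearMap.ext (fun b => hadj η₁ b)
    have e2 : η₂.ofConv ∘ₗ f.toLinearMap = (G η₂).ofConv := LinearMap.ext (fun b => hadj η₂ b)
    have h3 : TensorProduct.map η₁.ofConv η₂.ofConv
        (TensorProduct.map f.toLinearMap f.toLinearMap (Coalgebra.comul (R := R) a)) =
        TensorProduct.map (G η₁).ofConv (G η₂).ofConv (Coalgebra.comul (R := R) a) := by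
      rw [TensorProduct.map_map, e1, e2]
    calc LinearMap.mul' R R (TensorProduct.map η₁.ofConv η₂.ofConv
          (TensorProduct.map f.toLinearMap f.toLinearMap (Coalgebra.comul (R := R) a)))
        = LinearMap.mul' R R (TensorProduct.map (G η₁).ofConv (G η₂).ofConv
          (Coalgebra.comul (R := R) a)) := by rw [h3]
      _ = (G η₁ * G η₂).ofConv a := rfl
      _ = (G (η₁ * η₂)).ofConv a := by rw [map_mul]
      _ = (η₁ * η₂).ofConv (f a) := (hadj _ _).symm
      _ = LinearMap.mul' R R (TensorProduct.map η₁.ofConv η₂.ofConv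
          (Coalgebra.comul (R := R) (f a))) := rfl
  refine ⟨BialgEquiv.ofAlgEquiv (AlgEquiv.ofAlgHom f f' h2 h1) ?_ ?_⟩
  · apply AlgHom.ext
    intro a
    exact hcounit a
  · apply AlgHom.ext
    intro a
    exact hcomul a

end Main

end Groth.Agent.Lib.Helper19.OT
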