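import Mathlib
import Groth.Agent.Lib.Helper19.ConvBC
import Groth.Agent.Lib.Helper19.Deligne2

/-!
# Commutativity of group schemes of prime order, I: generalities (helper19)

* `isCocomm_of_dual_comm`: a bialgebra, free of finite rank as a module, whose linear dual is
  commutative for convolution, is cocommutative.
* `isCocomm_of_localization`: cocommutativity can be checked after localizing at the maximal
  ideals of the base.
* `rho`: base change of functionals, a ring map for the convolution products.
-/

set_option autoImplicit false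
universe u

open TensorProduct

namespace Groth.Agent.Lib.Helper19.OTComm

open Groth.Agent.Lib.Helper19 Groth.Agent.Lib.Helper19.ConvBC

section DualComm

variable {R : Type u} [CommRing R] {A : Type u} [CommRing A] [Bialgebra R A]

theorem isCocomm_of_dual_comm {ι : Type*} (b : Module.Basis ι R A)
    (h : ∀ f g : WithConv (A →ₗ[R] R), f * g = g * f) : Coalgebra.IsCocomm R A := by
  constructor
  apply LinearMap.ext
  intro a
  show TensorProduct.comm R A A (Coalgebra.comul (R := R) a) = Coalgebra.comul (R := R) a
  apply (b.tensorProduct b).ext_elem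
  rintro ⟨i, j⟩
  have key : ∀ (f g : A →ₗ[R] R) (t : A ⊗[R] A),
      LinearMap.mul' R R (TensorProduct.map f g (TensorProduct.comm R A A t)) =
        LinearMap.mul' R R (TensorProduct.map g f t) := by
    intro f g t
    induction t using TensorProduct.induction_on with
    | zero => simp only [map_zero]
    | add t₁ t₂ h₁ h₂ => simp only [map_add, h₁, h₂]
    | tmul x y =>
      rw [TensorProduct.comm_tmul, TensorProduct.map_tmul, TensorProduct.map_tmul,
        LinearMap.mul'_apply, LinearMap.mul'_apply, mul_comm]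
  have hrepr : ∀ t : A ⊗[R] A, (b.tensorProduct b).repr t (i, j) =
      LinearMap.mul' R R (TensorProduct.map (b.coord i) (b.coord j) t) := by
    intro t
    induction t using TensorProduct.induction_on with
    | zero => simp only [map_zero, Finsupp.zero_apply]
    | add t₁ t₂ h₁ h₂ => simp only [map_add, Finsupp.add_apply, h₁, h₂]
    | tmul x y =>
      rw [Module.Basis.tensorProduct_repr_tmul_apply, TensorProduct.map_tmul,
        LinearMap.mul'_apply, Module.Basis.coord_apply, Module.Basis.coord_apply, smul_eq_mul,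
        mul_comm]
  rw [hrepr, hrepr, key]
  have h1 := h (WithConv.toConv (b.coord j)) (WithConv.toConv (b.coord i))
  have h2 := congrArg (fun φ : WithConv (A →ₗ[R] R) => φ.ofConv a) h1
  exact h2

end DualComm

section Localization

variable (R : Type u) [CommRing R] (R' : Type u) [CommRing R'] [Algebra R R']
  (A : Type u) [CommRing A] [Bialgebra R A]

lemma iota2_comm (t : A ⊗[R] A) : iota2 R R' A (TensorProduct.comm R A A t) =
    TensorProduct.comm R' (R' ⊗[R] A) (R' ⊗[R] A) (iota2 R R' A t) := by
  induction t using TensorProduct.induction_on with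
  | zero => simp only [map_zero]
  | add t₁ t₂ h₁ h₂ => simp only [map_add, h₁, h₂]
  | tmul x y => rw [TensorProduct.comm_tmul, iota2_tmul, iota2_tmul, TensorProduct.comm_tmul]

lemma one_tmul_eq_zero_of_iota2 (t : A ⊗[R] A) (h : iota2 R R' A t = 0) :
    (1 : R') ⊗ₜ[R] t = 0 := by
  rw [iota2_apply] at h
  have h1 : ((1 : R') ⊗ₜ[R'] (1 : R')) ⊗ₜ[R] t = 0 := (LinearEquiv.map_eq_zero_iff _).1 h
  have h2 := congrArg (LinearMap.rTensor (A ⊗[R] A)
    (((TensorProduct.lid R' R').toLinearMap).restrictScalars R)) h1
  rw [LinearMap.rTensor_tmul, map_zero] at h2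
  have h3 : (((TensorProduct.lid R' R').toLinearMap).restrictScalars R)
      ((1 : R') ⊗ₜ[R'] (1 : R')) = 1 := by
    show TensorProduct.lid R' R' ((1 : R') ⊗ₜ[R'] (1 : R')) = 1
    rw [TensorProduct.lid_tmul, smul_eq_mul, mul_one]
  rw [h3] at h2
  exact h2

variable {R A}

theorem isCocomm_of_localization [Module.Projective R A]
    (h : ∀ (P : Ideal R) [P.IsMaximal], Coalgebra.IsCocomm (Localization.AtPrime P)
      (Localization.AtPrime P ⊗[R] A)) : Coalgebra.IsCocomm R A := by
  constructor
  apply LinearMap.ext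
  intro a
  show TensorProduct.comm R A A (Coalgebra.comul (R := R) a) = Coalgebra.comul (R := R) a
  rw [← sub_eq_zero]
  apply Deligne.eq_zero_of_forall_localization (R₀ := R)
  intro P hP
  haveI := h P
  apply one_tmul_eq_zero_of_iota2
  rw [map_sub, iota2_comm, ← comul_one_tmul, sub_eq_zero]
  exact Coalgebra.comm_comul (Localization.AtPrime P) _

end Localization

section Rho

variable (R : Type u) [CommRing R] (R' : Type u) [CommRing R'] [Algebra R R']
  (A : Type u) [CommRing A] [Bialgebra R A]

/-- base change of a functional -/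
noncomputable def rho (f : WithConv (A →ₗ[R] R)) : WithConv (R' ⊗[R] A →ₗ[R'] R') :=
  WithConv.toConv ((AlgebraTensorModule.rid R R' R').toLinearMap ∘ₗ f.ofConv.baseChange R')

variable {R A}

lemma rho_tmul (f : WithConv (A →ₗ[R] R)) (k : R') (a : A) :
    (rho R R' A f).ofConv (k ⊗ₜ[R] a) = f.ofConv a • k := by
  show AlgebraTensorModule.rid R R' R' (f.ofConv.baseChange R' (k ⊗ₜ[R] a)) = _
  rw [LinearMap.baseChange_tmul, AlgebraTensorModule.rid_tmul]

lemma rho_one_tmul (f : WithConv (A →ₗ[R] R)) (a : A) :
    (rho R R' A f).ofConv ((1 : R') ⊗ₜ[R] a) = algebraMap R R' (f.ofConv a) := by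
  rw [rho_tmul, Algebra.algebraMap_eq_smul_one]

lemma ext_one_tmul {φ ψ : WithConv (R' ⊗[R] A →ₗ[R'] R')}
    (h : ∀ a : A, φ.ofConv ((1 : R') ⊗ₜ[R] a) = ψ.ofConv ((1 : R') ⊗ₜ[R] a)) : φ = ψ := by
  apply WithConv.ext
  apply TensorProduct.AlgebraTensorModule.ext
  intro k a
  have h1 : k ⊗ₜ[R] a = k • ((1 : R') ⊗ₜ[R] a) := by
    rw [TensorProduct.smul_tmul', smul_eq_mul, mul_one]
  rw [h1, map_smul, map_smul, h a]

lemma rho_one : rho R R' A (1 : WithConv (A →ₗ[R] R)) = 1 := by
  apply ext_one_tmul
  intro a
  rw [rho_one_tmul]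
  show algebraMap R R' (algebraMap R R (Coalgebra.counit (R := R) a)) =
    algebraMap R' R' (Coalgebra.counit (R := R') ((1 : R') ⊗ₜ[R] a))
  rw [counit_one_tmul, Algebra.algebraMap_self_apply, Algebra.algebraMap_self_apply]

lemma rho_mul (f g : WithConv (A →ₗ[R] R)) :
    rho R R' A (f * g) = rho R R' A f * rho R R' A g := by
  apply ext_one_tmul
  intro a
  rw [rho_one_tmul, LinearMap.convMul_apply, LinearMap.convMul_apply, comul_one_tmul]
  generalize Coalgebra.comul (R := R) a = t
  induction t using TensorProduct.induction_on with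
  | zero => simp only [map_zero]
  | add t₁ t₂ h₁ h₂ => simp only [map_add, h₁, h₂]
  | tmul x y =>
    rw [iota2_tmul, TensorProduct.map_tmul, TensorProduct.map_tmul, LinearMap.mul'_apply,
      LinearMap.mul'_apply, rho_one_tmul, rho_one_tmul, map_mul]

lemma rho_pow (f : WithConv (A →ₗ[R] R)) (n : ℕ) :
    rho R R' A (f ^ n) = (rho R R' A f) ^ n := by
  induction n with
  | zero => rw [pow_zero, pow_zero, rho_one]
  | succ n ih => rw [pow_succ, pow_succ, rho_mul, ih]

end Rho

end Groth.Agent.Lib.Helper19.OTComm
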