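import Mathlib
import Groth.Agent.Lib.Helper19.OT5
import Groth.Agent.Lib.Helper19.OTComm1

/-!
# Commutativity of group schemes of prime order, II: two criteria over a local ring (helper19)

* `comm_of_isUnit_det`: if the powers `1, d, …, d ^ (n-1)` of a functional `d` have an invertible
  matrix of values on a basis of `A`, the convolution algebra of functionals is commutative.
* `comm_of_point`: (Cramer's rule for the universal point) if `A` has a point `γ` of exact order
  `p = rank A` with values in a field over the residue field, the convolution algebra of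
  functionals is commutative.
-/

set_option autoImplicit false
universe u

open TensorProduct

namespace Groth.Agent.Lib.Helper19.OTComm

open Groth.Agent.Lib.Helper19 Groth.Agent.Lib.Helper19.ConvBC Groth.Agent.Lib.Helper19.OT

lemma commute_sum_pow {E : Type*} [Ring E] {S : Type*} [CommRing S] [Algebra S E] (L : E) {n : ℕ}
    (c c' : Fin n → S) :
    Commute (∑ i : Fin n, c i • L ^ (i : ℕ)) (∑ j : Fin n, c' j • L ^ (j : ℕ)) := by
  apply Commute.sum_left
  intro i _
  apply Commute.sum_right
  intro j _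
  exact (((Commute.refl L).pow_pow _ _).smul_left _).smul_right _

section LemmaA

variable {R : Type u} [CommRing R] {A : Type u} [CommRing A] [Bialgebra R A]

theorem comm_of_isUnit_det {n : ℕ} (b : Module.Basis (Fin n) R A) (d : WithConv (A →ₗ[R] R))
    (hdet : IsUnit (Matrix.of (fun i j : Fin n => (d ^ (i : ℕ)).ofConv (b j))).det)
    (f g : WithConv (A →ₗ[R] R)) : f * g = g * f := by
  obtain ⟨V, hV⟩ : ∃ V : Matrix (Fin n) (Fin n) R,
      V = Matrix.of (fun i j : Fin n => (d ^ (i : ℕ)).ofConv (b j)) := ⟨_, rfl⟩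
  rw [← hV] at hdet
  have hrep : ∀ φ : WithConv (A →ₗ[R] R), ∃ c : Fin n → R,
      φ = ∑ i : Fin n, c i • d ^ (i : ℕ) := by
    intro φ
    refine ⟨Matrix.vecMul (fun j => φ.ofConv (b j)) V⁻¹, ?_⟩
    apply WithConv.ext
    apply b.ext
    intro j
    rw [WithConv.ofConv_sum, LinearMap.sum_apply]
    have h1 : ∀ i : Fin n, ((Matrix.vecMul (fun j => φ.ofConv (b j)) V⁻¹ i) •
        d ^ (i : ℕ)).ofConv (b j) =
          Matrix.vecMul (fun j => φ.ofConv (b j)) V⁻¹ i * V i j := by
      intro i
      rw [WithConv.ofConv_smul, LinearMap.smul_apply, smul_eq_mul, hV]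
      rfl
    rw [Finset.sum_congr rfl (fun i _ => h1 i)]
    have h2 : ∑ i, Matrix.vecMul (fun j => φ.ofConv (b j)) V⁻¹ i * V i j =
        Matrix.vecMul (Matrix.vecMul (fun j => φ.ofConv (b j)) V⁻¹) V j := rfl
    rw [h2, Matrix.vecMul_vecMul, Matrix.nonsing_inv_mul _ hdet, Matrix.vecMul_one]
  obtain ⟨c, hc⟩ := hrep f
  obtain ⟨c', hc'⟩ := hrep g
  rw [hc, hc']
  exact commute_sum_pow d c c'

end LemmaA

section LemmaB

variable {R : Type u} [CommRing R] [IsLocalRing R] {A : Type u} [CommRing A] [HopfAlgebra R A]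
  {K : Type u} [Field K] [Algebra R K]

theorem comm_of_point {p : ℕ} (hp : p.Prime) (b : Module.Basis (Fin p) R A)
    (hK : ∀ r ∈ IsLocalRing.maximalIdeal R, algebraMap R K r = 0)
    (γ : A →ₐ[R] K)
    (hγp : ∀ a : A, γ (pw R A p a) = algebraMap R K (Coalgebra.counit (R := R) a))
    (hγ1 : ∃ a : A, γ a ≠ algebraMap R K (Coalgebra.counit (R := R) a))
    (f g : WithConv (A →ₗ[R] R)) : f * g = g * f := by
  classical
  haveI : Fact p.Prime := ⟨hp⟩
  -- the point `x` and its powers
  obtain ⟨x, hx⟩ : ∃ x : WithConv (A →ₐ[R] K), x = WithConv.toConv γ := ⟨_, rfl⟩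
  have hxn : ∀ n : ℕ, (x ^ n).ofConv = γ.comp (pw R A n) := by
    intro n
    have h := comp_pow γ (WithConv.toConv (AlgHom.id R A)) n
    rw [WithConv.ofConv_toConv, AlgHom.comp_id] at h
    rw [hx]
    exact h.symm
  have hxp : x ^ p = 1 := by
    apply WithConv.ext
    rw [hxn]
    apply AlgHom.ext
    intro a
    exact hγp a
  have hx1 : x ≠ 1 := by
    intro h
    obtain ⟨a, ha⟩ := hγ1
    apply ha
    have h1 := congrArg (fun y : WithConv (A →ₐ[R] K) => y.ofConv a) h
    rw [hx] at h1
    exact h1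
  have hord : orderOf x = p := orderOf_eq_prime hxp hx1
  have hinj : Function.Injective (fun n : Fin p => γ.comp (pw R A (n : ℕ))) := by
    intro i j hij
    have h1 : x ^ (i : ℕ) = x ^ (j : ℕ) := by
      apply WithConv.ext
      rw [hxn, hxn]
      exact hij
    have h2 := pow_injOn_Iio_orderOf (x := x) (by rw [Set.mem_Iio, hord]; exact i.2)
      (by rw [Set.mem_Iio, hord]; exact j.2) h1
    exact Fin.ext h2
  -- independence of the points
  have hF : LinearIndependent K (fun n : Fin p => (γ.comp (pw R A (n : ℕ))).toLinearMap) :=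
    (linearIndependent_algHom_toLinearMap R A K).comp _ hinj
  -- the matrix of the universal point
  obtain ⟨W, hW⟩ : ∃ W : Matrix (Fin p) (Fin p) A,
      W = Matrix.of (fun n i : Fin p => pw R A (n : ℕ) (b i)) := ⟨_, rfl⟩
  have hdet : γ W.det ≠ 0 := by
    intro h0
    have h1 : ((γ : A →+* K).mapMatrix W).det = 0 := by
      rw [← RingHom.map_det]
      exact h0
    obtain ⟨v, hv0, hv⟩ := Matrix.exists_vecMul_eq_zero_iff.2 h1
    apply hv0
    have hsum : ∑ n : Fin p, v n • (γ.comp (pw R A (n : ℕ))).toLinearMap = 0 := by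
      apply b.ext
      intro i
      rw [LinearMap.sum_apply, LinearMap.zero_apply]
      have h2 : ∑ n : Fin p, v n * γ (pw R A (n : ℕ) (b i)) = 0 := by
        have h3 := congrFun hv i
        rw [hW] at h3
        exact h3
      rw [← h2]
      apply Finset.sum_congr rfl
      intro n _
      rfl
    funext n
    exact Fintype.linearIndependent_iff.1 hF v hsum n
  -- Cramer's rule
  have hrep : ∀ φ : WithConv (A →ₗ[R] A), ∃ c : Fin p → A,
      W.det • φ = ∑ n : Fin p, c n • (LL R A) ^ (n : ℕ) := by
    intro φ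
    refine ⟨Matrix.vecMul (fun i => φ.ofConv (b i)) W.adjugate, ?_⟩
    apply WithConv.ext
    apply b.ext
    intro i
    rw [WithConv.ofConv_smul, LinearMap.smul_apply, WithConv.ofConv_sum, LinearMap.sum_apply]
    have h1 : ∀ n : Fin p, ((Matrix.vecMul (fun i => φ.ofConv (b i)) W.adjugate n) •
        (LL R A) ^ (n : ℕ)).ofConv (b i) =
          Matrix.vecMul (fun i => φ.ofConv (b i)) W.adjugate n * W n i := by
      intro n
      rw [WithConv.ofConv_smul, LinearMap.smul_apply, LL_pow_apply, smul_eq_mul, hW]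
      rfl
    rw [Finset.sum_congr rfl (fun n _ => h1 n)]
    have h2 : ∑ n, Matrix.vecMul (fun i => φ.ofConv (b i)) W.adjugate n * W n i =
        Matrix.vecMul (Matrix.vecMul (fun i => φ.ofConv (b i)) W.adjugate) W i := rfl
    rw [h2, Matrix.vecMul_vecMul, Matrix.adjugate_mul, Matrix.vecMul_smul, Matrix.vecMul_one,
      Pi.smul_apply]
  have hcomm : ∀ φ ψ : WithConv (A →ₗ[R] A),
      (W.det * W.det) • (φ * ψ) = (W.det * W.det) • (ψ * φ) := by
    intro φ ψ
    obtain ⟨c, hc⟩ := hrep φ
    obtain ⟨c', hc'⟩ := hrep ψ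
    have h1 : Commute (W.det • φ) (W.det • ψ) := by
      rw [hc, hc']
      exact commute_sum_pow (LL R A) c c'
    have h2 : (W.det • φ) * (W.det • ψ) = (W.det • ψ) * (W.det • φ) := h1
    rw [smul_mul_smul_comm, smul_mul_smul_comm] at h2
    exact h2
  -- functionals, viewed in the convolution algebra of endomorphisms
  have hj : ∀ φ ψ : WithConv (A →ₗ[R] R),
      WithConv.toConv ((Algebra.ofId R A).toLinearMap ∘ₗ (φ * ψ).ofConv) =
        WithConv.toConv ((Algebra.ofId R A).toLinearMap ∘ₗ φ.ofConv) *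
          WithConv.toConv ((Algebra.ofId R A).toLinearMap ∘ₗ ψ.ofConv) := by
    intro φ ψ
    apply WithConv.ext
    exact LinearMap.algHom_comp_convMul_distrib (Algebra.ofId R A) φ ψ
  apply WithConv.ext
  apply LinearMap.ext
  intro a
  obtain ⟨r, hr⟩ : ∃ r : R, r = (f * g).ofConv a - (g * f).ofConv a := ⟨_, rfl⟩
  have hr0 : r • (W.det * W.det) = 0 := by
    have h1 := hcomm (WithConv.toConv ((Algebra.ofId R A).toLinearMap ∘ₗ f.ofConv))
      (WithConv.toConv ((Algebra.ofId R A).toLinearMap ∘ₗ g.ofConv))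
    rw [← hj, ← hj] at h1
    have h2 := congrArg (fun φ : WithConv (A →ₗ[R] A) => φ.ofConv a) h1
    have h3 : (W.det * W.det) * algebraMap R A ((f * g).ofConv a) =
        (W.det * W.det) * algebraMap R A ((g * f).ofConv a) := h2
    rw [hr, Algebra.smul_def, map_sub]
    linear_combination h3
  have hr_zero : r = 0 := by
    by_contra hrne
    have hcoord : ∀ i, r * b.repr (W.det * W.det) i = 0 := by
      intro i
      have h1 := congrArg (fun y => b.repr y i) hr0
      simpa [map_smul] using h1
    have hmem : ∀ i, b.repr (W.det * W.det) i ∈ IsLocalRing.maximalIdeal R := by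
      intro i
      rw [IsLocalRing.mem_maximalIdeal, mem_nonunits_iff]
      intro hu
      exact hrne ((hu.mul_left_eq_zero).1 (hcoord i))
    have hγδ : γ (W.det * W.det) = 0 := by
      rw [← b.sum_repr (W.det * W.det), map_sum]
      apply Finset.sum_eq_zero
      intro i _
      rw [map_smul, Algebra.smul_def, hK _ (hmem i), zero_mul]
    rw [map_mul, mul_self_eq_zero] at hγδ
    exact hdet hγδ
  exact sub_eq_zero.1 (hr.symm.trans hr_zero)

end LemmaB

end Groth.Agent.Lib.Helper19.OTComm
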