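import Mathlib
import Groth.Agent.Lib.Helper19.OTComm2
import Groth.Agent.Lib.Helper19.PrimeOrder
import Groth.Agent.Lib.Helper19.FinOrd3
import Groth.Agent.Lib.Helper19.DistSub1

/-!
# Commutativity of group schemes of prime order, III: the theorem (helper19)

`isCocomm_of_rank_prime`: a commutative Hopf algebra, finite projective of constant prime rank
over an arbitrary commutative ring, is cocommutative.
-/

set_option autoImplicit false
universe u

open TensorProduct

namespace Groth.Agent.Lib.Helper19.OTComm

open Groth.Agent.Lib.Helper19 Groth.Agent.Lib.Helper19.ConvBC Groth.Agent.Lib.Helper19.OT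
open Groth.Agent.Lib.Helper19.ConvLeibniz

section Local

variable {R : Type u} [CommRing R] [IsLocalRing R] {A : Type u} [CommRing A] [HopfAlgebra R A]

lemma exists_one_tmul (x : (IsLocalRing.ResidueField R) ⊗[R] A) :
    ∃ a : A, (1 : IsLocalRing.ResidueField R) ⊗ₜ[R] a = x := by
  induction x using TensorProduct.induction_on with
  | zero => exact ⟨0, TensorProduct.tmul_zero _ _⟩
  | add x y hx hy =>
    obtain ⟨a, rfl⟩ := hx
    obtain ⟨a', rfl⟩ := hy
    exact ⟨a + a', TensorProduct.tmul_add _ _ _⟩
  | tmul k a =>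
    obtain ⟨r, rfl⟩ := IsLocalRing.residue_surjective k
    refine ⟨r • a, ?_⟩
    rw [TensorProduct.tmul_smul, TensorProduct.smul_tmul', Algebra.smul_def, mul_one]
    rfl

theorem dual_comm_of_local {p : ℕ} (hp : p.Prime) (b : Module.Basis (Fin p) R A)
    (f g : WithConv (A →ₗ[R] R)) : f * g = g * f := by
  classical
  haveI : Fact p.Prime := ⟨hp⟩
  have hp2 := hp.two_le
  obtain ⟨bκ, hbκ⟩ : ∃ bκ : Module.Basis (Fin p) (IsLocalRing.ResidueField R)
      ((IsLocalRing.ResidueField R) ⊗[R] A), bκ = b.baseChange (IsLocalRing.ResidueField R) :=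
    ⟨_, rfl⟩
  haveI : Module.Finite (IsLocalRing.ResidueField R) ((IsLocalRing.ResidueField R) ⊗[R] A) :=
    Module.Finite.of_basis bκ
  have hfr : Module.finrank (IsLocalRing.ResidueField R)
      ((IsLocalRing.ResidueField R) ⊗[R] A) = p := by
    rw [Module.finrank_eq_card_basis bκ, Fintype.card_fin]
  by_cases hred : IsReduced ((IsLocalRing.ResidueField R) ⊗[R] A)
  · -- the special fibre is reduced: a point of order `p`
    have hid : (WithConv.toConv (AlgHom.id (IsLocalRing.ResidueField R)
        ((IsLocalRing.ResidueField R) ⊗[R] A))) ^ p = 1 := by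
      have h := FinOrd.id_pow_finrank_eq_one (IsLocalRing.ResidueField R)
        ((IsLocalRing.ResidueField R) ⊗[R] A)
      rwa [hfr] at h
    obtain ⟨x, hx0, hxne⟩ : ∃ x : (IsLocalRing.ResidueField R) ⊗[R] A,
        Coalgebra.counit (R := IsLocalRing.ResidueField R) x = 0 ∧ x ≠ 0 := by
      by_contra hcon
      push Not at hcon
      have hinj : Function.Injective (Coalgebra.counit (R := IsLocalRing.ResidueField R)
          (A := (IsLocalRing.ResidueField R) ⊗[R] A)) := by
        rw [injective_iff_map_eq_zero]
        exact hcon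
      have h1 := LinearMap.finrank_le_finrank_of_injective hinj
      rw [hfr, Module.finrank_self] at h1
      omega
    obtain ⟨P, hP, hxP⟩ : ∃ P : Ideal ((IsLocalRing.ResidueField R) ⊗[R] A),
        P.IsPrime ∧ x ∉ P := by
      have hnil : ¬ IsNilpotent x := fun h => hxne h.eq_zero
      have hmem : x ∉ nilradical ((IsLocalRing.ResidueField R) ⊗[R] A) :=
        fun h => hnil (mem_nilradical.1 h)
      by_contra hcon
      apply hmem
      rw [nilradical_eq_sInf, Ideal.mem_sInf]
      intro I hI
      by_contra haI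
      exact hcon ⟨I, hI, haI⟩
    haveI := hP
    haveI : IsArtinianRing ((IsLocalRing.ResidueField R) ⊗[R] A) :=
      IsArtinianRing.of_finite (IsLocalRing.ResidueField R) _
    haveI : P.IsMaximal := IsArtinianRing.isMaximal_of_isPrime P
    letI : Field (((IsLocalRing.ResidueField R) ⊗[R] A) ⧸ P) := Ideal.Quotient.field P
    refine comm_of_point hp b (K := ((IsLocalRing.ResidueField R) ⊗[R] A) ⧸ P) ?_
      ((Ideal.Quotient.mkₐ R P).comp (Algebra.TensorProduct.includeRight)) ?_ ?_ f g
    · intro r hr
      have h1 : algebraMap R (((IsLocalRing.ResidueField R) ⊗[R] A) ⧸ P) r =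
          Ideal.Quotient.mk P (algebraMap R ((IsLocalRing.ResidueField R) ⊗[R] A) r) := rfl
      rw [h1, Algebra.TensorProduct.algebraMap_apply, IsLocalRing.ResidueField.algebraMap_eq,
        (IsLocalRing.residue_eq_zero_iff r).2 hr, TensorProduct.zero_tmul, map_zero]
    · intro a
      show Ideal.Quotient.mk P ((1 : IsLocalRing.ResidueField R) ⊗ₜ[R] pw R A p a) = _
      have h1 : (1 : IsLocalRing.ResidueField R) ⊗ₜ[R] pw R A p a =
          pw (IsLocalRing.ResidueField R) ((IsLocalRing.ResidueField R) ⊗[R] A) p
            ((1 : IsLocalRing.ResidueField R) ⊗ₜ[R] a) :=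
        (pow_id_one_tmul R (IsLocalRing.ResidueField R) A p a).symm
      have h2 : pw (IsLocalRing.ResidueField R) ((IsLocalRing.ResidueField R) ⊗[R] A) p
          ((1 : IsLocalRing.ResidueField R) ⊗ₜ[R] a) =
            algebraMap (IsLocalRing.ResidueField R) ((IsLocalRing.ResidueField R) ⊗[R] A)
              (Coalgebra.counit (R := IsLocalRing.ResidueField R)
                ((1 : IsLocalRing.ResidueField R) ⊗ₜ[R] a)) := by
        rw [pw_def, hid]
        rfl
      rw [h1, h2, counit_one_tmul,
        ← IsScalarTower.algebraMap_apply R (IsLocalRing.ResidueField R)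
          ((IsLocalRing.ResidueField R) ⊗[R] A)]
      rfl
    · obtain ⟨a, rfl⟩ := exists_one_tmul x
      refine ⟨a, ?_⟩
      have h1 : algebraMap R (((IsLocalRing.ResidueField R) ⊗[R] A) ⧸ P)
          (Coalgebra.counit (R := R) a) = 0 := by
        rw [counit_one_tmul] at hx0
        have h2 : algebraMap R (((IsLocalRing.ResidueField R) ⊗[R] A) ⧸ P)
            (Coalgebra.counit (R := R) a) =
              Ideal.Quotient.mk P (algebraMap R ((IsLocalRing.ResidueField R) ⊗[R] A)
                (Coalgebra.counit (R := R) a)) := rfl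
        rw [h2, Algebra.TensorProduct.algebraMap_apply, hx0, TensorProduct.zero_tmul, map_zero]
      rw [h1]
      show Ideal.Quotient.mk P ((1 : IsLocalRing.ResidueField R) ⊗ₜ[R] a) ≠ 0
      intro h
      exact hxP (Ideal.Quotient.eq_zero_iff_mem.1 h)
  · -- the special fibre is not reduced: a derivation
    have h0 : ((p : ℕ) : IsLocalRing.ResidueField R) = 0 := by
      by_contra h0
      exact hred (PrimeOrder.isReduced_of_finrank_ne_zero (IsLocalRing.ResidueField R)
        ((IsLocalRing.ResidueField R) ⊗[R] A) (by rw [hfr]; exact h0))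
    haveI : CharP (IsLocalRing.ResidueField R) p := by
      haveI := ringChar.charP (IsLocalRing.ResidueField R)
      have hdvd : ringChar (IsLocalRing.ResidueField R) ∣ p :=
        (CharP.cast_eq_zero_iff (IsLocalRing.ResidueField R)
          (ringChar (IsLocalRing.ResidueField R)) p).1 h0
      rcases (Nat.dvd_prime hp).1 hdvd with h1 | h1
      · exact absurd h1 CharP.ringChar_ne_one
      · rw [← h1]
        infer_instance
    obtain ⟨d', hd, hd0⟩ := DistSub.exists_epsDer_ne_zero (k := IsLocalRing.ResidueField R)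
      (DistSub.augI_sq_ne_of_not_isReduced (k := IsLocalRing.ResidueField R) hred)
    obtain ⟨a', ha0, ha1⟩ := DistSub.exists_normalized d' hd hd0
    have hM := DistSub.isUnit_det_Mat_of_der p d' hd a' ha0 ha1
    choose r hr using fun i : Fin p => IsLocalRing.residue_surjective
      (d'.ofConv ((1 : IsLocalRing.ResidueField R) ⊗ₜ[R] b i))
    obtain ⟨d, hdd⟩ : ∃ d : WithConv (A →ₗ[R] R), d = WithConv.toConv (b.constr R r) :=
      ⟨_, rfl⟩
    have hρ : rho R (IsLocalRing.ResidueField R) A d = d' := by
      apply WithConv.ext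
      apply bκ.ext
      intro i
      rw [hbκ, Module.Basis.baseChange_apply, rho_one_tmul, hdd, WithConv.ofConv_toConv,
        Module.Basis.constr_basis]
      exact hr i
    apply comm_of_isUnit_det b d
    rw [← IsLocalRing.residue_ne_zero_iff_isUnit]
    have hV : (IsLocalRing.residue R).mapMatrix
        (Matrix.of (fun i j : Fin p => (d ^ (i : ℕ)).ofConv (b j))) =
          Matrix.of (fun i j : Fin p => (d' ^ (i : ℕ)).ofConv (bκ j)) := by
      ext i j
      show IsLocalRing.residue R ((d ^ (i : ℕ)).ofConv (b j)) = (d' ^ (i : ℕ)).ofConv (bκ j)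
      rw [← hρ, ← rho_pow, hbκ, Module.Basis.baseChange_apply, rho_one_tmul]
      rfl
    rw [RingHom.map_det, hV]
    have hprod : DistSub.Mat p d' a' =
        Matrix.of (fun i j : Fin p => (d' ^ (i : ℕ)).ofConv (bκ j)) *
          Matrix.of (fun i m : Fin p => bκ.repr (a' ^ (m : ℕ)) i) := by
      ext n m
      rw [Matrix.mul_apply]
      show (d' ^ (n : ℕ)).ofConv (a' ^ (m : ℕ)) =
        ∑ i, (d' ^ (n : ℕ)).ofConv (bκ i) * bκ.repr (a' ^ (m : ℕ)) i
      conv_lhs => rw [← bκ.sum_repr (a' ^ (m : ℕ))]
      rw [map_sum]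
      apply Finset.sum_congr rfl
      intro i _
      rw [map_smul, smul_eq_mul, mul_comm]
    intro hdet0
    rw [hprod, Matrix.det_mul, hdet0, zero_mul] at hM
    exact not_isUnit_zero hM

end Local

section Global

/-- **A finite locally free group scheme of prime rank over any ring is commutative.** -/
theorem isCocomm_of_rank_prime (R : Type u) [CommRing R] (A : Type u) [CommRing A]
    [HopfAlgebra R A] [Module.Finite R A] [Module.Projective R A] (p : ℕ) (hp : p.Prime)
    (hrk : ∀ q : PrimeSpectrum R, Module.rankAtStalk A q = p) : Coalgebra.IsCocomm R A := by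
  apply isCocomm_of_localization
  intro P hP
  haveI : Module.Free (Localization.AtPrime P) (Localization.AtPrime P ⊗[R] A) :=
    Module.free_of_flat_of_isLocalRing
  have hfr : Module.finrank (Localization.AtPrime P) (Localization.AtPrime P ⊗[R] A) = p := by
    rw [← Module.rankAtStalk_eq_finrank_tensorProduct ⟨P, hP.isPrime⟩, hrk]
  exact isCocomm_of_dual_comm (Module.finBasisOfFinrankEq _ _ hfr)
    (dual_comm_of_local hp (Module.finBasisOfFinrankEq _ _ hfr))

end Global

end Groth.Agent.Lib.Helper19.OTComm
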