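import Mathlib
import Groth.Prelude.Def_W4c5ffgsreadingcourseOT
import Groth.Prelude.Def_CartDual
import Groth.Agent.Lib.Helper19.OT9
import Groth.Agent.Lib.Helper19.OTComm3

/-!
# Oort–Tate XI: `A` is the tensor algebra of `I_1` modulo `x_1 ⋯ x_p = g` (helper19)
-/

set_option autoImplicit false
universe u

open TensorProduct

namespace Groth.Agent.Lib.Helper19.OT

open Groth.Agent.Lib.Helper19 Groth.Agent.Lib.Helper19.ConvBC CartDual

section RankOneTrace

variable {R : Type u} [CommRing R] {M : Type u} [AddCommGroup M] [Module R M]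
  [Module.Finite R M] [Module.Projective R M]

/-- the "trace of the identity" of a projective module of rank one is one -/
lemma exists_dual_family_of_rank_one (hrk : ∀ q : PrimeSpectrum R, Module.rankAtStalk M q = 1) :
    ∃ (n : ℕ) (Λ : Fin n → M →ₗ[R] R) (E : Fin n → M), ∑ j, Λ j (E j) = 1 := by
  obtain ⟨n, f, hf⟩ := Module.Finite.exists_fin' R M
  obtain ⟨s, hs⟩ := Module.projective_lifting_property f LinearMap.id hf
  refine ⟨n, fun j => LinearMap.proj j ∘ₗ s, fun j => f (fun k => if j = k then 1 else 0), ?_⟩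
  have key : ∀ m : M, ∑ j, (s m j) • f (fun k => if j = k then 1 else 0) = m := by
    intro m
    rw [← LinearMap.pi_apply_eq_sum_univ f (s m)]
    exact LinearMap.congr_fun hs m
  rw [← sub_eq_zero]
  apply eq_zero_of_smul_eq_zero hrk
  intro m
  rw [sub_smul, one_smul, Finset.sum_smul, sub_eq_zero]
  conv_rhs => rw [← key m]
  apply Finset.sum_congr rfl
  intro j _
  exact smul_comm_of_rank_one hrk (LinearMap.proj j ∘ₗ s) _ m

end RankOneTrace

section General

variable {R : Type u} [CommRing R] {A : Type u} [CommRing A] [Algebra R A] (I : Submodule R A)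

lemma prod_mem_pow_fin : ∀ (n : ℕ) (g : Fin n → A), (∀ i, g i ∈ I) → ∏ i, g i ∈ I ^ n
  | 0, g, _ => by
    rw [Fin.prod_univ_zero, pow_zero]
    exact Submodule.mem_one.2 ⟨1, map_one _⟩
  | n + 1, g, h => by
    rw [Fin.prod_univ_succ, pow_succ']
    exact Submodule.mul_mem_mul (h 0) (prod_mem_pow_fin n _ (fun i => h _))

lemma pow_le_toSubmodule (S : Subalgebra R A) (h : I ≤ Subalgebra.toSubmodule S) (t : ℕ) :
    I ^ t ≤ Subalgebra.toSubmodule S := by
  induction t with
  | zero =>
    rw [pow_zero, Submodule.one_le]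
    exact S.one_mem
  | succ t ih =>
    rw [pow_succ, Submodule.mul_le]
    intro a ha b hb
    exact S.mul_mem (ih ha) (h hb)

/-- the canonical map `T(I) → A` -/
noncomputable abbrev phiT : TensorAlgebra R I →ₐ[R] A := TensorAlgebra.lift R I.subtype

/-- the degree one part of `T(I)` -/
abbrev N1 : Submodule R (TensorAlgebra R I) := LinearMap.range (TensorAlgebra.ι R (M := I))

/-- the relations -/
def genSet (p : ℕ) : Set (TensorAlgebra R I) :=
  {x : TensorAlgebra R I | ∃ (f : Fin p → I) (g : I), (g : A) = ∏ i, (f i : A) ∧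
    x = (List.ofFn fun i => TensorAlgebra.ι R (f i)).prod - TensorAlgebra.ι R g}

lemma phiT_ι (g : I) : phiT I (TensorAlgebra.ι R g) = (g : A) := TensorAlgebra.lift_ι_apply _ _

lemma phiT_mul_ι (c : TensorAlgebra R I) (g : I) :
    phiT I (c * TensorAlgebra.ι R g) = phiT I c * (g : A) := by
  rw [map_mul, phiT_ι]

/-- the "rank one" property of the graded pieces of `T(I)` -/
lemma P_pow (he : ∀ (l : I →ₗ[R] R) (f f' : I), l f • f' = l f' • f) (t : ℕ) :
    ∀ (Λ : A →ₗ[R] R) (z z' : TensorAlgebra R I), z ∈ N1 I ^ t → z' ∈ N1 I ^ t →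
      Λ (phiT I z) • z' = Λ (phiT I z') • z := by
  induction t with
  | zero =>
    intro Λ z z' hz hz'
    rw [pow_zero, Submodule.mem_one] at hz hz'
    obtain ⟨r, rfl⟩ := hz
    obtain ⟨r', rfl⟩ := hz'
    have e1 : ∀ s : R, Λ (algebraMap R A s) = s * Λ 1 := fun s => by
      rw [Algebra.algebraMap_eq_smul_one, map_smul, smul_eq_mul]
    have e2 : ∀ s : R, algebraMap R (TensorAlgebra R I) s = s • (1 : TensorAlgebra R I) :=
      fun s => Algebra.algebraMap_eq_smul_one s
    rw [AlgHom.commutes, AlgHom.commutes, e1, e1, e2, e2, smul_smul, smul_smul]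
    congr 1
    ring
  | succ t ih =>
    intro Λ z z' hz hz'
    rw [pow_succ] at hz hz'
    refine Submodule.mul_induction_on
      (C := fun z => Λ (phiT I z) • z' = Λ (phiT I z') • z) hz ?_ ?_
    · intro a ha b hb
      obtain ⟨f, rfl⟩ := hb
      refine Submodule.mul_induction_on
        (C := fun z' => Λ (phiT I (a * TensorAlgebra.ι R f)) • z' =
          Λ (phiT I z') • (a * TensorAlgebra.ι R f)) hz' ?_ ?_
      · intro a' ha' b' hb'
        obtain ⟨f', rfl⟩ := hb'
        rw [phiT_mul_ι, phiT_mul_ι]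
        have h1 : Λ (phiT I a * (f : A)) • a' = Λ (phiT I a' * (f : A)) • a :=
          ih (Λ ∘ₗ LinearMap.mulRight R (f : A)) a a' ha ha'
        have h2 : Λ (phiT I a' * (f : A)) • f' = Λ (phiT I a' * (f' : A)) • f :=
          he (Λ ∘ₗ LinearMap.mulLeft R (phiT I a') ∘ₗ I.subtype) f f'
        calc Λ (phiT I a * (f : A)) • (a' * TensorAlgebra.ι R f')
            = (Λ (phiT I a * (f : A)) • a') * TensorAlgebra.ι R f' :=
              (smul_mul_assoc _ _ _).symm
          _ = (Λ (phiT I a' * (f : A)) • a) * TensorAlgebra.ι R f' := by rw [h1]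
          _ = a * TensorAlgebra.ι R (Λ (phiT I a' * (f : A)) • f') := by
              rw [smul_mul_assoc, map_smul, mul_smul_comm]
          _ = a * TensorAlgebra.ι R (Λ (phiT I a' * (f' : A)) • f) := by rw [h2]
          _ = Λ (phiT I a' * (f' : A)) • (a * TensorAlgebra.ι R f) := by
              rw [map_smul, mul_smul_comm]
      · intro x y hx hy
        rw [smul_add, hx, hy, map_add, map_add, add_smul]
    · intro x y hx hy
      rw [map_add, map_add, add_smul, hx, hy, smul_add]

lemma map_N1 : Submodule.map (phiT I).toLinearMap (N1 I) = I := by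
  have h : (phiT I).toLinearMap ∘ₗ TensorAlgebra.ι R = I.subtype := by
    apply LinearMap.ext
    intro x
    exact TensorAlgebra.lift_ι_apply _ _
  rw [← LinearMap.range_comp, h, Submodule.range_subtype]

lemma map_N1_pow (t : ℕ) : Submodule.map (phiT I).toLinearMap (N1 I ^ t) = I ^ t := by
  rw [Submodule.map_pow, map_N1]

/-- `T(I) → A` is injective on each graded piece whose image has unit trace ideal -/
lemma inj_on_pow (he : ∀ (l : I →ₗ[R] R) (f f' : I), l f • f' = l f' • f) (t : ℕ)
    (hd : ∃ (n : ℕ) (Λ : Fin n → A →ₗ[R] R) (E : Fin n → A), (∀ j, E j ∈ I ^ t) ∧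
      ∑ j, Λ j (E j) = 1)
    (z : TensorAlgebra R I) (hz : z ∈ N1 I ^ t) (hφ : phiT I z = 0) : z = 0 := by
  obtain ⟨n, Λ, E, hE, hsum⟩ := hd
  have hlift : ∀ j, ∃ e ∈ N1 I ^ t, phiT I e = E j := by
    intro j
    have h1 := hE j
    rw [← map_N1_pow I t] at h1
    obtain ⟨e, he1, he2⟩ := h1
    exact ⟨e, he1, he2⟩
  choose e he1 he2 using hlift
  calc z = (1 : R) • z := (one_smul _ _).symm
    _ = (∑ j, Λ j (E j)) • z := by rw [hsum]
    _ = ∑ j, Λ j (E j) • z := Finset.sum_smul
    _ = ∑ j, Λ j (phiT I z) • e j := by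
        apply Finset.sum_congr rfl
        intro j _
        rw [← he2 j]
        exact P_pow I he t (Λ j) (e j) z (he1 j) hz
    _ = 0 := by
        apply Finset.sum_eq_zero
        intro j _
        rw [hφ, map_zero, zero_smul]

lemma mem_iSup_pow (z : TensorAlgebra R I) : z ∈ ⨆ n : ℕ, N1 I ^ n := by
  induction z using TensorAlgebra.induction with
  | algebraMap r =>
    refine Submodule.mem_iSup_of_mem 0 ?_
    rw [pow_zero]
    exact Submodule.algebraMap_mem r
  | ι x =>
    refine Submodule.mem_iSup_of_mem 1 ?_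
    rw [pow_one]
    exact ⟨x, rfl⟩
  | mul a b ha hb =>
    refine Submodule.iSup_induction _ (motive := fun a => a * b ∈ ⨆ n : ℕ, N1 I ^ n) ha ?_ ?_ ?_
    · intro n a han
      refine Submodule.iSup_induction _ (motive := fun b => a * b ∈ ⨆ n : ℕ, N1 I ^ n) hb ?_ ?_ ?_
      · intro m b hbm
        refine Submodule.mem_iSup_of_mem (n + m) ?_
        rw [pow_add]
        exact Submodule.mul_mem_mul han hbm
      · rw [mul_zero]
        exact zero_mem _
      · intro x y hx hy
        rw [mul_add]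
        exact add_mem hx hy
    · rw [zero_mul]
      exact zero_mem _
    · intro x y hx hy
      rw [add_mul]
      exact add_mem hx hy
  | add a b ha hb => exact add_mem ha hb

lemma span_le_ker (p : ℕ) : Ideal.span (genSet I p) ≤ RingHom.ker (phiT I) := by
  rw [Ideal.span_le]
  rintro x ⟨f, g, hg, hx⟩
  have e : phiT I ((List.ofFn fun i => TensorAlgebra.ι R (f i)).prod) = ∏ i, (f i : A) := by
    rw [map_list_prod, List.map_ofFn, List.prod_ofFn]
    apply Finset.prod_congr rfl
    intro i _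
    exact TensorAlgebra.lift_ι_apply _ _
  rw [SetLike.mem_coe, RingHom.mem_ker, hx, map_sub, e, phiT_ι, hg, sub_self]

lemma exists_ι_sub_mem (p : ℕ) (hIp : I ^ p ≤ I) (b : TensorAlgebra R I) (hb : b ∈ N1 I ^ p) :
    ∃ g : I, b - TensorAlgebra.ι R g ∈ Ideal.span (genSet I p) := by
  rw [Submodule.pow_eq_span_pow_set] at hb
  refine Submodule.span_induction
    (p := fun b _ => ∃ g : I, b - TensorAlgebra.ι R g ∈ Ideal.span (genSet I p)) ?_ ?_ ?_ ?_ hb
  · intro x hx
    rw [Set.mem_pow] at hx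
    obtain ⟨F, rfl⟩ := hx
    have hF : ∀ i, ∃ g : I, TensorAlgebra.ι R g = (F i : TensorAlgebra R I) :=
      fun i => LinearMap.mem_range.1 (F i).2
    choose g hg using hF
    have hprod : ∏ i, (g i : A) ∈ I :=
      hIp (prod_mem_pow_fin I p (fun i => (g i : A)) (fun i => (g i).2))
    refine ⟨⟨∏ i, (g i : A), hprod⟩, ?_⟩
    apply Ideal.subset_span
    refine ⟨g, ⟨∏ i, (g i : A), hprod⟩, rfl, ?_⟩
    have h1 : (fun i => TensorAlgebra.ι R (g i)) = fun i => (F i : TensorAlgebra R I) :=
      funext hg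
    rw [h1]
  · refine ⟨0, ?_⟩
    rw [map_zero, sub_zero]
    exact zero_mem _
  · rintro x y _ _ ⟨g1, h1⟩ ⟨g2, h2⟩
    refine ⟨g1 + g2, ?_⟩
    have h3 : x + y - TensorAlgebra.ι R (g1 + g2) =
        (x - TensorAlgebra.ι R g1) + (y - TensorAlgebra.ι R g2) := by
      rw [map_add]
      abel
    rw [h3]
    exact add_mem h1 h2
  · rintro r x _ ⟨g, h⟩
    refine ⟨r • g, ?_⟩
    have h3 : r • x - TensorAlgebra.ι R (r • g) =
        algebraMap R (TensorAlgebra R I) r * (x - TensorAlgebra.ι R g) := by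
      rw [map_smul, mul_sub, ← Algebra.smul_def, ← Algebra.smul_def]
    rw [h3]
    exact Ideal.mul_mem_left _ _ h

lemma reduce (p : ℕ) (hp2 : 2 ≤ p) (hIp : I ^ p ≤ I) : ∀ (n : ℕ) (z : TensorAlgebra R I),
    z ∈ N1 I ^ n → ∃ m : ℕ → TensorAlgebra R I, (∀ t, m t ∈ N1 I ^ t) ∧
      z - ∑ t ∈ Finset.range p, m t ∈ Ideal.span (genSet I p) := by
  intro n
  induction n using Nat.strong_induction_on with
  | _ n ih =>
    intro z hz
    by_cases hn : n < p
    · refine ⟨fun t => if t = n then z else 0, ?_, ?_⟩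
      · intro t
        show (if t = n then z else 0) ∈ N1 I ^ t
        by_cases h : t = n
        · rw [if_pos h, h]
          exact hz
        · rw [if_neg h]
          exact zero_mem _
      · rw [Finset.sum_ite_eq' (Finset.range p) n (fun _ => z),
          if_pos (Finset.mem_range.2 hn), sub_self]
        exact zero_mem _
    · have hn' : n = (n - p) + p := by omega
      rw [hn', pow_add] at hz
      refine Submodule.mul_induction_on
        (C := fun z => ∃ m : ℕ → TensorAlgebra R I, (∀ t, m t ∈ N1 I ^ t) ∧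
          z - ∑ t ∈ Finset.range p, m t ∈ Ideal.span (genSet I p)) hz ?_ ?_
      · intro a ha b hb
        obtain ⟨g, hg⟩ := exists_ι_sub_mem I p hIp b hb
        have h1 : a * TensorAlgebra.ι R g ∈ N1 I ^ (n - p + 1) := by
          rw [pow_succ]
          exact Submodule.mul_mem_mul ha ⟨g, rfl⟩
        obtain ⟨m, hm1, hm2⟩ := ih (n - p + 1) (by omega) _ h1
        refine ⟨m, hm1, ?_⟩
        have h3 : a * b - ∑ t ∈ Finset.range p, m t =
            a * (b - TensorAlgebra.ι R g) +
              (a * TensorAlgebra.ι R g - ∑ t ∈ Finset.range p, m t) := by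
          rw [mul_sub]
          abel
        rw [h3]
        exact add_mem (Ideal.mul_mem_left _ _ hg) hm2
      · rintro x y ⟨m1, h11, h12⟩ ⟨m2, h21, h22⟩
        refine ⟨fun t => m1 t + m2 t, fun t => add_mem (h11 t) (h21 t), ?_⟩
        have h3 : x + y - ∑ t ∈ Finset.range p, (m1 t + m2 t) =
            (x - ∑ t ∈ Finset.range p, m1 t) + (y - ∑ t ∈ Finset.range p, m2 t) := by
          rw [Finset.sum_add_distrib]
          abel
        rw [h3]
        exact add_mem h12 h22

lemma reduce_all (p : ℕ) (hp2 : 2 ≤ p) (hIp : I ^ p ≤ I) (z : TensorAlgebra R I) :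
    ∃ m : ℕ → TensorAlgebra R I, (∀ t, m t ∈ N1 I ^ t) ∧
      z - ∑ t ∈ Finset.range p, m t ∈ Ideal.span (genSet I p) := by
  refine Submodule.iSup_induction _
    (motive := fun z => ∃ m : ℕ → TensorAlgebra R I, (∀ t, m t ∈ N1 I ^ t) ∧
      z - ∑ t ∈ Finset.range p, m t ∈ Ideal.span (genSet I p)) (mem_iSup_pow I z) ?_ ?_ ?_
  · intro n z hz
    exact reduce I p hp2 hIp n z hz
  · refine ⟨fun _ => 0, fun _ => zero_mem _, ?_⟩
    rw [Finset.sum_const_zero, sub_zero]
    exact zero_mem _
  · rintro x y ⟨m1, h11, h12⟩ ⟨m2, h21, h22⟩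
    refine ⟨fun t => m1 t + m2 t, fun t => add_mem (h11 t) (h21 t), ?_⟩
    have h3 : x + y - ∑ t ∈ Finset.range p, (m1 t + m2 t) =
        (x - ∑ t ∈ Finset.range p, m1 t) + (y - ∑ t ∈ Finset.range p, m2 t) := by
      rw [Finset.sum_add_distrib]
      abel
    rw [h3]
    exact add_mem h12 h22

/-- **Presentation of `A` as a quotient of the tensor algebra of `I`.** -/
theorem ker_eq (p : ℕ) (hp2 : 2 ≤ p) (hIp : I ^ p ≤ I)
    (he : ∀ (l : I →ₗ[R] R) (f f' : I), l f • f' = l f' • f)
    (hd : ∀ t, 1 ≤ t → t < p → ∃ (n : ℕ) (Λ : Fin n → A →ₗ[R] R) (E : Fin n → A),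
      (∀ j, E j ∈ I ^ t) ∧ ∑ j, Λ j (E j) = 1)
    (c : A →ₗ[R] R) (hc1 : c 1 = 1) (hc : ∀ t, 1 ≤ t → t < p → ∀ a ∈ I ^ t, c a = 0)
    (q : ℕ → A →ₗ[R] A) (hq1 : ∀ t, q t 1 = 0)
    (hqs : ∀ t, 1 ≤ t → t < p → ∀ a ∈ I ^ t, q t a = a)
    (hqo : ∀ s t, 1 ≤ s → s < p → 1 ≤ t → t < p → s ≠ t → ∀ a ∈ I ^ s, q t a = 0) :
    RingHom.ker (phiT I) = Ideal.span (genSet I p) := by
  apply le_antisymm
  · intro z hz
    rw [RingHom.mem_ker] at hz
    obtain ⟨m, hm1, hm2⟩ := reduce_all I p hp2 hIp z
    have hsum : ∑ t ∈ Finset.range p, phiT I (m t) = 0 := by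
      have h1 : phiT I (z - ∑ t ∈ Finset.range p, m t) = 0 :=
        RingHom.mem_ker.1 (span_le_ker I p hm2)
      rw [map_sub, hz, zero_sub, neg_eq_zero, map_sum] at h1
      exact h1
    have hmem : ∀ t, phiT I (m t) ∈ I ^ t := by
      intro t
      rw [← map_N1_pow I t]
      exact ⟨m t, hm1 t, rfl⟩
    obtain ⟨r, hr⟩ : ∃ r : R, m 0 = algebraMap R (TensorAlgebra R I) r := by
      have h0 := hm1 0
      rw [pow_zero, Submodule.mem_one] at h0
      obtain ⟨r, hr⟩ := h0
      exact ⟨r, hr.symm⟩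
    have hφm0 : phiT I (m 0) = r • (1 : A) := by
      rw [hr, AlgHom.commutes, Algebra.algebraMap_eq_smul_one]
    have hr0 : r = 0 := by
      have h1 := congrArg c hsum
      rw [map_sum, map_zero, Finset.sum_eq_single 0, hφm0, map_smul, hc1, smul_eq_mul,
        mul_one] at h1
      · exact h1
      · intro s hs hs0
        exact hc s (by omega) (Finset.mem_range.1 hs) _ (hmem s)
      · intro h
        exact absurd (Finset.mem_range.2 (by omega)) h
    have hm0 : m 0 = 0 := by rw [hr, hr0, map_zero]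
    have hmt : ∀ t, 1 ≤ t → t < p → m t = 0 := by
      intro t ht1 ht
      have h1 := congrArg (q t) hsum
      rw [map_sum, map_zero, Finset.sum_eq_single t, hqs t ht1 ht _ (hmem t)] at h1
      · exact inj_on_pow I he t (hd t ht1 ht) (m t) (hm1 t) h1
      · intro s hs hst
        by_cases hs0 : s = 0
        · subst hs0
          rw [hφm0, map_smul, hq1, smul_zero]
        · exact hqo s t (by omega) (Finset.mem_range.1 hs) ht1 ht hst _ (hmem s)
      · intro h
        exact absurd (Finset.mem_range.2 ht) h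
    have hsum0 : ∑ t ∈ Finset.range p, m t = 0 := by
      apply Finset.sum_eq_zero
      intro t ht
      by_cases ht0 : t = 0
      · rw [ht0]
        exact hm0
      · exact hmt t (by omega) (Finset.mem_range.1 ht)
    rw [hsum0, sub_zero] at hm2
    exact hm2
  · exact span_le_ker I p

end General

section Main

variable {R : Type u} [CommRing R] {p : ℕ} [Fact p.Prime] (u : R) (χ : (ZMod p)ˣ →* Rˣ)
  {A : Type u} [CommRing A] [HopfAlgebra R A] [Module.Finite R A] [Module.Projective R A]

theorem main474 (hu : u * ((p - 1 : ℕ) : R) = 1)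
    (hχ : ∀ m : (ZMod p)ˣ, m ≠ 1 → IsUnit ((χ m : R) - 1))
    (hχp : ∀ m : (ZMod p)ˣ, ((χ m : Rˣ) : R) - (((m : ZMod p).val : ℕ) : R) ∈
      Ideal.span ({(p : R)} : Set R))
    (hrk : ∀ q : PrimeSpectrum R, Module.rankAtStalk A q = p) :
    Function.Surjective (phiT (OortTate.eigenAug R A p χ 1)) ∧
      RingHom.ker (phiT (OortTate.eigenAug R A p χ 1)) =
        Ideal.span (genSet (OortTate.eigenAug R A p χ 1) p) := by
  have hpp : p.Prime := Fact.out
  have hp2 := hpp.two_le
  have : Coalgebra.IsCocomm R A := OTComm.isCocomm_of_rank_prime R A p hpp hrk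
  have hpA : (WithConv.toConv (AlgHom.id R A)) ^ p = 1 :=
    Deligne.id_pow_eq_one_of_rankAtStalk R A p hrk
  obtain ⟨hI, hpow⟩ := main469 u χ hu hχ hχp hpA hrk
  constructor
  · intro a
    have hrange : ∀ t, 1 ≤ t → t ≤ p - 1 → OortTate.eigenAug R A p χ t ≤
        Subalgebra.toSubmodule (phiT (OortTate.eigenAug R A p χ 1)).range := by
      intro t ht1 ht
      rw [← hpow t ht1 ht]
      apply pow_le_toSubmodule
      intro f hf
      exact ⟨TensorAlgebra.ι R ⟨f, hf⟩, TensorAlgebra.lift_ι_apply _ _⟩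
    have h1 : a = algebraMap R A (Coalgebra.counit (R := R) a) + pi0 R A a := by
      rw [pi0_apply, add_sub_cancel]
    have h2 : pi0 R A a ∈ Subalgebra.toSubmodule (phiT (OortTate.eigenAug R A p χ 1)).range := by
      have h3 : pi0 R A a ∈ LinearMap.ker (Bialgebra.counitAlgHom R A).toLinearMap :=
        (mem_ker_counit _).2 (counit_pi0 a)
      rw [← (decomposition (A := A) u χ hu hχ hpA).2.1] at h3
      refine (iSup_le ?_ : (⨆ i : Fin (p - 1), OortTate.eigenAug R A p χ (i : ℕ)) ≤ _) h3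
      intro i
      by_cases hi : (i : ℕ) = 0
      · rw [hi, eigenAug_congr χ modEq_zero_sub_one]
        exact hrange (p - 1) (by omega) le_rfl
      · exact hrange i (by omega) (by have := i.2; omega)
    have h4 : a ∈ (phiT (OortTate.eigenAug R A p χ 1)).range := by
      rw [h1]
      exact Subalgebra.add_mem _ (Subalgebra.algebraMap_mem _ _) ((Subalgebra.mem_toSubmodule _).1 h2)
    obtain ⟨z, hz⟩ := (AlgHom.mem_range _).1 h4
    exact ⟨z, hz⟩
  · have := (hI 1).1
    have := (hI 1).2.1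
    refine ker_eq (OortTate.eigenAug R A p χ 1) p hp2 ?_ ?_ ?_
      (Coalgebra.counit (R := R) (A := A)) (Bialgebra.counit_one) ?_
      (fun t => (OortTate.eigenAug R A p χ t).subtype ∘ₗ Pc u χ hpA t) ?_ ?_ ?_
    · intro a ha
      have h1 := pow_eigen_le χ p (by omega) ha
      rw [eigenAug_congr χ (modEq_self_sub_one (p := p))] at h1
      exact h1
    · intro l f f'
      exact smul_comm_of_rank_one (hI 1).2.2 l f f'
    · intro t ht1 ht
      have := (hI t).1
      have := (hI t).2.1
      obtain ⟨n, Λ, E, hsum⟩ := exists_dual_family_of_rank_one (hI t).2.2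
      refine ⟨n, fun j => Λ j ∘ₗ Pc u χ hpA t, fun j => (E j : A), fun j => ?_, ?_⟩
      · rw [hpow t ht1 (by omega)]
        exact (E j).2
      · rw [← hsum]
        apply Finset.sum_congr rfl
        intro j _
        show Λ j (Pc u χ hpA t (E j : A)) = Λ j (E j)
        rw [Pc_self u χ hu hpA t (E j)]
    · intro t ht1 ht a ha
      rw [hpow t ht1 (by omega)] at ha
      exact ((mem_eigenAug χ t a).1 ha).1
    · intro t
      show ((Pc u χ hpA t (1 : A) : OortTate.eigenAug R A p χ t) : A) = 0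
      have h1 := Pc_algebraMap u χ hpA t (1 : R)
      rw [map_one] at h1
      rw [h1]
      rfl
    · intro t ht1 ht a ha
      rw [hpow t ht1 (by omega)] at ha
      show ((Pc u χ hpA t a : OortTate.eigenAug R A p χ t) : A) = a
      exact congrArg Subtype.val (Pc_self u χ hu hpA t ⟨a, ha⟩)
    · intro s t hs1 hs ht1 ht hst a ha
      rw [hpow s hs1 (by omega)] at ha
      show ((Pc u χ hpA t a : OortTate.eigenAug R A p χ t) : A) = 0
      have h1 := Pc_other u χ hχ hpA (i := s) (j := t)
        (not_modEq_of_ne ht1 (by omega) hs1 (by omega) (Ne.symm hst)) ⟨a, ha⟩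
      exact (congrArg Subtype.val h1).trans rfl

end Main

end Groth.Agent.Lib.Helper19.OT
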