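import Mathlib
import Groth.Prelude.Def_W4c5ffgsreadingcourseOT
import Groth.Prelude.Def_CartDual
import Groth.Agent.Lib.Helper19.OT10
import Groth.Agent.Lib.Helper19.OT11

/-!
# Oort–Tate XII: the classification map `G ↦ (I_1, a, b)` is injective (helper19)
-/

set_option autoImplicit false
universe u

open TensorProduct

namespace Groth.Agent.Lib.Helper19.OT

open Groth.Agent.Lib.Helper19 Groth.Agent.Lib.Helper19.ConvBC CartDual

section Lift

variable {R : Type u} [CommRing R]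

/-- lifting an algebra map along a surjection -/
lemma exists_algHom_lift {T A B : Type u} [Ring T] [Algebra R T] [CommRing A] [Algebra R A]
    [CommRing B] [Algebra R B] (φ : T →ₐ[R] A) (hφ : Function.Surjective φ) (F : T →ₐ[R] B)
    (hF : ∀ z, φ z = 0 → F z = 0) : ∃ f : A →ₐ[R] B, ∀ z, f (φ z) = F z := by
  have hF' : ∀ z z', φ z = φ z' → F z = F z' := by
    intro z z' h
    have h1 := hF (z - z') (by rw [map_sub, h, sub_self])
    rwa [map_sub, sub_eq_zero] at h1
  have hg : ∀ a, φ (Function.surjInv hφ a) = a := Function.surjInv_eq hφ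
  refine ⟨{ toFun := fun a => F (Function.surjInv hφ a)
            map_one' := ?_
            map_mul' := ?_
            map_zero' := ?_
            map_add' := ?_
            commutes' := ?_ }, ?_⟩
  · show F (Function.surjInv hφ 1) = 1
    rw [hF' _ 1 (by rw [hg, map_one]), map_one]
  · intro a b
    show F (Function.surjInv hφ (a * b)) = F (Function.surjInv hφ a) * F (Function.surjInv hφ b)
    rw [hF' _ (Function.surjInv hφ a * Function.surjInv hφ b) (by rw [hg, map_mul, hg, hg]),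
      map_mul]
  · show F (Function.surjInv hφ 0) = 0
    rw [hF' _ 0 (by rw [hg, map_zero]), map_zero]
  · intro a b
    show F (Function.surjInv hφ (a + b)) = F (Function.surjInv hφ a) + F (Function.surjInv hφ b)
    rw [hF' _ (Function.surjInv hφ a + Function.surjInv hφ b) (by rw [hg, map_add, hg, hg]),
      map_add]
  · intro r
    show F (Function.surjInv hφ (algebraMap R A r)) = algebraMap R B r
    rw [hF' _ (algebraMap R T r) (by rw [hg, AlgHom.commutes]), AlgHom.commutes]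
  · intro z
    exact hF' _ _ (hg (φ z))

end Lift

section PresMaps

variable {R : Type u} [CommRing R] {A : Type u} [CommRing A] [Algebra R A] (I : Submodule R A)
  {B : Type u} [CommRing B] [Algebra R B] (I' : Submodule R B)

lemma exists_algHom_of_pres (p : ℕ) (hsurj : Function.Surjective (phiT I))
    (hker : RingHom.ker (phiT I) = Ideal.span (genSet I p)) (θ : I →ₗ[R] I')
    (hθ : ∀ (f : Fin p → I) (g : I), (g : A) = ∏ i, (f i : A) →
      ((θ g : I') : B) = ∏ i, ((θ (f i) : I') : B)) :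
    ∃ F : A →ₐ[R] B, ∀ x : I, F (x : A) = ((θ x : I') : B) := by
  obtain ⟨F, hF⟩ := exists_algHom_lift (phiT I) hsurj (TensorAlgebra.lift R (I'.subtype ∘ₗ θ)) (by
    intro z hz
    have hz' : z ∈ RingHom.ker (phiT I) := RingHom.mem_ker.2 hz
    rw [hker] at hz'
    have hle : Ideal.span (genSet I p) ≤
        RingHom.ker (TensorAlgebra.lift R (I'.subtype ∘ₗ θ)) := by
      rw [Ideal.span_le]
      rintro x ⟨f, g, hg, hx⟩
      have e : (TensorAlgebra.lift R (I'.subtype ∘ₗ θ))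
          ((List.ofFn fun i => TensorAlgebra.ι R (f i)).prod) = ∏ i, ((θ (f i) : I') : B) := by
        rw [map_list_prod, List.map_ofFn, List.prod_ofFn]
        apply Finset.prod_congr rfl
        intro i _
        exact TensorAlgebra.lift_ι_apply _ _
      have e2 : (TensorAlgebra.lift R (I'.subtype ∘ₗ θ)) (TensorAlgebra.ι R g) =
          ((θ g : I') : B) := TensorAlgebra.lift_ι_apply _ _
      rw [SetLike.mem_coe, RingHom.mem_ker, hx, map_sub, e, e2, hθ f g hg, sub_self]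
    exact RingHom.mem_ker.1 (hle hz'))
  refine ⟨F, fun x => ?_⟩
  have h1 := hF (TensorAlgebra.ι R x)
  rw [phiT_ι, TensorAlgebra.lift_ι_apply] at h1
  exact h1

lemma algHom_ext_of_pres (hsurj : Function.Surjective (phiT I)) (g₁ g₂ : A →ₐ[R] B)
    (h : ∀ x : I, g₁ (x : A) = g₂ (x : A)) : g₁ = g₂ := by
  have h1 : g₁.comp (phiT I) = g₂.comp (phiT I) := by
    apply TensorAlgebra.hom_ext
    apply LinearMap.ext
    intro x
    show g₁ (phiT I (TensorAlgebra.ι R x)) = g₂ (phiT I (TensorAlgebra.ι R x))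
    rw [phiT_ι]
    exact h x
  apply AlgHom.ext
  intro a
  obtain ⟨z, rfl⟩ := hsurj a
  exact AlgHom.congr_fun h1 z

/-- an algebra map sending `I` into `I'` sends `I ^ t` into `I' ^ t` -/
lemma map_pow_mem (g : A →ₐ[R] B) (h : ∀ x ∈ I, g x ∈ I') (t : ℕ) (a : A) (ha : a ∈ I ^ t) :
    g a ∈ I' ^ t := by
  have h1 : Submodule.map g.toLinearMap I ≤ I' := by
    rintro _ ⟨x, hx, rfl⟩
    exact h x hx
  have h2 : g a ∈ Submodule.map g.toLinearMap (I ^ t) := ⟨a, ha, rfl⟩
  rw [Submodule.map_pow] at h2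
  exact submodule_pow_mono h1 t h2

end PresMaps

section RankOneTensor

variable {R : Type u} [CommRing R] {M N : Type u} [AddCommGroup M] [Module R M]
  [AddCommGroup N] [Module R N]

/-- two functionals on a tensor product of "rank one" modules are proportional -/
lemma prop_tensor (hM : ∀ (l : M →ₗ[R] R) (m m' : M), l m • m' = l m' • m)
    (hN : ∀ (l : N →ₗ[R] R) (n n' : N), l n • n' = l n' • n)
    (F1 F2 : M ⊗[R] N →ₗ[R] R) (v v' : M ⊗[R] N) : F1 v * F2 v' = F1 v' * F2 v := by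
  induction v using TensorProduct.induction_on with
  | zero => rw [map_zero, map_zero, zero_mul, mul_zero]
  | add v₁ v₂ h₁ h₂ => rw [map_add, map_add, add_mul, mul_add, h₁, h₂]
  | tmul x y =>
    induction v' using TensorProduct.induction_on with
    | zero => rw [map_zero, map_zero, zero_mul, mul_zero]
    | add v₁ v₂ h₁ h₂ => rw [map_add, map_add, add_mul, mul_add, h₁, h₂]
    | tmul x' y' =>
      have h1 : F2 (x' ⊗ₜ[R] y') • x = F2 (x ⊗ₜ[R] y') • x' :=
        hM (F2 ∘ₗ (TensorProduct.mk R M N).flip y') x' x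
      have h2 : F2 (x' ⊗ₜ[R] y') * F1 (x ⊗ₜ[R] y) = F2 (x ⊗ₜ[R] y') * F1 (x' ⊗ₜ[R] y) := by
        have h := congrArg (fun m => F1 (m ⊗ₜ[R] y)) h1
        simp only [← TensorProduct.smul_tmul', map_smul, smul_eq_mul] at h
        exact h
      have h3 : F2 (x ⊗ₜ[R] y') • y = F2 (x ⊗ₜ[R] y) • y' :=
        hN (F2 ∘ₗ TensorProduct.mk R M N x) y' y
      have h4 : F2 (x ⊗ₜ[R] y') * F1 (x' ⊗ₜ[R] y) = F2 (x ⊗ₜ[R] y) * F1 (x' ⊗ₜ[R] y') := by
        have h := congrArg (fun n => F1 (x' ⊗ₜ[R] n)) h3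
        simp only [TensorProduct.tmul_smul, map_smul, smul_eq_mul] at h
        exact h
      linear_combination h2 + h4

end RankOneTensor

section Generic

variable {R : Type u} [CommRing R] {p : ℕ} [Fact p.Prime] (u : R) (χ : (ZMod p)ˣ →* Rˣ)
  {H : Type u} [CommRing H] [HopfAlgebra R H] [Coalgebra.IsCocomm R H] [Module.Finite R H]
  [Module.Projective R H]

lemma eigen_pow_p_le : OortTate.eigenAug R H p χ 1 ^ p ≤ OortTate.eigenAug R H p χ 1 := by
  intro a ha
  have hp2 := (Fact.out : p.Prime).two_le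
  have h1 := pow_eigen_le χ p (by omega) ha
  rw [eigenAug_congr χ (modEq_self_sub_one (p := p))] at h1
  exact h1

lemma exists_c (hu : u * ((p - 1 : ℕ) : R) = 1) (s : ℕ) :
    ∃ c : R, OortTate.ygen R p u χ 1 * OortTate.ygen R p u χ s =
      c • OortTate.ygen R p u χ (s + 1) := by
  have h1 : OortTate.ygen R p u χ s * OortTate.ygen R p u χ 1 ∈
      OortTate.eigenAug R (B R p) p χ (s + 1) :=
    mul_mem_eigenAug χ s 1 (ygen_mem u χ s) (ygen_mem u χ 1)
  rw [eigen_eq_span u χ hu, Submodule.mem_span_singleton] at h1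
  obtain ⟨c, hc⟩ := h1
  exact ⟨c, by rw [mul_comm, hc]⟩

/-- a linear map out of `H` is determined by its values on `1` and on the eigenspaces -/
lemma ext_on_eigen {V : Type*} [AddCommGroup V] [Module R V] (hu : u * ((p - 1 : ℕ) : R) = 1)
    (hχ : ∀ m : (ZMod p)ˣ, m ≠ 1 → IsUnit ((χ m : R) - 1))
    (hpH : (WithConv.toConv (AlgHom.id R H)) ^ p = 1)
    (F F' : H →ₗ[R] V) (h1 : F 1 = F' 1)
    (h : ∀ t, 1 ≤ t → t ≤ p - 1 → ∀ a ∈ OortTate.eigenAug R H p χ t, F a = F' a) : F = F' := by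
  have hp2 := (Fact.out : p.Prime).two_le
  apply LinearMap.ext
  intro a
  have e1 : a = algebraMap R H (Coalgebra.counit (R := R) a) + pi0 R H a := by
    rw [pi0_apply, add_sub_cancel]
  have e2 : pi0 R H a =
      ∑ i ∈ Finset.range (p - 1), OortTate.proj R H p u χ i (pi0 R H a) :=
    (sum_e u χ hu hχ _).symm
  have e3 : ∀ i ∈ Finset.range (p - 1), F (OortTate.proj R H p u χ i (pi0 R H a)) =
      F' (OortTate.proj R H p u χ i (pi0 R H a)) := by
    intro i hi
    have hmem := e_mem u χ hpH i _ (counit_pi0 a)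
    by_cases hi0 : i = 0
    · subst hi0
      rw [eigenAug_congr χ modEq_zero_sub_one] at hmem
      exact h (p - 1) (by omega) le_rfl _ hmem
    · exact h i (by omega) (by have := Finset.mem_range.1 hi; omega) _ hmem
  have hF : ∀ G : H →ₗ[R] V, G a = Coalgebra.counit (R := R) a • G 1 +
      ∑ i ∈ Finset.range (p - 1), G (OortTate.proj R H p u χ i (pi0 R H a)) := by
    intro G
    conv_lhs => rw [e1]
    rw [map_add, Algebra.algebraMap_eq_smul_one, map_smul]
    congr 1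
    conv_lhs => rw [e2]
    rw [map_sum]
  rw [hF F, hF F', h1, Finset.sum_congr rfl e3]

/-- the presentation of `H` from the "rank one" properties of `I_1` and its powers -/
theorem pres_of (hu : u * ((p - 1 : ℕ) : R) = 1)
    (hχ : ∀ m : (ZMod p)ˣ, m ≠ 1 → IsUnit ((χ m : R) - 1))
    (hχp : ∀ m : (ZMod p)ˣ, ((χ m : Rˣ) : R) - (((m : ZMod p).val : ℕ) : R) ∈
      Ideal.span ({(p : R)} : Set R))
    (hpH : (WithConv.toConv (AlgHom.id R H)) ^ p = 1)
    (he : ∀ (l : ↥(OortTate.eigenAug R H p χ 1) →ₗ[R] R)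
      (f f' : ↥(OortTate.eigenAug R H p χ 1)), l f • f' = l f' • f)
    (hd : ∀ t, 1 ≤ t → t < p → ∃ (n : ℕ) (Λ : Fin n → H →ₗ[R] R) (E : Fin n → H),
      (∀ j, E j ∈ OortTate.eigenAug R H p χ 1 ^ t) ∧ ∑ j, Λ j (E j) = 1) :
    Function.Surjective (phiT (OortTate.eigenAug R H p χ 1)) ∧
      RingHom.ker (phiT (OortTate.eigenAug R H p χ 1)) =
        Ideal.span (genSet (OortTate.eigenAug R H p χ 1) p) := by
  have hpp : p.Prime := Fact.out
  have hp2 := hpp.two_le
  have hpow : ∀ t, 1 ≤ t → t ≤ p - 1 →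
      OortTate.eigenAug R H p χ 1 ^ t = OortTate.eigenAug R H p χ t :=
    fun t ht1 ht => pow_eigen_eq χ u hu hχp hpH t ht1 ht
  constructor
  · intro a
    have hrange : ∀ t, 1 ≤ t → t ≤ p - 1 → OortTate.eigenAug R H p χ t ≤
        Subalgebra.toSubmodule (phiT (OortTate.eigenAug R H p χ 1)).range := by
      intro t ht1 ht
      rw [← hpow t ht1 ht]
      apply pow_le_toSubmodule
      intro f hf
      exact ⟨TensorAlgebra.ι R ⟨f, hf⟩, TensorAlgebra.lift_ι_apply _ _⟩
    have h1 : a = algebraMap R H (Coalgebra.counit (R := R) a) + pi0 R H a := by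
      rw [pi0_apply, add_sub_cancel]
    have h2 : pi0 R H a ∈ Subalgebra.toSubmodule (phiT (OortTate.eigenAug R H p χ 1)).range := by
      have h3 : pi0 R H a ∈ LinearMap.ker (Bialgebra.counitAlgHom R H).toLinearMap :=
        (mem_ker_counit _).2 (counit_pi0 a)
      rw [← (decomposition (A := H) u χ hu hχ hpH).2.1] at h3
      refine (iSup_le ?_ : (⨆ i : Fin (p - 1), OortTate.eigenAug R H p χ (i : ℕ)) ≤ _) h3
      intro i
      by_cases hi : (i : ℕ) = 0
      · rw [hi, eigenAug_congr χ modEq_zero_sub_one]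
        exact hrange (p - 1) (by omega) le_rfl
      · exact hrange i (by omega) (by have := i.2; omega)
    have h4 : a ∈ (phiT (OortTate.eigenAug R H p χ 1)).range := by
      rw [h1]
      exact Subalgebra.add_mem _ (Subalgebra.algebraMap_mem _ _)
        ((Subalgebra.mem_toSubmodule _).1 h2)
    obtain ⟨z, hz⟩ := (AlgHom.mem_range _).1 h4
    exact ⟨z, hz⟩
  · refine ker_eq (OortTate.eigenAug R H p χ 1) p hp2 (eigen_pow_p_le χ) he hd
      (Coalgebra.counit (R := R) (A := H)) (Bialgebra.counit_one) ?_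
      (fun t => (OortTate.eigenAug R H p χ t).subtype ∘ₗ Pc u χ hpH t) ?_ ?_ ?_
    · intro t ht1 ht a ha
      rw [hpow t ht1 (by omega)] at ha
      exact ((mem_eigenAug χ t a).1 ha).1
    · intro t
      show ((Pc u χ hpH t (1 : H) : OortTate.eigenAug R H p χ t) : H) = 0
      have h1 := Pc_algebraMap u χ hpH t (1 : R)
      rw [map_one] at h1
      rw [h1]
      rfl
    · intro t ht1 ht a ha
      rw [hpow t ht1 (by omega)] at ha
      show ((Pc u χ hpH t a : OortTate.eigenAug R H p χ t) : H) = a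
      exact congrArg Subtype.val (Pc_self u χ hu hpH t ⟨a, ha⟩)
    · intro s t hs1 hs ht1 ht hst a ha
      rw [hpow s hs1 (by omega)] at ha
      show ((Pc u χ hpH t a : OortTate.eigenAug R H p χ t) : H) = 0
      have h1 := Pc_other u χ hχ hpH (i := s) (j := t)
        (not_modEq_of_ne ht1 (by omega) hs1 (by omega) (Ne.symm hst)) ⟨a, ha⟩
      exact (congrArg Subtype.val h1).trans rfl

end Generic

section Pairing2

variable {R : Type u} [CommRing R] {A : Type u} [CommRing A] [HopfAlgebra R A]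
  [Coalgebra.IsCocomm R A] [Module.Finite R A] [Module.Projective R A]
  {p : ℕ} [Fact p.Prime] (u : R) (χ : (ZMod p)ˣ →* Rˣ)

/-- the two factor pairing formula `⟨φ ψ, x y⟩ = c ⟨φ, x⟩ ⟨ψ, y⟩` -/
theorem pair_two (hu : u * ((p - 1 : ℕ) : R) = 1)
    (hχ : ∀ m : (ZMod p)ˣ, m ≠ 1 → IsUnit ((χ m : R) - 1))
    (hχp : ∀ m : (ZMod p)ˣ, ((χ m : Rˣ) : R) - (((m : ZMod p).val : ℕ) : R) ∈
      Ideal.span ({(p : R)} : Set R))
    (hrk : ∀ q : PrimeSpectrum R, Module.rankAtStalk A q = p) (s : ℕ) (c : R)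
    (hc : OortTate.ygen R p u χ 1 * OortTate.ygen R p u χ s = c • OortTate.ygen R p u χ (s + 1))
    (φ ψ : D R A) (hφ : φ ∈ OortTate.eigenAug R (D R A) p χ 1)
    (hψ : ψ ∈ OortTate.eigenAug R (D R A) p χ s)
    (x y : A) (hx : x ∈ OortTate.eigenAug R A p χ 1) (hy : y ∈ OortTate.eigenAug R A p χ s) :
    (φ * ψ).ofConv (x * y) = c * (φ.ofConv x * ψ.ofConv y) := by
  have hp : (WithConv.toConv (AlgHom.id R A)) ^ p = 1 :=
    Deligne.id_pow_eq_one_of_rankAtStalk R A p hrk
  obtain ⟨hI, -⟩ := main469 u χ hu hχ hχp hp hrk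
  have := (hI 1).1
  have := (hI 1).2.1
  have := (hI s).1
  have := (hI s).2.1
  have := (hI (s + 1)).1
  have := (hI (s + 1)).2.1
  have he1 : ∀ (l : ↥(OortTate.eigenAug R A p χ 1) →ₗ[R] R)
      (m m' : ↥(OortTate.eigenAug R A p χ 1)), l m • m' = l m' • m :=
    fun l m m' => smul_comm_of_rank_one (hI 1).2.2 l m m'
  have hes : ∀ (l : ↥(OortTate.eigenAug R A p χ s) →ₗ[R] R)
      (m m' : ↥(OortTate.eigenAug R A p χ s)), l m • m' = l m' • m :=
    fun l m m' => smul_comm_of_rank_one (hI s).2.2 l m m'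
  have hes1 : ∀ (l : ↥(OortTate.eigenAug R A p χ (s + 1)) →ₗ[R] R)
      (m m' : ↥(OortTate.eigenAug R A p χ (s + 1))), l m • m' = l m' • m :=
    fun l m m' => smul_comm_of_rank_one (hI (s + 1)).2.2 l m m'
  obtain ⟨Φ, hΦ⟩ : ∃ Φ : ↥(OortTate.eigenAug R A p χ 1) ⊗[R] ↥(OortTate.eigenAug R A p χ s) →ₗ[R] R,
      Φ = LinearMap.mul' R R ∘ₗ
        TensorProduct.map (φ.ofConv ∘ₗ (OortTate.eigenAug R A p χ 1).subtype)
          (ψ.ofConv ∘ₗ (OortTate.eigenAug R A p χ s).subtype) := ⟨_, rfl⟩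
  obtain ⟨mV, hmV⟩ : ∃ mV : ↥(OortTate.eigenAug R A p χ 1) ⊗[R]
      ↥(OortTate.eigenAug R A p χ s) →ₗ[R] A,
      mV = LinearMap.mul' R A ∘ₗ TensorProduct.map (OortTate.eigenAug R A p χ 1).subtype
          (OortTate.eigenAug R A p χ s).subtype := ⟨_, rfl⟩
  obtain ⟨ω, hω⟩ : ∃ ω : A →ₗ[R] ↥(OortTate.eigenAug R A p χ 1) ⊗[R]
      ↥(OortTate.eigenAug R A p χ s),
      ω = TensorProduct.map (Pc u χ hp 1) (Pc u χ hp s) ∘ₗ Coalgebra.comul := ⟨_, rfl⟩
  have e1 : (φ.ofConv ∘ₗ (OortTate.eigenAug R A p χ 1).subtype) ∘ₗ Pc u χ hp 1 = φ.ofConv := by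
    apply LinearMap.ext
    intro b
    show φ.ofConv ((Pc u χ hp 1 b : OortTate.eigenAug R A p χ 1) : A) = φ.ofConv b
    rw [Pc_coe]
    exact eigenD_apply u χ hu 1 φ hφ b
  have e2 : (ψ.ofConv ∘ₗ (OortTate.eigenAug R A p χ s).subtype) ∘ₗ Pc u χ hp s = ψ.ofConv := by
    apply LinearMap.ext
    intro b
    show ψ.ofConv ((Pc u χ hp s b : OortTate.eigenAug R A p χ s) : A) = ψ.ofConv b
    rw [Pc_coe]
    exact eigenD_apply u χ hu s ψ hψ b
  have hF1 : ∀ a, Φ (ω a) = (φ * ψ).ofConv a := by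
    intro a
    rw [hΦ, hω, LinearMap.comp_apply, LinearMap.comp_apply, TensorProduct.map_map, e1, e2]
    rfl
  have e3 : ∀ i : ℕ, (OortTate.eigenAug R A p χ i).subtype ∘ₗ Pc u χ hp i =
      (phi hp (OortTate.ygen R p u χ i)).ofConv := by
    intro i
    apply LinearMap.ext
    intro b
    rw [phi_ygen]
    rfl
  have hF2 : ∀ a, mV (ω a) = c • OortTate.proj R A p u χ (s + 1) (pi0 R A a) := by
    intro a
    rw [hmV, hω, LinearMap.comp_apply, LinearMap.comp_apply, TensorProduct.map_map, e3 1, e3 s,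
      ← phi_ygen hp u χ (s + 1) a]
    have h5 : (phi hp (OortTate.ygen R p u χ 1) * phi hp (OortTate.ygen R p u χ s)).ofConv a =
        LinearMap.mul' R A (TensorProduct.map (phi hp (OortTate.ygen R p u χ 1)).ofConv
          (phi hp (OortTate.ygen R p u χ s)).ofConv (Coalgebra.comul (R := R) a)) := rfl
    rw [← h5, ← map_mul, hc, map_smul, WithConv.ofConv_smul, LinearMap.smul_apply]
  have hproj : ∀ a ∈ OortTate.eigenAug R A p χ (s + 1),
      OortTate.proj R A p u χ (s + 1) (pi0 R A a) = a := by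
    intro a ha
    rw [pi0_of_counit a ((mem_eigenAug χ (s + 1) a).1 ha).1,
      e_eq_self u χ hu (Nat.ModEq.refl _) a ha]
  have hxy : x * y ∈ OortTate.eigenAug R A p χ (s + 1) := by
    rw [mul_comm]
    exact mul_mem_eigenAug χ s 1 hy hx
  obtain ⟨v', hv'⟩ : ∃ v' : ↥(OortTate.eigenAug R A p χ 1) ⊗[R] ↥(OortTate.eigenAug R A p χ s),
      v' = (⟨x, hx⟩ : ↥(OortTate.eigenAug R A p χ 1)) ⊗ₜ[R]
        (⟨y, hy⟩ : ↥(OortTate.eigenAug R A p χ s)) := ⟨_, rfl⟩
  have hmVv' : mV v' = x * y := by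
    rw [hmV, hv', LinearMap.comp_apply, TensorProduct.map_tmul, LinearMap.mul'_apply]
    rfl
  have hΦv' : Φ v' = φ.ofConv x * ψ.ofConv y := by
    rw [hΦ, hv', LinearMap.comp_apply, TensorProduct.map_tmul, LinearMap.mul'_apply]
    rfl
  have key : ∀ (Λ : A →ₗ[R] R) (a : A), a ∈ OortTate.eigenAug R A p χ (s + 1) →
      (φ * ψ).ofConv (x * y) * Λ a = c * (φ.ofConv x * ψ.ofConv y) * Λ a := by
    intro Λ a ha
    have h1 := prop_tensor he1 hes Φ (Λ ∘ₗ mV) (ω a) v'
    rw [LinearMap.comp_apply, LinearMap.comp_apply, hF1, hF2, hmVv', hΦv', hproj a ha, map_smul,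
      smul_eq_mul] at h1
    have h2 : (φ * ψ).ofConv a • (⟨x * y, hxy⟩ : ↥(OortTate.eigenAug R A p χ (s + 1))) =
        (φ * ψ).ofConv (x * y) • (⟨a, ha⟩ : ↥(OortTate.eigenAug R A p χ (s + 1))) :=
      hes1 ((φ * ψ).ofConv ∘ₗ (OortTate.eigenAug R A p χ (s + 1)).subtype) ⟨a, ha⟩ ⟨x * y, hxy⟩
    have h3 : (φ * ψ).ofConv a • (x * y) = (φ * ψ).ofConv (x * y) • a :=
      congrArg Subtype.val h2
    have h4 := congrArg Λ h3
    rw [map_smul, map_smul, smul_eq_mul, smul_eq_mul] at h4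
    linear_combination h1 - h4
  obtain ⟨n, Λ0, E0, hsum⟩ := exists_dual_family_of_rank_one (hI (s + 1)).2.2
  have hfin : ∀ j, (φ * ψ).ofConv (x * y) * Λ0 j (E0 j) =
      c * (φ.ofConv x * ψ.ofConv y) * Λ0 j (E0 j) := by
    intro j
    have h1 := key (Λ0 j ∘ₗ Pc u χ hp (s + 1)) (E0 j : A) (E0 j).2
    rw [LinearMap.comp_apply, Pc_self u χ hu hp (s + 1) (E0 j)] at h1
    exact h1
  calc (φ * ψ).ofConv (x * y) = (φ * ψ).ofConv (x * y) * ∑ j, Λ0 j (E0 j) := by
        rw [hsum, mul_one]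
    _ = ∑ j, (φ * ψ).ofConv (x * y) * Λ0 j (E0 j) := Finset.mul_sum _ _ _
    _ = ∑ j, c * (φ.ofConv x * ψ.ofConv y) * Λ0 j (E0 j) :=
        Finset.sum_congr rfl (fun j _ => hfin j)
    _ = c * (φ.ofConv x * ψ.ofConv y) * ∑ j, Λ0 j (E0 j) := (Finset.mul_sum _ _ _).symm
    _ = c * (φ.ofConv x * ψ.ofConv y) := by rw [hsum, mul_one]

end Pairing2

end Groth.Agent.Lib.Helper19.OT
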