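import Mathlib
import Groth.Prelude.Def_W4c5ffgsreadingcourseOT
import Groth.Prelude.Def_CartDual
import Groth.Agent.Lib.Helper19.OT12

/-!
# Oort–Tate XIII: injectivity of the classification map, general invertible `I_1` (helper19)
-/

set_option autoImplicit false
universe u

open TensorProduct

namespace Groth.Agent.Lib.Helper19.OT

open Groth.Agent.Lib.Helper19 Groth.Agent.Lib.Helper19.ConvBC CartDual

section DualSide

variable {R : Type u} [CommRing R] {A : Type u} [CommRing A] [HopfAlgebra R A]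
  [Coalgebra.IsCocomm R A] [Module.Finite R A] [Module.Projective R A]
  {p : ℕ} [Fact p.Prime] (u : R) (χ : (ZMod p)ˣ →* Rˣ)

lemma ext_dual_eigen (hu : u * ((p - 1 : ℕ) : R) = 1)
    (hp : (WithConv.toConv (AlgHom.id R A)) ^ p = 1) (i : ℕ)
    (φ φ' : ↥(OortTate.eigenAug R (D R A) p χ i))
    (h : ∀ x : ↥(OortTate.eigenAug R A p χ i),
      (φ : D R A).ofConv (x : A) = (φ' : D R A).ofConv (x : A)) : φ = φ' := by
  refine (dual_restrict_bijective R A u χ hu hp i).1 ?_
  apply LinearMap.ext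
  intro x
  exact h x

/-- the "rank one" identity passes to the dual eigenspace -/
lemma he_dual (hu : u * ((p - 1 : ℕ) : R) = 1)
    (hp : (WithConv.toConv (AlgHom.id R A)) ^ p = 1)
    (he : ∀ (l : ↥(OortTate.eigenAug R A p χ 1) →ₗ[R] R)
      (f f' : ↥(OortTate.eigenAug R A p χ 1)), l f • f' = l f' • f) :
    ∀ (l : ↥(OortTate.eigenAug R (D R A) p χ 1) →ₗ[R] R)
      (φ φ' : ↥(OortTate.eigenAug R (D R A) p χ 1)), l φ • φ' = l φ' • φ := by
  have step1 : ∀ (φ φ' : ↥(OortTate.eigenAug R (D R A) p χ 1))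
      (x : ↥(OortTate.eigenAug R A p χ 1)),
      (φ' : D R A).ofConv (x : A) • φ = (φ : D R A).ofConv (x : A) • φ' := by
    intro φ φ' x
    apply ext_dual_eigen u χ hu hp 1
    intro y
    show ((φ' : D R A).ofConv (x : A) • (φ : D R A)).ofConv (y : A) =
      ((φ : D R A).ofConv (x : A) • (φ' : D R A)).ofConv (y : A)
    rw [WithConv.ofConv_smul, WithConv.ofConv_smul, LinearMap.smul_apply, LinearMap.smul_apply,
      smul_eq_mul, smul_eq_mul]
    have h1 : (φ : D R A).ofConv (y : A) • x = (φ : D R A).ofConv (x : A) • y :=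
      he ((φ : D R A).ofConv ∘ₗ (OortTate.eigenAug R A p χ 1).subtype) y x
    have h2 : (φ : D R A).ofConv (y : A) • (x : A) = (φ : D R A).ofConv (x : A) • (y : A) :=
      congrArg Subtype.val h1
    have h3 := congrArg (φ' : D R A).ofConv h2
    rw [map_smul, map_smul, smul_eq_mul, smul_eq_mul] at h3
    linear_combination h3
  intro l φ φ'
  apply ext_dual_eigen u χ hu hp 1
  intro x
  show (l φ • (φ' : D R A)).ofConv (x : A) = (l φ' • (φ : D R A)).ofConv (x : A)
  rw [WithConv.ofConv_smul, WithConv.ofConv_smul, LinearMap.smul_apply, LinearMap.smul_apply,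
    smul_eq_mul, smul_eq_mul]
  have h1 := congrArg l (step1 φ φ' x)
  rw [map_smul, map_smul, smul_eq_mul, smul_eq_mul] at h1
  linear_combination h1

/-- unit trace ideals for the powers of the dual eigenspace -/
lemma hd_dual (hu : u * ((p - 1 : ℕ) : R) = 1)
    (hχ : ∀ m : (ZMod p)ˣ, m ≠ 1 → IsUnit ((χ m : R) - 1))
    (hχp : ∀ m : (ZMod p)ˣ, ((χ m : Rˣ) : R) - (((m : ZMod p).val : ℕ) : R) ∈
      Ideal.span ({(p : R)} : Set R))
    (hrk : ∀ q : PrimeSpectrum R, Module.rankAtStalk A q = p) (t : ℕ) (ht1 : 1 ≤ t) (ht : t < p) :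
    ∃ (n : ℕ) (Λ : Fin n → D R A →ₗ[R] R) (E : Fin n → D R A),
      (∀ j, E j ∈ OortTate.eigenAug R (D R A) p χ 1 ^ t) ∧ ∑ j, Λ j (E j) = 1 := by
  have hp : (WithConv.toConv (AlgHom.id R A)) ^ p = 1 :=
    Deligne.id_pow_eq_one_of_rankAtStalk R A p hrk
  have hpDA := hpD R A hp
  obtain ⟨hI, -⟩ := main469 u χ hu hχ hχp hp hrk
  have := (hI t).1
  have := (hI t).2.1
  obtain ⟨n, Λ0, E0, hsum⟩ := exists_dual_family_of_rank_one (hI t).2.2
  have hsurj := (dual_restrict_bijective R A u χ hu hp t).2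
  choose ψ hψ using fun j => hsurj (Λ0 j)
  refine ⟨n, fun j => LinearMap.applyₗ (E0 j : A) ∘ₗ (toDual R A).toLinearMap,
    fun j => (ψ j : D R A), fun j => ?_, ?_⟩
  · rw [pow_eigen_eq χ u hu hχp hpDA t ht1 (by omega)]
    exact (ψ j).2
  · rw [← hsum]
    apply Finset.sum_congr rfl
    intro j _
    exact LinearMap.congr_fun (hψ j) (E0 j)

end DualSide

section Final

variable {R : Type u} [CommRing R] {p : ℕ} [Fact p.Prime] (u : R) (χ : (ZMod p)ˣ →* Rˣ)
  {A : Type u} [CommRing A] [HopfAlgebra R A] [Coalgebra.IsCocomm R A] [Module.Finite R A]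
  [Module.Projective R A]
  {A' : Type u} [CommRing A'] [HopfAlgebra R A'] [Coalgebra.IsCocomm R A'] [Module.Finite R A']
  [Module.Projective R A']

/-- an algebra isomorphism with an adjoint algebra map on the duals is a bialgebra isomorphism -/
theorem bialgEquiv_of_adjoint (f : A →ₐ[R] A') (f' : A' →ₐ[R] A)
    (h1 : f'.comp f = AlgHom.id R A) (h2 : f.comp f' = AlgHom.id R A')
    (G : D R A' →ₐ[R] D R A)
    (hadj : ∀ (η' : D R A') (a : A), η'.ofConv (f a) = (G η').ofConv a) :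
    Nonempty (A ≃ₐc[R] A') := by
  have hcounit : ∀ a : A, Coalgebra.counit (R := R) (f a) = Coalgebra.counit (R := R) a := by
    intro a
    have h3 := hadj 1 a
    rw [map_one] at h3
    exact h3
  have hcomul : ∀ a : A, TensorProduct.map f.toLinearMap f.toLinearMap
      (Coalgebra.comul (R := R) a) = Coalgebra.comul (R := R) (f a) := by
    intro a
    apply eq_of_ev₂
    intro η₁ η₂
    rw [ev₂_tmul_eq']
    have e1 : η₁.ofConv ∘ₗ f.toLinearMap = (G η₁).ofConv := LinearMap.ext (fun b => hadj η₁ b)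
    have e2 : η₂.ofConv ∘ₗ f.toLinearMap = (G η₂).ofConv := LinearMap.ext (fun b => hadj η₂ b)
    have h3 : TensorProduct.map η₁.ofConv η₂.ofConv
        (TensorProduct.map f.toLinearMap f.toLinearMap (Coalgebra.comul (R := R) a)) =
        TensorProduct.map (G η₁).ofConv (G η₂).ofConv (Coalgebra.comul (R := R) a) := by
      rw [TensorProduct.map_map, e1, e2]
    calc LinearMap.mul' R R (TensorProduct.map η₁.ofConv η₂.ofConv
          (TensorProduct.map f.toLinearMap f.toLinearMap (Coalgebra.comul (R := R) a)))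
        = LinearMap.mul' R R (TensorProduct.map (G η₁).ofConv (G η₂).ofConv
          (Coalgebra.comul (R := R) a)) := by rw [h3]
      _ = (G η₁ * G η₂).ofConv a := rfl
      _ = (G (η₁ * η₂)).ofConv a := by rw [map_mul]
      _ = (η₁ * η₂).ofConv (f a) := (hadj _ _).symm
      _ = LinearMap.mul' R R (TensorProduct.map η₁.ofConv η₂.ofConv
          (Coalgebra.comul (R := R) (f a))) := rfl
  refine ⟨BialgEquiv.ofAlgEquiv (AlgEquiv.ofAlgHom f f' h2 h1) ?_ ?_⟩
  · apply AlgHom.ext
    intro a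
    exact hcounit a
  · apply AlgHom.ext
    intro a
    exact hcomul a

theorem main478 (hu : u * ((p - 1 : ℕ) : R) = 1)
    (hχ : ∀ m : (ZMod p)ˣ, m ≠ 1 → IsUnit ((χ m : R) - 1))
    (hχp : ∀ m : (ZMod p)ˣ, ((χ m : Rˣ) : R) - (((m : ZMod p).val : ℕ) : R) ∈
      Ideal.span ({(p : R)} : Set R))
    (hrk : ∀ q : PrimeSpectrum R, Module.rankAtStalk A q = p)
    (hrk' : ∀ q : PrimeSpectrum R, Module.rankAtStalk A' q = p)
    (θ : ↥(OortTate.eigenAug R A p χ 1) ≃ₗ[R] ↥(OortTate.eigenAug R A' p χ 1))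
    (hθ : ∀ (f : Fin p → ↥(OortTate.eigenAug R A p χ 1)) (g : ↥(OortTate.eigenAug R A p χ 1)),
      (g : A) = ∏ i, (f i : A) →
        ((θ g : ↥(OortTate.eigenAug R A' p χ 1)) : A') = ∏ i, ((θ (f i)) : A'))
    (hθD : ∀ (φ : Fin p → ↥(OortTate.eigenAug R (D R A) p χ 1))
      (φ' : Fin p → ↥(OortTate.eigenAug R (D R A') p χ 1))
      (ψ : ↥(OortTate.eigenAug R (D R A) p χ 1)) (ψ' : ↥(OortTate.eigenAug R (D R A') p χ 1)),
      (∀ i, ∀ x : ↥(OortTate.eigenAug R A p χ 1),
        (φ i : D R A).ofConv (x : A) =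
          (φ' i : D R A').ofConv ((θ x : ↥(OortTate.eigenAug R A' p χ 1)) : A')) →
      (ψ : D R A) = ∏ i, (φ i : D R A) →
      (ψ' : D R A') = ∏ i, (φ' i : D R A') →
      ∀ x : ↥(OortTate.eigenAug R A p χ 1),
        (ψ : D R A).ofConv (x : A) =
          (ψ' : D R A').ofConv ((θ x : ↥(OortTate.eigenAug R A' p χ 1)) : A')) :
    Nonempty (A ≃ₐc[R] A') := by
  have hpp : p.Prime := Fact.out
  have hp2 := hpp.two_le
  have hpA : (WithConv.toConv (AlgHom.id R A)) ^ p = 1 :=
    Deligne.id_pow_eq_one_of_rankAtStalk R A p hrk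
  have hpA' : (WithConv.toConv (AlgHom.id R A')) ^ p = 1 :=
    Deligne.id_pow_eq_one_of_rankAtStalk R A' p hrk'
  have hpDA := hpD R A hpA
  have hpDA' := hpD R A' hpA'
  obtain ⟨hI, hpow⟩ := main469 u χ hu hχ hχp hpA hrk
  obtain ⟨hI', hpow'⟩ := main469 u χ hu hχ hχp hpA' hrk'
  have hpowD : ∀ t, 1 ≤ t → t ≤ p - 1 → OortTate.eigenAug R (D R A) p χ 1 ^ t =
      OortTate.eigenAug R (D R A) p χ t :=
    fun t ht1 ht => pow_eigen_eq χ u hu hχp hpDA t ht1 ht
  have hpowD' : ∀ t, 1 ≤ t → t ≤ p - 1 → OortTate.eigenAug R (D R A') p χ 1 ^ t =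
      OortTate.eigenAug R (D R A') p χ t :=
    fun t ht1 ht => pow_eigen_eq χ u hu hχp hpDA' t ht1 ht
  have := (hI 1).1
  have := (hI 1).2.1
  have := (hI' 1).1
  have := (hI' 1).2.1
  have he' : ∀ (l : ↥(OortTate.eigenAug R A' p χ 1) →ₗ[R] R)
      (m m' : ↥(OortTate.eigenAug R A' p χ 1)), l m • m' = l m' • m :=
    fun l m m' => smul_comm_of_rank_one (hI' 1).2.2 l m m'
  -- the presentations
  obtain ⟨hsA, hkA⟩ := main474 (A := A) u χ hu hχ hχp hrk
  obtain ⟨hsA', hkA'⟩ := main474 (A := A') u χ hu hχ hχp hrk'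
  obtain ⟨hsD', hkD'⟩ := pres_of (H := D R A') u χ hu hχ hχp hpDA' (he_dual u χ hu hpA' he')
    (fun t ht1 ht => hd_dual u χ hu hχ hχp hrk' t ht1 ht)
  -- the algebra isomorphism `f`
  obtain ⟨f, hf⟩ := exists_algHom_of_pres (OortTate.eigenAug R A p χ 1)
    (OortTate.eigenAug R A' p χ 1) p hsA hkA θ.toLinearMap (fun f g h => hθ f g h)
  have hθs : ∀ (f' : Fin p → ↥(OortTate.eigenAug R A' p χ 1))
      (g' : ↥(OortTate.eigenAug R A' p χ 1)), (g' : A') = ∏ i, (f' i : A') →
      ((θ.symm.toLinearMap g' : ↥(OortTate.eigenAug R A p χ 1)) : A) =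
        ∏ i, ((θ.symm.toLinearMap (f' i) : ↥(OortTate.eigenAug R A p χ 1)) : A) := by
    intro f' g' hg'
    have hprod : ∏ i, ((θ.symm (f' i) : ↥(OortTate.eigenAug R A p χ 1)) : A) ∈
        OortTate.eigenAug R A p χ 1 :=
      eigen_pow_p_le χ (prod_mem_pow_fin _ p _ (fun i => (θ.symm (f' i)).2))
    have h1 := hθ (fun i => θ.symm (f' i)) ⟨_, hprod⟩ rfl
    have h2 : θ ⟨_, hprod⟩ = g' := by
      apply Subtype.ext
      rw [h1, hg']
      apply Finset.prod_congr rfl
      intro i _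
      rw [LinearEquiv.apply_symm_apply]
    show ((θ.symm g' : ↥(OortTate.eigenAug R A p χ 1)) : A) =
      ∏ i, ((θ.symm (f' i) : ↥(OortTate.eigenAug R A p χ 1)) : A)
    rw [← h2, LinearEquiv.symm_apply_apply]
  obtain ⟨f', hf'⟩ := exists_algHom_of_pres (OortTate.eigenAug R A' p χ 1)
    (OortTate.eigenAug R A p χ 1) p hsA' hkA' θ.symm.toLinearMap hθs
  have hf1 : ∀ x : ↥(OortTate.eigenAug R A p χ 1),
      f (x : A) = ((θ x : ↥(OortTate.eigenAug R A' p χ 1)) : A') := hf
  have hf1' : ∀ x : ↥(OortTate.eigenAug R A' p χ 1),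
      f' (x : A') = ((θ.symm x : ↥(OortTate.eigenAug R A p χ 1)) : A) := hf'
  have h1 : f'.comp f = AlgHom.id R A := by
    apply algHom_ext_of_pres (OortTate.eigenAug R A p χ 1) hsA
    intro x
    show f' (f (x : A)) = (x : A)
    rw [hf1 x, hf1' (θ x), LinearEquiv.symm_apply_apply]
  have h2 : f.comp f' = AlgHom.id R A' := by
    apply algHom_ext_of_pres (OortTate.eigenAug R A' p χ 1) hsA'
    intro x
    show f (f' (x : A')) = (x : A')
    rw [hf1' x, hf1 (θ.symm x), LinearEquiv.apply_symm_apply]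
  -- the restriction maps and the transpose of `θ`
  obtain ⟨resD, hresD⟩ : ∃ resD : ↥(OortTate.eigenAug R (D R A) p χ 1) →ₗ[R]
      Module.Dual R ↥(OortTate.eigenAug R A p χ 1),
      ∀ (f : ↥(OortTate.eigenAug R (D R A) p χ 1)) (x : ↥(OortTate.eigenAug R A p χ 1)),
        resD f x = (f : D R A).ofConv (x : A) :=
    ⟨(Module.Dual.transpose (R := R) (OortTate.eigenAug R A p χ 1).subtype) ∘ₗ
      (toDual R A).toLinearMap ∘ₗ (OortTate.eigenAug R (D R A) p χ 1).subtype, fun _ _ => rfl⟩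
  obtain ⟨resD', hresD'⟩ : ∃ resD' : ↥(OortTate.eigenAug R (D R A') p χ 1) →ₗ[R]
      Module.Dual R ↥(OortTate.eigenAug R A' p χ 1),
      ∀ (f : ↥(OortTate.eigenAug R (D R A') p χ 1)) (x : ↥(OortTate.eigenAug R A' p χ 1)),
        resD' f x = (f : D R A').ofConv (x : A') :=
    ⟨(Module.Dual.transpose (R := R) (OortTate.eigenAug R A' p χ 1).subtype) ∘ₗ
      (toDual R A').toLinearMap ∘ₗ (OortTate.eigenAug R (D R A') p χ 1).subtype,
      fun _ _ => rfl⟩
  have hbij : Function.Bijective resD := by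
    have h3 := dual_restrict_bijective R A u χ hu hpA 1
    have h4 : (⇑resD : ↥(OortTate.eigenAug R (D R A) p χ 1) →
        Module.Dual R ↥(OortTate.eigenAug R A p χ 1)) =
        (fun f : ↥(OortTate.eigenAug R (D R A) p χ 1) =>
          ((toDual R A) (f : D R A)).comp (OortTate.eigenAug R A p χ 1).subtype) := by
      funext f
      apply LinearMap.ext
      intro x
      exact hresD f x
    rw [h4]
    exact h3
  obtain ⟨eD, heD⟩ : ∃ eD : ↥(OortTate.eigenAug R (D R A) p χ 1) ≃ₗ[R]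
      Module.Dual R ↥(OortTate.eigenAug R A p χ 1), ∀ f, eD f = resD f :=
    ⟨LinearEquiv.ofBijective resD hbij, fun _ => rfl⟩
  obtain ⟨θD, hθD0⟩ : ∃ θD : ↥(OortTate.eigenAug R (D R A') p χ 1) →ₗ[R]
      ↥(OortTate.eigenAug R (D R A) p χ 1),
      ∀ φ', resD (θD φ') = θ.toLinearMap.dualMap (resD' φ') :=
    ⟨eD.symm.toLinearMap ∘ₗ θ.toLinearMap.dualMap ∘ₗ resD', fun φ' => by
      rw [← heD]
      exact eD.apply_symm_apply _⟩
  have hθD1 : ∀ (φ' : ↥(OortTate.eigenAug R (D R A') p χ 1))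
      (x : ↥(OortTate.eigenAug R A p χ 1)),
      ((θD φ' : ↥(OortTate.eigenAug R (D R A) p χ 1)) : D R A).ofConv (x : A) =
        (φ' : D R A').ofConv ((θ x : ↥(OortTate.eigenAug R A' p χ 1)) : A') := by
    intro φ' x
    rw [← hresD, hθD0, LinearMap.dualMap_apply, hresD']
    rfl
  have hθDp : ∀ (φ' : Fin p → ↥(OortTate.eigenAug R (D R A') p χ 1))
      (ψ' : ↥(OortTate.eigenAug R (D R A') p χ 1)), (ψ' : D R A') = ∏ i, (φ' i : D R A') →
      ((θD ψ' : ↥(OortTate.eigenAug R (D R A) p χ 1)) : D R A) =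
        ∏ i, ((θD (φ' i) : ↥(OortTate.eigenAug R (D R A) p χ 1)) : D R A) := by
    intro φ' ψ' hψ'
    have hprod : ∏ i, ((θD (φ' i) : ↥(OortTate.eigenAug R (D R A) p χ 1)) : D R A) ∈
        OortTate.eigenAug R (D R A) p χ 1 :=
      eigen_pow_p_le χ (prod_mem_pow_fin _ p _ (fun i => (θD (φ' i)).2))
    have h3 := hθD (fun i => θD (φ' i)) φ' ⟨_, hprod⟩ ψ' (fun i x => hθD1 (φ' i) x) rfl hψ'
    have h4 : θD ψ' = ⟨_, hprod⟩ := by
      apply ext_dual_eigen u χ hu hpA 1
      intro x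
      rw [hθD1, h3]
    rw [h4]
  obtain ⟨G, hG⟩ := exists_algHom_of_pres (OortTate.eigenAug R (D R A') p χ 1)
    (OortTate.eigenAug R (D R A) p χ 1) p hsD' hkD' θD hθDp
  -- `f` and `G` respect the filtrations
  have hf_mem : ∀ (t : ℕ) (a : A), a ∈ OortTate.eigenAug R A p χ 1 ^ t →
      f a ∈ OortTate.eigenAug R A' p χ 1 ^ t := by
    intro t a ha
    refine map_pow_mem _ _ f ?_ t a ha
    intro x hx
    rw [hf1 ⟨x, hx⟩]
    exact (θ ⟨x, hx⟩).2
  have hG_mem : ∀ (t : ℕ) (η' : D R A'), η' ∈ OortTate.eigenAug R (D R A') p χ 1 ^ t →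
      G η' ∈ OortTate.eigenAug R (D R A) p χ 1 ^ t := by
    intro t η' hη'
    refine map_pow_mem _ _ G ?_ t η' hη'
    intro x hx
    rw [hG ⟨x, hx⟩]
    exact (θD ⟨x, hx⟩).2
  have hbase : ∀ φ' ∈ OortTate.eigenAug R (D R A') p χ 1, ∀ x ∈ OortTate.eigenAug R A p χ 1,
      φ'.ofConv (f x) = (G φ').ofConv x := by
    intro φ' hφ' x hx
    rw [hf1 ⟨x, hx⟩, hG ⟨φ', hφ'⟩]
    exact (hθD1 ⟨φ', hφ'⟩ ⟨x, hx⟩).symm
  -- adjointness on the graded pieces
  have hclaim : ∀ t, 1 ≤ t → t ≤ p - 1 → ∀ η' ∈ OortTate.eigenAug R (D R A') p χ 1 ^ t,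
      ∀ a ∈ OortTate.eigenAug R A p χ 1 ^ t, η'.ofConv (f a) = (G η').ofConv a := by
    intro t ht1
    induction t, ht1 using Nat.le_induction with
    | base =>
      intro _ η' hη' a ha
      rw [pow_one] at hη' ha
      exact hbase η' hη' a ha
    | succ t ht1 ih =>
      intro ht η' hη' a ha
      rw [pow_succ] at hη' ha
      obtain ⟨c, hc⟩ := exists_c u χ hu t
      refine Submodule.mul_induction_on
        (C := fun η' => η'.ofConv (f a) = (G η').ofConv a) hη' ?_ ?_
      · intro ψ' hψ' φ' hφ'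
        refine Submodule.mul_induction_on
          (C := fun a => (ψ' * φ').ofConv (f a) = (G (ψ' * φ')).ofConv a) ha ?_ ?_
        · intro y hy x hx
          have hL : (ψ' * φ').ofConv (f (y * x)) =
              c * (φ'.ofConv (f x) * ψ'.ofConv (f y)) := by
            have e0 : ψ' * φ' = φ' * ψ' := mul_comm ψ' φ'
            have e0' : f (y * x) = f x * f y := by rw [map_mul, mul_comm]
            rw [e0, e0']
            refine pair_two u χ hu hχ hχp hrk' t c hc φ' ψ' hφ'
              (pow_eigen_le χ t ht1 hψ') (f x) (f y) ?_ (pow_eigen_le χ t ht1 (hf_mem t y hy))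
            rw [hf1 ⟨x, hx⟩]
            exact (θ ⟨x, hx⟩).2
          have hR : (G (ψ' * φ')).ofConv (y * x) =
              c * ((G φ').ofConv x * (G ψ').ofConv y) := by
            have e0 : G (ψ' * φ') = G φ' * G ψ' := by rw [map_mul, mul_comm]
            have e0' : y * x = x * y := mul_comm y x
            rw [e0, e0']
            refine pair_two u χ hu hχ hχp hrk t c hc (G φ') (G ψ') ?_
              (pow_eigen_le χ t ht1 (hG_mem t ψ' hψ')) x y hx (pow_eigen_le χ t ht1 hy)
            rw [hG ⟨φ', hφ'⟩]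
            exact (θD ⟨φ', hφ'⟩).2
          rw [hL, hR, hbase φ' hφ' x hx, ih (by omega) ψ' hψ' y hy]
        · intro a1 a2 h3 h4
          rw [map_add, map_add, map_add, h3, h4]
      · intro η1 η2 h3 h4
        rw [WithConv.ofConv_add, LinearMap.add_apply, map_add, WithConv.ofConv_add,
          LinearMap.add_apply, h3, h4]
  -- full adjointness
  have hadj : ∀ (η' : D R A') (a : A), η'.ofConv (f a) = (G η').ofConv a := by
    have h3 : (LinearMap.lcomp R R f.toLinearMap) ∘ₗ (toDual R A').toLinearMap =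
        (toDual R A).toLinearMap ∘ₗ G.toLinearMap := by
      apply ext_on_eigen (H := D R A') u χ hu hχ hpDA'
      · apply ext_on_eigen (H := A) u χ hu hχ hpA
        · show (1 : D R A').ofConv (f 1) = (G 1).ofConv 1
          rw [map_one f, map_one G]
          show algebraMap R R (Coalgebra.counit (R := R) (1 : A')) =
            algebraMap R R (Coalgebra.counit (R := R) (1 : A))
          rw [Bialgebra.counit_one, Bialgebra.counit_one]
        · intro t ht1 ht a ha
          show (1 : D R A').ofConv (f a) = (G 1).ofConv a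
          rw [map_one G]
          show algebraMap R R (Coalgebra.counit (R := R) (f a)) =
            algebraMap R R (Coalgebra.counit (R := R) a)
          have hfa : f a ∈ OortTate.eigenAug R A' p χ t := by
            rw [← hpow' t ht1 ht]
            apply hf_mem
            rw [hpow t ht1 ht]
            exact ha
          rw [((mem_eigenAug χ t (f a)).1 hfa).1, ((mem_eigenAug χ t a).1 ha).1]
      · intro s hs1 hs η' hη'
        have hGη' : G η' ∈ OortTate.eigenAug R (D R A) p χ s := by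
          rw [← hpowD s hs1 hs]
          apply hG_mem
          rw [hpowD' s hs1 hs]
          exact hη'
        apply ext_on_eigen (H := A) u χ hu hχ hpA
        · show η'.ofConv (f 1) = (G η').ofConv 1
          rw [map_one f]
          have e1 : η'.ofConv 1 = 0 := ((mem_eigenAug χ s η').1 hη').1
          have e2 : (G η').ofConv 1 = 0 := ((mem_eigenAug χ s (G η')).1 hGη').1
          rw [e1, e2]
        · intro t ht1 ht a ha
          show η'.ofConv (f a) = (G η').ofConv a
          have hfa : f a ∈ OortTate.eigenAug R A' p χ t := by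
            rw [← hpow' t ht1 ht]
            apply hf_mem
            rw [hpow t ht1 ht]
            exact ha
          by_cases hst : s = t
          · subst hst
            refine hclaim s hs1 hs η' ?_ a ?_
            · rw [hpowD' s hs1 hs]
              exact hη'
            · rw [hpow s hs1 hs]
              exact ha
          · rw [pair_orth u χ hu hχ (not_modEq_of_ne hs1 hs ht1 ht hst) η' hη' (f a) hfa,
              pair_orth u χ hu hχ (not_modEq_of_ne hs1 hs ht1 ht hst) (G η') hGη' a ha]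
    intro η' a
    exact LinearMap.congr_fun (LinearMap.congr_fun h3 η') a
  exact bialgEquiv_of_adjoint f f' h1 h2 G hadj

end Final

end Groth.Agent.Lib.Helper19.OT
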