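import Mathlib
import Groth.Agent.Lib.Helper19.OTComm3
import Groth.Agent.Lib.Helper19.HopfTransfer

/-!
# Commutativity of group schemes of prime order, IV: two universes (helper19)
-/

set_option autoImplicit false
universe u v

open TensorProduct

namespace Groth.Agent.Lib.Helper19.OTComm

open Groth.Agent.Lib.Helper19 Groth.Agent.Lib.Helper19.HopfTransfer

/-- **A finite locally free group scheme of prime rank over any ring is commutative**
(the Hopf algebra may live in any universe). -/
theorem isCocomm_of_rank_prime' (R : Type u) [CommRing R] (A : Type v) [CommRing A]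
    [HopfAlgebra R A] [Module.Finite R A] [Module.Projective R A] (p : ℕ) (hp : p.Prime)
    (hrk : ∀ q : PrimeSpectrum R, Module.rankAtStalk A q = p) : Coalgebra.IsCocomm R A := by
  obtain ⟨B, _, _, ⟨e⟩⟩ := exists_small_model R A
  have hfin : Module.Finite R B := Module.Finite.equiv e.symm.toLinearEquiv
  have hproj : Module.Projective R B := Module.Projective.of_equiv e.symm.toLinearEquiv
  have hrkB : ∀ q : PrimeSpectrum R, Module.rankAtStalk B q = p := by
    intro q
    rw [Module.rankAtStalk_eq_of_equiv e.toLinearEquiv]
    exact hrk q
  have hc : @Coalgebra.IsCocomm R B _ _ _ (hopfB e).toCoalgebra :=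
    @isCocomm_of_rank_prime R _ B _ (hopfB e) hfin hproj p hp hrkB
  apply isCocomm_of_comulB e
  intro x
  exact LinearMap.congr_fun (@Coalgebra.IsCocomm.comm_comp_comul R B _ _ _
    (hopfB e).toCoalgebra hc) x

end Groth.Agent.Lib.Helper19.OTComm
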