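import Mathlib
import Groth.Prelude.Def_ArtFun3

/-!
# Obstructions are spanned by tiny extensions (helper19)
-/

open CategoryTheory ArtFun ArtFun.Art
open scoped TensorProduct

namespace Groth.Agent.Lib.Helper19.ObsTiny

universe u v

theorem mem_range_rTensor_of_coef {k : Type u} [Field k] {V : Type*} [AddCommGroup V] [Module k V]
    {J : Type*} [AddCommGroup J] [Module k J] (Ω : Submodule k V) (ω : V ⊗[k] J)
    (h : ∀ (lam : J →ₗ[k] k) (j₀ : J), lam j₀ = 1 →
      TensorProduct.rid k V (LinearMap.lTensor V lam ω) ∈ Ω) :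
    ω ∈ LinearMap.range (LinearMap.rTensor J Ω.subtype) := by
  classical
  let b := Module.Basis.ofVectorSpace k J
  let e := TensorProduct.equivFinsuppOfBasisRight (M := V) b
  have hmem : ∀ i, e ω i ∈ Ω := by
    intro i
    rw [TensorProduct.equivFinsuppOfBasisRight_apply]
    exact h (b.coord i) (b i) (by simp [Module.Basis.coord_apply])
  refine ⟨∑ i ∈ (e ω).support, (⟨e ω i, hmem i⟩ : Ω) ⊗ₜ[k] b i, ?_⟩
  rw [map_sum]
  simp only [LinearMap.rTensor_tmul, Submodule.subtype_apply]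
  conv_rhs => rw [← e.symm_apply_apply ω, TensorProduct.equivFinsuppOfBasisRight_symm_apply]
  rfl

variable {k : Type u} [Field k]

theorem ker_le_maximalIdeal {C' C : Art k k} (p : C' ⟶ C) :
    RingHom.ker p.toAlgHom ≤ IsLocalRing.maximalIdeal C' := by
  intro x hx
  rw [Art.mem_maximalIdeal_iff, ← Art.res_app p x]
  have h1 : p.toAlgHom x = 0 := RingHom.mem_ker.1 hx
  show C.res (p.toAlgHom x) = 0
  rw [h1, map_zero]

theorem mul_eq_zero_of_mem {C' C : Art k k} (p : C' ⟶ C) (hp : IsSemismallExt p)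
    {m x : C'} (hm : m ∈ IsLocalRing.maximalIdeal C') (hx : x ∈ RingHom.ker p.toAlgHom) :
    m * x = 0 := by
  have h1 : m * x ∈ IsLocalRing.maximalIdeal C' * RingHom.ker p.toAlgHom := Ideal.mul_mem_mul hm hx
  rw [hp.2] at h1
  exact (Submodule.mem_bot _).1 h1

theorem mul_eq_res_mul {C' C : Art k k} (p : C' ⟶ C) (hp : IsSemismallExt p)
    (c : C') {x : C'} (hx : x ∈ RingHom.ker p.toAlgHom) :
    c * x = algebraMap k C' (C'.res c) * x := by
  have h1 : c - algebraMap k C' (C'.res c) ∈ IsLocalRing.maximalIdeal C' := by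
    rw [Art.mem_maximalIdeal_iff, map_sub, AlgHom.commutes]
    exact sub_self _
  have h2 := mul_eq_zero_of_mem p hp h1 hx
  rw [sub_mul, sub_eq_zero] at h2
  exact h2

/-- The kernel of a linear form on the kernel of a semismall extension, as an ideal. -/
def kIdeal {C' C : Art k k} (p : C' ⟶ C) (hp : IsSemismallExt p)
    (lam : ↥(RingHom.ker p.toAlgHom) →ₗ[k] k) : Ideal C' where
  carrier := {x | ∃ h : x ∈ RingHom.ker p.toAlgHom, lam ⟨x, h⟩ = 0}
  add_mem' := by
    rintro a b ⟨ha, ha'⟩ ⟨hb, hb'⟩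
    refine ⟨Ideal.add_mem _ ha hb, ?_⟩
    have h1 : (⟨a + b, Ideal.add_mem _ ha hb⟩ : ↥(RingHom.ker p.toAlgHom)) = ⟨a, ha⟩ + ⟨b, hb⟩ := rfl
    rw [h1, map_add, ha', hb', add_zero]
  zero_mem' := by
    refine ⟨Ideal.zero_mem _, ?_⟩
    have h1 : (⟨0, Ideal.zero_mem _⟩ : ↥(RingHom.ker p.toAlgHom)) = 0 := rfl
    rw [h1, map_zero]
  smul_mem' := by
    rintro c x ⟨hx, hx'⟩
    refine ⟨Ideal.mul_mem_left _ c hx, ?_⟩
    have h1 : (⟨c • x, Ideal.mul_mem_left _ c hx⟩ : ↥(RingHom.ker p.toAlgHom)) =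
        (C'.res c) • (⟨x, hx⟩ : ↥(RingHom.ker p.toAlgHom)) := by
      apply Subtype.ext
      show c * x = (C'.res c) • x
      rw [Algebra.smul_def]
      exact mul_eq_res_mul p hp c hx
    rw [h1, map_smul, hx', smul_zero]

theorem mem_kIdeal {C' C : Art k k} (p : C' ⟶ C) (hp : IsSemismallExt p)
    (lam : ↥(RingHom.ker p.toAlgHom) →ₗ[k] k) (x : C') :
    x ∈ kIdeal p hp lam ↔ ∃ h : x ∈ RingHom.ker p.toAlgHom, lam ⟨x, h⟩ = 0 := Iff.rfl

theorem coef_mem {F : Art k k ⥤ Type v} {V : Type u} [AddCommGroup V] [Module k V]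
    (T : ObsTheory F V) {C' C : Art k k} (p : C' ⟶ C) (hp : IsSemismallExt p) (u : F.obj C)
    (lam : ↥(RingHom.ker p.toAlgHom) →ₗ[k] k) (j₀ : ↥(RingHom.ker p.toAlgHom)) (hj₀ : lam j₀ = 1) :
    ∃ (B' B : Art k k) (t : B' ⟶ B) (ht : IsSmallExt t) (w : F.obj B)
      (φ : ↥(RingHom.ker t.toAlgHom) ≃ₗ[k] k),
      TensorProduct.rid k V (LinearMap.lTensor V lam (T.obs p hp u)) =
        TensorProduct.rid k V (LinearMap.lTensor V φ.toLinearMap (T.obs t ht.isSemismallExt w)) := by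
  have hKJ : kIdeal p hp lam ≤ RingHom.ker p.toAlgHom := fun x hx => by
    obtain ⟨h, -⟩ := (mem_kIdeal p hp lam x).1 hx
    exact h
  have hK : kIdeal p hp lam ≤ IsLocalRing.maximalIdeal C' := hKJ.trans (ker_le_maximalIdeal p)
  have hj₀K : (j₀ : C') ∉ kIdeal p hp lam := by
    intro h
    obtain ⟨h', h0⟩ := (mem_kIdeal p hp lam _).1 h
    have h1 : (⟨(j₀ : C'), h'⟩ : ↥(RingHom.ker p.toAlgHom)) = j₀ := rfl
    rw [h1, hj₀] at h0
    exact one_ne_zero h0
  have hmk0 : ∀ x : C', Art.quotMk C' (kIdeal p hp lam) hK x = 0 ↔ x ∈ kIdeal p hp lam := by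
    intro x
    rw [Art.quotMk_apply]
    exact Ideal.Quotient.eq_zero_iff_mem
  have hqmk : ∀ x : C', (Art.quotFactor hK p hKJ).toAlgHom (Art.quotMk C' (kIdeal p hp lam) hK x) =
      p.toAlgHom x := fun x => rfl
  have hκval : ∀ x : ↥(RingHom.ker p.toAlgHom),
      ((Art.kerToQuot hK p hKJ x : ↥(RingHom.ker (Art.quotFactor hK p hKJ).toAlgHom)) :
        Art.quot C' (kIdeal p hp lam) hK) = Art.quotMk C' (kIdeal p hp lam) hK (x : C') := fun x => rfl
  have hκ0 : Art.kerToQuot hK p hKJ j₀ ≠ 0 := by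
    intro h
    have h1 : Art.quotMk C' (kIdeal p hp lam) hK (j₀ : C') = 0 := by
      rw [← hκval, h]
      rfl
    exact hj₀K ((hmk0 _).1 h1)
  have hκker : ∀ z : ↥(RingHom.ker p.toAlgHom), lam z = 0 → Art.kerToQuot hK p hKJ z = 0 := by
    intro z hz
    apply Subtype.ext
    rw [hκval]
    exact (hmk0 _).2 ((mem_kIdeal p hp lam _).2 ⟨z.2, hz⟩)
  have hκ : ∀ x : ↥(RingHom.ker p.toAlgHom),
      Art.kerToQuot hK p hKJ x = lam x • Art.kerToQuot hK p hKJ j₀ := by
    intro x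
    have h1 : Art.kerToQuot hK p hKJ (x - lam x • j₀) = 0 := by
      apply hκker
      rw [map_sub, map_smul, hj₀, smul_eq_mul, mul_one, sub_self]
    rw [map_sub, map_smul, sub_eq_zero] at h1
    exact h1
  have hκsurj : ∀ y : ↥(RingHom.ker (Art.quotFactor hK p hKJ).toAlgHom),
      ∃ x, Art.kerToQuot hK p hKJ x = y := by
    intro y
    obtain ⟨x, hx⟩ := Art.quotMk_surjective C' (kIdeal p hp lam) hK
      (y : Art.quot C' (kIdeal p hp lam) hK)
    have hxJ : x ∈ RingHom.ker p.toAlgHom := by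
      rw [RingHom.mem_ker, ← hqmk x, hx]
      exact RingHom.mem_ker.1 y.2
    exact ⟨⟨x, hxJ⟩, Subtype.ext (by rw [hκval]; exact hx)⟩
  have hq : IsSmallExt (Art.quotFactor hK p hKJ) := by
    refine ⟨?_, ?_, ?_, ?_⟩
    · intro c
      obtain ⟨a, ha⟩ := hp.1 c
      exact ⟨Art.quotMk C' (kIdeal p hp lam) hK a, ha⟩
    · intro h
      have h1 : ((Art.kerToQuot hK p hKJ j₀ : ↥(RingHom.ker (Art.quotFactor hK p hKJ).toAlgHom)) :
          Art.quot C' (kIdeal p hp lam) hK) ∈ RingHom.ker (Art.quotFactor hK p hKJ).toAlgHom :=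
        (Art.kerToQuot hK p hKJ j₀).2
      have h2 : ((Art.kerToQuot hK p hKJ j₀ : ↥(RingHom.ker (Art.quotFactor hK p hKJ).toAlgHom)) :
          Art.quot C' (kIdeal p hp lam) hK) ∈ (⊥ : Ideal (Art.quot C' (kIdeal p hp lam) hK)) := by
        rw [← h]
        exact h1
      exact hκ0 (Subtype.ext ((Submodule.mem_bot _).1 h2))
    · refine ⟨⟨((Art.kerToQuot hK p hKJ j₀ : ↥(RingHom.ker (Art.quotFactor hK p hKJ).toAlgHom)) :
          Art.quot C' (kIdeal p hp lam) hK), ?_⟩⟩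
      apply le_antisymm
      · intro y hy
        obtain ⟨x, hx⟩ := hκsurj ⟨y, hy⟩
        have h2 := hκ x
        rw [hx] at h2
        have h3 : y = lam x • ((Art.kerToQuot hK p hKJ j₀ :
            ↥(RingHom.ker (Art.quotFactor hK p hKJ).toAlgHom)) :
            Art.quot C' (kIdeal p hp lam) hK) := congrArg Subtype.val h2
        rw [h3, Algebra.smul_def]
        exact Ideal.mul_mem_left _ _ (Ideal.subset_span (Set.mem_singleton _))
      · rw [Submodule.span_le]
        intro y hy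
        rw [Set.mem_singleton_iff] at hy
        rw [hy]
        exact (Art.kerToQuot hK p hKJ j₀).2
    · rw [eq_bot_iff, Ideal.mul_le]
      intro m hm y hy
      obtain ⟨m', rfl⟩ := Art.quotMk_surjective C' (kIdeal p hp lam) hK m
      obtain ⟨x, rfl⟩ := Art.quotMk_surjective C' (kIdeal p hp lam) hK y
      have hm' : m' ∈ IsLocalRing.maximalIdeal C' := by
        rw [Art.mem_maximalIdeal_iff] at hm ⊢
        exact hm
      have hx : x ∈ RingHom.ker p.toAlgHom := by
        rw [RingHom.mem_ker, ← hqmk x]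
        exact RingHom.mem_ker.1 hy
      rw [← map_mul, mul_eq_zero_of_mem p hp hm' hx, map_zero]
      exact Submodule.zero_mem _
  let φ' : k →ₗ[k] ↥(RingHom.ker (Art.quotFactor hK p hKJ).toAlgHom) :=
    LinearMap.toSpanSingleton k _ (Art.kerToQuot hK p hKJ j₀)
  have hφ'bij : Function.Bijective φ' := by
    constructor
    · rw [injective_iff_map_eq_zero]
      intro α hα
      have h1 : α • Art.kerToQuot hK p hKJ j₀ = 0 := hα
      exact (smul_eq_zero.1 h1).resolve_right hκ0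
    · intro y
      obtain ⟨x, hx⟩ := hκsurj y
      refine ⟨lam x, ?_⟩
      rw [← hx, hκ x]
      rfl
  have hφκ : (LinearEquiv.ofBijective φ' hφ'bij).symm.toLinearMap ∘ₗ
      ((Art.kerToQuot hK p hKJ).restrictScalars k) = lam := by
    apply LinearMap.ext
    intro x
    show (LinearEquiv.ofBijective φ' hφ'bij).symm (Art.kerToQuot hK p hKJ x) = lam x
    rw [hκ x]
    exact (LinearEquiv.ofBijective φ' hφ'bij).symm_apply_apply (lam x)
  refine ⟨Art.quot C' (kIdeal p hp lam) hK, C, Art.quotFactor hK p hKJ, hq, u,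
    (LinearEquiv.ofBijective φ' hφ'bij).symm, ?_⟩
  rw [T.obs_quot p hp (kIdeal p hp lam) hK hKJ hq.isSemismallExt u, ← LinearMap.comp_apply,
    ← LinearMap.lTensor_comp, hφκ]

end Groth.Agent.Lib.Helper19.ObsTiny
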