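import Mathlib

set_option autoImplicit false

namespace Groth.Agent.Lib.Helper19.OverBC

open CategoryTheory Limits

universe v u

variable {C : Type u} [Category.{v} C] [HasPullbacks C]

set_option backward.isDefEq.respectTransparency false in
/-- Base change along a cartesian square: `f'^* ⋙ g'_! ≅ g_! ⋙ f^*` on over categories. -/
noncomputable def pullbackMapIso {S T S' T' : C} {f : T ⟶ S} {g : S' ⟶ S} {g' : T' ⟶ T}
    {f' : T' ⟶ S'} (hsq : IsPullback g' f' f g) :
    Over.pullback f' ⋙ Over.map g' ≅ Over.map g ⋙ Over.pullback f :=
  NatIso.ofComponents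
    (fun Y => Over.isoMk
      ((IsPullback.paste_vert (IsPullback.of_hasPullback Y.hom f') hsq.flip).isoPullback)
      (by simp))
    (by
      intro Y Y' φ
      ext
      simp
      apply pullback.hom_ext <;> simp)

end Groth.Agent.Lib.Helper19.OverBC
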