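import Groth.Agent.Lib.Helper19.Unip3
import Mathlib.RingTheory.Polynomial.Pochhammer
import Mathlib.Algebra.Polynomial.Roots

/-!
# Unipotent groups in characteristic zero (helper19)

`A` is a commutative bialgebra over a field `K` of characteristic zero, spanned by the entries of its
unitriangular corepresentation matrices (`utSpan K A = ⊤`; this holds for unipotent `A`).

* `IsPolyFun`, `isPolyFun_adams`: `m ↦ ψ^m a` (Adams operations = convolution powers of the identity)
  is a polynomial function of `m`.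
* `primitive_eq_zero_of_mem_sq`: a primitive element in the square of the augmentation ideal is zero.
* `IsEpsDer`, `exists_epsDer_ne_zero`.
* `eq_counit_smul_one_of_epsDer_zero`: a function killed by all invariant derivations is constant.
* `eq_zero_of_invariant_pred`: the enveloping algebra of the Lie algebra is dense in the dual of `A`.
-/

set_option autoImplicit false
universe u v w

open TensorProduct

namespace Groth.Agent.Lib.Helper19.Unip

open Groth.Agent.Lib.Helper19.Reynolds
open Groth.Agent.Lib.Helper19.Coalg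
open Groth.Agent.Lib.Helper19.LinearGrp

section PolyFun

variable {A : Type v} [CommRing A]

/-- functions `ℕ → A` given by a polynomial -/
def IsPolyFun (F : ℕ → A) : Prop := ∃ p : Polynomial A, ∀ m : ℕ, F m = p.eval (m : A)

lemma isPolyFun_const (a : A) : IsPolyFun (fun _ => a) :=
  ⟨Polynomial.C a, fun m => by rw [Polynomial.eval_C]⟩

lemma IsPolyFun.of_eq {F G : ℕ → A} (hG : IsPolyFun G) (h : ∀ m, F m = G m) : IsPolyFun F := by
  obtain ⟨p, hp⟩ := hG
  exact ⟨p, fun m => (h m).trans (hp m)⟩

lemma IsPolyFun.add {F G : ℕ → A} (hF : IsPolyFun F) (hG : IsPolyFun G) :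
    IsPolyFun (fun m => F m + G m) := by
  obtain ⟨p, hp⟩ := hF
  obtain ⟨q, hq⟩ := hG
  exact ⟨p + q, fun m => by
    show F m + G m = _
    rw [Polynomial.eval_add, hp, hq]⟩

lemma IsPolyFun.mul {F G : ℕ → A} (hF : IsPolyFun F) (hG : IsPolyFun G) :
    IsPolyFun (fun m => F m * G m) := by
  obtain ⟨p, hp⟩ := hF
  obtain ⟨q, hq⟩ := hG
  exact ⟨p * q, fun m => by
    show F m * G m = _
    rw [Polynomial.eval_mul, hp, hq]⟩

lemma isPolyFun_sum {ι : Type*} (s : Finset ι) (F : ι → ℕ → A) (h : ∀ i ∈ s, IsPolyFun (F i)) :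
    IsPolyFun (fun m => ∑ i ∈ s, F i m) := by
  classical
  induction s using Finset.induction_on with
  | empty => exact ⟨0, fun m => by
      show ∑ i ∈ (∅ : Finset ι), F i m = _
      rw [Finset.sum_empty, Polynomial.eval_zero]⟩
  | insert a s ha ih =>
    obtain ⟨p, hp⟩ := (h a (Finset.mem_insert_self a s)).add
      (ih fun i hi => h i (Finset.mem_insert_of_mem hi))
    exact ⟨p, fun m => by
      show ∑ i ∈ insert a s, F i m = _
      rw [Finset.sum_insert ha]
      exact hp m⟩

lemma isPolyFun_choose (K : Type u) [Field K] [CharZero K] [Algebra K A] (j : ℕ) :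
    IsPolyFun (fun m => ((m.choose j : ℕ) : A)) := by
  refine ⟨Polynomial.C (algebraMap K A ((j.factorial : K)⁻¹)) * descPochhammer A j, fun m => ?_⟩
  have h1 : algebraMap K A ((j.factorial : K)⁻¹) * ((j.factorial : ℕ) : A) = 1 := by
    rw [← map_natCast (algebraMap K A), ← map_mul,
      inv_mul_cancel₀ (Nat.cast_ne_zero.2 (Nat.factorial_ne_zero j)), map_one]
  rw [Polynomial.eval_mul, Polynomial.eval_C, descPochhammer_eval_eq_descFactorial,
    Nat.descFactorial_eq_factorial_mul_choose, Nat.cast_mul, ← mul_assoc, h1, one_mul]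

/-- a polynomial over a `ℚ`-algebra vanishing at all natural numbers is zero -/
lemma eq_zero_of_forall_eval_natCast {K : Type u} [Field K] [CharZero K] [Algebra K A]
    (p : Polynomial A) (h : ∀ m : ℕ, p.eval (m : A) = 0) : p = 0 := by
  ext i
  rw [Polynomial.coeff_zero]
  refine (Module.forall_dual_apply_eq_zero_iff K _).1 fun φ => ?_
  set q : Polynomial K := ∑ t ∈ Finset.range (p.natDegree + 1),
    Polynomial.C (φ (p.coeff t)) * Polynomial.X ^ t with hq
  have hroot : ∀ m : ℕ, q.eval (m : K) = 0 := by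
    intro m
    have h1 := h m
    rw [Polynomial.eval_eq_sum_range] at h1
    have h2 := congrArg φ h1
    rw [map_sum, map_zero] at h2
    rw [hq, Polynomial.eval_finsetSum, ← h2]
    refine Finset.sum_congr rfl fun t _ => ?_
    rw [Polynomial.eval_mul, Polynomial.eval_C, Polynomial.eval_pow, Polynomial.eval_X]
    have h3 : p.coeff t * (m : A) ^ t = ((m : K) ^ t) • p.coeff t := by
      rw [Algebra.smul_def, map_pow, map_natCast, mul_comm]
    rw [h3, map_smul, smul_eq_mul, mul_comm]
  have hq0 : q = 0 := by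
    apply Polynomial.eq_zero_of_infinite_isRoot
    refine (Set.infinite_range_of_injective (Nat.cast_injective (R := K))).mono ?_
    rintro _ ⟨m, rfl⟩
    exact hroot m
  by_cases hi : i ∈ Finset.range (p.natDegree + 1)
  · have h4 : q.coeff i = φ (p.coeff i) := by
      rw [hq, Polynomial.finsetSum_coeff, Finset.sum_eq_single i]
      · rw [Polynomial.coeff_C_mul, Polynomial.coeff_X_pow, if_pos rfl, mul_one]
      · intro t _ hti
        rw [Polynomial.coeff_C_mul, Polynomial.coeff_X_pow, if_neg (Ne.symm hti), mul_zero]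
      · intro hni
        exact absurd hi hni
    rw [← h4, hq0, Polynomial.coeff_zero]
  · have h5 : p.coeff i = 0 := by
      apply Polynomial.coeff_eq_zero_of_natDegree_lt
      rw [Finset.mem_range] at hi
      omega
    rw [h5, map_zero]

end PolyFun

section MatrixPow

variable {A : Type v} [CommRing A]

lemma strictUpper_pow {n : ℕ} (N : Matrix (Fin n) (Fin n) A) (hN : ∀ i j, j ≤ i → N i j = 0)
    (s : ℕ) : ∀ i j : Fin n, (j : ℕ) < i + s → (N ^ s) i j = 0 := by
  induction s with
  | zero =>
    intro i j h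
    rw [pow_zero, Matrix.one_apply_ne]
    intro hij
    subst hij
    omega
  | succ s ih =>
    intro i j h
    rw [pow_succ, Matrix.mul_apply]
    refine Finset.sum_eq_zero fun l _ => ?_
    by_cases hl : (l : ℕ) < i + s
    · rw [ih i l hl, zero_mul]
    · rw [hN l j (by rw [Fin.le_def]; omega), mul_zero]

lemma strictUpper_pow_eq_zero {n : ℕ} (N : Matrix (Fin n) (Fin n) A)
    (hN : ∀ i j, j ≤ i → N i j = 0) : N ^ n = 0 := by
  ext i j
  exact strictUpper_pow N hN n i j (by have := j.isLt; omega)

/-- binomial expansion of the powers of a unitriangular matrix -/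
lemma ut_pow_apply {n : ℕ} (M : Matrix (Fin n) (Fin n) A) (hl : ∀ i j, j < i → M i j = 0)
    (hd : ∀ i, M i i = 1) (m : ℕ) (i j : Fin n) :
    (M ^ m) i j = ∑ t ∈ Finset.range n, ((m.choose t : ℕ) : A) * ((M - 1) ^ t) i j := by
  set N := M - 1 with hNdef
  have hN : ∀ i j, j ≤ i → N i j = 0 := by
    intro i j hji
    rw [hNdef, Matrix.sub_apply]
    rcases lt_or_eq_of_le hji with h | h
    · rw [hl i j h, Matrix.one_apply_ne (ne_of_gt h), sub_zero]
    · subst h
      rw [hd, Matrix.one_apply_eq, sub_self]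
  have hM : M = N + 1 := by rw [hNdef, sub_add_cancel]
  have hpow : M ^ m = ∑ t ∈ Finset.range (m + 1), (m.choose t) • N ^ t := by
    rw [hM, (Commute.one_right N).add_pow]
    refine Finset.sum_congr rfl fun t _ => ?_
    rw [one_pow, mul_one, nsmul_eq_mul']
  have hA : ∑ t ∈ Finset.range (m + 1), (m.choose t) • N ^ t =
      ∑ t ∈ Finset.range (m + 1 + n), (m.choose t) • N ^ t := by
    apply Finset.sum_subset (Finset.range_subset_range.2 (by omega))
    intro t _ ht
    rw [Finset.mem_range, not_lt] at ht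
    rw [Nat.choose_eq_zero_of_lt (by omega), zero_smul]
  have hB : ∑ t ∈ Finset.range n, (m.choose t) • N ^ t =
      ∑ t ∈ Finset.range (m + 1 + n), (m.choose t) • N ^ t := by
    apply Finset.sum_subset (Finset.range_subset_range.2 (by omega))
    intro t _ ht
    rw [Finset.mem_range, not_lt] at ht
    rw [pow_eq_zero_of_le ht (strictUpper_pow_eq_zero N hN), smul_zero]
  rw [hpow, hA, ← hB, Matrix.sum_apply]
  refine Finset.sum_congr rfl fun t _ => ?_
  rw [Matrix.smul_apply, nsmul_eq_mul]

end MatrixPow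

section Adams

variable {K : Type u} {A : Type v} [Field K] [CommRing A] [Bialgebra K A]
variable {B : Type w} [CommRing B] [Algebra K B]

/-- the matrix of values of a `B`-valued point on a corepresentation matrix -/
def evB (g : WithConv (A →ₐ[K] B)) {n : ℕ} (M : Matrix (Fin n) (Fin n) A) :
    Matrix (Fin n) (Fin n) B := fun i j => g.ofConv (M i j)

lemma evB_apply (g : WithConv (A →ₐ[K] B)) {n : ℕ} (M : Matrix (Fin n) (Fin n) A) (i j : Fin n) :
    evB g M i j = g.ofConv (M i j) := rfl

lemma evB_one {n : ℕ} {M : Matrix (Fin n) (Fin n) A} (hM : IsUTMat K M) :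
    evB (1 : WithConv (A →ₐ[K] B)) M = 1 := by
  ext i j
  have h1 : (1 : WithConv (A →ₐ[K] B)).ofConv (M i j) =
      algebraMap K B (Coalgebra.counit (R := K) (M i j)) := rfl
  rw [evB_apply, h1, hM.counit, Matrix.one_apply]
  split_ifs
  · rw [map_one]
  · rw [map_zero]

lemma evB_mul (g h : WithConv (A →ₐ[K] B)) {n : ℕ} {M : Matrix (Fin n) (Fin n) A}
    (hM : IsUTMat K M) : evB (g * h) M = evB g M * evB h M := by
  ext i j
  rw [Matrix.mul_apply, evB_apply, AlgHom.convMul_apply, hM.comul, map_sum]
  simp only [Algebra.TensorProduct.lift_tmul, evB_apply]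

lemma evB_pow (g : WithConv (A →ₐ[K] B)) {n : ℕ} {M : Matrix (Fin n) (Fin n) A}
    (hM : IsUTMat K M) (m : ℕ) : evB (g ^ m) M = (evB g M) ^ m := by
  induction m with
  | zero => rw [pow_zero, pow_zero, evB_one hM]
  | succ m ih => rw [pow_succ, pow_succ, evB_mul _ _ hM, ih]

variable (K A) in
/-- the universal point; its convolution powers are the Adams operations -/
def adamsPt : WithConv (A →ₐ[K] A) := WithConv.toConv (AlgHom.id K A)

lemma evB_adamsPt_pow {n : ℕ} {M : Matrix (Fin n) (Fin n) A} (hM : IsUTMat K M) (m : ℕ) :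
    evB (adamsPt K A ^ m) M = M ^ m := by
  rw [evB_pow _ hM]
  rfl

lemma counit_eq_zero_of_primitive (x : A)
    (hx : Coalgebra.comul (R := K) x = x ⊗ₜ[K] (1 : A) + (1 : A) ⊗ₜ[K] x) :
    Coalgebra.counit (R := K) x = 0 := by
  have h1 := Coalgebra.rTensor_counit_comul (R := K) x
  rw [hx, map_add, LinearMap.rTensor_tmul, LinearMap.rTensor_tmul, Bialgebra.counit_one] at h1
  have h2 : Coalgebra.counit (R := K) x ⊗ₜ[K] (1 : A) = 0 := by
    have h := h1
    rw [← sub_eq_zero, add_sub_cancel_right] at h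
    exact h
  have h3 := congrArg (TensorProduct.lid K A) h2
  rw [TensorProduct.lid_tmul, map_zero] at h3
  have h4 := congrArg (Coalgebra.counit (R := K)) h3
  rw [map_smul, Bialgebra.counit_one, smul_eq_mul, mul_one, map_zero] at h4
  exact h4

lemma adams_primitive (x : A)
    (hx : Coalgebra.comul (R := K) x = x ⊗ₜ[K] (1 : A) + (1 : A) ⊗ₜ[K] x) (m : ℕ) :
    (adamsPt K A ^ m).ofConv x = (m : A) * x := by
  induction m with
  | zero =>
    have h1 : (1 : WithConv (A →ₐ[K] A)).ofConv x =
        algebraMap K A (Coalgebra.counit (R := K) x) := rfl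
    rw [pow_zero, h1, counit_eq_zero_of_primitive x hx, map_zero, Nat.cast_zero, zero_mul]
  | succ m ih =>
    have h2 : (adamsPt K A).ofConv x = x := rfl
    rw [pow_succ, AlgHom.convMul_apply, hx, map_add, Algebra.TensorProduct.lift_tmul,
      Algebra.TensorProduct.lift_tmul, ih, map_one, map_one, h2, Nat.cast_succ]
    ring

lemma isPolyFun_adams [CharZero K] (hut : utSpan K A = ⊤) (a : A) :
    IsPolyFun (fun m => (adamsPt K A ^ m).ofConv a) := by
  have ha : a ∈ utSpan K A := by
    rw [hut]
    exact Submodule.mem_top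
  unfold utSpan at ha
  induction ha using Submodule.span_induction with
  | mem x hx =>
    obtain ⟨n, M, i, j, hM, rfl⟩ := hx
    have h1 : ∀ m : ℕ, (adamsPt K A ^ m).ofConv (M i j) =
        ∑ t ∈ Finset.range n, ((m.choose t : ℕ) : A) * ((M - 1) ^ t) i j := by
      intro m
      rw [← ut_pow_apply M hM.lower hM.diag m i j, ← evB_adamsPt_pow hM m]
      rfl
    refine IsPolyFun.of_eq ?_ h1
    exact isPolyFun_sum _ _ fun t _ => (isPolyFun_choose K t).mul (isPolyFun_const _)
  | zero =>
    refine IsPolyFun.of_eq (isPolyFun_const 0) fun m => ?_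
    rw [map_zero]
  | add x y _ _ hx hy =>
    refine IsPolyFun.of_eq (hx.add hy) fun m => ?_
    rw [map_add]
  | smul c x _ hx =>
    refine IsPolyFun.of_eq ((isPolyFun_const (algebraMap K A c)).mul hx) fun m => ?_
    rw [map_smul, Algebra.smul_def]

variable (K A) in
/-- the augmentation ideal -/
def augI : Ideal A := RingHom.ker (Bialgebra.counitAlgHom K A)

lemma mem_augI (a : A) : a ∈ augI K A ↔ Coalgebra.counit (R := K) a = 0 := by
  unfold augI
  rw [RingHom.mem_ker]
  rfl

/-- In characteristic zero a primitive element lying in the square of the augmentation ideal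
vanishes. -/
theorem primitive_eq_zero_of_mem_sq [CharZero K] (hut : utSpan K A = ⊤) (x : A)
    (hx : Coalgebra.comul (R := K) x = x ⊗ₜ[K] (1 : A) + (1 : A) ⊗ₜ[K] x)
    (hI : x ∈ augI K A * augI K A) : x = 0 := by
  have hX : ∀ a ∈ augI K A, ∀ p : Polynomial A,
      (∀ m : ℕ, (adamsPt K A ^ m).ofConv a = p.eval (m : A)) → Polynomial.X ∣ p := by
    intro a ha p hp
    rw [Polynomial.X_dvd_iff, Polynomial.coeff_zero_eq_eval_zero]
    have h0 := hp 0
    rw [Nat.cast_zero] at h0
    rw [← h0, pow_zero]
    show algebraMap K A (Coalgebra.counit (R := K) a) = 0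
    rw [(mem_augI a).1 ha, map_zero]
  have key : ∀ y ∈ augI K A * augI K A, ∃ p : Polynomial A, Polynomial.X ^ 2 ∣ p ∧
      ∀ m : ℕ, (adamsPt K A ^ m).ofConv y = p.eval (m : A) := by
    intro y hy
    refine Submodule.mul_induction_on hy ?_ ?_
    · intro a ha b hb
      obtain ⟨p, hp'⟩ := isPolyFun_adams hut a
      obtain ⟨q, hq'⟩ := isPolyFun_adams hut b
      have hp : ∀ m : ℕ, (adamsPt K A ^ m).ofConv a = p.eval (m : A) := hp'
      have hq : ∀ m : ℕ, (adamsPt K A ^ m).ofConv b = q.eval (m : A) := hq'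
      refine ⟨p * q, ?_, fun m => ?_⟩
      · rw [pow_two]
        exact mul_dvd_mul (hX a ha p hp) (hX b hb q hq)
      · rw [map_mul, hp, hq, Polynomial.eval_mul]
    · rintro y z ⟨p, hp2, hp⟩ ⟨q, hq2, hq⟩
      exact ⟨p + q, dvd_add hp2 hq2, fun m => by rw [map_add, hp, hq, Polynomial.eval_add]⟩
  obtain ⟨p, hp2, hp⟩ := key x hI
  have h1 : p - Polynomial.C x * Polynomial.X = 0 := by
    apply eq_zero_of_forall_eval_natCast (K := K)
    intro m
    rw [Polynomial.eval_sub, ← hp m, adams_primitive x hx m, Polynomial.eval_mul,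
      Polynomial.eval_C, Polynomial.eval_X, mul_comm, sub_self]
  have h2 : p = Polynomial.C x * Polynomial.X := sub_eq_zero.1 h1
  rw [h2, Polynomial.X_pow_dvd_iff] at hp2
  have h3 := hp2 1 (by norm_num)
  rw [Polynomial.coeff_C_mul, Polynomial.coeff_X_one, mul_one] at h3
  exact h3

end Adams

end Groth.Agent.Lib.Helper19.Unip
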