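import Mathlib
import Groth.Agent.Lib.Helper19.Kolchin

/-!
# Idempotents, separable elements and tensor squares (helper19)

Over an algebraically closed field `k`:
* separable elements of a `k`-algebra are `k`-linear combinations of idempotents
  (`sep_mem_span_idem`);
* idempotents of `R ⊗[k] R` are linear combinations of pure tensors of idempotents
  (`idem_tensor_mem_span`), i.e. `π₀(X × X) = π₀(X) × π₀(X)`.
-/

set_option autoImplicit false
universe u v

open TensorProduct

namespace Groth.Agent.Lib.Helper19.Pi0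

open Groth.Agent.Lib.Helper19

section Idem

theorem idem_eq_of_sub_nilpotent {R : Type*} [CommRing R] {e e' : R}
    (he : IsIdempotentElem e) (he' : IsIdempotentElem e') (h : IsNilpotent (e - e')) : e = e' := by
  have h1 : e * e = e := he
  have h2 : e' * e' = e' := he'
  have h3 : (e - e') ^ 3 = e - e' := by
    linear_combination (e + 1 - 3 * e') * h1 + (3 * e - e' - 1) * h2
  obtain ⟨n, hn⟩ := h
  have h4 : ∀ m : ℕ, (e - e') ^ (2 * m + 1) = e - e' := by
    intro m
    induction m with
    | zero => simp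
    | succ m ih =>
      have h5 : (e - e') ^ (2 * (m + 1) + 1) = (e - e') ^ (2 * m + 1) * (e - e') ^ 2 := by ring
      rw [h5, ih]
      calc (e - e') * (e - e') ^ 2 = (e - e') ^ 3 := by ring
        _ = e - e' := h3
  have h5 : (e - e') ^ (2 * n + 1) = 0 := by
    have h6 : (e - e') ^ (2 * n + 1) = (e - e') ^ n * (e - e') ^ (n + 1) := by ring
    rw [h6, hn, zero_mul]
  have h6 : e - e' = 0 := by rw [← h4 n, h5]
  exact sub_eq_zero.mp h6

theorem finite_idem (R : Type*) [CommRing R] [IsNoetherianRing R] :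
    {e : R | IsIdempotentElem e}.Finite := by
  have hfin : (minimalPrimes R).Finite := minimalPrimes.finite_of_isNoetherianRing R
  refine Set.Finite.of_injOn (f := fun e : R => {p ∈ minimalPrimes R | e ∈ p})
    (t := {b | b ⊆ minimalPrimes R}) ?_ ?_ hfin.finite_subsets
  · intro e _ p hp
    exact hp.1
  · intro e he e' he' hee'
    have he1 : IsIdempotentElem e := he
    have he1' : IsIdempotentElem e' := he'
    have hee'' : {p ∈ minimalPrimes R | e ∈ p} = {p ∈ minimalPrimes R | e' ∈ p} := hee'
    have key : ∀ q ∈ minimalPrimes R, (e ∈ q ↔ e' ∈ q) := by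
      intro q hq
      have h1 : q ∈ {p ∈ minimalPrimes R | e ∈ p} ↔ q ∈ {p ∈ minimalPrimes R | e' ∈ p} := by
        rw [hee'']
      constructor
      · intro h; exact (h1.mp ⟨hq, h⟩).2
      · intro h; exact (h1.mpr ⟨hq, h⟩).2
    have hidem : ∀ (g : R) (q : Ideal R), q.IsPrime → IsIdempotentElem g → g ∉ q → 1 - g ∈ q := by
      intro g q hq hg hgq
      have h0 : g * (1 - g) ∈ q := by
        have : g * (1 - g) = 0 := by rw [mul_sub, mul_one, hg.eq, sub_self]
        rw [this]; exact q.zero_mem
      exact (hq.mem_or_mem h0).resolve_left hgq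
    apply idem_eq_of_sub_nilpotent he1 he1'
    rw [← mem_nilradical, nilradical_eq_sInf, Ideal.mem_sInf]
    intro P hP
    have : P.IsPrime := hP
    obtain ⟨q, hq, hqP⟩ := Ideal.exists_minimalPrimes_le (I := ⊥) (J := P) bot_le
    have hq' : q ∈ minimalPrimes R := hq
    have hqprime : q.IsPrime := hq.1.1
    apply hqP
    by_cases h : e ∈ q
    · exact q.sub_mem h ((key q hq').mp h)
    · have h' : e' ∉ q := fun h'' => h ((key q hq').mpr h'')
      have h1 := hidem e q hqprime he1 h
      have h2 := hidem e' q hqprime he1' h'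
      have h3 : e - e' = (1 - e') - (1 - e) := by ring
      rw [h3]; exact q.sub_mem h2 h1

end Idem

section Sep

variable {k : Type*} [Field k]

theorem isSeparable_of_idem {A : Type*} [CommRing A] [Algebra k A] {e : A}
    (he : IsIdempotentElem e) : IsSeparable k e := by
  have h1 : Polynomial.aeval e (Polynomial.X * (Polynomial.X - Polynomial.C (1 : k))) = 0 := by
    simp only [map_mul, map_sub, Polynomial.aeval_X, Polynomial.aeval_C, map_one]
    rw [mul_sub, mul_one, he.eq, sub_self]
  have h2 : (Polynomial.X * (Polynomial.X - Polynomial.C (1 : k))).Separable := by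
    refine Polynomial.Separable.mul Polynomial.separable_X Polynomial.separable_X_sub_C ?_
    refine ⟨1, -1, ?_⟩
    rw [Polynomial.C_1]; ring
  exact h2.of_dvd (minpoly.dvd k e h1)

theorem isSeparable_map {A B : Type*} [CommRing A] [CommRing B] [Algebra k A] [Algebra k B]
    (f : A →ₐ[k] B) {a : A} (ha : IsSeparable k a) : IsSeparable k (f a) := by
  have ha' : (minpoly k a).Separable := ha
  have h1 : Polynomial.aeval (f a) (minpoly k a) = 0 := by
    rw [Polynomial.aeval_algHom_apply, minpoly.aeval, map_zero]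
  exact ha'.of_dvd (minpoly.dvd k (f a) h1)

theorem sep_mem_span_idem [IsAlgClosed k] {A : Type*} [CommRing A] [Algebra k A] {b : A}
    (hb : IsSeparable k b) : b ∈ Submodule.span k {e : A | IsIdempotentElem e} := by
  classical
  have hm : (minpoly k b).Separable := hb
  have hm0 : minpoly k b ≠ 0 := hm.ne_zero
  obtain ⟨S, hS⟩ : ∃ S : Finset k, S = (minpoly k b).roots.toFinset := ⟨_, rfl⟩
  have hZ : ∀ q : Polynomial k, (∀ a ∈ S, q.eval a = 0) → Polynomial.aeval b q = 0 := by
    intro q hq
    by_cases hq0 : q = 0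
    · rw [hq0, map_zero]
    have hle : (minpoly k b).roots ≤ q.roots := by
      rw [Multiset.le_iff_subset (Polynomial.nodup_roots hm)]
      intro a ha
      rw [Polynomial.mem_roots hq0]
      exact hq a (by rw [hS]; exact Multiset.mem_toFinset.mpr ha)
    have hsp : (minpoly k b).Splits := IsAlgClosed.splits _
    obtain ⟨c, hc⟩ := hsp.dvd_of_roots_le_roots hm0 hle
    rw [hc, map_mul, minpoly.aeval, zero_mul]
  have hinj : Set.InjOn (id : k → k) (S : Set k) := Function.injective_id.injOn
  have hval : ∀ a ∈ S, ∀ c ∈ S, (Lagrange.basis S id a).eval c = if a = c then 1 else 0 := by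
    intro a ha c hc
    split_ifs with h
    · subst h
      exact Lagrange.eval_basis_self hinj ha
    · exact Lagrange.eval_basis_of_ne (F := k) (s := S) (v := id) h hc
  have hidem : ∀ a ∈ S, IsIdempotentElem (Polynomial.aeval b (Lagrange.basis S id a)) := by
    intro a ha
    have h1 := hZ (Lagrange.basis S id a * Lagrange.basis S id a - Lagrange.basis S id a) (by
      intro c hc
      rw [Polynomial.eval_sub, Polynomial.eval_mul, hval a ha c hc]
      split_ifs <;> simp)
    rw [map_sub, map_mul, sub_eq_zero] at h1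
    exact h1
  have hsum : b = ∑ a ∈ S, a • Polynomial.aeval b (Lagrange.basis S id a) := by
    have h1 := hZ (Polynomial.X - ∑ a ∈ S, Polynomial.C a * Lagrange.basis S id a) (by
      intro c hc
      rw [Polynomial.eval_sub, Polynomial.eval_X, Polynomial.eval_finsetSum, sub_eq_zero]
      rw [Finset.sum_eq_single c]
      · rw [Polynomial.eval_mul, Polynomial.eval_C, hval c hc c hc, if_pos rfl, mul_one]
      · intro a ha hac
        rw [Polynomial.eval_mul, Polynomial.eval_C, hval a ha c hc, if_neg hac, mul_zero]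
      · intro h; exact absurd hc h)
    rw [map_sub, Polynomial.aeval_X, map_sum, sub_eq_zero] at h1
    refine h1.trans (Finset.sum_congr rfl fun a _ => ?_)
    rw [map_mul, Polynomial.aeval_C, Algebra.smul_def]
  rw [hsum]
  exact Submodule.sum_mem _ fun a ha =>
    Submodule.smul_mem _ a (Submodule.subset_span (hidem a ha))

theorem mem_of_span_idem {R M : Type*} [CommRing R] [Algebra k R] [AddCommGroup M] [Module k M]
    (φ : R →ₗ[k] M) (N : Submodule k M) (h : ∀ e : R, IsIdempotentElem e → φ e ∈ N) {b : R}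
    (hb : b ∈ Submodule.span k {e : R | IsIdempotentElem e}) : φ b ∈ N := by
  have h1 : Submodule.span k {e : R | IsIdempotentElem e} ≤ N.comap φ :=
    Submodule.span_le.mpr fun e he => h e he
  exact h1 hb

theorem isNilpotent_of_forall_point [IsAlgClosed k] {R : Type*} [CommRing R] [Algebra k R]
    [Algebra.FiniteType k R] (a : R) (h : ∀ g : R →ₐ[k] k, g a = 0) : IsNilpotent a := by
  have : IsReduced (R ⧸ nilradical R) :=
    (Ideal.isRadical_iff_quotient_reduced (nilradical R)).mp (Ideal.radical_isRadical _)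
  have : Algebra.FiniteType k (R ⧸ nilradical R) :=
    Algebra.FiniteType.of_surjective (Ideal.Quotient.mkₐ k (nilradical R))
      (Ideal.Quotient.mkₐ_surjective k (nilradical R))
  have h0 : Ideal.Quotient.mk (nilradical R) a = 0 := by
    apply Kolchin.eq_zero_of_forall_point (k := k)
    intro g
    exact h (g.comp (Ideal.Quotient.mkₐ k (nilradical R)))
  rw [Ideal.Quotient.eq_zero_iff_mem] at h0
  exact mem_nilradical.mp h0

end Sep

section Pt2

variable {k R : Type*} [Field k] [CommRing R] [Algebra k R]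

/-- The point `(x, y)` of `R ⊗ R`. -/
noncomputable def pt2 (x y : R →ₐ[k] k) : R ⊗[k] R →ₐ[k] k :=
  Algebra.TensorProduct.lift x y (fun _ _ => Commute.all _ _)

theorem pt2_tmul (x y : R →ₐ[k] k) (a b : R) : pt2 x y (a ⊗ₜ[k] b) = x a * y b := by
  unfold pt2
  rw [Algebra.TensorProduct.lift_tmul]

/-- Evaluate the left factor at `x`. -/
noncomputable def sliceL (x : R →ₐ[k] k) : R ⊗[k] R →ₐ[k] R :=
  Algebra.TensorProduct.lift ((Algebra.ofId k R).comp x) (AlgHom.id k R)
    (fun _ _ => Commute.all _ _)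

theorem sliceL_tmul (x : R →ₐ[k] k) (a b : R) :
    sliceL x (a ⊗ₜ[k] b) = algebraMap k R (x a) * b := by
  unfold sliceL
  rw [Algebra.TensorProduct.lift_tmul]
  rfl

/-- Evaluate the right factor at `y`. -/
noncomputable def sliceR (y : R →ₐ[k] k) : R ⊗[k] R →ₐ[k] R :=
  Algebra.TensorProduct.lift (AlgHom.id k R) ((Algebra.ofId k R).comp y)
    (fun _ _ => Commute.all _ _)

theorem sliceR_tmul (y : R →ₐ[k] k) (a b : R) :
    sliceR y (a ⊗ₜ[k] b) = a * algebraMap k R (y b) := by
  unfold sliceR
  rw [Algebra.TensorProduct.lift_tmul]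
  rfl

theorem apply_sliceL (x y : R →ₐ[k] k) (t : R ⊗[k] R) : y (sliceL x t) = pt2 x y t := by
  have h : y.comp (sliceL x) = pt2 x y := by
    apply Algebra.TensorProduct.ext'
    intro a b
    rw [AlgHom.comp_apply, sliceL_tmul, pt2_tmul, map_mul, AlgHom.commutes]
    rfl
  exact DFunLike.congr_fun h t

theorem apply_sliceR (x y : R →ₐ[k] k) (t : R ⊗[k] R) : x (sliceR y t) = pt2 x y t := by
  have h : x.comp (sliceR y) = pt2 x y := by
    apply Algebra.TensorProduct.ext'
    intro a b
    rw [AlgHom.comp_apply, sliceR_tmul, pt2_tmul, map_mul, AlgHom.commutes]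
    rfl
  exact DFunLike.congr_fun h t

theorem eq_pt2 (z : R ⊗[k] R →ₐ[k] k) :
    z = pt2 (z.comp (Algebra.TensorProduct.includeLeft : R →ₐ[k] R ⊗[k] R))
      (z.comp (Algebra.TensorProduct.includeRight : R →ₐ[k] R ⊗[k] R)) := by
  apply Algebra.TensorProduct.ext'
  intro a b
  rw [pt2_tmul, AlgHom.comp_apply, AlgHom.comp_apply, Algebra.TensorProduct.includeLeft_apply,
    Algebra.TensorProduct.includeRight_apply, ← map_mul, Algebra.TensorProduct.tmul_mul_tmul,
    mul_one, one_mul]

theorem isNilpotent_of_forall_pt2 [IsAlgClosed k] [Algebra.FiniteType k R] (t : R ⊗[k] R)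
    (h : ∀ x y : R →ₐ[k] k, pt2 x y t = 0) : IsNilpotent t := by
  have : Algebra.FiniteType k (R ⊗[k] R) := by
    have h1 : Algebra.FiniteType R (R ⊗[k] R) := inferInstance
    exact Algebra.FiniteType.trans (inferInstance : Algebra.FiniteType k R) h1
  apply isNilpotent_of_forall_point (k := k)
  intro z
  rw [eq_pt2 z]
  exact h _ _

open Classical in
/-- The idempotent of `R` cutting out the locus of points `x` with `sliceL x ε = f`. -/
noncomputable def cIdem (E : Finset R) (ε : R ⊗[k] R) (f : R) : R :=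
  (∏ g ∈ E.filter (fun g => ∃ y : R →ₐ[k] k, sliceR y ε = g ∧ y f = 1), g) *
  (∏ g ∈ E.filter (fun g => ∃ y : R →ₐ[k] k, sliceR y ε = g ∧ y f = 0), (1 - g))

theorem cIdem_idem {E : Finset R} {ε : R ⊗[k] R} {f : R} (hE : ∀ g ∈ E, IsIdempotentElem g) :
    IsIdempotentElem (cIdem E ε f) := by
  classical
  unfold cIdem
  refine IsIdempotentElem.mul ?_ ?_
  · refine Finset.prod_induction _ IsIdempotentElem (fun a b ha hb => ha.mul hb)
      IsIdempotentElem.one ?_
    intro g hg
    exact hE g (Finset.mem_filter.mp hg).1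
  · refine Finset.prod_induction _ IsIdempotentElem (fun a b ha hb => ha.mul hb)
      IsIdempotentElem.one ?_
    intro g hg
    exact (hE g (Finset.mem_filter.mp hg).1).one_sub

theorem apply_cIdem_eq {E : Finset R} {ε : R ⊗[k] R} {f : R}
    (x : R →ₐ[k] k) (hx : sliceL x ε = f) : x (cIdem E ε f) = 1 := by
  classical
  unfold cIdem
  rw [map_mul, map_prod, map_prod]
  have key : ∀ {a b : k}, a = 1 → b = 1 → a * b = 1 := by
    intro a b ha hb; rw [ha, hb, one_mul]
  refine key (Finset.prod_eq_one ?_) (Finset.prod_eq_one ?_)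
  · intro g hg
    obtain ⟨-, y, hy, hyf⟩ := Finset.mem_filter.mp hg
    rw [← hy, apply_sliceR, ← apply_sliceL, hx, hyf]
  · intro g hg
    obtain ⟨-, y, hy, hyf⟩ := Finset.mem_filter.mp hg
    rw [map_sub, map_one, ← hy, apply_sliceR, ← apply_sliceL, hx, hyf, sub_zero]

theorem apply_cIdem_ne [IsAlgClosed k] [Algebra.FiniteType k R] {E : Finset R} {ε : R ⊗[k] R}
    {f : R} (hE : ∀ g, IsIdempotentElem g → g ∈ E) (hε : IsIdempotentElem ε)
    (hf : IsIdempotentElem f) (x : R →ₐ[k] k) (hx : sliceL x ε ≠ f) : x (cIdem E ε f) = 0 := by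
  classical
  have hsl : IsIdempotentElem (sliceL x ε) := hε.map (sliceL x)
  have hy : ∃ y : R →ₐ[k] k, y (sliceL x ε) ≠ y f := by
    by_contra hcon
    have hcon' : ∀ y : R →ₐ[k] k, y (sliceL x ε) = y f := by
      intro y
      by_contra h
      exact hcon ⟨y, h⟩
    apply hx
    apply idem_eq_of_sub_nilpotent hsl hf
    apply isNilpotent_of_forall_point (k := k)
    intro y
    rw [map_sub, hcon' y, sub_self]
  obtain ⟨y, hy⟩ := hy
  have hg : IsIdempotentElem (sliceR y ε) := hε.map (sliceR y)
  have hgE : sliceR y ε ∈ E := hE _ hg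
  have hxg : x (sliceR y ε) = y (sliceL x ε) := by rw [apply_sliceR, apply_sliceL]
  have h01 : ∀ a : k, IsIdempotentElem a → a = 0 ∨ a = 1 := fun a ha =>
    IsIdempotentElem.iff_eq_zero_or_one.mp ha
  unfold cIdem
  rw [map_mul, map_prod, map_prod]
  rcases h01 (y f) (hf.map y) with h0 | h1
  · have hne : y (sliceL x ε) = 1 := by
      rcases h01 _ (hsl.map y) with h | h
      · exact absurd (h.trans h0.symm) hy
      · exact h
    refine mul_eq_zero_of_right _ (Finset.prod_eq_zero (i := sliceR y ε)
      (Finset.mem_filter.mpr ⟨hgE, y, rfl, h0⟩) ?_)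
    rw [map_sub, map_one, hxg, hne, sub_self]
  · have hne : y (sliceL x ε) = 0 := by
      rcases h01 _ (hsl.map y) with h | h
      · exact h
      · exact absurd (h.trans h1.symm) hy
    refine mul_eq_zero_of_left (Finset.prod_eq_zero (i := sliceR y ε)
      (Finset.mem_filter.mpr ⟨hgE, y, rfl, h1⟩) ?_) _
    rw [hxg, hne]

theorem idem_tensor_mem_span_fg [IsAlgClosed k] [Algebra.FiniteType k R] (ε : R ⊗[k] R)
    (hε : IsIdempotentElem ε) :
    ε ∈ Submodule.span k {t : R ⊗[k] R | ∃ e f : R, IsIdempotentElem e ∧ IsIdempotentElem f ∧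
      t = e ⊗ₜ[k] f} := by
  classical
  have : IsNoetherianRing R := Algebra.FiniteType.isNoetherianRing k R
  obtain ⟨E, hE⟩ : ∃ E : Finset R, ∀ g, g ∈ E ↔ IsIdempotentElem g :=
    ⟨(finite_idem R).toFinset, fun g => by rw [Set.Finite.mem_toFinset]; rfl⟩
  have hE1 : ∀ g ∈ E, IsIdempotentElem g := fun g hg => (hE g).mp hg
  have hE2 : ∀ g, IsIdempotentElem g → g ∈ E := fun g hg => (hE g).mpr hg
  have hcid : ∀ f, IsIdempotentElem (cIdem E ε f) := fun f => cIdem_idem hE1
  have hsl : ∀ x : R →ₐ[k] k, IsIdempotentElem (sliceL x ε) := fun x => hε.map (sliceL x)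
  have horth : ∀ f ∈ E, ∀ f' ∈ E, f ≠ f' → cIdem E ε f * cIdem E ε f' = 0 := by
    intro f hf f' hf' hne
    have h1 : IsIdempotentElem (cIdem E ε f * cIdem E ε f') := (hcid f).mul (hcid f')
    refine idem_eq_of_sub_nilpotent h1 IsIdempotentElem.zero ?_
    rw [sub_zero]
    apply isNilpotent_of_forall_point (k := k)
    intro x
    rw [map_mul]
    by_cases hx : sliceL x ε = f
    · have hx' : sliceL x ε ≠ f' := fun h => hne (hx.symm.trans h)
      rw [apply_cIdem_ne hE2 hε (hE1 f' hf') x hx', mul_zero]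
    · rw [apply_cIdem_ne hE2 hε (hE1 f hf) x hx, zero_mul]
  obtain ⟨η, hη⟩ : ∃ η : R ⊗[k] R, η = ∑ f ∈ E, cIdem E ε f ⊗ₜ[k] f := ⟨_, rfl⟩
  have hηid : IsIdempotentElem η := by
    show η * η = η
    rw [hη, Finset.sum_mul_sum]
    refine Finset.sum_congr rfl fun f hf => ?_
    rw [Finset.sum_eq_single f]
    · rw [Algebra.TensorProduct.tmul_mul_tmul, (hcid f).eq, (hE1 f hf).eq]
    · intro f' hf' hne
      rw [Algebra.TensorProduct.tmul_mul_tmul, horth f hf f' hf' (Ne.symm hne),
        TensorProduct.zero_tmul]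
    · intro h; exact absurd hf h
  have hnil : IsNilpotent (ε - η) := by
    apply isNilpotent_of_forall_pt2 (k := k)
    intro x y
    rw [map_sub, hη, map_sum, sub_eq_zero]
    have hf0 : sliceL x ε ∈ E := hE2 _ (hsl x)
    rw [Finset.sum_eq_single (sliceL x ε)]
    · rw [pt2_tmul, apply_cIdem_eq x rfl, one_mul, apply_sliceL]
    · intro f hf hne
      rw [pt2_tmul, apply_cIdem_ne hE2 hε (hE1 f hf) x (Ne.symm hne), zero_mul]
    · intro h; exact absurd hf0 h
  have hεη : ε = η := idem_eq_of_sub_nilpotent hε hηid hnil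
  rw [hεη, hη]
  exact Submodule.sum_mem _ fun f hf =>
    Submodule.subset_span ⟨cIdem E ε f, f, hcid f, hE1 f hf, rfl⟩

end Pt2

section General

variable {k R : Type*} [Field k] [CommRing R] [Algebra k R]

theorem range_map_mono {C D : Subalgebra k R} (h : C ≤ D) :
    LinearMap.range (TensorProduct.map C.val.toLinearMap C.val.toLinearMap) ≤
    LinearMap.range (TensorProduct.map D.val.toLinearMap D.val.toLinearMap) := by
  rintro _ ⟨u, rfl⟩
  refine ⟨TensorProduct.map (Subalgebra.inclusion h).toLinearMap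
    (Subalgebra.inclusion h).toLinearMap u, ?_⟩
  have hc : D.val.toLinearMap ∘ₗ (Subalgebra.inclusion h).toLinearMap = C.val.toLinearMap :=
    LinearMap.ext fun x => rfl
  rw [← LinearMap.comp_apply, ← TensorProduct.map_comp, hc]

theorem exists_fg_range (t : R ⊗[k] R) : ∃ s : Finset R,
    t ∈ LinearMap.range (TensorProduct.map (Algebra.adjoin k (s : Set R)).val.toLinearMap
      (Algebra.adjoin k (s : Set R)).val.toLinearMap) := by
  classical
  induction t using TensorProduct.induction_on with
  | zero => exact ⟨∅, Submodule.zero_mem _⟩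
  | tmul a b =>
    have ha : a ∈ Algebra.adjoin k ((({a, b} : Finset R)) : Set R) :=
      Algebra.subset_adjoin (by simp)
    have hb : b ∈ Algebra.adjoin k ((({a, b} : Finset R)) : Set R) :=
      Algebra.subset_adjoin (by simp)
    refine ⟨{a, b}, ⟨(⟨a, ha⟩ : Algebra.adjoin k ((({a, b} : Finset R)) : Set R)) ⊗ₜ[k]
      (⟨b, hb⟩ : Algebra.adjoin k ((({a, b} : Finset R)) : Set R)), ?_⟩⟩
    rw [TensorProduct.map_tmul]
    rfl
  | add t₁ t₂ h₁ h₂ =>
    obtain ⟨s₁, hs₁⟩ := h₁
    obtain ⟨s₂, hs₂⟩ := h₂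
    refine ⟨s₁ ∪ s₂, Submodule.add_mem _ ?_ ?_⟩
    · exact range_map_mono
        (Algebra.adjoin_mono (Finset.coe_subset.mpr Finset.subset_union_left)) hs₁
    · exact range_map_mono
        (Algebra.adjoin_mono (Finset.coe_subset.mpr Finset.subset_union_right)) hs₂

theorem algMap_apply {R' S' : Type*} [CommRing R'] [Algebra k R'] [CommRing S'] [Algebra k S']
    (f : R' →ₐ[k] S') (u : R' ⊗[k] R') :
    Algebra.TensorProduct.map f f u = TensorProduct.map f.toLinearMap f.toLinearMap u := by
  induction u using TensorProduct.induction_on with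
  | zero => rw [map_zero, map_zero]
  | tmul a b => rw [Algebra.TensorProduct.map_tmul, TensorProduct.map_tmul]; rfl
  | add x y hx hy => rw [map_add, map_add, hx, hy]

theorem idem_of_map_idem (C : Subalgebra k R) (u : C ⊗[k] C)
    (h : IsIdempotentElem (TensorProduct.map C.val.toLinearMap C.val.toLinearMap u)) :
    IsIdempotentElem u := by
  have hinj : Function.Injective (TensorProduct.map C.val.toLinearMap C.val.toLinearMap) :=
    TensorProduct.map_injective_of_flat_flat _ _ Subtype.val_injective Subtype.val_injective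
  show u * u = u
  apply hinj
  have h1 := algMap_apply C.val (u * u)
  rw [map_mul, algMap_apply C.val u] at h1
  rw [← h1]
  exact h

theorem mem_span_of_fg [IsAlgClosed k] (C : Subalgebra k R) [Algebra.FiniteType k C]
    (u : C ⊗[k] C)
    (hε : IsIdempotentElem (TensorProduct.map C.val.toLinearMap C.val.toLinearMap u)) :
    TensorProduct.map C.val.toLinearMap C.val.toLinearMap u ∈
      Submodule.span k {t : R ⊗[k] R | ∃ e f : R, IsIdempotentElem e ∧ IsIdempotentElem f ∧
        t = e ⊗ₜ[k] f} := by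
  have hu : IsIdempotentElem u := idem_of_map_idem C u hε
  have h1 := idem_tensor_mem_span_fg u hu
  have h2 := Submodule.mem_map_of_mem
    (f := TensorProduct.map C.val.toLinearMap C.val.toLinearMap) h1
  rw [Submodule.map_span] at h2
  refine Submodule.span_mono ?_ h2
  rintro _ ⟨_, ⟨e, f, he, hf, rfl⟩, rfl⟩
  exact ⟨e, f, he.map C.val, hf.map C.val, by rw [TensorProduct.map_tmul]; rfl⟩

/-- `π₀(X × X) = π₀(X) × π₀(X)` over an algebraically closed field: idempotents of `R ⊗ R` are
linear combinations of pure tensors of idempotents. -/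
theorem idem_tensor_mem_span [IsAlgClosed k] (ε : R ⊗[k] R) (hε : IsIdempotentElem ε) :
    ε ∈ Submodule.span k {t : R ⊗[k] R | ∃ e f : R, IsIdempotentElem e ∧ IsIdempotentElem f ∧
      t = e ⊗ₜ[k] f} := by
  obtain ⟨s, u, rfl⟩ := exists_fg_range (k := k) ε
  have : Algebra.FiniteType k (Algebra.adjoin k (s : Set R)) :=
    (Subalgebra.fg_iff_finiteType _).mp (Subalgebra.fg_adjoin_finset s)
  exact mem_span_of_fg _ u hε

theorem map_idem_mem_range [IsAlgClosed k] (C D : Subalgebra k R)
    (hD : ∀ e : R, e ∈ C → IsIdempotentElem e → e ∈ D) (u : C ⊗[k] C)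
    (hu : IsIdempotentElem u) :
    TensorProduct.map C.val.toLinearMap C.val.toLinearMap u ∈
      LinearMap.range (TensorProduct.map D.val.toLinearMap D.val.toLinearMap) := by
  have h1 := idem_tensor_mem_span (k := k) u hu
  have h2 := Submodule.mem_map_of_mem
    (f := TensorProduct.map C.val.toLinearMap C.val.toLinearMap) h1
  rw [Submodule.map_span] at h2
  refine Submodule.span_le.mpr ?_ h2
  rintro _ ⟨_, ⟨e, f, he, hf, rfl⟩, rfl⟩
  have he' : (e : R) ∈ D := hD e e.2 (he.map C.val)
  have hf' : (f : R) ∈ D := hD f f.2 (hf.map C.val)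
  show _ ∈ LinearMap.range _
  refine LinearMap.mem_range.mpr ⟨(⟨e, he'⟩ : D) ⊗ₜ[k] (⟨f, hf'⟩ : D), ?_⟩
  rw [TensorProduct.map_tmul, TensorProduct.map_tmul]
  rfl

end General

end Groth.Agent.Lib.Helper19.Pi0
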