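import Mathlib
import Groth.Agent.Lib.Helper18.UqA

/-!
# Lifting invertible modules along a surjection of orders (helper19)

`A → B` a surjection of commutative rings, module-finite over `ℤ`, `B` torsion-free, and an
element `g` of `A` killing the kernel such that some integer `N` with `|N| ≥ 2` lies in
`ker + (g)`.  Then `Pic A → Pic B` is surjective: every invertible `B`-module is isomorphic to an
ideal containing an integer `n ≡ 1 mod N`, and the preimage of such an ideal is invertible.
-/

set_option autoImplicit false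
set_option linter.style.haveILetI false
set_option maxHeartbeats 1000000

universe u

noncomputable section

namespace Groth.Agent.Lib.Helper19.PicLift

open Groth.Agent.Lib.Helper18.DR.Uq TensorProduct

/-- an invertible module is locally free of rank one, in the elementwise form -/
theorem locRankOne_of_invertible {R : Type u} [CommRing R] {M : Type u} [AddCommGroup M]
    [Module R M] [Module.Invertible R M] (p : Ideal R) [p.IsPrime] : LocRankOne M p := by
  haveI hfree : Module.Free (Localization.AtPrime p) (LocalizedModule p.primeCompl M) :=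
    inferInstance
  obtain ⟨e⟩ := Module.Invertible.free_iff_linearEquiv.mp hfree
  have hsurjM : ∀ y : LocalizedModule p.primeCompl M,
      ∃ (m : M) (s : p.primeCompl), LocalizedModule.mk m s = y := by
    intro y
    induction y using LocalizedModule.induction_on with
    | h m s => exact ⟨m, s, rfl⟩
  have hsurjR : ∀ x : Localization.AtPrime p,
      ∃ (a : R) (t : p.primeCompl), Localization.mk a t = x := by
    intro x
    induction x using Localization.induction_on with
    | H y => exact ⟨y.1, y.2, rfl⟩
  obtain ⟨m₀, s₀, hg⟩ := hsurjM (e.symm 1)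
  refine ⟨m₀, fun m => ?_, fun a ha => ?_⟩
  · obtain ⟨a, t, hc⟩ := hsurjR (e (LocalizedModule.mk m 1))
    have h1 : (LocalizedModule.mk m 1 : LocalizedModule p.primeCompl M) =
        Localization.mk a t • LocalizedModule.mk m₀ s₀ := by
      apply e.injective
      rw [map_smul, hg, LinearEquiv.apply_symm_apply, hc, smul_eq_mul, mul_one]
    rw [LocalizedModule.mk_smul_mk, LocalizedModule.mk_eq] at h1
    obtain ⟨v, hv⟩ := h1
    refine ⟨(v : R) * ((t : R) * (s₀ : R)), ?_, (v : R) * a, ?_⟩
    · exact p.primeCompl.mul_mem v.2 (p.primeCompl.mul_mem t.2 s₀.2)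
    · simp only [Submonoid.smul_def, Submonoid.coe_mul, one_smul] at hv
      rw [mul_smul, hv, mul_smul]
  · have h2 : (Localization.mk a (1 : p.primeCompl) : Localization.AtPrime p) •
        (LocalizedModule.mk m₀ s₀ : LocalizedModule p.primeCompl M) = 0 := by
      rw [LocalizedModule.mk_smul_mk, ha, LocalizedModule.zero_mk]
    rw [hg] at h2
    have h3 := congrArg e h2
    rw [map_smul, LinearEquiv.apply_symm_apply, map_zero, smul_eq_mul, mul_one] at h3
    rw [Localization.mk_one_eq_algebraMap] at h3
    obtain ⟨c, hc⟩ := (IsLocalization.map_eq_zero_iff p.primeCompl _ a).mp h3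
    exact ⟨c, c.2, hc⟩

variable {A B : Type u} [CommRing A] [CommRing B]

/-- the preimage of an invertible ideal `𝔞` of `B` under a surjection `f : A → B` is locally free
of rank one, if `g` kills `ker f` and `g` is invertible at every prime containing the preimage -/
theorem locRankOne_comap (f : A →+* B) (hf : Function.Surjective f)
    (g : A) (hg : ∀ a ∈ RingHom.ker f, g * a = 0)
    (𝔞 : Ideal B) [Module.Invertible B 𝔞]
    (hcop : ∀ p : Ideal A, p.IsPrime → 𝔞.comap f ≤ p → g ∉ p)
    (p : Ideal A) [hp : p.IsPrime] : LocRankOne (𝔞.comap f) p := by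
  classical
  by_cases hle : 𝔞.comap f ≤ p
  · have hgp := hcop p hp hle
    have hker : RingHom.ker f ≤ p := le_trans (fun x hx => by
      rw [Ideal.mem_comap, (RingHom.mem_ker).mp hx]
      exact 𝔞.zero_mem) hle
    haveI hq : (p.map f).IsPrime := Ideal.map_isPrime_of_surjective hf hker
    have hnot : ∀ t : A, f t ∉ p.map f → t ∉ p := fun t ht htp => ht (Ideal.mem_map_of_mem f htp)
    obtain ⟨b₀, h1, h2⟩ := locRankOne_of_invertible (R := B) (M := 𝔞) (p.map f)
    obtain ⟨q₀, hq₀⟩ := hf b₀.1
    have hq₀mem : q₀ ∈ 𝔞.comap f := by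
      rw [Ideal.mem_comap, hq₀]
      exact b₀.2
    have hnm : ∀ t : A, f t ∉ p.map f → g * t ∉ p := by
      intro t ht hmem
      rcases hp.mem_or_mem hmem with h | h
      · exact hgp h
      · exact hnot t ht h
    refine ⟨⟨q₀, hq₀mem⟩, fun q => ?_, fun a ha => ?_⟩
    · obtain ⟨tb, htb, ab, hab⟩ := h1 ⟨f q.1, q.2⟩
      obtain ⟨t, rfl⟩ := hf tb
      obtain ⟨a, rfl⟩ := hf ab
      have h3 : f (t * q.1 - a * q₀) = 0 := by
        have h := congrArg Subtype.val hab
        simp only [Submodule.coe_smul, smul_eq_mul] at h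
        rw [map_sub, map_mul, map_mul, hq₀, h, sub_self]
      have h4 := hg _ ((RingHom.mem_ker).mpr h3)
      refine ⟨g * t, hnm t htb, g * a, ?_⟩
      apply Subtype.ext
      simp only [Submodule.coe_smul, smul_eq_mul]
      linear_combination h4
    · have h3 : a * q₀ = 0 := by
        have h := congrArg Subtype.val ha
        simpa only [Submodule.coe_smul, smul_eq_mul, ZeroMemClass.coe_zero] using h
      have h4 : f a • b₀ = 0 := by
        apply Subtype.ext
        simp only [Submodule.coe_smul, smul_eq_mul, ZeroMemClass.coe_zero]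
        rw [← hq₀, ← map_mul, h3, map_zero]
      obtain ⟨tb, htb, h5⟩ := h2 (f a) h4
      obtain ⟨t, rfl⟩ := hf tb
      have h6 := hg (t * a) ((RingHom.mem_ker).mpr (by rw [map_mul]; exact h5))
      exact ⟨g * t, hnm t htb, by rw [mul_assoc]; exact h6⟩
  · obtain ⟨s, hs, hsp⟩ := SetLike.not_le_iff_exists.mp hle
    refine ⟨⟨s, hs⟩, fun q => ⟨s, hsp, q.1, ?_⟩, fun a ha => ⟨s, hsp, ?_⟩⟩
    · apply Subtype.ext
      simp only [Submodule.coe_smul, smul_eq_mul]
      exact mul_comm _ _
    · have h := congrArg Subtype.val ha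
      simp only [Submodule.coe_smul, smul_eq_mul, ZeroMemClass.coe_zero] at h
      rw [mul_comm]
      exact h

theorem invertible_comap [IsNoetherianRing A] (f : A →+* B) (hf : Function.Surjective f)
    (g : A) (hg : ∀ a ∈ RingHom.ker f, g * a = 0)
    (𝔞 : Ideal B) [Module.Invertible B 𝔞]
    (hcop : ∀ p : Ideal A, p.IsPrime → 𝔞.comap f ≤ p → g ∉ p) :
    Module.Invertible A (𝔞.comap f) :=
  invertible_of_locRankOne (fun p => locRankOne_comap f hf g hg 𝔞 hcop p.asIdeal)

/-- the class of the preimage ideal maps to the class of the ideal -/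
theorem mapRingHom_mk_comap (f : A →+* B) (hf : Function.Surjective f) (𝔞 : Ideal B)
    [Module.Invertible B 𝔞] [Module.Invertible A (𝔞.comap f)] :
    CommRing.Pic.mapRingHom f (CommRing.Pic.mk A (𝔞.comap f)) = CommRing.Pic.mk B 𝔞 := by
  letI : Algebra A B := f.toAlgebra
  have hmap : CommRing.Pic.mapRingHom f = CommRing.Pic.mapAlgebra A B := rfl
  rw [hmap, CommRing.Pic.mapAlgebra_apply, CommRing.Pic.mk_eq_mk_iff]
  let l : ↥(𝔞.comap f) →ₗ[A] ↥𝔞 :=
    { toFun := fun a => ⟨f a.1, a.2⟩
      map_add' := fun a b => Subtype.ext (map_add f a.1 b.1)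
      map_smul' := fun r a => Subtype.ext (by
        change f (r * a.1) = r • f a.1
        rw [Algebra.smul_def, map_mul]
        rfl) }
  have hsurj : Function.Surjective (l.liftBaseChange B) := by
    intro b
    obtain ⟨a, ha⟩ := hf b.1
    refine ⟨(1 : B) ⊗ₜ[A] (⟨a, by rw [Ideal.mem_comap, ha]; exact b.2⟩ : ↥(𝔞.comap f)), ?_⟩
    rw [LinearMap.liftBaseChange_tmul, one_smul]
    exact Subtype.ext ha
  have hbij := Module.Invertible.bijective_of_surjective hsurj
  exact ⟨(TensorProduct.AlgebraTensorModule.congr (LinearEquiv.refl B B)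
    (CommRing.Pic.mk.linearEquiv A ↥(𝔞.comap f))).trans (LinearEquiv.ofBijective _ hbij)⟩

end Groth.Agent.Lib.Helper19.PicLift
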