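import Mathlib
import Groth.Agent.Lib.Helper19.PicA

/-!
# The moving lemma for orders and surjectivity on Picard groups (helper19)
-/

set_option autoImplicit false
set_option linter.style.haveILetI false
set_option maxHeartbeats 1000000

universe u

noncomputable section

namespace Groth.Agent.Lib.Helper19.PicLift

open TensorProduct

/-- moving lemma: over a `ℤ`-torsion-free ring `B`, module-finite over `ℤ`, every invertible
module is isomorphic to an ideal containing an integer `n ≡ 1 mod N` -/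
theorem exists_ideal_equiv {B : Type u} [CommRing B] [Module.Finite ℤ B]
    (htf : ∀ (n : ℤ) (b : B), n ≠ 0 → (n : B) * b = 0 → b = 0)
    (N : ℤ) (hN : 2 ≤ |N|)
    (L : Type u) [AddCommGroup L] [Module B L] [Module.Invertible B L] :
    ∃ (𝔞 : Ideal B) (n k : ℤ), Nonempty (L ≃ₗ[B] 𝔞) ∧ (n : B) ∈ 𝔞 ∧ n - 1 = k * N := by
  classical
  have hN0 : N ≠ 0 := by
    rintro rfl
    simp at hN
  haveI : IsNoetherian ℤ B := isNoetherian_of_isNoetherianRing_of_finite ℤ B
  haveI : IsNoetherianRing B := isNoetherian_of_tower ℤ (inferInstance : IsNoetherian ℤ B)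
  -- torsion-freeness of `L`
  obtain ⟨𝔞₀, ⟨e₀⟩⟩ := Module.Invertible.exists_linearEquiv_ideal B L
  have hLtf : ∀ (n : ℤ) (l : L), n ≠ 0 → (n : B) • l = 0 → l = 0 := by
    intro n l hn h
    have h1 := congrArg (fun z => ((e₀ z : 𝔞₀) : B)) h
    simp only [map_smul, Submodule.coe_smul, smul_eq_mul, map_zero, ZeroMemClass.coe_zero] at h1
    have h2 := htf n _ hn h1
    have h3 : e₀ l = 0 := Subtype.ext h2
    exact e₀.map_eq_zero_iff.mp h3
  -- the finite quotient
  obtain ⟨Jd, hJd⟩ : ∃ Jd : Ideal B, Jd = Ideal.span {(N : B)} := ⟨_, rfl⟩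
  haveI : Module.Finite ℤ (B ⧸ Jd) :=
    Module.Finite.of_surjective (Ideal.Quotient.mk Jd).toAddMonoidHom.toIntLinearMap
      (fun y => by
        obtain ⟨x, rfl⟩ := Ideal.Quotient.mk_surjective y
        exact ⟨x, rfl⟩)
  have htors : Module.IsTorsion ℤ (B ⧸ Jd) := by
    intro x
    obtain ⟨b, rfl⟩ := Ideal.Quotient.mk_surjective x
    refine ⟨⟨N, mem_nonZeroDivisors_of_ne_zero hN0⟩, ?_⟩
    change N • Ideal.Quotient.mk Jd b = 0
    rw [← map_zsmul, Ideal.Quotient.eq_zero_iff_mem, zsmul_eq_mul, hJd]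
    exact Ideal.mul_mem_right _ _ (Ideal.subset_span (Set.mem_singleton _))
  haveI : Finite (B ⧸ Jd) := Module.finite_of_fg_torsion (B ⧸ Jd) htors
  haveI : IsArtinianRing (B ⧸ Jd) := isArtinian_of_finite
  haveI hfree : Module.Free (B ⧸ Jd) ((B ⧸ Jd) ⊗[B] L) := inferInstance
  obtain ⟨e⟩ := Module.Invertible.free_iff_linearEquiv.mp hfree
  obtain ⟨x, hx⟩ := TensorProduct.mk_surjective B L (B ⧸ Jd) Ideal.Quotient.mk_surjective
    (e.symm 1)
  have hx' : (1 : B ⧸ Jd) ⊗ₜ[B] x = e.symm 1 := hx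
  have hgen : ∀ l : L, ∃ c : B, l - c • x ∈ Jd • (⊤ : Submodule B L) := by
    intro l
    obtain ⟨c, hc⟩ := Ideal.Quotient.mk_surjective (e ((1 : B ⧸ Jd) ⊗ₜ[B] l))
    refine ⟨c, ?_⟩
    have h1 : (1 : B ⧸ Jd) ⊗ₜ[B] l = (Ideal.Quotient.mk Jd c) ⊗ₜ[B] x := by
      apply e.injective
      have h2 : (Ideal.Quotient.mk Jd c) ⊗ₜ[B] x =
          (Ideal.Quotient.mk Jd c) • ((1 : B ⧸ Jd) ⊗ₜ[B] x) := by
        rw [TensorProduct.smul_tmul', smul_eq_mul, mul_one]
      rw [h2, map_smul, hx', LinearEquiv.apply_symm_apply, smul_eq_mul, mul_one, hc]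
    have h3 := congrArg (TensorProduct.quotTensorEquivQuotSMul L Jd) h1
    rw [← map_one (Ideal.Quotient.mk Jd), TensorProduct.quotTensorEquivQuotSMul_mk_tmul,
      TensorProduct.quotTensorEquivQuotSMul_mk_tmul, one_smul] at h3
    exact (Submodule.Quotient.eq _).mp h3
  -- Nakayama over `ℤ`
  obtain ⟨Xs, hXs⟩ : ∃ Xs : Submodule ℤ L, Xs = (Submodule.span B {x}).restrictScalars ℤ :=
    ⟨_, rfl⟩
  haveI : Module.Finite B L := inferInstance
  haveI : Module.Finite ℤ L := Module.Finite.trans B L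
  haveI : Module.Finite ℤ (L ⧸ Xs) :=
    Module.Finite.of_surjective Xs.mkQ (Submodule.mkQ_surjective _)
  have htop : (⊤ : Submodule ℤ (L ⧸ Xs)) ≤ (Ideal.span {N} : Ideal ℤ) • ⊤ := by
    rintro t -
    obtain ⟨l, rfl⟩ := Submodule.mkQ_surjective Xs t
    obtain ⟨c, hc⟩ := hgen l
    rw [hJd, Submodule.ideal_span_singleton_smul,
      Submodule.mem_smul_pointwise_iff_exists] at hc
    obtain ⟨l', -, hl'⟩ := hc
    have h1 : Xs.mkQ l = N • Xs.mkQ l' := by
      rw [← map_zsmul]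
      refine (Submodule.Quotient.eq Xs).mpr ?_
      rw [hXs, Submodule.restrictScalars_mem]
      have h2 : l - N • l' = c • x := by
        rw [← Int.cast_smul_eq_zsmul B N l', hl']
        abel
      rw [h2]
      exact Submodule.smul_mem _ _ (Submodule.mem_span_singleton_self x)
    rw [h1]
    exact Submodule.smul_mem_smul (Ideal.subset_span (Set.mem_singleton N)) Submodule.mem_top
  obtain ⟨n, hn1, hn2⟩ := Submodule.exists_sub_one_mem_and_smul_eq_zero_of_fg_of_le_smul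
    (Ideal.span {N} : Ideal ℤ) (⊤ : Submodule ℤ (L ⧸ Xs)) Module.Finite.fg_top htop
  obtain ⟨k, hk⟩ := Ideal.mem_span_singleton'.mp hn1
  have hnL : ∀ l : L, ∃ c : B, c • x = (n : B) • l := by
    intro l
    have h1 := hn2 (Xs.mkQ l) Submodule.mem_top
    rw [← map_zsmul, Submodule.mkQ_apply, Submodule.Quotient.mk_eq_zero, hXs,
      Submodule.restrictScalars_mem, Submodule.mem_span_singleton] at h1
    obtain ⟨c, hc⟩ := h1
    exact ⟨c, by rw [hc, Int.cast_smul_eq_zsmul]⟩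
  have hn0 : n ≠ 0 := by
    rintro rfl
    have h1 : N ∣ 1 := ⟨-k, by linarith⟩
    have h2 : |N| ∣ 1 := (abs_dvd N 1).mpr h1
    have h3 := Int.le_of_dvd one_pos h2
    linarith
  -- `x` is regular
  have hxreg : ∀ b : B, b • x = 0 → b = 0 := by
    intro b hb
    have h1 : ∀ l : L, ((n : B) * b) • l = (0 : B) • l := by
      intro l
      obtain ⟨c, hc⟩ := hnL l
      rw [zero_smul, mul_comm, mul_smul, ← hc, smul_comm, hb, smul_zero]
    have h2 : (n : B) * b = 0 := eq_of_smul_eq_smul (α := L) h1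
    exact htf n b hn0 h2
  -- the two maps
  obtain ⟨f₁, hf₁⟩ : ∃ f₁ : B →ₗ[B] L, ∀ b, f₁ b = b • x :=
    ⟨LinearMap.toSpanSingleton B L x, fun b => rfl⟩
  obtain ⟨f₂, hf₂⟩ : ∃ f₂ : L →ₗ[B] L, ∀ l, f₂ l = (n : B) • l :=
    ⟨LinearMap.lsmul B L (n : B), fun l => rfl⟩
  have hinj₁ : Function.Injective f₁ := by
    rw [injective_iff_map_eq_zero]
    intro b hb
    rw [hf₁] at hb
    exact hxreg b hb
  have hinj₂ : Function.Injective f₂ := by
    rw [injective_iff_map_eq_zero]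
    intro l hl
    rw [hf₂] at hl
    exact hLtf n l hn0 hl
  have hrange : LinearMap.range f₂ ≤ LinearMap.range f₁ := by
    rintro _ ⟨l, rfl⟩
    obtain ⟨c, hc⟩ := hnL l
    exact ⟨c, by rw [hf₁, hf₂, hc]⟩
  refine ⟨Submodule.comap f₁ (LinearMap.range f₂), n, k, ⟨?_⟩, ?_, hk.symm⟩
  · have h : LinearMap.range f₂ =
        Submodule.map f₁ (Submodule.comap f₁ (LinearMap.range f₂)) := by
      rw [Submodule.map_comap_eq, inf_eq_right.mpr hrange]
    exact (LinearEquiv.ofInjective f₂ hinj₂).trans ((LinearEquiv.ofEq _ _ h).trans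
      (Submodule.equivMapOfInjective f₁ hinj₁ _).symm)
  · rw [Submodule.mem_comap, hf₁]
    exact ⟨x, by rw [hf₂]⟩

/-- surjectivity of `Pic A → Pic B` -/
theorem pic_surjective {A B : Type u} [CommRing A] [CommRing B] [Module.Finite ℤ A]
    (f : A →+* B) (hf : Function.Surjective f)
    (htf : ∀ (n : ℤ) (b : B), n ≠ 0 → (n : B) * b = 0 → b = 0)
    (g : A) (hg : ∀ a ∈ RingHom.ker f, g * a = 0)
    (N : ℤ) (hN : 2 ≤ |N|) (i r : A) (hi : i ∈ RingHom.ker f) (hNir : (N : A) = i + r * g) :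
    Function.Surjective (CommRing.Pic.mapRingHom f) := by
  intro M
  haveI : Module.Finite ℤ B :=
    Module.Finite.of_surjective f.toAddMonoidHom.toIntLinearMap (fun y => by
      obtain ⟨x, rfl⟩ := hf y
      exact ⟨x, rfl⟩)
  haveI : IsNoetherian ℤ A := isNoetherian_of_isNoetherianRing_of_finite ℤ A
  haveI : IsNoetherianRing A := isNoetherian_of_tower ℤ (inferInstance : IsNoetherian ℤ A)
  obtain ⟨𝔞, n, k, ⟨e⟩, hn, hnk⟩ := exists_ideal_equiv htf N hN M
  haveI : Module.Invertible B 𝔞 := Module.Invertible.congr e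
  have hcop : ∀ p : Ideal A, p.IsPrime → 𝔞.comap f ≤ p → g ∉ p := by
    intro p hp hle hgp
    have h1 : (n : A) ∈ p := hle (by
      rw [Ideal.mem_comap, map_intCast]
      exact hn)
    have h2 : (N : A) ∈ p := by
      rw [hNir]
      refine p.add_mem (hle ?_) (p.mul_mem_left r hgp)
      rw [Ideal.mem_comap, (RingHom.mem_ker).mp hi]
      exact 𝔞.zero_mem
    have h3 : (1 : A) ∈ p := by
      have h4 : (1 : A) = (n : A) - (k : A) * (N : A) := by
        have h5 := congrArg (Int.cast : ℤ → A) hnk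
        push_cast at h5
        linear_combination (-1 : A) * h5
      rw [h4]
      exact p.sub_mem h1 (p.mul_mem_left _ h2)
    exact hp.ne_top ((Ideal.eq_top_iff_one _).mpr h3)
  haveI : Module.Invertible A (𝔞.comap f) := invertible_comap f hf g hg 𝔞 hcop
  refine ⟨CommRing.Pic.mk A (𝔞.comap f), ?_⟩
  rw [mapRingHom_mk_comap f hf 𝔞]
  exact CommRing.Pic.mk_eq_iff.mpr ⟨e.symm⟩

end Groth.Agent.Lib.Helper19.PicLift
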