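import Mathlib
import Groth.Agent.Lib.Helper6.WeilA
import Groth.Agent.Lib.Helper6.WeilB
import Groth.Agent.Lib.Helper6.WeilC
import Groth.Agent.Lib.Helper19.PicB

/-!
# Surjectivity of `Pic R_w → Pic R_v` for minimal central orders of Weil numbers (helper19)
-/

set_option autoImplicit false
set_option linter.style.haveILetI false
set_option maxHeartbeats 1000000

universe u

noncomputable section

namespace Groth.Agent.Lib.Helper19.PicLift

open MvPolynomial Groth.Agent.Lib.Helper6.WeilA Groth.Agent.Lib.Helper6.WeilB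
  Groth.Agent.Lib.Helper6.WeilC

/-- a quotient of `ℤ[F, V]` in which `F` and `V` are roots of a monic polynomial is a finite
`ℤ`-module -/
theorem finite_quot {S : Type*} [CommRing S] [Algebra ℤ S] (φ : P2 →ₐ[ℤ] S) (P : Polynomial ℤ) (hP : P.Monic)
    (h : ∀ i : Fin 2, Polynomial.aeval (φ (X i)) P = 0) :
    Module.Finite ℤ (P2 ⧸ RingHom.ker φ) := by
  have hgen : ∀ i : Fin 2, IsIntegral ℤ (Ideal.Quotient.mk (RingHom.ker φ) (X i)) := by
    intro i
    refine ⟨P, hP, ?_⟩
    rw [← Polynomial.aeval_def]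
    have h1 : Polynomial.aeval (Ideal.Quotient.mkₐ ℤ (RingHom.ker φ) (X i)) P =
        Ideal.Quotient.mkₐ ℤ (RingHom.ker φ) (Polynomial.aeval (X i) P) :=
      Polynomial.aeval_algHom_apply _ _ _
    rw [Ideal.Quotient.mkₐ_eq_mk] at h1
    rw [h1, Ideal.Quotient.eq_zero_iff_mem, RingHom.mem_ker, ← Polynomial.aeval_algHom_apply]
    exact h i
  haveI : Algebra.IsIntegral ℤ (P2 ⧸ RingHom.ker φ) := by
    refine ⟨fun y => ?_⟩
    obtain ⟨y, rfl⟩ := Ideal.Quotient.mk_surjective y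
    induction y using MvPolynomial.induction_on with
    | C a =>
      have h2 : Ideal.Quotient.mk (RingHom.ker φ) (C a) =
          algebraMap ℤ (P2 ⧸ RingHom.ker φ) a :=
        RingHom.congr_fun (RingHom.ext_int ((Ideal.Quotient.mk (RingHom.ker φ)).comp C)
          (algebraMap ℤ (P2 ⧸ RingHom.ker φ))) a
      rw [h2]
      exact isIntegral_algebraMap
    | add p q hp hq =>
      rw [map_add]
      exact hp.add hq
    | mul_X p i hp =>
      rw [map_mul]
      exact hp.mul (hgen i)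
  haveI : Algebra.FiniteType ℤ (P2 ⧸ RingHom.ker φ) :=
    Algebra.FiniteType.of_surjective (Ideal.Quotient.mkₐ ℤ (RingHom.ker φ))
      (Ideal.Quotient.mkₐ_surjective ℤ _)
  exact Algebra.IsIntegral.finite

/-- torsion-freeness of the image of `ℤ[F, V]` in a product of fields of characteristic zero -/
theorem tf_quot {ι : Type} {K : ι → Type u} [∀ i, Field (K i)] [∀ i, CharZero (K i)]
    (φ : P2 →ₐ[ℤ] ((i : ι) → K i)) (n : ℤ) (b : P2 ⧸ RingHom.ker φ) (hn : n ≠ 0)
    (h : (n : P2 ⧸ RingHom.ker φ) * b = 0) : b = 0 := by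
  obtain ⟨y, rfl⟩ := Ideal.Quotient.mk_surjective b
  rw [← map_intCast (Ideal.Quotient.mk (RingHom.ker φ)) n, ← map_mul,
    Ideal.Quotient.eq_zero_iff_mem, RingHom.mem_ker, map_mul, map_intCast] at h
  rw [Ideal.Quotient.eq_zero_iff_mem, RingHom.mem_ker]
  funext i
  have h1 := congrFun h i
  rw [Pi.mul_apply, Pi.intCast_apply, Pi.zero_apply] at h1
  rcases mul_eq_zero.mp h1 with h2 | h2
  · exact absurd (Int.cast_eq_zero.mp h2) hn
  · exact h2

/-- a regular integral element divides a nonzero integer -/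
theorem exists_int_eq_mul {B : Type*} [CommRing B] (y : B) (hy : ∀ b : B, y * b = 0 → b = 0)
    (hint : IsIntegral ℤ y) : ∃ (N : ℤ) (b : B), N ≠ 0 ∧ (N : B) = y * b := by
  obtain ⟨p, hp, hpy⟩ := hint
  have key : ∀ (d : ℕ) (p : Polynomial ℤ), p.natDegree = d → p ≠ 0 →
      Polynomial.eval₂ (algebraMap ℤ B) y p = 0 →
      ∃ (N : ℤ) (b : B), N ≠ 0 ∧ (N : B) = y * b := by
    intro d
    induction d using Nat.strong_induction_on with
    | _ d ih =>
      intro p hd hp0 hpy
      have hdec := Polynomial.divX_mul_X_add p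
      have hev : Polynomial.eval₂ (algebraMap ℤ B) y p.divX * y + ((p.coeff 0 : ℤ) : B) = 0 := by
        have h := congrArg (Polynomial.eval₂ (algebraMap ℤ B) y) hdec
        rw [Polynomial.eval₂_add, Polynomial.eval₂_mul, Polynomial.eval₂_X, Polynomial.eval₂_C,
          hpy, eq_intCast] at h
        exact h
      by_cases hc : p.coeff 0 = 0
      · rw [hc, Int.cast_zero, add_zero, mul_comm] at hev
        have h1 := hy _ hev
        have hdiv0 : p.divX ≠ 0 := by
          intro h0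
          rw [h0, zero_mul, zero_add, hc, map_zero] at hdec
          exact hp0 hdec.symm
        have hdpos : p.natDegree ≠ 0 := by
          intro h0
          have h2 := Polynomial.eq_C_of_natDegree_eq_zero h0
          rw [hc, map_zero] at h2
          exact hp0 h2
        exact ih (p.divX.natDegree) (by
          rw [Polynomial.natDegree_divX_eq_natDegree_tsub_one]
          omega) p.divX rfl hdiv0 h1
      · refine ⟨p.coeff 0, - Polynomial.eval₂ (algebraMap ℤ B) y p.divX, hc, ?_⟩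
        linear_combination hev
  exact key _ p rfl hp.ne_zero hpy

theorem main999 (p e : ℕ) [Fact p.Prime] (he : 0 < e)
    (J J' : Type) [Fintype J] [Fintype J'] (emb : J' → J) (hemb : Function.Injective emb)
    (K : J → Type u) [∀ j, Field (K j)] [∀ j, CharZero (K j)] (ϖ : ∀ j, K j)
    (hint : ∀ j, IsIntegral ℤ (ϖ j))
    (hweil : ∀ j, ∀ z ∈ (minpoly ℤ (ϖ j)).aroots ℂ, ‖z‖ = Real.sqrt ((p : ℝ) ^ e))
    (hinj : ∀ i j, minpoly ℤ (ϖ i) = minpoly ℤ (ϖ j) → i = j)
    (φw : P2 →ₐ[ℤ] ((j : J) → K j)) (φv : P2 →ₐ[ℤ] ((j' : J') → K (emb j')))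
    (hw0 : φw (X 0) = fun j => ϖ j) (hw1 : φw (X 1) = fun j => ((p : K j) ^ e) / ϖ j)
    (hv0 : φv (X 0) = fun j' => ϖ (emb j'))
    (hv1 : φv (X 1) = fun j' => ((p : K (emb j')) ^ e) / ϖ (emb j'))
    (hle : RingHom.ker φw ≤ RingHom.ker φv) :
    Function.Surjective (CommRing.Pic.mapRingHom (Ideal.Quotient.factor hle)) := by
  classical
  obtain ⟨q, hqdef⟩ : ∃ q : ℤ, q = (p : ℤ) ^ e := ⟨_, rfl⟩
  have hqpos : 0 < q := by
    rw [hqdef]
    exact pow_pos (by exact_mod_cast (Fact.out : p.Prime).pos) e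
  have hq : q ≠ 0 := hqpos.ne'
  have hcast : ((q:ℤ):ℝ) = (p:ℝ)^e := by rw [hqdef]; simp
  have hweil' : ∀ i, ∀ z ∈ (minpoly ℤ (ϖ i)).aroots ℂ, ‖z‖ = Real.sqrt ((q:ℤ):ℝ) := by
    intro i z hz
    rw [hweil i z hz, hcast]
  obtain ⟨P, hPdef⟩ : ∃ P, P = Pw ϖ := ⟨_, rfl⟩
  have hmonic : P.Monic := hPdef ▸ Pw_monic ϖ hint
  have hFE := Pw_FE ϖ hint hinj q hqpos hweil'
  rw [← hPdef] at hFE
  have hpi : ∀ i, ϖ i ≠ 0 :=
    pi_ne_zero ϖ hint _ (by rw [hcast.symm]; exact_mod_cast hqpos) hweil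
  have hts : ∀ i, ϖ i * (((p : K i) ^ e) / ϖ i) = ((q:ℤ) : K i) := by
    intro i
    rw [mul_div_cancel₀ _ (hpi i), hqdef]
    push_cast
    rfl
  -- evaluation in a product
  have hevalF : ∀ (G : Polynomial ℤ) (x : (i : J) → K i) (i : J),
      (Polynomial.aeval x G) i = Polynomial.eval₂ (Int.castRingHom (K i)) (x i) G := by
    intro G x i
    have h1 := Polynomial.hom_eval₂ G (algebraMap ℤ ((i : J) → K i)) (Pi.evalRingHom K i) x
    have e1 : (Pi.evalRingHom K i).comp (algebraMap ℤ ((i : J) → K i)) =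
        Int.castRingHom (K i) := RingHom.ext_int _ _
    rw [e1] at h1
    rw [Polynomial.aeval_def]
    exact h1
  have hPi : ∀ i, Polynomial.eval₂ (Int.castRingHom (K i)) (ϖ i) P = 0 := by
    intro i
    rw [hPdef]
    exact Pw_root ϖ i
  have hFroot : Polynomial.aeval (fun i => ϖ i : (i : J) → K i) P = 0 := by
    funext i
    rw [hevalF, Pi.zero_apply]
    exact hPi i
  have hVroot : Polynomial.aeval (fun i => ((p : K i) ^ e) / ϖ i : (i : J) → K i) P = 0 := by
    funext i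
    rw [hevalF, Pi.zero_apply]
    have h1 := FE_field (L := K i) P q hFE (ϖ i) (((p : K i) ^ e) / ϖ i) (hts i)
    rw [hPi i, mul_zero] at h1
    rcases mul_eq_zero.mp h1 with h3 | h3
    · exact absurd h3 (pow_ne_zero _ (hpi i))
    · exact h3
  haveI hfinA : Module.Finite ℤ (P2 ⧸ RingHom.ker φw) := by
    refine finite_quot φw P hmonic ?_
    rw [Fin.forall_fin_two]
    exact ⟨by rw [hw0]; exact hFroot, by rw [hw1]; exact hVroot⟩
  -- componentwise description of the two maps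
  have hwc : ∀ (y : P2) (j : J), φw y j = theta (ϖ j) (((p : K j) ^ e) / ϖ j) y := by
    intro y j
    have h := comp_eq (φw : P2 →+* ((j : J) → K j)) j y
    simp only [RingHom.coe_coe] at h
    rw [hw0, hw1] at h
    exact h
  have hvc : ∀ (y : P2) (j' : J'),
      φv y j' = theta (ϖ (emb j')) (((p : K (emb j')) ^ e) / ϖ (emb j')) y := by
    intro y j'
    have h := comp_eq (φv : P2 →+* ((j' : J') → K (emb j'))) j' y
    simp only [RingHom.coe_coe] at h
    rw [hv0, hv1] at h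
    exact h
  have hwv : ∀ (y : P2) (j' : J'), φw y (emb j') = φv y j' := by
    intro y j'
    rw [hwc, hvc]
  -- the complementary polynomial
  obtain ⟨Pc, hPc⟩ : ∃ Pc : Polynomial ℤ,
      Pc = ∏ j ∈ Finset.univ.filter (fun j => j ∉ Set.range emb), minpoly ℤ (ϖ j) := ⟨_, rfl⟩
  obtain ⟨Gc, hGc⟩ : ∃ Gc : P2, Gc = Polynomial.aeval (X 0 : P2) Pc := ⟨_, rfl⟩
  have hPc_out : ∀ j, j ∉ Set.range emb →
      Polynomial.eval₂ (Int.castRingHom (K j)) (ϖ j) Pc = 0 := by
    intro j hj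
    rw [hPc, Polynomial.eval₂_finsetProd]
    exact Finset.prod_eq_zero (Finset.mem_filter.mpr ⟨Finset.mem_univ j, hj⟩) (by
      rw [eval2_eq_aeval]
      exact minpoly.aeval ℤ (ϖ j))
  have hPc_in : ∀ j',
      Polynomial.eval₂ (Int.castRingHom (K (emb j'))) (ϖ (emb j')) Pc ≠ 0 := by
    intro j'
    rw [hPc, Polynomial.eval₂_finsetProd, Finset.prod_ne_zero_iff]
    intro i hi
    rw [Finset.mem_filter] at hi
    intro h0
    rw [eval2_eq_aeval] at h0
    have hdvd := minpoly.isIntegrallyClosed_dvd (hint (emb j')) h0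
    have hassoc := (minpoly.irreducible (hint (emb j'))).associated_of_dvd
      (minpoly.irreducible (hint i)) hdvd
    have heq := Polynomial.eq_of_monic_of_associated (minpoly.monic (hint (emb j')))
      (minpoly.monic (hint i)) hassoc
    exact hi.2 ⟨j', hinj _ _ heq⟩
  have hGw : ∀ j, φw Gc j = Polynomial.eval₂ (Int.castRingHom (K j)) (ϖ j) Pc := by
    intro j
    rw [hwc, hGc]
    exact theta_aeval0 _ _ Pc
  have hGv : ∀ j', φv Gc j' =
      Polynomial.eval₂ (Int.castRingHom (K (emb j'))) (ϖ (emb j')) Pc := by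
    intro j'
    rw [hvc, hGc]
    exact theta_aeval0 _ _ Pc
  -- the quotient map
  obtain ⟨f, hfdef⟩ : ∃ f : (P2 ⧸ RingHom.ker φw) →+* (P2 ⧸ RingHom.ker φv),
      f = Ideal.Quotient.factor hle := ⟨_, rfl⟩
  rw [← hfdef]
  have hfsurj : Function.Surjective f := by
    rw [hfdef]
    exact Ideal.Quotient.factor_surjective hle
  have hfmk : ∀ y : P2, f (Ideal.Quotient.mk _ y) = Ideal.Quotient.mk _ y := by
    intro y
    rw [hfdef]
    exact Ideal.Quotient.factor_mk hle y
  obtain ⟨g, hgdef⟩ : ∃ g : P2 ⧸ RingHom.ker φw, g = Ideal.Quotient.mk _ Gc := ⟨_, rfl⟩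
  have hfg : f g = Ideal.Quotient.mk _ Gc := by rw [hgdef, hfmk]
  have hg : ∀ a ∈ RingHom.ker f, g * a = 0 := by
    intro a ha
    obtain ⟨y, rfl⟩ := Ideal.Quotient.mk_surjective a
    rw [RingHom.mem_ker, hfmk, Ideal.Quotient.eq_zero_iff_mem, RingHom.mem_ker] at ha
    rw [hgdef, ← map_mul, Ideal.Quotient.eq_zero_iff_mem, RingHom.mem_ker, map_mul]
    funext j
    rw [Pi.mul_apply, Pi.zero_apply]
    by_cases hj : j ∈ Set.range emb
    · obtain ⟨j', rfl⟩ := hj
      rw [hwv y j', ha, Pi.zero_apply, mul_zero]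
    · rw [hGw, hPc_out j hj, zero_mul]
  have hreg : ∀ b : P2 ⧸ RingHom.ker φv, f g * b = 0 → b = 0 := by
    intro b hb
    obtain ⟨y, rfl⟩ := Ideal.Quotient.mk_surjective b
    rw [hfg, ← map_mul, Ideal.Quotient.eq_zero_iff_mem, RingHom.mem_ker, map_mul] at hb
    rw [Ideal.Quotient.eq_zero_iff_mem, RingHom.mem_ker]
    funext j'
    have h1 := congrFun hb j'
    rw [Pi.mul_apply, Pi.zero_apply, hGv] at h1
    rcases mul_eq_zero.mp h1 with h2 | h2
    · exact absurd h2 (hPc_in j')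
    · exact h2
  haveI hfinB : Module.Finite ℤ (P2 ⧸ RingHom.ker φv) :=
    Module.Finite.of_surjective f.toAddMonoidHom.toIntLinearMap (fun y => by
      obtain ⟨x, rfl⟩ := hfsurj y
      exact ⟨x, rfl⟩)
  haveI : Algebra.IsIntegral ℤ (P2 ⧸ RingHom.ker φv) := Algebra.IsIntegral.of_finite ℤ _
  obtain ⟨N0, b, hN0, hN0b⟩ := exists_int_eq_mul (f g) hreg (Algebra.IsIntegral.isIntegral _)
  obtain ⟨r0, hr0⟩ := hfsurj b
  refine pic_surjective f hfsurj (fun n b hn h => tf_quot φv n b hn h) g hg (2 * N0) ?_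
    (((2 * N0 : ℤ) : P2 ⧸ RingHom.ker φw) - 2 * r0 * g) (2 * r0) ?_ ?_
  · rw [abs_mul, abs_two]
    have h1 := Int.one_le_abs hN0
    linarith
  · rw [RingHom.mem_ker, map_sub, map_mul, map_mul, map_intCast, hr0, map_ofNat]
    push_cast
    linear_combination 2 * hN0b
  · ring

end Groth.Agent.Lib.Helper19.PicLift
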