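import Mathlib
import Groth.Prelude.Def_HopfRep
import Groth.Agent.Lib.Helper28.TakMain
import Groth.Agent.Lib.Helper19.Cartier2

/-!
# Rational points of affine group schemes over an algebraically closed field (helper19)

`A` a commutative Hopf algebra over an algebraically closed field `k` (no finiteness).
* `exists_extension`: a `k`-point of a Hopf subalgebra extends to a `k`-point of `A`
  (Zorn + Takeuchi's faithful flatness + Nullstellensatz).
* `eq_zero_of_forall_point`: in characteristic zero, the `k`-points separate the elements of `A`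
  (Cartier's theorem).
* `isSubcomod_of_stable`: a subspace of a comodule stable under all `k`-points is a subcomodule.
-/

set_option autoImplicit false
universe u v w
open TensorProduct

namespace Groth.Agent.Lib.Helper19.PtsExt

open Groth.Agent.Lib.Helper28.TakSubalg Groth.Agent.Lib.Helper28.TakFGSub
  Groth.Agent.Lib.Helper28.TakMain

section Nullstellensatz

/-- a nontrivial finitely generated algebra over an algebraically closed field has a rational
point -/
theorem exists_algHom_of_finiteType (k : Type u) [Field k] [IsAlgClosed k] (R : Type v)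
    [CommRing R] [Algebra k R] [Algebra.FiniteType k R] [Nontrivial R] :
    Nonempty (R →ₐ[k] k) := by
  obtain ⟨m, hm⟩ := Ideal.exists_maximal R
  haveI := hm
  letI := Ideal.Quotient.field m
  haveI : Algebra.FiniteType k (R ⧸ m) :=
    Algebra.FiniteType.of_surjective (Ideal.Quotient.mkₐ k m) (Ideal.Quotient.mkₐ_surjective k m)
  haveI : Module.Finite k (R ⧸ m) := finite_of_finite_type_of_isJacobsonRing k (R ⧸ m)
  haveI : Algebra.IsIntegral k (R ⧸ m) := Algebra.IsIntegral.of_finite k (R ⧸ m)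
  have hbij : Function.Bijective (algebraMap k (R ⧸ m)) :=
    IsAlgClosed.algebraMap_bijective_of_isIntegral
  let e : k ≃ₐ[k] (R ⧸ m) := AlgEquiv.ofBijective (Algebra.ofId k (R ⧸ m)) hbij
  exact ⟨(e.symm : (R ⧸ m) →ₐ[k] k).comp (Ideal.Quotient.mkₐ k m)⟩

end Nullstellensatz

section Ext

variable {k : Type u} [Field k] {A : Type v} [CommRing A] [HopfAlgebra k A]

/-- `𝔪 + k·1` -/
def U (m : Submodule k A) : Submodule k A := m ⊔ Submodule.span k {(1 : A)}

lemma mem_U {m : Submodule k A} {x : A} : x ∈ U m ↔ ∃ c : k, x - c • (1 : A) ∈ m := by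
  unfold U
  rw [Submodule.mem_sup]
  constructor
  · rintro ⟨y, hy, z, hz, rfl⟩
    obtain ⟨c, rfl⟩ := Submodule.mem_span_singleton.1 hz
    exact ⟨c, by rwa [add_sub_cancel_right]⟩
  · rintro ⟨c, hc⟩
    exact ⟨x - c • 1, hc, c • 1, Submodule.mem_span_singleton.2 ⟨c, rfl⟩, sub_add_cancel _ _⟩

lemma le_U (m : Submodule k A) : m ≤ U m := le_sup_left

lemma one_mem_U (m : Submodule k A) : (1 : A) ∈ U m :=
  (le_sup_right : Submodule.span k {(1 : A)} ≤ U m) (Submodule.mem_span_singleton_self 1)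

lemma U_mono {m m' : Submodule k A} (h : m ≤ m') : U m ≤ U m' := sup_le_sup_right h _

/-- closed under multiplication -/
def MulClosed (m : Submodule k A) : Prop := ∀ x ∈ m, ∀ y ∈ m, x * y ∈ m

lemma mul_mem_U {m : Submodule k A} (hm : MulClosed m) {a b : A} (ha : a ∈ U m) (hb : b ∈ U m) :
    a * b ∈ U m := by
  obtain ⟨c, hc⟩ := mem_U.1 ha
  obtain ⟨d, hd⟩ := mem_U.1 hb
  rw [mem_U]
  refine ⟨c * d, ?_⟩
  have e : a * b - (c * d) • (1 : A) =
      (a - c • 1) * (b - d • 1) + c • (b - d • 1) + d • (a - c • 1) := by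
    simp only [Algebra.smul_def, mul_one, map_mul]
    ring
  rw [e]
  exact m.add_mem (m.add_mem (hm _ hc _ hd) (m.smul_mem c hd)) (m.smul_mem d hc)

/-- the subalgebra `k·1 + 𝔪` -/
def subalgOf (m : Submodule k A) (hm : MulClosed m) : Subalgebra k A where
  carrier := U m
  mul_mem' := fun ha hb => mul_mem_U hm ha hb
  one_mem' := one_mem_U m
  add_mem' := fun ha hb => (U m).add_mem ha hb
  zero_mem' := (U m).zero_mem
  algebraMap_mem' := fun r => by
    rw [Algebra.algebraMap_eq_smul_one]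
    exact (U m).smul_mem r (one_mem_U m)

lemma mem_subalgOf {m : Submodule k A} {hm : MulClosed m} {x : A} :
    x ∈ subalgOf m hm ↔ x ∈ U m := Iff.rfl

/-- the data of a Hopf subalgebra with a rational point, encoded by the kernel of the point -/
def Good (m : Submodule k A) : Prop :=
  (1 : A) ∉ m ∧ ∃ hm : MulClosed m, IsHopfSub (subalgOf m hm)

/-- the kernel of a point of a subalgebra, as a subspace of `A` -/
def kerSub (B : Subalgebra k A) (h : B →ₐ[k] k) : Submodule k A :=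
  Submodule.map B.val.toLinearMap (LinearMap.ker h.toLinearMap)

lemma mem_kerSub {B : Subalgebra k A} {h : B →ₐ[k] k} {x : A} :
    x ∈ kerSub B h ↔ ∃ hx : x ∈ B, h ⟨x, hx⟩ = 0 := by
  unfold kerSub
  rw [Submodule.mem_map]
  constructor
  · rintro ⟨b, hb, rfl⟩
    exact ⟨b.2, LinearMap.mem_ker.1 hb⟩
  · rintro ⟨hx, h0⟩
    exact ⟨⟨x, hx⟩, LinearMap.mem_ker.2 h0, rfl⟩

lemma U_kerSub (B : Subalgebra k A) (h : B →ₐ[k] k) :
    U (kerSub B h) = Subalgebra.toSubmodule B := by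
  ext x
  rw [mem_U, Subalgebra.mem_toSubmodule]
  constructor
  · rintro ⟨c, hc⟩
    obtain ⟨hx, -⟩ := mem_kerSub.1 hc
    have e : x = (x - c • 1) + c • 1 := (sub_add_cancel _ _).symm
    rw [e]
    exact B.add_mem hx (B.smul_mem B.one_mem c)
  · intro hx
    refine ⟨h ⟨x, hx⟩, mem_kerSub.2 ⟨B.sub_mem hx (B.smul_mem B.one_mem _), ?_⟩⟩
    have e : (⟨x - h ⟨x, hx⟩ • (1 : A), B.sub_mem hx (B.smul_mem B.one_mem _)⟩ : B) =
        ⟨x, hx⟩ - h ⟨x, hx⟩ • (1 : B) := rfl
    rw [e, map_sub, map_smul, map_one, smul_eq_mul, mul_one, sub_self]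

lemma mulClosed_kerSub (B : Subalgebra k A) (h : B →ₐ[k] k) : MulClosed (kerSub B h) := by
  intro x hx y hy
  obtain ⟨hxB, hx0⟩ := mem_kerSub.1 hx
  obtain ⟨hyB, hy0⟩ := mem_kerSub.1 hy
  refine mem_kerSub.2 ⟨B.mul_mem hxB hyB, ?_⟩
  have e : (⟨x * y, B.mul_mem hxB hyB⟩ : B) = ⟨x, hxB⟩ * ⟨y, hyB⟩ := rfl
  rw [e, map_mul, hx0, zero_mul]

lemma one_notMem_kerSub (B : Subalgebra k A) (h : B →ₐ[k] k) : (1 : A) ∉ kerSub B h := by
  intro h1
  obtain ⟨h1B, h10⟩ := mem_kerSub.1 h1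
  have e : (⟨1, h1B⟩ : B) = 1 := rfl
  rw [e, map_one] at h10
  exact one_ne_zero h10

lemma subalgOf_kerSub (B : Subalgebra k A) (h : B →ₐ[k] k) :
    subalgOf (kerSub B h) (mulClosed_kerSub B h) = B := by
  ext x
  rw [mem_subalgOf, U_kerSub, Subalgebra.mem_toSubmodule]

lemma good_kerSub (B : Subalgebra k A) (hB : IsHopfSub B) (h : B →ₐ[k] k) : Good (kerSub B h) :=
  ⟨one_notMem_kerSub B h, mulClosed_kerSub B h, by rw [subalgOf_kerSub]; exact hB⟩

lemma good_sSup {c : Set (Submodule k A)} (hc : IsChain (· ≤ ·) c) (hne : c.Nonempty)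
    (hgood : ∀ m ∈ c, Good m) : Good (sSup c) := by
  have hdir : DirectedOn (· ≤ ·) c := hc.directedOn
  have hmem : ∀ {z : A}, z ∈ sSup c ↔ ∃ y ∈ c, z ∈ y :=
    Submodule.mem_sSup_of_directed hne hdir
  have hmul : MulClosed (sSup c) := by
    intro x hx y hy
    obtain ⟨m₁, hm₁, hx₁⟩ := hmem.1 hx
    obtain ⟨m₂, hm₂, hy₂⟩ := hmem.1 hy
    obtain ⟨m₃, hm₃, h13, h23⟩ := hdir m₁ hm₁ m₂ hm₂
    obtain ⟨-, hmul₃, -⟩ := hgood m₃ hm₃
    exact hmem.2 ⟨m₃, hm₃, hmul₃ x (h13 hx₁) y (h23 hy₂)⟩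
  refine ⟨?_, hmul, ?_⟩
  · intro h1
    obtain ⟨m, hm, h1m⟩ := hmem.1 h1
    exact (hgood m hm).1 h1m
  · have hU : ∀ b ∈ U (sSup c), ∃ m ∈ c, b ∈ U m := by
      intro b hb
      obtain ⟨r, hr⟩ := mem_U.1 hb
      obtain ⟨m, hm, hbm⟩ := hmem.1 hr
      exact ⟨m, hm, mem_U.2 ⟨r, hbm⟩⟩
    have hle : ∀ m (_ : m ∈ c) (hmm : MulClosed m), subalgOf m hmm ≤ subalgOf (sSup c) hmul := by
      intro m hm hmm x hx
      exact U_mono (le_sSup hm) hx
    constructor
    · intro b hb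
      obtain ⟨m, hm, hbm⟩ := hU b hb
      obtain ⟨-, hmm, hH⟩ := hgood m hm
      have h1 := hH.comul_mem b hbm
      rw [← mem_range_iff] at h1 ⊢
      exact range_mono (hle m hm hmm) h1
    · intro b hb
      obtain ⟨m, hm, hbm⟩ := hU b hb
      obtain ⟨-, hmm, hH⟩ := hgood m hm
      exact hle m hm hmm (hH.antipode_mem b hbm)

variable [IsAlgClosed k]

lemma exists_good_ge {m : Submodule k A} (hgood : Good m) (a : A) :
    ∃ m', Good m' ∧ m ≤ m' ∧ a ∈ U m' := by
  classical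
  obtain ⟨h1m, hmul, hH⟩ := hgood
  obtain ⟨B, hBdef⟩ : ∃ B : Subalgebra k A, B = subalgOf m hmul := ⟨_, rfl⟩
  rw [← hBdef] at hH
  have hBU : ∀ x, x ∈ B ↔ x ∈ U m := fun x => by rw [hBdef]; exact Iff.rfl
  have hmB : ∀ x ∈ m, x ∈ B := fun x hx => (hBU x).2 (le_U m hx)
  let I : Ideal B :=
    { carrier := {b | (b : A) ∈ m}
      add_mem' := fun {a b} ha hb => by
        show ((a + b : B) : A) ∈ m
        rw [Subalgebra.coe_add]
        exact m.add_mem ha hb
      zero_mem' := by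
        show ((0 : B) : A) ∈ m
        rw [Subalgebra.coe_zero]
        exact m.zero_mem
      smul_mem' := fun r b hb => by
        show ((r • b : B) : A) ∈ m
        rw [smul_eq_mul, Subalgebra.coe_mul]
        obtain ⟨c, hc⟩ := mem_U.1 ((hBU _).1 r.2)
        have e : (r : A) * (b : A) = ((r : A) - c • 1) * (b : A) + c • (b : A) := by
          rw [sub_mul, smul_mul_assoc, one_mul, sub_add_cancel]
        rw [e]
        exact m.add_mem (hmul _ hc _ hb) (m.smul_mem c hb) }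
  have hI1 : I ≠ ⊤ := by
    intro htop
    have h1 : (1 : B) ∈ I := by rw [htop]; trivial
    have h2 : ((1 : B) : A) ∈ m := h1
    rw [Subalgebra.coe_one] at h2
    exact h1m h2
  haveI : Module.FaithfullyFlat B A := faithfullyFlat_of_isHopfSub B hH
  have hIA : Ideal.map (algebraMap B A) I ≠ ⊤ := by
    intro htop
    apply hI1
    rw [← Ideal.comap_map_eq_self_of_faithfullyFlat (B := A) I, htop, Ideal.comap_top]
  obtain ⟨𝔞, h𝔞def⟩ : ∃ 𝔞 : Ideal A, 𝔞 = Ideal.map (algebraMap B A) I := ⟨_, rfl⟩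
  rw [← h𝔞def] at hIA
  have hm𝔞 : ∀ x ∈ m, x ∈ 𝔞 := by
    intro x hx
    rw [h𝔞def]
    exact Ideal.mem_map_of_mem (algebraMap B A) (show (⟨x, hmB x hx⟩ : B) ∈ I from hx)
  haveI : Nontrivial (A ⧸ 𝔞) := Ideal.Quotient.nontrivial_iff.2 hIA
  obtain ⟨D₁, haD₁, hD₁fg, hD₁H⟩ := exists_fg_hopfSub_finset (k := k) ({a} : Finset A)
  have haD₁' : a ∈ D₁ := haD₁ (by simp)
  obtain ⟨t, ht⟩ := hD₁fg
  obtain ⟨π, hπ⟩ : ∃ π : A →ₐ[k] A ⧸ 𝔞, π = Ideal.Quotient.mkₐ k 𝔞 := ⟨_, rfl⟩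
  have hπ0 : ∀ x ∈ 𝔞, π x = 0 := fun x hx => by
    rw [hπ]; exact Ideal.Quotient.eq_zero_iff_mem.2 hx
  obtain ⟨Q₁, hQ₁⟩ : ∃ Q₁ : Subalgebra k (A ⧸ 𝔞),
      Q₁ = Algebra.adjoin k ((t.image π : Finset (A ⧸ 𝔞)) : Set (A ⧸ 𝔞)) := ⟨_, rfl⟩
  have hQ₁fg : Q₁.FG := ⟨t.image π, hQ₁.symm⟩
  haveI : Algebra.FiniteType k Q₁ := (Subalgebra.fg_iff_finiteType Q₁).1 hQ₁fg
  haveI : Nontrivial Q₁ :=
    ⟨⟨0, 1, fun h01 => zero_ne_one (α := A ⧸ 𝔞) (congrArg Subtype.val h01)⟩⟩
  obtain ⟨φ⟩ := exists_algHom_of_finiteType k Q₁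
  have hB'H : IsHopfSub (B ⊔ D₁) := isHopfSub_sup hH hD₁H
  have hle : B ⊔ D₁ ≤ Q₁.comap π := by
    apply sup_le
    · intro b hb
      rw [Subalgebra.mem_comap]
      obtain ⟨c, hc⟩ := mem_U.1 ((hBU b).1 hb)
      have e : π b = c • (1 : A ⧸ 𝔞) := by
        have h0 : π (b - c • 1) = 0 := hπ0 _ (hm𝔞 _ hc)
        rw [map_sub, map_smul, map_one, sub_eq_zero] at h0
        exact h0
      rw [e]
      exact Q₁.smul_mem Q₁.one_mem c
    · rw [← ht]
      apply Algebra.adjoin_le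
      intro x hx
      rw [SetLike.mem_coe, Subalgebra.mem_comap, hQ₁]
      apply Algebra.subset_adjoin
      rw [Finset.coe_image]
      exact ⟨x, hx, rfl⟩
  obtain ⟨ψ, hψ⟩ : ∃ ψ : ↥(B ⊔ D₁) →ₐ[k] Q₁, ∀ x : ↥(B ⊔ D₁), ((ψ x : Q₁) : A ⧸ 𝔞) = π x :=
    ⟨AlgHom.codRestrict (π.comp (B ⊔ D₁).val) Q₁ (fun x => hle x.2), fun x => rfl⟩
  refine ⟨kerSub (B ⊔ D₁) (φ.comp ψ), good_kerSub _ hB'H _, ?_, ?_⟩
  · intro x hx
    refine mem_kerSub.2 ⟨(le_sup_left : B ≤ B ⊔ D₁) (hmB x hx), ?_⟩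
    have hψ0 : ψ ⟨x, (le_sup_left : B ≤ B ⊔ D₁) (hmB x hx)⟩ = 0 := by
      apply Subtype.ext
      rw [hψ]
      exact hπ0 x (hm𝔞 x hx)
    show φ (ψ _) = 0
    rw [hψ0, map_zero]
  · rw [U_kerSub, Subalgebra.mem_toSubmodule]
    exact (le_sup_right : D₁ ≤ B ⊔ D₁) haD₁'

theorem exists_point_of_good {m₀ : Submodule k A} (h₀ : Good m₀) :
    ∃ g : A →ₐ[k] k, ∀ x ∈ m₀, g x = 0 := by
  obtain ⟨m, hm₀m, hmax⟩ := zorn_le_nonempty₀ {m : Submodule k A | Good m}
    (fun c hcs hc y hy => ⟨sSup c, good_sSup hc ⟨y, hy⟩ (fun m hm => hcs hm),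
      fun z hz => le_sSup hz⟩) m₀ h₀
  have hgood : Good m := hmax.prop
  have hUtop : ∀ a : A, a ∈ U m := by
    intro a
    obtain ⟨m', hm', hmm', ha'⟩ := exists_good_ge hgood a
    exact U_mono (hmax.le_of_ge hm' hmm') ha'
  obtain ⟨h1m, hmul, -⟩ := hgood
  let I : Ideal A :=
    { carrier := m
      add_mem' := m.add_mem
      zero_mem' := m.zero_mem
      smul_mem' := fun r x hx => by
        obtain ⟨c, hc⟩ := mem_U.1 (hUtop r)
        have e : r • x = (r - c • 1) * x + c • x := by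
          rw [smul_eq_mul, sub_mul, smul_mul_assoc, one_mul, sub_add_cancel]
        rw [e]
        exact m.add_mem (hmul _ hc _ hx) (m.smul_mem c hx) }
  have hI1 : I ≠ ⊤ := by
    intro htop
    have h1 : (1 : A) ∈ I := by rw [htop]; trivial
    exact h1m h1
  haveI : Nontrivial (A ⧸ I) := Ideal.Quotient.nontrivial_iff.2 hI1
  have hbij : Function.Bijective (algebraMap k (A ⧸ I)) := by
    refine ⟨(algebraMap k (A ⧸ I)).injective, ?_⟩
    intro q
    obtain ⟨a, rfl⟩ := Ideal.Quotient.mk_surjective q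
    obtain ⟨c, hc⟩ := mem_U.1 (hUtop a)
    refine ⟨c, ?_⟩
    have h0 : Ideal.Quotient.mk I (a - c • 1) = 0 := Ideal.Quotient.eq_zero_iff_mem.2 hc
    rw [map_sub, sub_eq_zero] at h0
    rw [h0, Algebra.smul_def, mul_one]
    rfl
  let e : k ≃ₐ[k] (A ⧸ I) := AlgEquiv.ofBijective (Algebra.ofId k (A ⧸ I)) hbij
  refine ⟨(e.symm : (A ⧸ I) →ₐ[k] k).comp (Ideal.Quotient.mkₐ k I), ?_⟩
  intro x hx
  have h0 : Ideal.Quotient.mkₐ k I x = 0 := Ideal.Quotient.eq_zero_iff_mem.2 (hm₀m hx)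
  show e.symm (Ideal.Quotient.mkₐ k I x) = 0
  rw [h0, map_zero]

/-- a rational point of a Hopf subalgebra extends to the whole Hopf algebra -/
theorem exists_extension (D : Subalgebra k A) (hD : IsHopfSub D) (g : D →ₐ[k] k) :
    ∃ g' : A →ₐ[k] k, ∀ d : D, g' d = g d := by
  obtain ⟨g', hg'⟩ := exists_point_of_good (good_kerSub D hD g)
  refine ⟨g', fun d => ?_⟩
  have h1 : (d : A) - g d • (1 : A) ∈ kerSub D g := by
    refine mem_kerSub.2 ⟨D.sub_mem d.2 (D.smul_mem D.one_mem _), ?_⟩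
    have e : (⟨(d : A) - g d • (1 : A), D.sub_mem d.2 (D.smul_mem D.one_mem _)⟩ : D) =
        d - g d • (1 : D) := rfl
    rw [e, map_sub, map_smul, map_one, smul_eq_mul, mul_one, sub_self]
  have h2 := hg' _ h1
  rw [map_sub, map_smul, map_one, smul_eq_mul, mul_one, sub_eq_zero] at h2
  exact h2

end Ext

section Sep

variable (k : Type u) [Field k] [IsAlgClosed k] [CharZero k] (A : Type v) [CommRing A]
  [HopfAlgebra k A]

/-- in characteristic zero the rational points separate the elements of `A` -/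
theorem eq_zero_of_forall_point (a : A) (ha : ∀ g : A →ₐ[k] k, g a = 0) : a = 0 := by
  classical
  obtain ⟨D, haD, hDfg, hDH⟩ := exists_fg_hopfSub_finset (k := k) ({a} : Finset A)
  have haD' : a ∈ D := haD (by simp)
  letI := hopfAlgebra D hDH
  haveI : Algebra.FiniteType k D := (Subalgebra.fg_iff_finiteType D).1 hDfg
  haveI : IsReduced D := Cartier.isReduced_of_charZero k D
  have hbij : Function.Bijective (algebraMap k (AlgebraicClosure k)) :=
    IsAlgClosed.algebraMap_bijective_of_isIntegral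
  let e : k ≃ₐ[k] AlgebraicClosure k := AlgEquiv.ofBijective (Algebra.ofId k _) hbij
  have h0 : (⟨a, haD'⟩ : D) = 0 := by
    apply Cartier.eq_zero_of_forall_algHom_eq_zero k D
    intro f
    obtain ⟨g', hg'⟩ := exists_extension D hDH ((e.symm : AlgebraicClosure k →ₐ[k] k).comp f)
    have h1 : g' a = e.symm (f ⟨a, haD'⟩) := hg' ⟨a, haD'⟩
    rw [ha g'] at h1
    have h3 := congrArg e h1.symm
    rwa [AlgEquiv.apply_symm_apply, map_zero] at h3
  exact congrArg Subtype.val h0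

/-- a subspace of a comodule which is stable under all rational points is a subcomodule -/
theorem isSubcomod_of_stable (V : Type w) [AddCommGroup V] [Module k V] [HopfRep.Comod k A V]
    (W : Submodule k V) (hW : ∀ g : A →ₐ[k] k, W.map (HopfRep.Comod.act k A V g) ≤ W) :
    HopfRep.IsSubcomod (k := k) (A := A) W := by
  classical
  intro w hw
  obtain ⟨t, htdef⟩ : ∃ t, t = (W.mkQ.rTensor A) (HopfRep.Comod.coact (k := k) (A := A) w) :=
    ⟨_, rfl⟩
  have hpt : ∀ g : A →ₐ[k] k, (g.toLinearMap.lTensor (V ⧸ W)) t = 0 := by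
    intro g
    have h1 : HopfRep.Comod.act k A V g w ∈ W := hW g ⟨w, hw, rfl⟩
    have h2 : (g.toLinearMap.lTensor V) (HopfRep.Comod.coact (k := k) (A := A) w) =
        (HopfRep.Comod.act k A V g w) ⊗ₜ[k] (1 : k) := by
      apply (TensorProduct.rid k V).injective
      rw [TensorProduct.rid_tmul, one_smul]
      rfl
    rw [htdef, ← LinearMap.comp_apply, LinearMap.lTensor_comp_rTensor,
      ← LinearMap.rTensor_comp_lTensor, LinearMap.comp_apply, h2, LinearMap.rTensor_tmul,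
      Submodule.mkQ_apply, (Submodule.Quotient.mk_eq_zero W).2 h1, TensorProduct.zero_tmul]
  obtain ⟨ℬ⟩ : Nonempty (Module.Basis (Module.Free.ChooseBasisIndex k (V ⧸ W)) k (V ⧸ W)) :=
    ⟨Module.Free.chooseBasis k (V ⧸ W)⟩
  have ht0 : t = 0 := by
    apply (TensorProduct.equivFinsuppOfBasisLeft ℬ).injective
    rw [map_zero]
    ext i
    rw [Finsupp.zero_apply]
    apply eq_zero_of_forall_point k A
    intro g
    have key : ∀ s : (V ⧸ W) ⊗[k] A, g ((TensorProduct.equivFinsuppOfBasisLeft ℬ s) i) =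
        ℬ.coord i (TensorProduct.rid k (V ⧸ W) ((g.toLinearMap.lTensor (V ⧸ W)) s)) := by
      intro s
      induction s using TensorProduct.induction_on with
      | zero => simp
      | tmul u a =>
        rw [TensorProduct.equivFinsuppOfBasisLeft_apply_tmul_apply, LinearMap.lTensor_tmul,
          TensorProduct.rid_tmul]
        simp only [map_smul, AlgHom.toLinearMap_apply, Module.Basis.coord_apply, smul_eq_mul]
        exact mul_comm _ _
      | add x y hx hy => simp only [map_add, Finsupp.add_apply, hx, hy]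
    rw [key, hpt g, map_zero, map_zero]
  have h4 : (W.mkQ.rTensor A) (HopfRep.Comod.coact (k := k) (A := A) w) = 0 := by
    rw [← htdef, ht0]
  have hex : Function.Exact (W.subtype.rTensor A) (W.mkQ.rTensor A) :=
    rTensor_exact A (LinearMap.exact_subtype_mkQ W) (Submodule.mkQ_surjective W)
  exact (hex _).1 h4

end Sep

end Groth.Agent.Lib.Helper19.PtsExt
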