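import Mathlib

/-!
# Uniform affine covers of pullbacks of a quasi-compact morphism

For a quasi-compact morphism `j : W ⟶ Y` with `Y` quasi-compact there is a number `m` such that
every pullback `W ×_Y Spec B` is covered by `m` affine opens.

Key point: if `Y = V_1 ∪ ... ∪ V_n` with `V_i` affine open, every `g : Spec B ⟶ Y` admits
`e_1, ..., e_n ∈ B` with `Σ e_i = 1` and `g (D(e_i)) ⊆ V_i`.
-/

set_option maxHeartbeats 400000

open CategoryTheory AlgebraicGeometry Limits TopologicalSpace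

universe u

namespace Groth.Agent.Lib.Helper19.QAffCover

theorem exists_basicOpen_cover' {B : Type*} [CommRing B] {ι : Type*}
    (O : ι → Opens (PrimeSpectrum B)) (h : ⨆ i, O i = ⊤) :
    ∃ e : ι → B, (∀ i, PrimeSpectrum.basicOpen (e i) ≤ O i) ∧
      ∀ p : PrimeSpectrum B, ∃ i, p ∈ PrimeSpectrum.basicOpen (e i) := by
  classical
  let J : ι → Ideal B := fun i => PrimeSpectrum.vanishingIdeal ((O i : Set (PrimeSpectrum B))ᶜ)
  have hz : ∀ i, PrimeSpectrum.zeroLocus (J i : Set B) = (O i : Set (PrimeSpectrum B))ᶜ := by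
    intro i
    rw [PrimeSpectrum.zeroLocus_vanishingIdeal_eq_closure]
    exact (O i).isOpen.isClosed_compl.closure_eq
  have htop : (⨆ i, J i) = ⊤ := by
    rw [← PrimeSpectrum.zeroLocus_empty_iff_eq_top, PrimeSpectrum.zeroLocus_iSup]
    simp_rw [hz]
    rw [← Set.compl_iUnion, Set.compl_empty_iff]
    ext p
    simp only [Set.mem_iUnion, SetLike.mem_coe, Set.mem_univ, iff_true]
    have hp : p ∈ (⨆ i, O i) := by rw [h]; trivial
    exact Opens.mem_iSup.1 hp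
  have h1 : (1 : B) ∈ ⨆ i, J i := by rw [htop]; exact Submodule.mem_top
  obtain ⟨f, hf, hsum⟩ := (Submodule.mem_iSup_iff_exists_finsupp _ _).1 h1
  refine ⟨fun i => f i, fun i p hp => ?_, fun p => ?_⟩
  · by_contra hnot
    have hpz : p ∈ PrimeSpectrum.zeroLocus (J i : Set B) := by
      rw [hz]; exact hnot
    rw [PrimeSpectrum.mem_zeroLocus] at hpz
    exact (PrimeSpectrum.mem_basicOpen _ _).1 hp (hpz (hf i))
  · by_contra hall
    push_neg at hall
    have : (1 : B) ∈ p.asIdeal := by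
      rw [← hsum, Finsupp.sum]
      refine Ideal.sum_mem _ (fun i _ => ?_)
      have := hall i
      rw [PrimeSpectrum.mem_basicOpen, not_not] at this
      exact this
    exact p.isPrime.ne_top ((Ideal.eq_top_iff_one _).2 this)

theorem exists_basicOpen_cover {B : CommRingCat.{u}} {ι : Type*}
    (O : ι → (Spec B).Opens) (h : ⨆ i, O i = ⊤) :
    ∃ e : ι → B, (∀ i, (PrimeSpectrum.basicOpen (e i) : (Spec B).Opens) ≤ O i) ∧
      ∀ p : Spec B, ∃ i, p ∈ (PrimeSpectrum.basicOpen (e i) : (Spec B).Opens) :=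
  exists_basicOpen_cover' (B := B) O h

/-- The affine piece of the pullback. -/
theorem piece {W Y : Scheme.{u}} (j : W ⟶ Y) {Z : Scheme.{u}} (g : Z ⟶ Y)
    (V : Y.Opens) (hV : IsAffineOpen V) (W' : W.Opens) (hW' : IsAffineOpen W')
    (hWV : W' ≤ j ⁻¹ᵁ V) (D : Z.Opens) (hD : IsAffineOpen D) (hDV : D ≤ g ⁻¹ᵁ V) :
    IsAffineOpen ((pullback.fst j g) ⁻¹ᵁ W' ⊓ (pullback.snd j g) ⁻¹ᵁ D) := by
  haveI : IsAffine (V : Scheme) := hV
  haveI : IsAffine (W' : Scheme) := hW'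
  haveI : IsAffine (D : Scheme) := hD
  let f' : (W' : Scheme) ⟶ V := j.resLE V W' hWV
  let g' : (D : Scheme) ⟶ V := g.resLE V D hDV
  have e₁ : f' ≫ V.ι = W'.ι ≫ j := Scheme.Hom.resLE_comp_ι j hWV
  have e₂ : g' ≫ V.ι = D.ι ≫ g := Scheme.Hom.resLE_comp_ι g hDV
  let h := pullback.map f' g' j g W'.ι D.ι V.ι e₁ e₂
  have hr : h.opensRange = (pullback.fst j g) ⁻¹ᵁ W' ⊓ (pullback.snd j g) ⁻¹ᵁ D := by
    apply Opens.ext
    rw [Scheme.Hom.coe_opensRange]
    refine (Scheme.Pullback.range_map f' g' j g W'.ι D.ι V.ι e₁ e₂).trans ?_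
    rw [Scheme.Opens.range_ι, Scheme.Opens.range_ι]
    rfl
  rw [← hr]
  exact isAffineOpen_opensRange h

theorem main {W Y : Scheme.{u}} (j : W ⟶ Y) [CompactSpace Y] [QuasiCompact j] :
    ∃ m : ℕ, ∀ (B : CommRingCat.{u}) (g : Spec B ⟶ Y),
      ∃ U : Fin m → (pullback j g).Opens, (∀ k, IsAffineOpen (U k)) ∧ ⨆ k, U k = ⊤ := by
  classical
  obtain ⟨s, hs, hsU⟩ := (isCompact_iff_finite_and_eq_biUnion_affineOpens (X := Y) (U := ⊤)).1
    (by simpa using (isCompact_univ : IsCompact (Set.univ : Set Y)))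
  have hc : ∀ V : Y.affineOpens, ∃ t : Set W.affineOpens, t.Finite ∧
      j ⁻¹ᵁ (V : Y.Opens) = ⨆ i ∈ t, (i : W.Opens) := fun V =>
    (isCompact_iff_finite_and_eq_biUnion_affineOpens (X := W) (U := j ⁻¹ᵁ V)).1
      (QuasiCompact.isCompact_preimage (f := j) _ V.1.isOpen V.2.isCompact)
  choose t ht htU using hc
  let T : Set (Y.affineOpens × W.affineOpens) := {p | p.1 ∈ s ∧ p.2 ∈ t p.1}
  have hT : T.Finite := by
    refine Set.Finite.subset (hs.prod (hs.biUnion fun V _ => ht V)) ?_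
    rintro ⟨V, W'⟩ ⟨h1, h2⟩
    exact ⟨h1, Set.mem_biUnion h1 h2⟩
  haveI : Finite T := hT.to_subtype
  refine ⟨Nat.card T, fun B g => ?_⟩
  let eqv : T ≃ Fin (Nat.card T) := Finite.equivFin T
  have hO : ⨆ V : s, (g ⁻¹ᵁ (V.1 : Y.Opens)) = ⊤ := by
    rw [eq_top_iff]
    intro p _
    have hp : g p ∈ (⊤ : Y.Opens) := trivial
    rw [hsU] at hp
    obtain ⟨V, hV, hpV⟩ : ∃ V ∈ s, g p ∈ (V : Y.Opens) := by
      simpa [Opens.mem_iSup] using hp
    exact Opens.mem_iSup.2 ⟨⟨V, hV⟩, hpV⟩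
  obtain ⟨e, he, hcov⟩ := exists_basicOpen_cover (B := B) (ι := s)
    (fun V => g ⁻¹ᵁ (V.1 : Y.Opens)) hO
  let U' : T → (pullback j g).Opens := fun p =>
    (pullback.fst j g) ⁻¹ᵁ (p.1.2 : W.Opens) ⊓
      (pullback.snd j g) ⁻¹ᵁ
        (PrimeSpectrum.basicOpen (e ⟨p.1.1, p.2.1⟩) : (Spec B).Opens)
  refine ⟨fun k => U' (eqv.symm k), fun k => ?_, ?_⟩
  · show IsAffineOpen (U' (eqv.symm k))
    generalize eqv.symm k = p
    obtain ⟨⟨V, W'⟩, hV, hW'⟩ := p
    show IsAffineOpen ((pullback.fst j g) ⁻¹ᵁ (W' : W.Opens) ⊓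
      (pullback.snd j g) ⁻¹ᵁ (PrimeSpectrum.basicOpen (e ⟨V, hV⟩) : (Spec B).Opens))
    refine piece j g V V.2 W' W'.2 ?_ _ (IsAffineOpen.Spec_basicOpen _) (he ⟨V, hV⟩)
    rw [htU V]
    exact le_biSup (fun i : W.affineOpens => (i : W.Opens)) hW'
  · rw [eq_top_iff]
    intro x _
    obtain ⟨V, hxV⟩ := hcov ((pullback.snd j g) x)
    have h1 : (pullback.snd j g) x ∈ g ⁻¹ᵁ (V.1 : Y.Opens) := he V hxV
    have h2 : (pullback.fst j g) x ∈ j ⁻¹ᵁ (V.1 : Y.Opens) := by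
      show j ((pullback.fst j g) x) ∈ ((V.1 : Y.affineOpens) : Y.Opens)
      have hc : j ((pullback.fst j g) x) = g ((pullback.snd j g) x) := by
        rw [← Scheme.Hom.comp_apply, ← Scheme.Hom.comp_apply, pullback.condition]
      rw [hc]
      exact h1
    rw [htU V.1] at h2
    obtain ⟨W', hW', hxW'⟩ : ∃ W' ∈ t V.1, (pullback.fst j g) x ∈ (W' : W.Opens) := by
      simpa [Opens.mem_iSup] using h2
    refine Opens.mem_iSup.2 ⟨eqv ⟨(V.1, W'), V.2, hW'⟩, ?_⟩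
    simp only [Equiv.symm_apply_apply]
    exact ⟨hxW', hxV⟩

end Groth.Agent.Lib.Helper19.QAffCover
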