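/-
Helper19 library: the functorial centre of orthogonal groups (points level).
Test elements `1 + ε X_{u,w}` over the dual numbers, their membership in `O`, `SO'`, `SO`
(Dickson condition via conjugation by `1 - ε ι u ι w` in the Clifford algebra), extraction of the
commutation relation, and the linear algebra "Λ² g = 1 ⟹ g scalar".
-/
import Groth.Prelude.Def_QuadGrp
import Mathlib.Algebra.DualNumber
import Mathlib.LinearAlgebra.Transvection.Basic
import Mathlib.LinearAlgebra.Dimension.Constructions
import Mathlib.LinearAlgebra.TensorProduct.Tower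
import Mathlib.LinearAlgebra.StdBasis
import Mathlib.Tactic.NoncommRing

set_option autoImplicit false
universe u v
open scoped TensorProduct
open QuadGrp CliffordAlgebra

namespace Groth.Agent.Lib.Helper19.QuadCentre

/-! ### Intrinsic test elements -/
section Intrinsic

variable {A : Type*} [CommRing A] {V : Type*} [AddCommGroup V] [Module A V] (Q : QuadraticForm A V)

/-- `X x = B(u,x) w − B(w,x) u`. -/
noncomputable def X (u w : V) : V →ₗ[A] V :=
  (QuadraticMap.polarBilin Q u).smulRight w - (QuadraticMap.polarBilin Q w).smulRight u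

theorem X_apply (u w x : V) :
    X Q u w x = QuadraticMap.polar Q u x • w - QuadraticMap.polar Q w x • u := by
  simp [X, QuadraticMap.polarBilin_apply_apply]

theorem polar_X (u w x : V) : QuadraticMap.polar Q x (X Q u w x) = 0 := by
  rw [X_apply, QuadraticMap.polar_sub_right, QuadraticMap.polar_smul_right,
    QuadraticMap.polar_smul_right, QuadraticMap.polar_comm Q x w, QuadraticMap.polar_comm Q x u,
    smul_eq_mul, smul_eq_mul]
  ring

variable (e : A) (he : e * e = 0)

include he in
theorem comp_aux (u w : V) :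
    (LinearMap.id + e • X Q u w) ∘ₗ (LinearMap.id - e • X Q u w) = LinearMap.id := by
  apply LinearMap.ext
  intro x
  simp only [LinearMap.comp_apply, LinearMap.add_apply, LinearMap.sub_apply, LinearMap.id_apply,
    LinearMap.smul_apply, map_sub, map_add, map_smul, smul_sub, smul_add, smul_smul, he, zero_smul,
    sub_zero, add_zero]
  abel

include he in
theorem comp_aux' (u w : V) :
    (LinearMap.id - e • X Q u w) ∘ₗ (LinearMap.id + e • X Q u w) = LinearMap.id := by
  apply LinearMap.ext
  intro x
  simp only [LinearMap.comp_apply, LinearMap.add_apply, LinearMap.sub_apply, LinearMap.id_apply,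
    LinearMap.smul_apply, map_sub, map_add, map_smul, smul_sub, smul_add, smul_smul, he, zero_smul,
    sub_zero, add_zero]
  abel

/-- The test element `1 + e X_{u,w}` for a square-zero `e`. -/
noncomputable def hEq (u w : V) : V ≃ₗ[A] V :=
  LinearEquiv.ofLinearMap (f := LinearMap.id + e • X Q u w) (g := LinearMap.id - e • X Q u w)
    (comp_aux Q e he u w) (comp_aux' Q e he u w)

theorem hEq_apply (u w x : V) : hEq Q e he u w x = x + e • X Q u w x := rfl

theorem hEq_mem_O (u w : V) : hEq Q e he u w ∈ O Q := by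
  intro x
  rw [hEq_apply, QuadraticMap.map_add Q, QuadraticMap.map_smul, he, zero_smul, add_zero,
    QuadraticMap.polar_smul_right, polar_X, smul_zero, add_zero]

theorem hEq_det [Module.Free A V] [Module.Finite A V] (u w : V) :
    LinearEquiv.det (hEq Q e he u w) = 1 := by
  rw [← Units.val_inj, LinearEquiv.coe_det, Units.val_one]
  have hcomp : ((hEq Q e he u w : V ≃ₗ[A] V) : V →ₗ[A] V) =
      (LinearMap.transvection (e • QuadraticMap.polarBilin Q u) w) ∘ₗ
        (LinearMap.transvection (-(e • QuadraticMap.polarBilin Q w)) u) := by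
    apply LinearMap.ext
    intro x
    have h2 : LinearMap.transvection (-(e • QuadraticMap.polarBilin Q w)) u x
        = x - (e * QuadraticMap.polar Q w x) • u := by
      rw [LinearMap.transvection.apply, LinearMap.neg_apply, LinearMap.smul_apply,
        QuadraticMap.polarBilin_apply_apply, smul_eq_mul, neg_smul, sub_eq_add_neg]
    have hz : e * (QuadraticMap.polar Q u x -
        e * QuadraticMap.polar Q w x * QuadraticMap.polar Q u u) = e * QuadraticMap.polar Q u x := by
      have : e * (QuadraticMap.polar Q u x -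
          e * QuadraticMap.polar Q w x * QuadraticMap.polar Q u u) = e * QuadraticMap.polar Q u x -
          (e * e) * (QuadraticMap.polar Q w x * QuadraticMap.polar Q u u) := by ring
      rw [this, he, zero_mul, sub_zero]
    rw [LinearMap.comp_apply, h2, LinearMap.transvection.apply, LinearMap.smul_apply,
      QuadraticMap.polarBilin_apply_apply, QuadraticMap.polar_sub_right,
      QuadraticMap.polar_smul_right, smul_eq_mul, smul_eq_mul, hz]
    rw [LinearEquiv.coe_coe, hEq_apply, X_apply, smul_sub, smul_smul, smul_smul]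
    abel
  rw [hcomp, LinearMap.det_comp, LinearMap.transvection.det, LinearMap.transvection.det]
  simp only [LinearMap.smul_apply, LinearMap.neg_apply, QuadraticMap.polarBilin_apply_apply,
    smul_eq_mul]
  rw [QuadraticMap.polar_comm Q w u]
  have : (1 + e * QuadraticMap.polar Q u w) * (1 + -(e * QuadraticMap.polar Q u w)) =
      1 - (e * e) * (QuadraticMap.polar Q u w * QuadraticMap.polar Q u w) := by ring
  rw [this, he, zero_mul, sub_zero]

end Intrinsic

/-! ### The Dickson condition for the test elements -/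
section Dickson

variable {A : Type*} [CommRing A] {V : Type*} [AddCommGroup V] [Module A V] (Q : QuadraticForm A V)

theorem one_sub_mul_one_add {S : Type*} [Ring S] (y : S) (hy : y * y = 0) :
    (1 - y) * (1 + y) = 1 := by
  rw [sub_mul, one_mul, mul_add, mul_one, hy, add_zero, add_sub_cancel_right]

theorem one_add_mul_one_sub {S : Type*} [Ring S] (y : S) (hy : y * y = 0) :
    (1 + y) * (1 - y) = 1 := by
  rw [add_mul, one_mul, mul_sub, mul_one, hy, sub_zero, sub_add_cancel]

theorem conj_expand {S : Type*} [Ring S] (y t : S) :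
    (1 - y) * t * (1 + y) = t + t * y - y * t - y * t * y := by
  noncomm_ring

/-- Conjugation by a unit as an algebra endomorphism. -/
def conjHom {S : Type*} [Ring S] [Algebra A S] (U : Sˣ) : S →ₐ[A] S where
  toFun x := U * x * ↑U⁻¹
  map_one' := by simp
  map_mul' x y := by simp [mul_assoc]
  map_zero' := by simp
  map_add' x y := by simp [mul_add, add_mul]
  commutes' r := by rw [← Algebra.commutes, mul_assoc, Units.mul_inv, mul_one]

theorem conjHom_apply {S : Type*} [Ring S] [Algebra A S] (U : Sˣ) (x : S) :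
    conjHom (A := A) U x = U * x * ↑U⁻¹ := rfl

theorem bracket (u w x : V) :
    ι Q x * (ι Q u * ι Q w) - (ι Q u * ι Q w) * ι Q x = ι Q (X Q u w x) := by
  have h1 := ι_mul_ι_add_swap (Q := Q) x u
  have h2 := ι_mul_ι_add_swap (Q := Q) x w
  have h3 : ι Q x * (ι Q u * ι Q w) - (ι Q u * ι Q w) * ι Q x =
      (ι Q x * ι Q u + ι Q u * ι Q x) * ι Q w - ι Q u * (ι Q x * ι Q w + ι Q w * ι Q x) := by
    noncomm_ring
  rw [h3, h1, h2, X_apply, map_sub, map_smul, map_smul, ← Algebra.commutes, ← Algebra.smul_def,
    ← Algebra.smul_def, QuadraticMap.polar_comm Q x u, QuadraticMap.polar_comm Q x w]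

variable (e : A) (he : e * e = 0)

theorem dickson (u w : V) (hh : hEq Q e he u w ∈ O Q) :
    IsDicksonTrivial Q (hEq Q e he u w) hh := by
  set P : CliffordAlgebra Q := ι Q u * ι Q w with hP
  have hPP : (e • P) * (e • P) = 0 := by rw [smul_mul_smul_comm, he, zero_smul]
  let U : (CliffordAlgebra Q)ˣ :=
    ⟨1 - e • P, 1 + e • P, one_sub_mul_one_add _ hPP, one_add_mul_one_sub _ hPP⟩
  have hmap : CliffordAlgebra.map (isometryOfMem Q (hEq Q e he u w) hh) = conjHom (A := A) U := by
    apply CliffordAlgebra.hom_ext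
    apply LinearMap.ext
    intro x
    rw [LinearMap.comp_apply, LinearMap.comp_apply, AlgHom.toLinearMap_apply,
      AlgHom.toLinearMap_apply, CliffordAlgebra.map_apply_ι, isometryOfMem_apply, conjHom_apply]
    show ι Q (hEq Q e he u w x) = (1 - e • P) * ι Q x * (1 + e • P)
    have h3 : (e • P) * ι Q x * (e • P) = 0 := by
      rw [smul_mul_assoc, smul_mul_assoc, mul_smul_comm, smul_smul, he, zero_smul]
    rw [conj_expand, h3, sub_zero, hEq_apply, map_add, map_smul, ← bracket, mul_smul_comm,
      smul_mul_assoc, smul_sub]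
    abel
  intro z hz
  rw [hmap, conjHom_apply]
  have hUeven : (U : CliffordAlgebra Q) ∈ CliffordAlgebra.even Q := by
    show (1 - e • P) ∈ _
    refine Subalgebra.sub_mem _ (Subalgebra.one_mem _) (Subalgebra.smul_mem _ ?_ e)
    rw [← Subalgebra.mem_toSubmodule, even_toSubmodule]
    exact ι_mul_ι_mem_evenOdd_zero Q u w
  have hc := (Subalgebra.mem_center_iff.mp hz) ⟨U, hUeven⟩
  have hc' : (U : CliffordAlgebra Q) * (z : CliffordAlgebra Q) = z * U := congrArg Subtype.val hc
  rw [hc', mul_assoc, Units.mul_inv, mul_one]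

end Dickson

/-! ### Base change -/
section BaseChange

variable {R : Type u} [CommRing R] {M : Type v} [AddCommGroup M] [Module R M] [Module.Free R M]
  (A : Type*) [CommRing A] [Algebra R A] (Q : QuadraticForm R M)

theorem bcForm_apply (x : A ⊗[R] M) :
    baseChangeForm A Q x = TensorProduct.AlgebraTensorModule.rid R A A (QuadGrp.baseChange A Q x) := rfl

theorem bcForm_one_tmul (y : M) :
    baseChangeForm A Q ((1 : A) ⊗ₜ[R] y) = algebraMap R A (Q y) := by
  rw [bcForm_apply, QuadGrp.baseChange_tmul, TensorProduct.AlgebraTensorModule.rid_tmul, mul_one,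
    Algebra.algebraMap_eq_smul_one]

theorem polar_bcForm (x y : M) :
    QuadraticMap.polar (baseChangeForm A Q) ((1 : A) ⊗ₜ[R] x) ((1 : A) ⊗ₜ[R] y) =
      algebraMap R A (QuadraticMap.polar Q x y) := by
  rw [QuadraticMap.polar, ← TensorProduct.tmul_add, bcForm_one_tmul, bcForm_one_tmul,
    bcForm_one_tmul, QuadraticMap.polar, map_sub, map_sub]

theorem mem_O_baseChange_iff (h : (A ⊗[R] M) ≃ₗ[A] (A ⊗[R] M)) :
    h ∈ O (QuadGrp.baseChange A Q) ↔ h ∈ O (baseChangeForm A Q) := by
  constructor
  · intro hh x
    rw [bcForm_apply, bcForm_apply, hh x]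
  · intro hh x
    exact (TensorProduct.AlgebraTensorModule.rid R A A).injective (hh x)

variable (e : A) (he : e * e = 0)

/-- The test element over `A` attached to `u w : M`. -/
noncomputable def testEq (u w : M) : (A ⊗[R] M) ≃ₗ[A] (A ⊗[R] M) :=
  hEq (baseChangeForm A Q) e he ((1 : A) ⊗ₜ[R] u) ((1 : A) ⊗ₜ[R] w)

theorem testEq_one_tmul (u w x : M) :
    testEq A Q e he u w ((1 : A) ⊗ₜ[R] x) = (1 : A) ⊗ₜ[R] x +
      e ⊗ₜ[R] (QuadraticMap.polar Q u x • w - QuadraticMap.polar Q w x • u) := by
  rw [testEq, hEq_apply, X_apply, polar_bcForm, polar_bcForm]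
  congr 1
  rw [algebraMap_smul, algebraMap_smul, ← TensorProduct.tmul_smul, ← TensorProduct.tmul_smul,
    ← TensorProduct.tmul_sub, TensorProduct.smul_tmul', smul_eq_mul, mul_one]

theorem testEq_mem_O (u w : M) : testEq A Q e he u w ∈ O (baseChangeForm A Q) :=
  hEq_mem_O _ e he _ _

theorem testEq_mem_orth (u w : M) : testEq A Q e he u w ∈ orth Q A :=
  (mem_O_baseChange_iff A Q _).mpr (testEq_mem_O A Q e he u w)

theorem testEq_det [Module.Finite R M] (u w : M) : LinearEquiv.det (testEq A Q e he u w) = 1 :=
  hEq_det _ e he _ _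

theorem testEq_mem_sorth' [Module.Finite R M] (u w : M) : testEq A Q e he u w ∈ sorth' Q A :=
  ⟨testEq_mem_orth A Q e he u w, testEq_det A Q e he u w⟩

theorem testEq_dickson (u w : M) :
    IsDicksonTrivial (baseChangeForm A Q) (testEq A Q e he u w) (testEq_mem_O A Q e he u w) :=
  dickson _ e he _ _ _

theorem testEq_mem_SOeven (u w : M) : testEq A Q e he u w ∈ SOeven (baseChangeForm A Q) :=
  ⟨testEq_mem_O A Q e he u w, testEq_dickson A Q e he u w⟩

end BaseChange

/-! ### Extraction of the commutation relation over the dual numbers -/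
section Extract

variable {R : Type u} [CommRing R] {M : Type v} [AddCommGroup M] [Module R M] [Module.Free R M]
  (Q : QuadraticForm R M)

open DualNumber

/-- The test element over the dual numbers. -/
noncomputable abbrev dualTest (u w : M) : (R[ε] ⊗[R] M) ≃ₗ[R[ε]] (R[ε] ⊗[R] M) :=
  testEq (R[ε]) Q (ε : R[ε]) eps_mul_eps u w

theorem extract (g : M ≃ₗ[R] M) (u w : M)
    (hc : g.baseChange R (R[ε]) M M * dualTest Q u w = dualTest Q u w * g.baseChange R (R[ε]) M M)
    (x : M) :
    g (QuadraticMap.polar Q u x • w - QuadraticMap.polar Q w x • u) =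
      QuadraticMap.polar Q u (g x) • w - QuadraticMap.polar Q w (g x) • u := by
  have h1 := congrArg (fun f => f ((1 : R[ε]) ⊗ₜ[R] x)) hc
  simp only [LinearEquiv.mul_apply] at h1
  rw [testEq_one_tmul, map_add, LinearEquiv.baseChange_tmul, LinearEquiv.baseChange_tmul,
    testEq_one_tmul] at h1
  have h2 := add_left_cancel h1
  let π : R[ε] ⊗[R] M →ₗ[R] M :=
    (TensorProduct.lid R M).toLinearMap ∘ₗ (TrivSqZeroExt.sndHom R R).rTensor M
  have hπ : ∀ m : M, π ((ε : R[ε]) ⊗ₜ[R] m) = m := by
    intro m
    simp [π, LinearMap.rTensor_tmul, TrivSqZeroExt.sndHom_apply, DualNumber.snd_eps]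
  have h3 := congrArg π h2
  rwa [hπ, hπ] at h3

end Extract

/-! ### Linear algebra: `Λ² g = 1 ⟹ g` scalar -/
section LinAlg

variable {R : Type u} [CommRing R] {n : ℕ}

theorem exists_ne_ne (hn : 3 ≤ n) (j k : Fin n) : ∃ i : Fin n, i ≠ j ∧ i ≠ k := by
  by_cases h0 : j.val ≠ 0 ∧ k.val ≠ 0
  · refine ⟨⟨0, by omega⟩, ?_, ?_⟩
    · intro h; exact h0.1 (by rw [← h])
    · intro h; exact h0.2 (by rw [← h])
  · by_cases h1 : j.val ≠ 1 ∧ k.val ≠ 1
    · refine ⟨⟨1, by omega⟩, ?_, ?_⟩
      · intro h; exact h1.1 (by rw [← h])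
      · intro h; exact h1.2 (by rw [← h])
    · refine ⟨⟨2, by omega⟩, ?_, ?_⟩
      · intro h
        have := congrArg Fin.val h
        simp only at this
        omega
      · intro h
        have := congrArg Fin.val h
        simp only at this
        omega

variable (Q : QuadraticForm R (Fin n → R)) (g : (Fin n → R) ≃ₗ[R] (Fin n → R))

/-- The `p`-th slice of `g u ∧ g w − u ∧ w`. -/
def dvec (p : Fin n) (u w : Fin n → R) : Fin n → R :=
  (g w) p • g u - (g u) p • g w - w p • u + u p • w

theorem polar_map {M : Type*} [AddCommGroup M] [Module R M] (Q : QuadraticForm R M)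
    (g : M ≃ₗ[R] M) (hg : g ∈ O Q) (x y : M) :
    QuadraticMap.polar Q (g x) (g y) = QuadraticMap.polar Q x y := by
  rw [QuadraticMap.polar, ← map_add, hg (x + y), hg x, hg y, QuadraticMap.polar]

theorem polar_dvec (hg : g ∈ O Q)
    (hE : ∀ u w x, g (QuadraticMap.polar Q u x • w - QuadraticMap.polar Q w x • u) =
      QuadraticMap.polar Q u (g x) • w - QuadraticMap.polar Q w (g x) • u)
    (p : Fin n) (u w x : Fin n → R) : QuadraticMap.polar Q (dvec g p u w) x = 0 := by
  have hE' : QuadraticMap.polar Q (g u) x • g w - QuadraticMap.polar Q (g w) x • g u =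
      QuadraticMap.polar Q u x • w - QuadraticMap.polar Q w x • u := by
    have := hE u w (g.symm x)
    rw [map_sub, map_smul, map_smul, LinearEquiv.apply_symm_apply] at this
    rw [← this, ← polar_map Q g hg u (g.symm x), ← polar_map Q g hg w (g.symm x),
      LinearEquiv.apply_symm_apply]
  have hp := congrFun hE' p
  simp only [Pi.sub_apply, Pi.smul_apply, smul_eq_mul] at hp
  rw [dvec, QuadraticMap.polar_add_left, QuadraticMap.polar_sub_left, QuadraticMap.polar_sub_left,
    QuadraticMap.polar_smul_left, QuadraticMap.polar_smul_left, QuadraticMap.polar_smul_left,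
    QuadraticMap.polar_smul_left]
  simp only [smul_eq_mul]
  linear_combination hp

theorem eq_zero_of_regular {M : Type*} [AddCommGroup M] [Module R M] (Q : QuadraticForm R M)
    (hQ : IsRegular Q) (y : M) (h : ∀ x, QuadraticMap.polar Q y x = 0) : y = 0 := by
  apply hQ.1
  rw [map_zero]
  apply LinearMap.ext
  intro x
  rw [QuadraticMap.polarBilin_apply_apply, h]
  rfl

theorem scalar_of_dvec_zero (hn : 3 ≤ n) (hd : ∀ p u w, dvec g p u w = 0) :
    ∃ c : R, c * c = 1 ∧ ∀ v, g v = c • v := by
  classical
  set E : Fin n → Fin n → R := fun j => Pi.single j (1 : R) with hE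
  set G : Fin n → Fin n → R := fun q j => g (E j) q with hG
  have M2 : ∀ p q j l : Fin n,
      G p l * G q j - G p j * G q l - E l p * E j q + E j p * E l q = 0 := by
    intro p q j l
    have := congrFun (hd p (E j) (E l)) q
    simpa [dvec, G] using this
  have Esame : ∀ j : Fin n, E j j = 1 := fun j => Pi.single_eq_same j 1
  have Ene : ∀ j q : Fin n, q ≠ j → E j q = 0 := fun j q h => Pi.single_eq_of_ne h 1
  -- off-diagonal entries vanish
  have hoff : ∀ k j : Fin n, k ≠ j → G k j = 0 := by
    intro k j hkj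
    obtain ⟨l, hlj, hlk⟩ := exists_ne_ne hn j k
    have h1 := M2 l k j l
    have h2 := M2 j k j l
    have h3 := M2 j l j l
    rw [Esame l, Ene j k hkj, Ene j l hlj, mul_zero, zero_mul, sub_zero, add_zero] at h1
    rw [Ene l j hlj.symm, Esame j, Ene l k (Ne.symm hlk), zero_mul, mul_zero, sub_zero,
      add_zero] at h2
    rw [Ene l j hlj.symm, Ene j l hlj, Esame j, Esame l, zero_mul, sub_zero, mul_one] at h3
    linear_combination G j j * h1 - G l j * h2 + G k j * h3
  have hdiag : ∀ j l : Fin n, j ≠ l → G j j * G l l = 1 := by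
    intro j l hjl
    have h3 := M2 j l j l
    rw [Ene l j hjl, Ene j l hjl.symm, Esame j, Esame l, zero_mul, sub_zero, mul_one,
      hoff j l hjl, zero_mul, zero_sub] at h3
    linear_combination -h3
  have heq : ∀ j k : Fin n, G j j = G k k := by
    intro j k
    by_cases hjk : j = k
    · rw [hjk]
    obtain ⟨l, hlj, hlk⟩ := exists_ne_ne hn j k
    have h_jl := hdiag j l hlj.symm
    have h_kl := hdiag k l hlk.symm
    linear_combination (-G j j) * h_kl + G k k * h_jl
  let j0 : Fin n := ⟨0, by omega⟩
  let j1 : Fin n := ⟨1, by omega⟩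
  have h01 : j0 ≠ j1 := by
    intro h
    have := congrArg Fin.val h
    simp [j0, j1] at this
  refine ⟨G j0 j0, ?_, ?_⟩
  · have := hdiag j0 j1 h01
    rwa [heq j1 j0] at this
  · have hb : (g : (Fin n → R) →ₗ[R] (Fin n → R)) = G j0 j0 • LinearMap.id := by
      apply (Pi.basisFun R (Fin n)).ext
      intro j
      rw [Pi.basisFun_apply, LinearMap.smul_apply, LinearMap.id_apply]
      funext q
      show G q j = G j0 j0 * E j q
      by_cases hqj : q = j
      · rw [hqj, Esame, mul_one, heq j j0]
      · rw [Ene j q hqj, mul_zero, hoff q j hqj]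
    intro v
    have := congrArg (fun f => f v) hb
    simpa using this

end LinAlg

/-! ### The easy direction -/
section Easy

variable {R : Type u} [CommRing R] {M : Type v} [AddCommGroup M] [Module R M]

theorem comm_of_scalar (g : M ≃ₗ[R] M) (c : R) (hc : ∀ v, g v = c • v)
    (A : Type*) [CommRing A] [Algebra R A] (h : (A ⊗[R] M) ≃ₗ[A] (A ⊗[R] M)) :
    g.baseChange R A M M * h = h * g.baseChange R A M M := by
  have key : ∀ y : A ⊗[R] M, g.baseChange R A M M y = c • y := by
    intro y
    induction y using TensorProduct.induction_on with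
    | zero => simp
    | tmul a m => rw [LinearEquiv.baseChange_tmul, hc, TensorProduct.tmul_smul]
    | add y z hy hz => rw [map_add, hy, hz, smul_add]
  apply LinearEquiv.ext
  intro y
  rw [LinearEquiv.mul_apply, LinearEquiv.mul_apply, key, key, ← algebraMap_smul A c y, map_smul,
    algebraMap_smul]

end Easy

end Groth.Agent.Lib.Helper19.QuadCentre
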