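/-
Helper19 library: glue between `QuadCentre` (test elements, linear algebra) and `HalfDisc2`
(semiregular forms of odd rank): a non-degenerate form on `R^n`, `n ≥ 3`, and an isometry commuting
with all Lie-algebra test elements is a scalar of square one.
-/
import Groth.Agent.Lib.Helper19.QuadCentre
import Groth.Agent.Lib.Helper19.HalfDisc2

set_option autoImplicit false
universe u
open QuadGrp

namespace Groth.Agent.Lib.Helper19.QuadCentre

open Groth.Agent.Lib.Helper19.HalfDisc

variable {R : Type u} [CommRing R] {n : ℕ}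

theorem pm_mulVec_eq_polar (Q : QuadraticForm R (Fin n → R)) (y : Fin n → R) (j : Fin n) :
    (pm (coeffs (Pi.basisFun R (Fin n)) (LinearEquiv.refl R R) Q)).mulVec y j =
      QuadraticMap.polar Q (Pi.single j 1) y := by
  have hy : y = ∑ l, y l • (Pi.basisFun R (Fin n)) l := by
    have := ((Pi.basisFun R (Fin n)).sum_repr y).symm
    simpa using this
  rw [← toMatrix₂_polarBilin, Matrix.mulVec, dotProduct, ← Pi.basisFun_apply,
    ← QuadraticMap.polarBilin_apply_apply]
  conv_rhs => rw [hy]
  rw [map_sum]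
  apply Finset.sum_congr rfl
  intro l _
  rw [map_smul, LinearMap.toMatrix₂_apply, smul_eq_mul, mul_comm]

theorem dvec_eq_zero_of_isNondeg (Q : QuadraticForm R (Fin n → R))
    (hQ : IsNondeg (Pi.basisFun R (Fin n)) (LinearEquiv.refl R R) Q)
    (g : (Fin n → R) ≃ₗ[R] (Fin n → R)) (hg : g ∈ O Q)
    (hE : ∀ u w x, g (QuadraticMap.polar Q u x • w - QuadraticMap.polar Q w x • u) =
      QuadraticMap.polar Q u (g x) • w - QuadraticMap.polar Q w (g x) • u) :
    ∀ p u w, dvec g p u w = 0 := by
  intro p u w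
  rcases Nat.even_or_odd n with he | ho
  · exact eq_zero_of_regular Q (hQ.1 he) _ (polar_dvec Q g hg hE p u w)
  · have hu : IsUnit (hd (coeffs (Pi.basisFun R (Fin n)) (LinearEquiv.refl R R) Q)) := hQ.2 ho
    obtain ⟨m, rfl⟩ := ho
    refine alt_family_eq_zero (k := 2 * m) ⟨m, rfl⟩ _ hu (fun p => dvec g p u w) ?_ ?_ ?_ p
    · intro p
      funext j
      rw [pm_mulVec_eq_polar, QuadraticMap.polar_comm, polar_dvec Q g hg hE]
      rfl
    · intro p
      simp only [dvec, Pi.add_apply, Pi.sub_apply, Pi.smul_apply, smul_eq_mul]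
      ring
    · intro p q
      simp only [dvec, Pi.add_apply, Pi.sub_apply, Pi.smul_apply, smul_eq_mul]
      ring

theorem scalar_of_comm (hn : 3 ≤ n) (Q : QuadraticForm R (Fin n → R))
    (hQ : IsNondeg (Pi.basisFun R (Fin n)) (LinearEquiv.refl R R) Q)
    (g : (Fin n → R) ≃ₗ[R] (Fin n → R)) (hg : g ∈ O Q)
    (hc : ∀ u w, g.baseChange R (DualNumber R) (Fin n → R) (Fin n → R) * dualTest Q u w =
      dualTest Q u w * g.baseChange R (DualNumber R) (Fin n → R) (Fin n → R)) :
    ∃ c : R, c * c = 1 ∧ ∀ v, g v = c • v :=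
  scalar_of_dvec_zero g hn
    (dvec_eq_zero_of_isNondeg Q hQ g hg (fun u w x => extract Q g u w (hc u w) x))

end Groth.Agent.Lib.Helper19.QuadCentre
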