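import Mathlib

/-!
# Hopf algebras whose augmentation ideal is free of rank one (helper19)

`x² = a x`, `Δ x = x ⊗ 1 + 1 ⊗ x + b x ⊗ x`, `a b = -2`.
-/

set_option autoImplicit false
universe u v

open TensorProduct

namespace Groth.Agent.Lib.Helper19.RankTwo

variable {R : Type u} [CommRing R] {A : Type v} [CommRing A] [HopfAlgebra R A]

theorem main (x : A) (hx : Coalgebra.counit (R := R) x = 0)
    (hgen : ∀ f : A, Coalgebra.counit (R := R) f = 0 → ∃ r : R, f = r • x)
    (hfree : ∀ r : R, r • x = 0 → r = 0) :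
    ∃ a b : R, x * x = a • x ∧
      Coalgebra.comul (R := R) x = x ⊗ₜ[R] 1 + 1 ⊗ₜ[R] x + b • (x ⊗ₜ[R] x) ∧ a * b = -2 := by
  classical
  have hsub : ∀ f : A, Coalgebra.counit (R := R)
      (f - algebraMap R A (Coalgebra.counit (R := R) f)) = 0 := by
    intro f
    rw [map_sub, Bialgebra.counit_algebraMap, sub_self]
  choose c hc using fun f => hgen (f - algebraMap R A (Coalgebra.counit (R := R) f)) (hsub f)
  have hinj : ∀ r s : R, r • x = s • x → r = s := by
    intro r s h
    have h1 : (r - s) • x = 0 := by rw [sub_smul, h, sub_self]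
    exact sub_eq_zero.1 (hfree _ h1)
  have hc_add : ∀ f g : A, c (f + g) = c f + c g := by
    intro f g
    apply hinj
    rw [add_smul, ← hc, ← hc, ← hc, map_add, map_add]
    abel
  have hc_smul : ∀ (r : R) (f : A), c (r • f) = r • c f := by
    intro r f
    apply hinj
    rw [smul_assoc, ← hc, ← hc, map_smul, smul_sub, smul_eq_mul, map_mul, ← Algebra.smul_def]
  obtain ⟨cl, hcl⟩ : ∃ cl : A →ₗ[R] R, ∀ f, cl f = c f :=
    ⟨{ toFun := c, map_add' := hc_add, map_smul' := hc_smul }, fun _ => rfl⟩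
  have hc1 : c 1 = 0 := by
    apply hinj
    rw [← hc, Bialgebra.counit_one, map_one, sub_self, zero_smul]
  have hcx : c x = 1 := by
    apply hinj
    rw [← hc, hx, map_zero, sub_zero, one_smul]
  -- a
  obtain ⟨a, ha⟩ := hgen (x * x) (by rw [Bialgebra.counit_mul, hx, zero_mul])
  -- the projection
  obtain ⟨e, he⟩ : ∃ e : A →ₗ[R] A, e = Algebra.linearMap R A ∘ₗ Coalgebra.counit (R := R) :=
    ⟨_, rfl⟩
  have he_apply : ∀ f : A, e f = algebraMap R A (Coalgebra.counit (R := R) f) := by
    intro f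
    rw [he]
    rfl
  obtain ⟨π, hπ⟩ : ∃ π : A →ₗ[R] A, π = LinearMap.id - e := ⟨_, rfl⟩
  have hπ_apply : ∀ f : A, π f = c f • x := by
    intro f
    rw [hπ, LinearMap.sub_apply, LinearMap.id_apply, he_apply, hc]
  have L1 : ∀ t : A ⊗[R] A, TensorProduct.map π π t =
      (LinearMap.mul' R R (TensorProduct.map cl cl t)) • (x ⊗ₜ[R] x) := by
    intro t
    induction t using TensorProduct.induction_on with
    | zero => simp only [map_zero, zero_smul]
    | tmul f g =>
      rw [TensorProduct.map_tmul, TensorProduct.map_tmul, LinearMap.mul'_apply, hπ_apply,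
        hπ_apply, TensorProduct.smul_tmul_smul, hcl, hcl]
    | add t₁ t₂ h₁ h₂ => rw [map_add, map_add, map_add, h₁, h₂, add_smul]
  have L2 : ∀ t : A ⊗[R] A, TensorProduct.map π π t =
      t - TensorProduct.map e LinearMap.id t - TensorProduct.map LinearMap.id e t +
        TensorProduct.map e e t := by
    intro t
    induction t using TensorProduct.induction_on with
    | zero => simp only [map_zero, sub_zero, add_zero]
    | tmul f g =>
      rw [TensorProduct.map_tmul, TensorProduct.map_tmul, TensorProduct.map_tmul,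
        TensorProduct.map_tmul, hπ, LinearMap.sub_apply, LinearMap.sub_apply,
        LinearMap.id_apply, LinearMap.id_apply, TensorProduct.sub_tmul, TensorProduct.tmul_sub,
        TensorProduct.tmul_sub]
      abel
    | add t₁ t₂ h₁ h₂ =>
      rw [map_add, map_add, map_add, map_add, h₁, h₂]
      abel
  have he1 : TensorProduct.map e LinearMap.id =
      (TensorProduct.map (Algebra.linearMap R A) LinearMap.id) ∘ₗ
        ((Coalgebra.counit (R := R) (A := A)).rTensor A) := by
    apply TensorProduct.ext'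
    intro f g
    rw [he]
    rfl
  have he2 : TensorProduct.map LinearMap.id e =
      (TensorProduct.map LinearMap.id (Algebra.linearMap R A)) ∘ₗ
        ((Coalgebra.counit (R := R) (A := A)).lTensor A) := by
    apply TensorProduct.ext'
    intro f g
    rw [he]
    rfl
  have L3 : TensorProduct.map e LinearMap.id (Coalgebra.comul (R := R) x) = (1 : A) ⊗ₜ[R] x := by
    rw [he1, LinearMap.comp_apply, Coalgebra.rTensor_counit_comul, TensorProduct.map_tmul,
      Algebra.linearMap_apply, map_one, LinearMap.id_apply]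
  have L4 : TensorProduct.map LinearMap.id e (Coalgebra.comul (R := R) x) = x ⊗ₜ[R] (1 : A) := by
    rw [he2, LinearMap.comp_apply, Coalgebra.lTensor_counit_comul, TensorProduct.map_tmul,
      Algebra.linearMap_apply, map_one, LinearMap.id_apply]
  have L5 : TensorProduct.map e e (Coalgebra.comul (R := R) x) = 0 := by
    have h1 : TensorProduct.map e e =
        TensorProduct.map e LinearMap.id ∘ₗ TensorProduct.map LinearMap.id e := by
      rw [← TensorProduct.map_comp, LinearMap.comp_id, LinearMap.id_comp]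
    rw [h1, LinearMap.comp_apply, L4, TensorProduct.map_tmul, he_apply, hx, map_zero,
      TensorProduct.zero_tmul]
  obtain ⟨b, hb⟩ : ∃ b : R, b = LinearMap.mul' R R
      (TensorProduct.map cl cl (Coalgebra.comul (R := R) x)) := ⟨_, rfl⟩
  have hΔ : Coalgebra.comul (R := R) x = x ⊗ₜ[R] 1 + 1 ⊗ₜ[R] x + b • (x ⊗ₜ[R] x) := by
    have h1 := L1 (Coalgebra.comul (R := R) x)
    rw [L2, L3, L4, L5, add_zero, ← hb] at h1
    rw [← h1]
    abel
  refine ⟨a, b, ha, hΔ, ?_⟩
  -- the functional `coefficient of x ⊗ x`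
  obtain ⟨φ, hφ⟩ : ∃ φ : A ⊗[R] A →ₗ[R] R,
      φ = LinearMap.mul' R R ∘ₗ TensorProduct.map cl cl := ⟨_, rfl⟩
  have hφ_tmul : ∀ f g : A, φ (f ⊗ₜ[R] g) = c f * c g := by
    intro f g
    rw [hφ, LinearMap.comp_apply, TensorProduct.map_tmul, LinearMap.mul'_apply, hcl, hcl]
  have hφΔ : φ (Coalgebra.comul (R := R) x) = b := by
    rw [hb, hφ]
    rfl
  -- relation (i)
  have hmul : a • Coalgebra.comul (R := R) x =
      Coalgebra.comul (R := R) x * Coalgebra.comul (R := R) x := by
    rw [← Bialgebra.comul_mul, ha, map_smul]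
  obtain ⟨X, hX⟩ : ∃ X : A ⊗[R] A, X = x ⊗ₜ[R] 1 := ⟨_, rfl⟩
  obtain ⟨Y, hY⟩ : ∃ Y : A ⊗[R] A, Y = 1 ⊗ₜ[R] x := ⟨_, rfl⟩
  have hXY : X * Y = x ⊗ₜ[R] x := by
    rw [hX, hY, Algebra.TensorProduct.tmul_mul_tmul, mul_one, one_mul]
  have hXX : X * X = algebraMap R (A ⊗[R] A) a * X := by
    rw [hX, Algebra.TensorProduct.tmul_mul_tmul, mul_one, ha, ← Algebra.smul_def,
      TensorProduct.smul_tmul']
  have hYY : Y * Y = algebraMap R (A ⊗[R] A) a * Y := by
    rw [hY, Algebra.TensorProduct.tmul_mul_tmul, mul_one, ha, ← Algebra.smul_def,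
      TensorProduct.tmul_smul]
  have hΔ' : Coalgebra.comul (R := R) x = X + Y + algebraMap R (A ⊗[R] A) b * (X * Y) := by
    rw [hΔ, hXY, ← Algebra.smul_def, hX, hY]
  have hsq : Coalgebra.comul (R := R) x * Coalgebra.comul (R := R) x =
      algebraMap R (A ⊗[R] A) a * X + algebraMap R (A ⊗[R] A) a * Y +
        algebraMap R (A ⊗[R] A) (b ^ 2 * a ^ 2 + 2 + 4 * a * b) * (X * Y) := by
    rw [hΔ']
    simp only [map_add, map_mul, map_pow, map_ofNat]
    linear_combination (1 + (algebraMap R (A ⊗[R] A) b) ^ 2 * (Y * Y) +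
        2 * algebraMap R (A ⊗[R] A) b * Y) * hXX +
      (1 + (algebraMap R (A ⊗[R] A) b) ^ 2 * (algebraMap R (A ⊗[R] A) a * X) +
        2 * algebraMap R (A ⊗[R] A) b * X) * hYY
  have hrel1 : a * b = b ^ 2 * a ^ 2 + 2 + 4 * a * b := by
    have h1 := congrArg φ (hmul.trans hsq)
    rw [map_smul, hφΔ, map_add, map_add, ← Algebra.smul_def, ← Algebra.smul_def,
      ← Algebra.smul_def, map_smul, map_smul, map_smul, hXY, hX, hY, hφ_tmul, hφ_tmul, hφ_tmul,
      hc1, hcx] at h1
    simp only [smul_eq_mul, mul_zero, mul_one, zero_mul, add_zero, zero_add] at h1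
    exact h1
  -- relation (ii)
  obtain ⟨s, hs⟩ := hgen (HopfAlgebra.antipode R x)
    (by rw [HopfAlgebra.counit_antipode]; exact hx)
  have hrel2 : s + 1 + b * s * a = 0 := by
    apply hfree
    have h1 := HopfAlgebra.mul_antipode_rTensor_comul_apply (R := R) x
    rw [hΔ] at h1
    simp only [map_add, map_smul, LinearMap.rTensor_tmul, LinearMap.mul'_apply,
      HopfAlgebra.antipode_one, mul_one, one_mul] at h1
    rw [hs, hx, map_zero, smul_mul_assoc, ha] at h1
    rw [add_smul, add_smul, one_smul, mul_smul, mul_smul]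
    exact h1
  linear_combination (a * b + 2) * hrel2 + s * hrel1

end Groth.Agent.Lib.Helper19.RankTwo
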