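import Mathlib
import Groth.Prelude.Def_PLie
import Groth.Agent.Lib.Helper29.RestrictedEnv
import Groth.Agent.Lib.Helper19.PrimHopf

/-!
# The restricted enveloping algebra as a Hopf algebra (helper19)

Built on helper29's `RestrictedEnv` (restricted PBW): for a finite-dimensional restricted Lie
algebra `(L, φ)` over a field of characteristic `p`, the quotient `u(L) = U(L)/J` is a
finite-dimensional cocommutative Hopf algebra of dimension at most `p ^ dim L`, generated by the
primitive elements `j x`, `x ∈ L`, with `j` injective, `j [x,y] = [j x, j y]`, `j (φ x) = (j x)^p`.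
-/

set_option autoImplicit false
universe u v

open TensorProduct

namespace Groth.Agent.Lib.Helper19.RestrHopf

open PLie
open Groth.Agent.Lib.Helper29
open Groth.Agent.Lib.Helper29.PBWRing
open Groth.Agent.Lib.Helper29.JacobsonThm
open Groth.Agent.Lib.Helper29.RestrictedEnv
open Groth.Agent.Lib.Helper19.PrimHopf

attribute [local instance 100] LieRing.ofAssociativeRing

section LieHoms

variable {k : Type u} [CommRing k] {L : Type v} [LieRing L] [LieAlgebra k L]
variable {B : Type*} [Ring B] [Algebra k B]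

/-- `x ↦ g x ⊗ 1 + 1 ⊗ g x` -/
noncomputable def primLie (g : L →ₗ⁅k⁆ B) : L →ₗ⁅k⁆ B ⊗[k] B :=
  { toLinearMap := (TensorProduct.mk k B B).flip 1 ∘ₗ (g : L →ₗ[k] B) +
      (TensorProduct.mk k B B 1) ∘ₗ (g : L →ₗ[k] B)
    map_lie' := by
      intro x z
      show g ⁅x, z⁆ ⊗ₜ[k] (1 : B) + (1 : B) ⊗ₜ[k] g ⁅x, z⁆ =
        ⁅g x ⊗ₜ[k] (1 : B) + (1 : B) ⊗ₜ[k] g x, g z ⊗ₜ[k] (1 : B) + (1 : B) ⊗ₜ[k] g z⁆
      rw [LieHom.map_lie, Ring.lie_def, Ring.lie_def]
      simp only [mul_add, add_mul, Algebra.TensorProduct.tmul_mul_tmul, mul_one, one_mul,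
        TensorProduct.sub_tmul, TensorProduct.tmul_sub]
      abel }

lemma primLie_apply (g : L →ₗ⁅k⁆ B) (x : L) :
    primLie g x = g x ⊗ₜ[k] (1 : B) + (1 : B) ⊗ₜ[k] g x := rfl

/-- `x ↦ op (- g x)` -/
noncomputable def negOpLie (g : L →ₗ⁅k⁆ B) : L →ₗ⁅k⁆ Bᵐᵒᵖ :=
  { toLinearMap := (MulOpposite.opLinearEquiv k).toLinearMap ∘ₗ (-(g : L →ₗ[k] B))
    map_lie' := by
      intro x z
      show MulOpposite.op (-(g ⁅x, z⁆)) = ⁅MulOpposite.op (-(g x)), MulOpposite.op (-(g z))⁆
      rw [LieHom.map_lie, Ring.lie_def, Ring.lie_def, ← MulOpposite.op_mul, ← MulOpposite.op_mul,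
        ← MulOpposite.op_sub]
      congr 1
      rw [neg_mul_neg, neg_mul_neg, neg_sub] }

lemma negOpLie_apply (g : L →ₗ⁅k⁆ B) (x : L) : negOpLie g x = MulOpposite.op (-(g x)) := rfl

end LieHoms

section Main

variable {k : Type u} [Field k] (p : ℕ) [hp : Fact p.Prime] [CharP k p]
variable {L : Type v} [LieRing L] [LieAlgebra k L] {d : ℕ} (b : Module.Basis (Fin d) k L)
  (y : Fin d → L)

lemma lift_eq_zero_of_mem_J {B : Type*} [Ring B] [Algebra k B] (g : L →ₗ⁅k⁆ B)
    (hg : ∀ i, g (b i) ^ p = g (y i)) (a : UniversalEnvelopingAlgebra k L) (ha : a ∈ J p b y) :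
    UniversalEnvelopingAlgebra.lift k g a = 0 := by
  have ha' : a ∈ Submodule.span (UniversalEnvelopingAlgebra k L) (Set.range (zc k p b y)) := ha
  clear ha
  induction ha' using Submodule.span_induction with
  | mem x hx =>
    obtain ⟨i, rfl⟩ := hx
    unfold zc
    rw [map_sub, map_pow, UniversalEnvelopingAlgebra.lift_ι_apply,
      UniversalEnvelopingAlgebra.lift_ι_apply, hg i, sub_self]
  | zero => exact map_zero _
  | add x x' _ _ hx hx' => rw [map_add, hx, hx', add_zero]
  | smul c x _ hx => rw [smul_eq_mul, map_mul, hx, mul_zero]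

lemma isTwoSided (hy : ∀ i : Fin d, LieAlgebra.ad k L (b i) ^ p = LieAlgebra.ad k L (y i)) :
    (J p b y).IsTwoSided :=
  ⟨fun {a} c ha => J_mul_right p b y hy a ha c⟩

section Quot

variable [(J p b y).IsTwoSided]

/-- the canonical map `L → u(L)` -/
noncomputable def jH : L →ₗ⁅k⁆ (UniversalEnvelopingAlgebra k L ⧸ J p b y) :=
  ((Ideal.Quotient.mkₐ k (J p b y)).toLieHom).comp (UniversalEnvelopingAlgebra.ι k)

lemma jH_apply (x : L) :
    jH p b y x = Ideal.Quotient.mk (J p b y) (UniversalEnvelopingAlgebra.ι k x) := rfl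

lemma jH_pow (i : Fin d) : jH p b y (b i) ^ p = jH p b y (y i) := by
  rw [jH_apply, jH_apply, ← map_pow, ← sub_eq_zero, ← map_sub]
  exact Ideal.Quotient.eq_zero_iff_mem.2 (zc_mem_J p b y i)

/-- algebra maps out of `u(L)` -/
noncomputable def liftH {B : Type*} [Ring B] [Algebra k B] (g : L →ₗ⁅k⁆ B)
    (hg : ∀ i, g (b i) ^ p = g (y i)) : (UniversalEnvelopingAlgebra k L ⧸ J p b y) →ₐ[k] B :=
  Ideal.Quotient.liftₐ (J p b y) (UniversalEnvelopingAlgebra.lift k g)
    (lift_eq_zero_of_mem_J p b y g hg)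

lemma liftH_jH {B : Type*} [Ring B] [Algebra k B] (g : L →ₗ⁅k⁆ B)
    (hg : ∀ i, g (b i) ^ p = g (y i)) (x : L) : liftH p b y g hg (jH p b y x) = g x := by
  rw [jH_apply]
  exact UniversalEnvelopingAlgebra.lift_ι_apply k g x

/-- the comultiplication of `u(L)` -/
noncomputable def ΔH : (UniversalEnvelopingAlgebra k L ⧸ J p b y) →ₐ[k]
    (UniversalEnvelopingAlgebra k L ⧸ J p b y) ⊗[k] (UniversalEnvelopingAlgebra k L ⧸ J p b y) :=
  liftH p b y (primLie (jH p b y)) (by
    intro i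
    rw [primLie_apply, primLie_apply, prim_pow_p k p, jH_pow p b y i])

/-- the counit of `u(L)` -/
noncomputable def εH : (UniversalEnvelopingAlgebra k L ⧸ J p b y) →ₐ[k] k :=
  liftH p b y (0 : L →ₗ⁅k⁆ k) (by
    intro i
    rw [LieHom.zero_apply, LieHom.zero_apply, zero_pow hp.out.ne_zero])

/-- the antipode of `u(L)` -/
noncomputable def SH : (UniversalEnvelopingAlgebra k L ⧸ J p b y) →ₐ[k]
    (UniversalEnvelopingAlgebra k L ⧸ J p b y)ᵐᵒᵖ :=
  liftH p b y (negOpLie (jH p b y)) (by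
    intro i
    rw [negOpLie_apply, negOpLie_apply, ← MulOpposite.op_pow, neg_pow_p k p, jH_pow p b y i])

lemma adjoin_range_jH : Algebra.adjoin k (Set.range (jH p b y)) = ⊤ := by
  rw [eq_top_iff]
  rintro h -
  obtain ⟨u, rfl⟩ := Ideal.Quotient.mk_surjective h
  refine PBWRing.U_induction (C := fun u => Ideal.Quotient.mk (J p b y) u ∈
    Algebra.adjoin k (Set.range (jH p b y))) ?_ ?_ ?_ ?_ u
  · intro r
    exact Subalgebra.algebraMap_mem _ r
  · intro x
    exact Algebra.subset_adjoin ⟨x, rfl⟩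
  · intro a c ha hc
    show Ideal.Quotient.mk (J p b y) (a * c) ∈ _
    rw [map_mul]
    exact Subalgebra.mul_mem _ ha hc
  · intro a c ha hc
    show Ideal.Quotient.mk (J p b y) (a + c) ∈ _
    rw [map_add]
    exact Subalgebra.add_mem _ ha hc

lemma ΔH_mem : ∀ x ∈ Set.range (jH p b y), ΔH p b y x =
    x ⊗ₜ[k] (1 : UniversalEnvelopingAlgebra k L ⧸ J p b y) +
      (1 : UniversalEnvelopingAlgebra k L ⧸ J p b y) ⊗ₜ[k] x := by
  rintro _ ⟨l, rfl⟩
  exact liftH_jH p b y _ _ l

lemma εH_mem : ∀ x ∈ Set.range (jH p b y), εH p b y x = 0 := by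
  rintro _ ⟨l, rfl⟩
  exact liftH_jH p b y _ _ l

lemma SH_mem : ∀ x ∈ Set.range (jH p b y), SH p b y x = MulOpposite.op (-x) := by
  rintro _ ⟨l, rfl⟩
  exact liftH_jH p b y _ _ l

/-- the Hopf algebra structure on `u(L)` -/
@[reducible] noncomputable def hopfH : HopfAlgebra k (UniversalEnvelopingAlgebra k L ⧸ J p b y) :=
  PrimHopf.hopf (Set.range (jH p b y)) (adjoin_range_jH p b y) (ΔH p b y) (ΔH_mem p b y)
    (εH p b y) (εH_mem p b y) (SH p b y) (SH_mem p b y)

lemma span_small (hy : ∀ i : Fin d, LieAlgebra.ad k L (b i) ^ p = LieAlgebra.ad k L (y i)) :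
    Submodule.span k (Set.range fun α : Fin d → Fin p =>
      Ideal.Quotient.mk (J p b y) (V p b y (fun i => (α i : ℕ)))) = ⊤ := by
  rw [eq_top_iff]
  rintro m -
  obtain ⟨u, rfl⟩ := Ideal.Quotient.mk_surjective m
  have hu : u ∈ Submodule.span k (Set.range (V p b y)) := by rw [V_span]; trivial
  induction hu using Submodule.span_induction with
  | mem x hx =>
    obtain ⟨a, rfl⟩ := hx
    by_cases ha : a ∈ Small p
    · refine Submodule.subset_span ⟨fun i => ⟨a i, ha i⟩, ?_⟩
      rfl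
    · have e : Ideal.Quotient.mk (J p b y) (V p b y a) = 0 :=
        Ideal.Quotient.eq_zero_iff_mem.2 (V_mem_J_of_big p b y hy a (big_of_not_small ha))
      rw [e]
      exact Submodule.zero_mem _
  | zero => rw [map_zero]; exact Submodule.zero_mem _
  | add x x' _ _ hx hx' => rw [map_add]; exact Submodule.add_mem _ hx hx'
  | smul c x _ hx =>
    have e : Ideal.Quotient.mk (J p b y) (c • x) = c • Ideal.Quotient.mk (J p b y) x :=
      map_smul (Ideal.Quotient.mkₐ k (J p b y)) c x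
    rw [e]
    exact Submodule.smul_mem _ c hx

end Quot

end Main

section Final

open Module

theorem exists_restricted_hopf (k : Type u) [Field k] (p : ℕ) [hp : Fact p.Prime] [CharP k p]
    (L : Type u) [LieRing L] [LieAlgebra k L] [Module.Finite k L] (φ : PMap k p L) :
    ∃ (H : Type u) (_ : Ring H) (_ : HopfAlgebra k H) (_ : Coalgebra.IsCocomm k H)
      (_ : Module.Finite k H) (j : L →ₗ[k] H),
      Function.Injective j ∧ (∀ x z, j ⁅x, z⁆ = j x * j z - j z * j x) ∧
      (∀ x, j (φ x) = j x ^ p) ∧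
      (∀ x, Coalgebra.comul (R := k) (j x) = j x ⊗ₜ[k] (1 : H) + (1 : H) ⊗ₜ[k] j x) ∧
      (∀ x, Coalgebra.counit (R := k) (j x) = 0) ∧
      Algebra.adjoin k (Set.range j) = ⊤ ∧ Module.finrank k H ≤ p ^ Module.finrank k L := by
  classical
  let b := Module.finBasis k L
  have hy : ∀ i, LieAlgebra.ad k L (b i) ^ p = LieAlgebra.ad k L (φ (b i)) :=
    fun i => (φ.ad_map (b i)).symm
  haveI hts := isTwoSided p b (fun i => φ (b i)) hy
  letI hH := hopfH p b (fun i => φ (b i))
  have hspan := span_small p b (fun i => φ (b i)) hy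
  have hfin : Module.Finite k (UniversalEnvelopingAlgebra k L ⧸ J p b (fun i => φ (b i))) := by
    refine ⟨⟨Finset.univ.image (fun α : Fin (finrank k L) → Fin p =>
      Ideal.Quotient.mk (J p b (fun i => φ (b i)))
        (V p b (fun i => φ (b i)) (fun i => (α i : ℕ)))), ?_⟩⟩
    rw [Finset.coe_image, Finset.coe_univ, Set.image_univ]
    exact hspan
  refine ⟨UniversalEnvelopingAlgebra k L ⧸ J p b (fun i => φ (b i)), inferInstance, hH,
    PrimHopf.isCocomm _ _ _ _ _ _ _ _, hfin,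
    (jH p b (fun i => φ (b i)) : L →ₗ[k] _), ?_, ?_, ?_, ?_, ?_, ?_, ?_⟩
  · intro x x' h
    have h1 : jH p b (fun i => φ (b i)) (x - x') = 0 := by
      rw [map_sub]
      exact sub_eq_zero.2 h
    have h2 := Ideal.Quotient.eq_zero_iff_mem.1 h1
    exact sub_eq_zero.1 (ι_mem_J p b _ hy _ h2)
  · intro x z
    show jH p b (fun i => φ (b i)) ⁅x, z⁆ = _
    rw [LieHom.map_lie, Ring.lie_def]
    rfl
  · intro x
    show Ideal.Quotient.mk (J p b (fun i => φ (b i))) (UniversalEnvelopingAlgebra.ι k (φ x)) =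
      (Ideal.Quotient.mk (J p b (fun i => φ (b i))) (UniversalEnvelopingAlgebra.ι k x)) ^ p
    rw [ι_pmap p b φ x, map_sub, map_pow,
      Ideal.Quotient.eq_zero_iff_mem.2 (fz_mem_J p b _ x), sub_zero]
  · intro x
    exact ΔH_mem p b (fun i => φ (b i)) _ ⟨x, rfl⟩
  · intro x
    exact εH_mem p b (fun i => φ (b i)) _ ⟨x, rfl⟩
  · exact adjoin_range_jH p b (fun i => φ (b i))
  · have h1 : finrank k (UniversalEnvelopingAlgebra k L ⧸ J p b (fun i => φ (b i))) =
        Set.finrank k (Set.range fun α : Fin (finrank k L) → Fin p =>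
          Ideal.Quotient.mk (J p b (fun i => φ (b i)))
            (V p b (fun i => φ (b i)) (fun i => (α i : ℕ)))) := by
      unfold Set.finrank
      rw [hspan, finrank_top]
    have h2 := finrank_range_le_card (R := k) (fun α : Fin (finrank k L) → Fin p =>
          Ideal.Quotient.mk (J p b (fun i => φ (b i)))
            (V p b (fun i => φ (b i)) (fun i => (α i : ℕ))))
    rw [Fintype.card_fun, Fintype.card_fin, Fintype.card_fin] at h2
    rw [h1]
    exact h2

end Final

end Groth.Agent.Lib.Helper19.RestrHopf
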