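import Groth.Agent.Lib.Helper19.Reynolds

/-!
# Existence and naturality of the Reynolds operator (helper19)

For a comodule `V` which is semisimple over its operator algebra (`isSemisimpleModule_opAlg` for
linearly reductive bialgebras) `exists_reynolds` gives a projection `E` onto the invariants with a
complement `C` (a subcomodule meeting the invariants trivially), and `reynolds_natural` shows that
any two such operators commute with every comodule map.
-/

set_option autoImplicit false
set_option linter.unusedSectionVars false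
universe u v w

open TensorProduct

namespace Groth.Agent.Lib.Helper19.Reynolds

section Reynolds2

variable {K : Type u} {A : Type v} [Field K] [CommRing A] [Bialgebra K A]
variable {V : Type w} [AddCommGroup V] [Module K V] [HopfRep.Comod K A V]

theorem exists_reynolds (hss : IsSemisimpleModule (opAlg K A V) V) :
    ∃ (E : V →ₗ[K] V) (C : Submodule (opAlg K A V) V), C ⊓ fixedOp K A V = ⊥ ∧
      (∀ v, E v ∈ HopfRep.fixedPts K A V) ∧ (∀ v ∈ HopfRep.fixedPts K A V, E v = v) ∧
      (∀ v, v - E v ∈ C) ∧ (∀ c ∈ C, E c = 0) ∧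
      (∀ (f : A →ₗ[K] K) (v : V), E (opT K A V f v) = opT K A V f (E v)) := by
  obtain ⟨C, hC⟩ := hss.toComplementedLattice.exists_isCompl (fixedOp K A V)
  let p := Submodule.projectionOnto (fixedOp K A V) C hC
  let E' : V →ₗ[opAlg K A V] V := (fixedOp K A V).subtype ∘ₗ p
  refine ⟨E'.restrictScalars K, C, ?_, ?_, ?_, ?_, ?_, ?_⟩
  · rw [inf_comm]; exact hC.inf_eq_bot
  · intro v; exact (p v).2
  · intro v hv
    show ((p v : fixedOp K A V) : V) = v
    have h : p v = ⟨v, hv⟩ := Submodule.projectionOnto_apply_left hC ⟨v, hv⟩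
    rw [h]
  · intro v
    have hk := Submodule.ker_projectionOnto hC
    have h : v - (p v : V) ∈ LinearMap.ker p := by
      rw [LinearMap.mem_ker, map_sub]
      have h' : p ((p v : V)) = p v := Submodule.projectionOnto_apply_left hC (p v)
      rw [h', sub_self]
    rw [hk] at h
    exact h
  · intro c hc
    have h : p c = 0 := (Submodule.projectionOnto_apply_eq_zero_iff hC).mpr hc
    show ((p c : fixedOp K A V) : V) = 0
    rw [h]; rfl
  · intro f v
    exact E'.map_smul (opEl f) v

theorem reynolds_natural {W' : Type*} [AddCommGroup W'] [Module K W'] [HopfRep.Comod K A W']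
    (hss : IsSemisimpleModule (opAlg K A V) V)
    (E : V →ₗ[K] V) (C : Submodule (opAlg K A V) V) (hC : C ⊓ fixedOp K A V = ⊥)
    (hE1 : ∀ v, E v ∈ HopfRep.fixedPts K A V) (hE3 : ∀ v, v - E v ∈ C)
    (E' : W' →ₗ[K] W') (hE'1 : ∀ w, E' w ∈ HopfRep.fixedPts K A W')
    (hE'2 : ∀ w ∈ HopfRep.fixedPts K A W', E' w = w)
    (hE'c : ∀ (f : A →ₗ[K] K) (w : W'), E' (opT K A W' f w) = opT K A W' f (E' w))
    (ψ : V →ₗ[K] W')
    (hψc : ∀ (f : A →ₗ[K] K) (v : V), ψ (opT K A V f v) = opT K A W' f (ψ v)) (v : V) :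
    ψ (E v) = E' (ψ v) := by
  have h0 : ∀ u ∈ C, (E' ∘ₗ ψ) u = 0 := by
    apply key' hss C hC (E' ∘ₗ ψ)
    · intro f v
      simp only [LinearMap.comp_apply]
      rw [hψc, hE'c]
    · intro u _
      exact hE'1 _
  have h1 : ψ (E v) ∈ HopfRep.fixedPts K A W' := by
    rw [mem_fixedPts_iff_opT]
    intro f
    rw [← hψc, (mem_fixedPts_iff_opT (E v)).mp (hE1 v) f, map_smul]
  have h2 : E' (ψ (v - E v)) = 0 := h0 _ (hE3 v)
  rw [map_sub, map_sub, sub_eq_zero] at h2
  rw [h2, hE'2 _ h1]

end Reynolds2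

end Groth.Agent.Lib.Helper19.Reynolds
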