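import Mathlib

/-!
# Smoothness away from `t` gives a retraction of the conormal map up to a power of `t` (helper19)

For a finitely presented algebra `B` over `A` which is smooth on `D(t)`, and a finite presentation
`P`, there are `n` and `φ : L₀ → I/I²` with `φ ∘ d = tⁿ`.
-/

set_option autoImplicit false
set_option linter.style.haveILetI false
universe u

open TensorProduct

namespace Groth.Agent.Lib.Helper19.RigSm

section Mod

variable {B : Type*} [CommRing B] {N L Ω : Type*} [AddCommGroup N] [Module B N]
  [AddCommGroup L] [Module B L] [AddCommGroup Ω] [Module B Ω]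

theorem exists_section_smul (t : B) (π : L →ₗ[B] Ω) (hπ : Function.Surjective π)
    [Module.FinitePresentation B Ω]
    [Module.Projective (Localization.Away t) (LocalizedModule.Away t Ω)] :
    ∃ (n : ℕ) (σ : Ω →ₗ[B] L), π ∘ₗ σ = (t ^ n) • LinearMap.id := by
  let S : Submonoid B := Submonoid.powers t
  let π' : LocalizedModule S L →ₗ[Localization S] LocalizedModule S Ω := LocalizedModule.map S π
  have hπ' : Function.Surjective π' := LocalizedModule.map_surjective S π hπ
  obtain ⟨σ', hσ'⟩ := Module.projective_lifting_property π' LinearMap.id hπ'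
  let g : Ω →ₗ[B] LocalizedModule S L :=
    (σ'.restrictScalars B) ∘ₗ (LocalizedModule.mkLinearMap S Ω)
  obtain ⟨h, s, hs⟩ := Module.FinitePresentation.exists_lift_of_isLocalizedModule S
    (LocalizedModule.mkLinearMap S L) g
  have H : (LocalizedModule.mkLinearMap S Ω) ∘ₗ (π ∘ₗ h) =
      (LocalizedModule.mkLinearMap S Ω) ∘ₗ (s • (LinearMap.id : Ω →ₗ[B] Ω)) := by
    ext x
    have h1 : LocalizedModule.mkLinearMap S Ω (π (h x)) =
        π' (LocalizedModule.mkLinearMap S L (h x)) := by
      simp [π', LocalizedModule.mkLinearMap_apply, LocalizedModule.map_mk]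
    have h2 : LocalizedModule.mkLinearMap S L (h x) = s • g x := by
      have := LinearMap.congr_fun hs x
      simpa using this
    have h3 : π' (g x) = LocalizedModule.mkLinearMap S Ω x := by
      have := LinearMap.congr_fun hσ' (LocalizedModule.mkLinearMap S Ω x)
      simpa [g] using this
    simp only [LinearMap.comp_apply, LinearMap.smul_apply, LinearMap.id_apply]
    rw [h1, h2, Submonoid.smul_def, Submonoid.smul_def, LinearMap.map_smul_of_tower, h3, map_smul]
  obtain ⟨s', hs'⟩ := Module.Finite.exists_smul_of_comp_eq_of_isLocalizedModule S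
    (LocalizedModule.mkLinearMap S Ω) _ _ H
  obtain ⟨n, hn⟩ := (s' * s).2
  refine ⟨n, (s' : B) • h, ?_⟩
  have hn' : t ^ n = (s' : B) * (s : B) := by simpa using hn
  rw [LinearMap.comp_smul, hn', mul_smul]
  simpa [Submonoid.smul_def] using hs'

theorem exists_retract_smul (t : B) (d : N →ₗ[B] L) (π : L →ₗ[B] Ω)
    (hex : Function.Exact d π) (hπ : Function.Surjective π)
    [Module.Projective B L] [Module.FinitePresentation B Ω]
    [Module.Projective (Localization.Away t) (LocalizedModule.Away t Ω)]
    (n₁ : ℕ) (hker : ∀ x, d x = 0 → t ^ n₁ • x = 0) :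
    ∃ (n : ℕ) (φ : L →ₗ[B] N), φ ∘ₗ d = (t ^ n) • LinearMap.id := by
  obtain ⟨n₂, σ, hσ⟩ := exists_section_smul t π hπ
  have hσ' : ∀ y, π (σ y) = t ^ n₂ • y := fun y => by
    have := LinearMap.congr_fun hσ y
    simpa using this
  let e : L →ₗ[B] L := (t ^ n₂) • LinearMap.id - σ ∘ₗ π
  have he : ∀ x, e x ∈ LinearMap.range d := by
    intro x
    have : π (e x) = 0 := by
      simp only [e, LinearMap.sub_apply, LinearMap.smul_apply, LinearMap.id_apply,
        LinearMap.comp_apply, map_sub, map_smul, hσ', sub_self]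
    exact (hex (e x)).mp this
  obtain ⟨φ₁, hφ₁⟩ := Module.projective_lifting_property d.rangeRestrict
    (e.codRestrict (LinearMap.range d) he) d.surjective_rangeRestrict
  have hφ₁' : ∀ y, d (φ₁ y) = e y := fun y => by
    have := LinearMap.congr_fun hφ₁ y
    exact congrArg Subtype.val this
  refine ⟨n₁ + n₂, (t ^ n₁) • φ₁, ?_⟩
  ext x
  have hpd : π (d x) = 0 := hex.apply_apply_eq_zero x
  have h0 : d (φ₁ (d x) - t ^ n₂ • x) = 0 := by
    rw [map_sub, hφ₁', map_smul]
    simp only [e, LinearMap.sub_apply, LinearMap.smul_apply, LinearMap.id_apply,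
      LinearMap.comp_apply, hpd, map_zero, sub_zero, sub_self]
  have h1 := hker _ h0
  rw [smul_sub, sub_eq_zero] at h1
  simp only [LinearMap.comp_apply, LinearMap.smul_apply, LinearMap.id_apply]
  rw [h1, pow_add, mul_smul]

theorem exists_pow_smul_eq_zero (t : B) (M : Type*) [AddCommGroup M] [Module B M]
    [Module.Finite B M] [hs : Subsingleton (LocalizedModule.Away t M)] :
    ∃ n : ℕ, ∀ x : M, t ^ n • x = 0 := by
  have h := LocalizedModule.subsingleton_iff.mp hs
  have h' : ∀ m : M, ∃ n : ℕ, t ^ n • m = 0 := by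
    intro m
    obtain ⟨r, ⟨n, rfl⟩, hr⟩ := h m
    exact ⟨n, hr⟩
  choose f hf using h'
  obtain ⟨s, hs⟩ := (Module.Finite.fg_top : (⊤ : Submodule B M).FG)
  refine ⟨s.sup f, fun x => ?_⟩
  have hx : x ∈ Submodule.span B (s : Set M) := by rw [hs]; trivial
  induction hx using Submodule.span_induction with
  | mem y hy =>
    have hle : f y ≤ s.sup f := Finset.le_sup hy
    obtain ⟨j, hj⟩ := Nat.exists_eq_add_of_le hle
    rw [hj, pow_add, mul_comm, mul_smul, hf, smul_zero]
  | zero => simp
  | add y z _ _ hy hz => rw [smul_add, hy, hz, add_zero]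
  | smul a y _ hy => rw [smul_comm, hy, smul_zero]

end Mod

section Alg

variable {A B : Type u} [CommRing A] [CommRing B] [Algebra A B]

theorem exists_retract_of_smooth_away [Algebra.FinitePresentation A B] [IsNoetherianRing B] (t : B)
    (h : (↑(PrimeSpectrum.basicOpen t) : Set (PrimeSpectrum B)) ⊆ Algebra.smoothLocus A B)
    {ι σ : Type*} [Finite σ] (P : Algebra.Presentation A B ι σ) :
    ∃ (n : ℕ) (φ : P.toExtension.CotangentSpace →ₗ[B] P.toExtension.Cotangent),
      φ ∘ₗ P.toExtension.cotangentComplex = (t ^ n) • LinearMap.id := by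
  rw [Algebra.smoothLocus_eq_compl_support_inter, Set.subset_inter_iff, Set.subset_compl_comm,
    PrimeSpectrum.basicOpen_eq_zeroLocus_compl, compl_compl,
    ← LocalizedModule.subsingleton_iff_support_subset] at h
  obtain ⟨h1, h2⟩ := h
  rw [← PrimeSpectrum.basicOpen_eq_zeroLocus_compl, Module.basicOpen_subset_freeLocus_iff] at h2
  haveI := h1
  haveI := h2
  haveI : Module.Finite B P.toExtension.Cotangent := Algebra.Extension.Cotangent.finite P.fg_ker
  haveI : IsNoetherian B P.toExtension.Cotangent := isNoetherian_of_isNoetherianRing_of_finite B _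
  haveI : Module.Finite B P.toExtension.H1Cotangent :=
    inferInstanceAs (Module.Finite B (LinearMap.ker P.toExtension.cotangentComplex))
  haveI : Module.Finite B (Algebra.H1Cotangent A B) :=
    Module.Finite.of_surjective P.toGenerators.equivH1Cotangent.toLinearMap
      P.toGenerators.equivH1Cotangent.surjective
  obtain ⟨n₁, hn₁⟩ := exists_pow_smul_eq_zero t (Algebra.H1Cotangent A B)
  have hker : ∀ x, P.toExtension.cotangentComplex x = 0 → t ^ n₁ • x = 0 := by
    intro x hx
    let y : P.toExtension.H1Cotangent := ⟨x, hx⟩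
    have h3 := hn₁ (P.toGenerators.equivH1Cotangent y)
    rw [← map_smul, LinearEquiv.map_eq_zero_iff] at h3
    exact congrArg Subtype.val h3
  exact exists_retract_smul t _ _ P.toExtension.exact_cotangentComplex_toKaehler
    P.toExtension.toKaehler_surjective n₁ hker

end Alg

end Groth.Agent.Lib.Helper19.RigSm
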