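import Mathlib

/-!
# From a retraction up to `c` of the conormal map to a derivation on a square-zero extension
(helper19)

Let `Q : P → B` be an extension of `A`-algebras with `φ : B ⊗ Ω_P → I/I²`, `φ ∘ d = c`.
Let `B → R` be a surjection with kernel `a₀ B`, `ρ : E → R` a surjection of `A`-algebras with
square-zero kernel such that `a₀ E = 0`, and `G : P → E` a lift.  Then there is an `A`-derivation
`δ : E → ker ρ` with `δ m = c m` on `ker ρ`.
-/

set_option autoImplicit false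
set_option linter.style.haveILetI false
set_option linter.unusedSectionVars false
universe u v

open TensorProduct

namespace Groth.Agent.Lib.Helper19.RigSm

variable {A B : Type u} [CommRing A] [CommRing B] [Algebra A B]
  (Q : Algebra.Extension A B)
  (c : A) (φ : Q.CotangentSpace →ₗ[B] Q.Cotangent)
  {R E : Type v} [CommRing R] [Algebra A R] [CommRing E] [Algebra A E]
  (q : B →ₐ[A] R) (ρ : E →ₐ[A] R) (G : Q.Ring →ₐ[A] E) (a₀ : A)

/-- the hypotheses of the transfer. -/
structure TData : Prop where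
  hφ : φ ∘ₗ Q.cotangentComplex = (algebraMap A B c) • LinearMap.id
  hG : ∀ p, ρ (G p) = q (algebraMap Q.Ring B p)
  hq : Function.Surjective q
  hsq : ∀ x y, ρ x = 0 → ρ y = 0 → x * y = 0
  ha₀ : algebraMap A E a₀ = 0
  hker : ∀ b, q b = 0 → ∃ b', b = algebraMap A B a₀ * b'

theorem one_tmul_smul' (r : Q.Ring) (ω : Ω[Q.Ring⁄A]) :
    ((1 : B) ⊗ₜ[Q.Ring] (r • ω)) = algebraMap Q.Ring B r • ((1 : B) ⊗ₜ[Q.Ring] ω) := by
  calc ((1 : B) ⊗ₜ[Q.Ring] (r • ω))
      = (r • (1 : B)) ⊗ₜ[Q.Ring] ω := (TensorProduct.smul_tmul r 1 ω).symm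
    _ = (algebraMap Q.Ring B r • (1 : B)) ⊗ₜ[Q.Ring] ω := by rw [algebraMap_smul]
    _ = algebraMap Q.Ring B r • ((1 : B) ⊗ₜ[Q.Ring] ω) := (TensorProduct.smul_tmul' _ _ _).symm

/-- `p ↦ φ (1 ⊗ dp)`. -/
noncomputable def der (p : Q.Ring) : Q.Cotangent :=
  φ ((1 : B) ⊗ₜ[Q.Ring] KaehlerDifferential.D A Q.Ring p)

theorem der_add (p p' : Q.Ring) : der Q φ (p + p') = der Q φ p + der Q φ p' := by
  simp only [der, map_add, TensorProduct.tmul_add]

theorem der_mul (p p' : Q.Ring) : der Q φ (p * p') =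
    algebraMap Q.Ring B p • der Q φ p' + algebraMap Q.Ring B p' • der Q φ p := by
  simp only [der, Derivation.leibniz, TensorProduct.tmul_add, map_add, one_tmul_smul', map_smul]

theorem der_algebraMap (a : A) : der Q φ (algebraMap A Q.Ring a) = 0 := by
  simp only [der, Derivation.map_algebraMap, TensorProduct.tmul_zero, map_zero]

theorem der_ker (hφ : φ ∘ₗ Q.cotangentComplex = (algebraMap A B c) • LinearMap.id) (f : Q.ker) :
    der Q φ (f : Q.Ring) = algebraMap A B c • Algebra.Extension.Cotangent.mk f := by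
  have h := LinearMap.congr_fun hφ (Algebra.Extension.Cotangent.mk f)
  rw [LinearMap.comp_apply, Algebra.Extension.cotangentComplex_mk, LinearMap.smul_apply,
    LinearMap.id_apply] at h
  exact h

/-- the map `I/I² → E` induced by `G` (through a choice of representatives). -/
noncomputable def Gbar (ν : Q.Cotangent) : E :=
  G ((Algebra.Extension.Cotangent.mk_surjective ν).choose : Q.ker).1

/-- `Gbar ∘ der`. -/
noncomputable def dd (p : Q.Ring) : E := Gbar Q G (der Q φ p)

variable {Q c φ q ρ G a₀}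

namespace TData

variable (h : TData Q c φ q ρ G a₀)
include h

theorem rho_G_ker (f : Q.Ring) (hf : f ∈ Q.ker) : ρ (G f) = 0 := by
  rw [h.hG, (RingHom.mem_ker).mp hf, map_zero]

theorem G_sq (x : Q.Ring) (hx : x ∈ Q.ker ^ 2) : G x = 0 := by
  rw [pow_two] at hx
  have hle : Q.ker * Q.ker ≤ RingHom.ker (G : Q.Ring →+* E) :=
    Ideal.mul_le.mpr fun r hr s hs => by
      rw [RingHom.mem_ker]
      change G (r * s) = 0
      rw [map_mul]
      exact h.hsq _ _ (h.rho_G_ker r hr) (h.rho_G_ker s hs)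
  exact hle hx

theorem Gbar_mk (f : Q.ker) : Gbar Q G (Algebra.Extension.Cotangent.mk f) = G f.1 := by
  have hc := (Algebra.Extension.Cotangent.mk_surjective
    (Algebra.Extension.Cotangent.mk f)).choose_spec
  rw [Algebra.Extension.Cotangent.mk_eq_mk_iff_sub_mem] at hc
  have h2 := h.G_sq _ hc
  rw [map_sub, sub_eq_zero] at h2
  exact h2

theorem Gbar_add (ν ν' : Q.Cotangent) : Gbar Q G (ν + ν') = Gbar Q G ν + Gbar Q G ν' := by
  obtain ⟨f, rfl⟩ := Algebra.Extension.Cotangent.mk_surjective ν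
  obtain ⟨f', rfl⟩ := Algebra.Extension.Cotangent.mk_surjective ν'
  rw [← map_add, h.Gbar_mk, h.Gbar_mk, h.Gbar_mk, Submodule.coe_add, map_add]

theorem Gbar_zero : Gbar Q G (0 : Q.Cotangent) = 0 := by
  have h2 := h.Gbar_mk 0
  rw [map_zero, ZeroMemClass.coe_zero, map_zero] at h2
  exact h2

theorem Gbar_smul (p : Q.Ring) (ν : Q.Cotangent) :
    Gbar Q G (algebraMap Q.Ring B p • ν) = G p * Gbar Q G ν := by
  obtain ⟨f, rfl⟩ := Algebra.Extension.Cotangent.mk_surjective ν
  rw [algebraMap_smul, ← map_smul, h.Gbar_mk, h.Gbar_mk, Submodule.coe_smul, smul_eq_mul, map_mul]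

theorem rho_Gbar (ν : Q.Cotangent) : ρ (Gbar Q G ν) = 0 := by
  obtain ⟨f, rfl⟩ := Algebra.Extension.Cotangent.mk_surjective ν
  rw [h.Gbar_mk]
  exact h.rho_G_ker _ f.2

theorem Gbar_smulA (a : A) (ν : Q.Cotangent) :
    Gbar Q G (algebraMap A B a • ν) = a • Gbar Q G ν := by
  have h2 := h.Gbar_smul (algebraMap A Q.Ring a) ν
  rw [← IsScalarTower.algebraMap_apply, AlgHom.commutes] at h2
  rw [h2, Algebra.smul_def]

theorem dd_add (p p' : Q.Ring) : dd Q φ G (p + p') = dd Q φ G p + dd Q φ G p' := by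
  simp only [dd, der_add, h.Gbar_add]

theorem dd_mul (p p' : Q.Ring) :
    dd Q φ G (p * p') = G p * dd Q φ G p' + G p' * dd Q φ G p := by
  simp only [dd, der_mul, h.Gbar_add, h.Gbar_smul]

theorem dd_algebraMap (a : A) : dd Q φ G (algebraMap A Q.Ring a) = 0 := by
  simp only [dd, der_algebraMap, h.Gbar_zero]

theorem dd_zero : dd Q φ G 0 = 0 := by
  have h2 := h.dd_algebraMap 0
  rw [map_zero] at h2
  exact h2

theorem rho_dd (p : Q.Ring) : ρ (dd Q φ G p) = 0 := h.rho_Gbar _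

theorem dd_ker (f : Q.Ring) (hf : f ∈ Q.ker) : dd Q φ G f = c • G f := by
  have h2 := der_ker Q c φ h.hφ ⟨f, hf⟩
  change Gbar Q G (der Q φ f) = _
  rw [h2, h.Gbar_smulA, h.Gbar_mk]

theorem dd_K (p : Q.Ring) (hp : ρ (G p) = 0) : dd Q φ G p = c • G p := by
  rw [h.hG] at hp
  obtain ⟨b', hb'⟩ := h.hker _ hp
  obtain ⟨p', rfl⟩ := Q.algebraMap_surjective b'
  have hf : p - algebraMap A Q.Ring a₀ * p' ∈ Q.ker := by
    rw [RingHom.mem_ker, map_sub, map_mul, hb', ← IsScalarTower.algebraMap_apply, sub_self]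
  have hGT : G (algebraMap A Q.Ring a₀) = 0 := by rw [AlgHom.commutes, h.ha₀]
  have h1 := h.dd_ker _ hf
  have h2 : dd Q φ G (algebraMap A Q.Ring a₀ * p') = 0 := by
    rw [h.dd_mul, hGT, zero_mul, h.dd_algebraMap, mul_zero, add_zero]
  have h3 : G (p - algebraMap A Q.Ring a₀ * p') = G p := by
    rw [map_sub, map_mul, hGT, zero_mul, sub_zero]
  have h4 : dd Q φ G p = dd Q φ G (p - algebraMap A Q.Ring a₀ * p') +
      dd Q φ G (algebraMap A Q.Ring a₀ * p') := by
    rw [← h.dd_add]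
    congr 1
    ring
  rw [h4, h1, h2, add_zero, h3]

theorem exists_rep (x : E) : ∃ p : Q.Ring, ρ (G p) = ρ x := by
  obtain ⟨b, hb⟩ := h.hq (ρ x)
  obtain ⟨p, rfl⟩ := Q.algebraMap_surjective b
  exact ⟨p, by rw [h.hG, hb]⟩

/-- a chosen representative. -/
noncomputable def rep (x : E) : Q.Ring := (h.exists_rep x).choose

theorem rep_spec (x : E) : ρ (G (h.rep x)) = ρ x := (h.exists_rep x).choose_spec

/-- the derivation on `E`. -/
noncomputable def dl (x : E) : E := dd Q φ G (h.rep x) + c • (x - G (h.rep x))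

theorem dl_eq (x : E) (p : Q.Ring) (hp : ρ (G p) = ρ x) :
    h.dl x = dd Q φ G p + c • (x - G p) := by
  have hu : ρ (G (p - h.rep x)) = 0 := by rw [map_sub, map_sub, hp, h.rep_spec, sub_self]
  have h1 := h.dd_K _ hu
  have h2 : dd Q φ G p = dd Q φ G (h.rep x) + dd Q φ G (p - h.rep x) := by
    rw [← h.dd_add]
    congr 1
    ring
  unfold dl
  rw [h2, h1, map_sub]
  simp only [smul_sub]
  abel

theorem rho_dl (x : E) : ρ (h.dl x) = 0 := by
  unfold dl
  rw [map_add, h.rho_dd, map_smul, map_sub, h.rep_spec, sub_self, smul_zero, add_zero]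

theorem dl_add (x y : E) : h.dl (x + y) = h.dl x + h.dl y := by
  rw [h.dl_eq (x + y) (h.rep x + h.rep y)
    (by rw [map_add, map_add, map_add, h.rep_spec, h.rep_spec])]
  unfold dl
  rw [h.dd_add, map_add]
  simp only [smul_sub, smul_add]
  abel

theorem dl_smul (a : A) (x : E) : h.dl (a • x) = a • h.dl x := by
  rw [h.dl_eq (a • x) (algebraMap A Q.Ring a * h.rep x)
    (by rw [map_mul, AlgHom.commutes, map_mul, AlgHom.commutes, h.rep_spec, map_smul,
      Algebra.smul_def])]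
  unfold dl
  rw [h.dd_mul, h.dd_algebraMap, mul_zero, add_zero, map_mul, AlgHom.commutes]
  simp only [Algebra.smul_def]
  ring

theorem dl_mul (x y : E) : h.dl (x * y) = x * h.dl y + y * h.dl x := by
  rw [h.dl_eq (x * y) (h.rep x * h.rep y)
    (by rw [map_mul, map_mul, map_mul, h.rep_spec, h.rep_spec])]
  have hu : ρ (x - G (h.rep x)) = 0 := by rw [map_sub, h.rep_spec, sub_self]
  have hv : ρ (y - G (h.rep y)) = 0 := by rw [map_sub, h.rep_spec, sub_self]
  have h1 := h.hsq _ _ hu (h.rho_dd (h.rep y))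
  have h2 := h.hsq _ _ hv (h.rho_dd (h.rep x))
  have h3 := h.hsq _ _ hu hv
  unfold dl
  rw [h.dd_mul, map_mul]
  simp only [Algebra.smul_def]
  linear_combination -h1 - h2 - (algebraMap A E c) * h3

theorem dl_ker (m : E) (hm : ρ m = 0) : h.dl m = c • m := by
  rw [h.dl_eq m 0 (by rw [map_zero, map_zero, hm]), h.dd_zero, map_zero, sub_zero, zero_add]

theorem exists_der :
    ∃ δ : E →ₗ[A] E, (∀ x, ρ (δ x) = 0) ∧ (∀ x y, δ (x * y) = x * δ y + y * δ x) ∧
      (∀ m, ρ m = 0 → δ m = c • m) :=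
  ⟨{ toFun := h.dl, map_add' := h.dl_add, map_smul' := fun a x => h.dl_smul a x },
    h.rho_dl, h.dl_mul, h.dl_ker⟩

end TData

end Groth.Agent.Lib.Helper19.RigSm
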