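import Mathlib
import Groth.Agent.Lib.Helper19.RigSmB

/-!
# Extracting a coefficient: from a derivation on `A' ⊗ E₀` to a section of `E₀ → B₀` (helper19)
-/

set_option autoImplicit false
set_option linter.style.haveILetI false
set_option linter.unusedSectionVars false
universe u v

open TensorProduct

namespace Groth.Agent.Lib.Helper19.RigSm

section Coef

variable {k A' E₀ B₀ : Type u} [Field k] [CommRing A'] [Algebra k A'] [CommRing E₀] [Algebra k E₀]
  [CommRing B₀] [Algebra k B₀] (lam : A' →ₗ[k] k)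

/-- `a ⊗ x ↦ lam a • x`. -/
noncomputable def Lam (M : Type u) [AddCommGroup M] [Module k M] : A' ⊗[k] M →ₗ[k] M :=
  (TensorProduct.lid k M).toLinearMap ∘ₗ LinearMap.rTensor M lam

theorem Lam_tmul (M : Type u) [AddCommGroup M] [Module k M] (a : A') (x : M) :
    Lam lam M (a ⊗ₜ x) = lam a • x := by
  simp [Lam]

theorem Lam_mul (e : E₀) (x : A' ⊗[k] E₀) :
    Lam lam E₀ (((1 : A') ⊗ₜ[k] e) * x) = e * Lam lam E₀ x := by
  induction x using TensorProduct.induction_on with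
  | zero => simp
  | tmul a e' =>
    rw [Algebra.TensorProduct.tmul_mul_tmul, one_mul, Lam_tmul, Lam_tmul, mul_smul_comm]
  | add x y hx hy => rw [mul_add, map_add, hx, hy, map_add, mul_add]

theorem Lam_map (p₀ : E₀ →ₐ[k] B₀) (x : A' ⊗[k] E₀) :
    p₀ (Lam lam E₀ x) = Lam lam B₀ (Algebra.TensorProduct.map (AlgHom.id k A') p₀ x) := by
  induction x using TensorProduct.induction_on with
  | zero => simp
  | tmul a e =>
    rw [Algebra.TensorProduct.map_tmul, Lam_tmul, Lam_tmul, map_smul, AlgHom.coe_id, id_eq]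
  | add x y hx hy => rw [map_add, map_add, hx, hy, map_add, map_add]

theorem exists_section_of_der (p₀ : E₀ →ₐ[k] B₀) (hp₀ : Function.Surjective p₀)
    (hsq₀ : ∀ x y, p₀ x = 0 → p₀ y = 0 → x * y = 0)
    (c' : A') (hlam : lam c' = 1)
    (δ : A' ⊗[k] E₀ →ₗ[k] A' ⊗[k] E₀)
    (h1 : ∀ x, Algebra.TensorProduct.map (AlgHom.id k A') p₀ (δ x) = 0)
    (h2 : ∀ x y, δ (x * y) = x * δ y + y * δ x)
    (h3 : ∀ m, Algebra.TensorProduct.map (AlgHom.id k A') p₀ m = 0 → δ m = c' • m) :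
    ∃ s : B₀ →ₐ[k] E₀, ∀ b, p₀ (s b) = b := by
  let δ₀ : E₀ →ₗ[k] E₀ := Lam lam E₀ ∘ₗ δ ∘ₗ (TensorProduct.mk k A' E₀ 1)
  have hδ₀ : ∀ e, δ₀ e = Lam lam E₀ (δ ((1 : A') ⊗ₜ[k] e)) := fun e => rfl
  have hp : ∀ e, p₀ (δ₀ e) = 0 := by
    intro e
    rw [hδ₀, Lam_map, h1, map_zero]
  have hmul : ∀ e e', δ₀ (e * e') = e * δ₀ e' + e' * δ₀ e := by
    intro e e'
    have e1 : ((1 : A') ⊗ₜ[k] (e * e')) = ((1 : A') ⊗ₜ[k] e) * ((1 : A') ⊗ₜ[k] e') := by
      rw [Algebra.TensorProduct.tmul_mul_tmul, one_mul]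
    rw [hδ₀, e1, h2, map_add, Lam_mul, Lam_mul, ← hδ₀, ← hδ₀]
  have hker : ∀ ν, p₀ ν = 0 → δ₀ ν = ν := by
    intro ν hν
    have h0 : Algebra.TensorProduct.map (AlgHom.id k A') p₀ ((1 : A') ⊗ₜ[k] ν) = 0 := by
      rw [Algebra.TensorProduct.map_tmul, hν, TensorProduct.tmul_zero]
    rw [hδ₀, h3 _ h0, TensorProduct.smul_tmul', smul_eq_mul, mul_one, Lam_tmul, hlam, one_smul]
  have hone : δ₀ 1 = 0 := by
    have h := hmul 1 1
    rw [mul_one] at h
    linear_combination -h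
  let s₁ : E₀ →ₐ[k] E₀ := AlgHom.ofLinearMap (LinearMap.id - δ₀)
    (by rw [LinearMap.sub_apply, LinearMap.id_apply, hone, sub_zero])
    (by
      intro x y
      simp only [LinearMap.sub_apply, LinearMap.id_apply]
      have hm := hmul x y
      have hz := hsq₀ _ _ (hp x) (hp y)
      linear_combination -hm - hz)
  have hs₁ : ∀ e, s₁ e = e - δ₀ e := fun e => rfl
  have H : RingHom.ker p₀.toRingHom ≤ RingHom.ker s₁.toRingHom := by
    intro ν hν
    rw [RingHom.mem_ker] at hν ⊢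
    change s₁ ν = 0
    rw [hs₁, hker ν hν, sub_self]
  refine ⟨AlgHom.liftOfSurjective p₀ hp₀ s₁ H, fun b => ?_⟩
  obtain ⟨e, rfl⟩ := hp₀ b
  rw [AlgHom.liftOfSurjective_apply, hs₁, map_sub, hp, sub_zero]

end Coef

section Main

variable {k A A' B R B₀ E₀ : Type u} [Field k] [CommRing A] [Algebra k A] [CommRing A']
  [Algebra k A'] [Algebra A A'] [IsScalarTower k A A']
  [CommRing B] [Algebra A B]
  [CommRing R] [Algebra A R] [Algebra A' R] [IsScalarTower A A' R]
  [CommRing B₀] [Algebra k B₀] [CommRing E₀] [Algebra k E₀]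

theorem map_id_eq (p₀ : E₀ →ₐ[k] B₀) (x : A' ⊗[k] E₀) :
    Algebra.TensorProduct.map (AlgHom.id A A') p₀ x =
      Algebra.TensorProduct.map (AlgHom.id k A') p₀ x := by
  induction x using TensorProduct.induction_on with
  | zero => simp
  | tmul a e => simp
  | add x y hx hy => rw [map_add, map_add, hx, hy]

set_option backward.isDefEq.respectTransparency false in
theorem exists_section_of_TData (p₀ : E₀ →ₐ[k] B₀) (hp₀ : Function.Surjective p₀)
    (hsq₀ : ∀ x y, p₀ x = 0 → p₀ y = 0 → x * y = 0)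
    {ι : Type v} (P : Algebra.Generators A B ι)
    (c : A) (φ : P.toExtension.CotangentSpace →ₗ[B] P.toExtension.Cotangent)
    (hφ : φ ∘ₗ P.toExtension.cotangentComplex = (algebraMap A B c) • LinearMap.id)
    (a₀ : A) (ha₀ : algebraMap A A' a₀ = 0)
    (q : B →ₐ[A] R) (hq : Function.Surjective q)
    (hker : ∀ b, q b = 0 → ∃ b', b = algebraMap A B a₀ * b')
    (Ψ : A' ⊗[k] B₀ →ₐ[A'] R) (hΨ : Function.Bijective Ψ)
    (lam : A' →ₗ[k] k) (hlam : lam (algebraMap A A' c) = 1) :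
    ∃ s : B₀ →ₐ[k] E₀, ∀ b, p₀ (s b) = b := by
  let ρA : A' ⊗[k] E₀ →ₐ[A] A' ⊗[k] B₀ := Algebra.TensorProduct.map (AlgHom.id A A') p₀
  let ρ : A' ⊗[k] E₀ →ₐ[A] R := (Ψ.restrictScalars A).comp ρA
  have hρ : ∀ x, ρ x = Ψ (Algebra.TensorProduct.map (AlgHom.id k A') p₀ x) := fun x => by
    change Ψ (ρA x) = _
    rw [map_id_eq]
  have hρ0 : ∀ x, ρ x = 0 ↔ Algebra.TensorProduct.map (AlgHom.id k A') p₀ x = 0 := fun x => by
    rw [hρ]
    constructor
    · intro h
      exact hΨ.injective (by rw [h, map_zero])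
    · intro h
      rw [h, map_zero]
  have hρsurj : Function.Surjective ρ := by
    intro r
    obtain ⟨y, rfl⟩ := hΨ.surjective r
    obtain ⟨x, rfl⟩ := Algebra.TensorProduct.map_surjective (AlgHom.id k A') p₀
      Function.surjective_id hp₀ y
    exact ⟨x, hρ x⟩
  choose g hg using fun i => hρsurj (q (P.val i))
  let G : P.toExtension.Ring →ₐ[A] A' ⊗[k] E₀ := MvPolynomial.aeval g
  have hG : ∀ p, ρ (G p) = q (algebraMap P.toExtension.Ring B p) := by
    intro p
    rw [show algebraMap P.toExtension.Ring B p = MvPolynomial.aeval P.val p from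
      P.algebraMap_apply p]
    have h : ρ.comp (MvPolynomial.aeval g) = q.comp (MvPolynomial.aeval P.val) := by
      apply MvPolynomial.algHom_ext
      intro i
      simp [hg]
    exact DFunLike.congr_fun h p
  have hsq : ∀ x y, ρ x = 0 → ρ y = 0 → x * y = 0 := by
    intro x y hx hy
    rw [hρ0] at hx hy
    have hx' : x ∈ RingHom.ker (Algebra.TensorProduct.map (AlgHom.id k A') p₀) := hx
    have hy' : y ∈ RingHom.ker (Algebra.TensorProduct.map (AlgHom.id k A') p₀) := hy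
    rw [Algebra.TensorProduct.lTensor_ker _ hp₀] at hx' hy'
    have hxy := Ideal.mul_mem_mul hx' hy'
    rw [← Ideal.map_mul] at hxy
    have hbot : RingHom.ker p₀ * RingHom.ker p₀ = ⊥ := by
      rw [eq_bot_iff]
      refine Ideal.mul_le.mpr fun r hr s hs => ?_
      rw [Ideal.mem_bot]
      exact hsq₀ r s hr hs
    rw [hbot, Ideal.map_bot] at hxy
    exact hxy
  have hd : TData P.toExtension c φ q ρ G a₀ :=
    ⟨hφ, hG, hq, hsq, by rw [IsScalarTower.algebraMap_apply A A' (A' ⊗[k] E₀), ha₀, map_zero], hker⟩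
  obtain ⟨δ, hδ1, hδ2, hδ3⟩ := hd.exists_der
  let δk : A' ⊗[k] E₀ →ₗ[k] A' ⊗[k] E₀ := δ.restrictScalars k
  refine exists_section_of_der lam p₀ hp₀ hsq₀ (algebraMap A A' c) hlam δk ?_ hδ2 ?_
  · intro x
    exact (hρ0 _).mp (hδ1 x)
  · intro m hm
    change δ m = _
    rw [hδ3 m ((hρ0 m).mpr hm), algebraMap_smul]

/-- the universal square-zero extension used to test formal smoothness. -/
theorem formallySmooth_of_TData
    {ι : Type v} (P : Algebra.Generators A B ι)
    (c : A) (φ : P.toExtension.CotangentSpace →ₗ[B] P.toExtension.Cotangent)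
    (hφ : φ ∘ₗ P.toExtension.cotangentComplex = (algebraMap A B c) • LinearMap.id)
    (a₀ : A) (ha₀ : algebraMap A A' a₀ = 0)
    (q : B →ₐ[A] R) (hq : Function.Surjective q)
    (hker : ∀ b, q b = 0 → ∃ b', b = algebraMap A B a₀ * b')
    (Ψ : A' ⊗[k] B₀ →ₐ[A'] R) (hΨ : Function.Bijective Ψ)
    (lam : A' →ₗ[k] k) (hlam : lam (algebraMap A A' c) = 1) :
    Algebra.FormallySmooth k B₀ := by
  let f : MvPolynomial B₀ k →ₐ[k] B₀ := MvPolynomial.aeval id
  have hf : Function.Surjective f := fun b => ⟨MvPolynomial.X b, by simp [f]⟩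
  have hp₀ : Function.Surjective f.kerSquareLift := fun b => by
    obtain ⟨x, hx⟩ := hf b
    exact ⟨Ideal.Quotient.mk _ x, by rw [← hx]; exact f.kerSquareLift_mk x⟩
  have hsq₀ : ∀ x y, f.kerSquareLift x = 0 → f.kerSquareLift y = 0 → x * y = 0 := by
    intro x y hx hy
    have hx' : x ∈ RingHom.ker f.kerSquareLift.toRingHom := hx
    have hy' : y ∈ RingHom.ker f.kerSquareLift.toRingHom := hy
    have h := Ideal.mul_mem_mul hx' hy'
    rw [← pow_two, AlgHom.ker_kerSquareLift, Ideal.cotangentIdeal_square, Ideal.mem_bot] at h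
    exact h
  obtain ⟨s, hs⟩ := exists_section_of_TData f.kerSquareLift hp₀ hsq₀ P c φ hφ a₀ ha₀ q hq hker
    Ψ hΨ lam hlam
  exact Algebra.FormallySmooth.of_split f s (AlgHom.ext hs)

end Main

end Groth.Agent.Lib.Helper19.RigSm
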