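import Mathlib
import Groth.Prelude.Def_Exal
import Groth.Prelude.Def_CotT
import Groth.Agent.S12292

/-!
# Quotients `A/(t^m)` of a curve at a point and reduction of a family modulo `t^m` (helper19)
-/

set_option autoImplicit false
set_option linter.style.haveILetI false
set_option linter.unusedSectionVars false
universe u

open TensorProduct

namespace Groth.Agent.Lib.Helper19.RigSm

section Quot

variable {A : Type u} [CommRing A] (t : A) (m : ℕ)

theorem span_pow_le (hm : m ≠ 0) : Ideal.span {t ^ m} ≤ Ideal.span {t} := by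
  rw [Ideal.span_singleton_le_iff_mem]
  obtain ⟨j, rfl⟩ := Nat.exists_eq_succ_of_ne_zero hm
  rw [pow_succ]
  exact Ideal.mul_mem_left _ _ (Ideal.mem_span_singleton_self t)

theorem prime_eq (ht : (Ideal.span {t}).IsMaximal) (J : Ideal (A ⧸ Ideal.span {t ^ m}))
    [hJ : J.IsPrime] : J = Ideal.span {Ideal.Quotient.mk (Ideal.span {t ^ m}) t} := by
  have h1 : Ideal.Quotient.mk (Ideal.span {t ^ m}) t ∈ J := by
    have h0 : (Ideal.Quotient.mk (Ideal.span {t ^ m}) t) ^ m ∈ J := by
      rw [← map_pow, Ideal.Quotient.eq_zero_iff_mem.mpr (Ideal.mem_span_singleton_self _)]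
      exact J.zero_mem
    exact hJ.mem_of_pow_mem m h0
  apply le_antisymm
  · intro x hx
    obtain ⟨a, rfl⟩ := Ideal.Quotient.mk_surjective x
    by_cases ha : a ∈ Ideal.span {t}
    · obtain ⟨r, rfl⟩ := Ideal.mem_span_singleton'.mp ha
      rw [map_mul]
      exact Ideal.mul_mem_left _ _ (Ideal.mem_span_singleton_self _)
    · exfalso
      obtain ⟨y, i, hi, hyi⟩ := ht.exists_inv ha
      obtain ⟨r, rfl⟩ := Ideal.mem_span_singleton'.mp hi
      apply hJ.ne_top
      rw [Ideal.eq_top_iff_one, ← map_one (Ideal.Quotient.mk (Ideal.span {t ^ m})), ← hyi,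
        map_add, map_mul, map_mul]
      exact J.add_mem (J.mul_mem_left _ hx) (J.mul_mem_left _ h1)
  · rw [Ideal.span_singleton_le_iff_mem]
    exact h1

theorem nontrivial_quot (ht : (Ideal.span {t}).IsMaximal) (hm : m ≠ 0) :
    Nontrivial (A ⧸ Ideal.span {t ^ m}) := by
  rw [Ideal.Quotient.nontrivial_iff]
  intro h
  exact ht.ne_top (top_le_iff.mp (h ▸ span_pow_le t m hm))

theorem isMaximal_span_mk (ht : (Ideal.span {t}).IsMaximal) (hm : m ≠ 0) :
    (Ideal.span {Ideal.Quotient.mk (Ideal.span {t ^ m}) t}).IsMaximal := by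
  haveI := nontrivial_quot t m ht hm
  obtain ⟨J, hJ⟩ := Ideal.exists_maximal (A ⧸ Ideal.span {t ^ m})
  haveI := hJ.isPrime
  rw [← prime_eq t m ht J]
  exact hJ

theorem isLocalRing_quot (ht : (Ideal.span {t}).IsMaximal) (hm : m ≠ 0) :
    IsLocalRing (A ⧸ Ideal.span {t ^ m}) :=
  IsLocalRing.of_unique_max_ideal ⟨_, isMaximal_span_mk t m ht hm, fun J hJ => by
    haveI := hJ.isPrime
    exact prime_eq t m ht J⟩

theorem isArtinianRing_quot [IsNoetherianRing A] (ht : (Ideal.span {t}).IsMaximal) (hm : m ≠ 0) :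
    IsArtinianRing (A ⧸ Ideal.span {t ^ m}) :=
  isArtinianRing_iff_isNoetherianRing_krullDimLE_zero.mpr
    ⟨inferInstance, Ring.krullDimLE_zero_iff.mpr fun J hJ => by
      rw [prime_eq t m ht J]
      exact isMaximal_span_mk t m ht hm⟩

theorem isNilpotent_span_mk :
    IsNilpotent (Ideal.span {Ideal.Quotient.mk (Ideal.span {t ^ m}) t}) := by
  refine ⟨m, ?_⟩
  rw [Ideal.span_singleton_pow, ← map_pow,
    Ideal.Quotient.eq_zero_iff_mem.mpr (Ideal.mem_span_singleton_self _)]
  simp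

theorem exists_res {k : Type u} [Field k] [IsAlgClosed k] [Algebra k A] [Algebra.FiniteType k A]
    (ht : (Ideal.span {t}).IsMaximal) (hm : m ≠ 0) :
    ∃ e : (A ⧸ Ideal.span {t ^ m}) →ₐ[k] k,
      ∀ a : A, a - algebraMap k A (e (Ideal.Quotient.mk _ a)) ∈ Ideal.span {t} := by
  letI := Ideal.Quotient.field (Ideal.span {t})
  haveI : Module.Finite k (A ⧸ Ideal.span {t}) := finite_of_finite_type_of_isJacobsonRing k _
  have hb : Function.Bijective (algebraMap k (A ⧸ Ideal.span {t})) :=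
    IsAlgClosed.algebraMap_bijective_of_isIntegral (k := k)
  let ε : k ≃ₐ[k] (A ⧸ Ideal.span {t}) := AlgEquiv.ofBijective (Algebra.ofId k _) hb
  let e : (A ⧸ Ideal.span {t ^ m}) →ₐ[k] k :=
    (ε.symm : (A ⧸ Ideal.span {t}) →ₐ[k] k).comp (Ideal.Quotient.factorₐ k (span_pow_le t m hm))
  refine ⟨e, fun a => ?_⟩
  have h1 : algebraMap k (A ⧸ Ideal.span {t}) (e (Ideal.Quotient.mk _ a)) =
      Ideal.Quotient.mk (Ideal.span {t}) a := by
    change ε (ε.symm (Ideal.Quotient.mk (Ideal.span {t}) a)) = _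
    rw [AlgEquiv.apply_symm_apply]
  rw [← Ideal.Quotient.eq, ← h1]
  rfl

end Quot

section Tensor

variable {A B : Type u} [CommRing A] [CommRing B] [Algebra A B]

theorem includeRight_surjective (I : Ideal A) :
    Function.Surjective (Algebra.TensorProduct.includeRight : B →ₐ[A] (A ⧸ I) ⊗[A] B) := by
  intro x
  induction x using TensorProduct.induction_on with
  | zero => exact ⟨0, map_zero _⟩
  | tmul a b =>
    obtain ⟨a', rfl⟩ := Ideal.Quotient.mk_surjective a
    refine ⟨a' • b, ?_⟩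
    rw [Algebra.TensorProduct.includeRight_apply, ← TensorProduct.smul_tmul, Algebra.smul_def,
      mul_one]
    rfl
  | add x y hx hy =>
    obtain ⟨bx, rfl⟩ := hx
    obtain ⟨b', rfl⟩ := hy
    exact ⟨bx + b', map_add _ _ _⟩

theorem eq_mul_of_one_tmul_eq_zero (a₀ : A) (b : B)
    (h : (1 : A ⧸ Ideal.span {a₀}) ⊗ₜ[A] b = 0) : ∃ b', b = algebraMap A B a₀ * b' := by
  have h1 : (TensorProduct.quotTensorEquivQuotSMul B (Ideal.span {a₀})).symm
      (Submodule.Quotient.mk b) = 0 := by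
    rw [TensorProduct.quotTensorEquivQuotSMul_symm_mk]
    exact h
  rw [LinearEquiv.map_eq_zero_iff, Submodule.Quotient.mk_eq_zero,
    Submodule.ideal_span_singleton_smul] at h1
  obtain ⟨b', -, hb'⟩ := (Submodule.mem_smul_pointwise_iff_exists _ _ _).mp h1
  exact ⟨b', by rw [← hb', Algebra.smul_def]⟩

end Tensor

section Rigid

section Triv

attribute [local instance] Exal.opModule Exal.isCentralScalar_opModule

theorem trivial_isTrivial (A : Type u) (B L : Type u) [CommRing A] [CommRing B] [Algebra A B]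
    [AddCommGroup L] [Module B L] : (Exal.Ext.trivial A B L).IsTrivial :=
  ⟨{ toFun := fun b => (TrivSqZeroExt.inl b : TrivSqZeroExt B L)
     map_one' := rfl
     map_mul' := fun x y => (TrivSqZeroExt.inlHom B L).map_mul x y
     map_zero' := rfl
     map_add' := fun x y => (TrivSqZeroExt.inlHom B L).map_add x y
     commutes' := fun _ => rfl }, fun _ => rfl⟩

end Triv

theorem ext_trivial_of_subsingleton_T1 (k B₀ : Type u) [CommRing k] [CommRing B₀] [Algebra k B₀]
    (h : Subsingleton (CotT.T1 (CotT.canon k B₀) B₀)) :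
    ∀ X : Exal.Ext k B₀ B₀, X.IsTrivial := by
  obtain ⟨eq, -⟩ := Groth.Agent.S12292.result k B₀ B₀
  haveI : Subsingleton (Exal.Exalcom k B₀ B₀) := eq.subsingleton
  intro X
  have h1 : X.cl = (Exal.Ext.trivial k B₀ B₀).cl := Subsingleton.elim _ _
  obtain ⟨ε⟩ : Nonempty (Exal.Ext.Equiv X (Exal.Ext.trivial k B₀ B₀)) := Quotient.exact h1
  obtain ⟨s₀, hs₀⟩ := trivial_isTrivial k B₀ B₀
  refine ⟨(ε.symm.toAlgEquiv : (Exal.Ext.trivial k B₀ B₀).E →ₐ[k] X.E).comp s₀, fun b => ?_⟩
  change X.proj (ε.symm.toAlgEquiv (s₀ b)) = b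
  rw [ε.symm.proj_apply]
  exact hs₀ b

end Rigid

end Groth.Agent.Lib.Helper19.RigSm
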