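import Mathlib
import Groth.Agent.Lib.Helper19.RigSmA
import Groth.Agent.Lib.Helper19.RigSmC
import Groth.Agent.Lib.Helper19.RigSmD
import Groth.Agent.Lib.Helper19.AffDefRigid

/-!
# A rigid fibre of a family smooth away from `t = 0` is smooth (helper19)
-/

set_option autoImplicit false
set_option linter.style.haveILetI false
set_option linter.unusedSectionVars false
universe u

open TensorProduct

namespace Groth.Agent.Lib.Helper19.RigSm

open Groth.Agent.Lib.Helper19.AffDef

section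

variable {k : Type u} [Field k] [IsAlgClosed k] (B₀ : Type u) [CommRing B₀] [Algebra k B₀]
  (A B : Type u) [CommRing A] [CommRing B] [Algebra k A] [Algebra.FiniteType k A]
  (t : A) (m : ℕ)
  [Algebra A B] [Module.Flat A B] [Algebra k B] [IsScalarTower k A B]

local notation "Am" => A ⧸ Ideal.span {t ^ m}
local notation "Rm" => (A ⧸ Ideal.span {t ^ m}) ⊗[A] B

set_option maxHeartbeats 800000 in
theorem exists_triv (hT : ∀ X : Exal.Ext k B₀ B₀, X.IsTrivial)
    (ht : (Ideal.span {t}).IsMaximal) (hm0 : m ≠ 0)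
    (e : (B ⧸ Ideal.span {algebraMap A B t}) ≃ₐ[k] B₀) :
    ∃ Ψ : Am ⊗[k] B₀ →ₐ[Am] Rm, Function.Bijective Ψ := by
  haveI : IsNoetherianRing A := Algebra.FiniteType.isNoetherianRing k A
  haveI : IsLocalRing Am := isLocalRing_quot t m ht hm0
  haveI : IsArtinianRing Am := isArtinianRing_quot t m ht hm0
  have hmax : IsLocalRing.maximalIdeal Am = Ideal.span {Ideal.Quotient.mk _ t} :=
    prime_eq t m ht _
  have hnil : IsNilpotent (IsLocalRing.maximalIdeal Am) := by
    rw [hmax]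
    exact isNilpotent_span_mk t m
  obtain ⟨em, hem⟩ := exists_res (k := k) t m ht hm0
  have hf₁ : ∀ a ∈ Ideal.span {t ^ m},
      (Algebra.ofId A (B ⧸ Ideal.span {algebraMap A B t})) a = 0 := by
    intro a ha
    obtain ⟨r, rfl⟩ := Ideal.mem_span_singleton'.mp ha
    change algebraMap A (B ⧸ Ideal.span {algebraMap A B t}) (r * t ^ m) = 0
    rw [IsScalarTower.algebraMap_apply A B (B ⧸ Ideal.span {algebraMap A B t}),
      Ideal.Quotient.algebraMap_eq, Ideal.Quotient.eq_zero_iff_mem, map_mul, map_pow]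
    exact Ideal.mul_mem_left _ _ (Ideal.pow_mem_of_mem _ (Ideal.mem_span_singleton_self _) m
      (Nat.pos_of_ne_zero hm0))
  let f₁ : Am →ₐ[A] B ⧸ Ideal.span {algebraMap A B t} :=
    Ideal.Quotient.liftₐ _ (Algebra.ofId A (B ⧸ Ideal.span {algebraMap A B t})) hf₁
  let f₂ : B →ₐ[A] B ⧸ Ideal.span {algebraMap A B t} := Ideal.Quotient.mkₐ A _
  let π₀ : Rm →ₐ[A] B ⧸ Ideal.span {algebraMap A B t} := Algebra.TensorProduct.productMap f₁ f₂
  let π : Rm →ₐ[k] B₀ :=
    (e : (B ⧸ Ideal.span {algebraMap A B t}) →ₐ[k] B₀).comp (π₀.restrictScalars k)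
  have hπ1 : ∀ b : B, π ((1 : Am) ⊗ₜ[A] b) = e (Ideal.Quotient.mk _ b) := by
    intro b
    change e (π₀ ((1 : Am) ⊗ₜ[A] b)) = _
    rw [Algebra.TensorProduct.productMap_apply_tmul, map_one, one_mul]
    rfl
  have hπ2 : ∀ a : A, π ((Ideal.Quotient.mk (Ideal.span {t ^ m}) a) ⊗ₜ[A] (1 : B)) =
      e (algebraMap A (B ⧸ Ideal.span {algebraMap A B t}) a) := by
    intro a
    change e (π₀ ((Ideal.Quotient.mk (Ideal.span {t ^ m}) a) ⊗ₜ[A] (1 : B))) = _
    rw [Algebra.TensorProduct.productMap_apply_tmul, map_one, mul_one]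
    rfl
  have hπsurj : Function.Surjective π := by
    intro b₀
    obtain ⟨x, rfl⟩ := e.surjective b₀
    obtain ⟨b, rfl⟩ := Ideal.Quotient.mk_surjective x
    exact ⟨(1 : Am) ⊗ₜ[A] b, hπ1 b⟩
  have hmk : ∀ a : A, algebraMap Am Rm (Ideal.Quotient.mk _ a) =
      (Ideal.Quotient.mk (Ideal.span {t ^ m}) a) ⊗ₜ[A] (1 : B) := by
    intro a
    rw [Algebra.TensorProduct.algebraMap_apply]
    rfl
  have hzero : algebraMap A (B ⧸ Ideal.span {algebraMap A B t}) t = 0 := by
    rw [IsScalarTower.algebraMap_apply A B (B ⧸ Ideal.span {algebraMap A B t}),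
      Ideal.Quotient.algebraMap_eq, Ideal.Quotient.eq_zero_iff_mem]
    exact Ideal.mem_span_singleton_self _
  have h3 : RingHom.ker (π : Rm →+* B₀) =
      (IsLocalRing.maximalIdeal Am).map (algebraMap Am Rm) := by
    rw [hmax, Ideal.map_span, Set.image_singleton, hmk]
    apply le_antisymm
    · intro x hx
      obtain ⟨b, rfl⟩ := includeRight_surjective (B := B) (Ideal.span {t ^ m}) x
      rw [RingHom.mem_ker] at hx
      change π ((1 : Am) ⊗ₜ[A] b) = 0 at hx
      rw [hπ1, EmbeddingLike.map_eq_zero_iff, Ideal.Quotient.eq_zero_iff_mem] at hx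
      obtain ⟨r, rfl⟩ := Ideal.mem_span_singleton'.mp hx
      have h0 : (1 : Am) ⊗ₜ[A] (r * algebraMap A B t) =
          ((1 : Am) ⊗ₜ[A] r) * ((Ideal.Quotient.mk (Ideal.span {t ^ m}) t) ⊗ₜ[A] (1 : B)) := by
        rw [Algebra.TensorProduct.tmul_mul_tmul, one_mul, mul_one, mul_comm, ← Algebra.smul_def,
          TensorProduct.tmul_smul, TensorProduct.smul_tmul', Algebra.smul_def, mul_one]
        rfl
      change (1 : Am) ⊗ₜ[A] (r * algebraMap A B t) ∈ _
      rw [h0]
      exact Ideal.mul_mem_left _ _ (Ideal.mem_span_singleton_self _)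
    · rw [Ideal.span_singleton_le_iff_mem, RingHom.mem_ker]
      change π _ = 0
      rw [hπ2, hzero, map_zero]
  have h1 : ∀ a : Am, (π : Rm →+* B₀) (algebraMap Am Rm a) = algebraMap k B₀ (em a) := by
    intro a
    obtain ⟨a', rfl⟩ := Ideal.Quotient.mk_surjective a
    change π (algebraMap Am Rm (Ideal.Quotient.mk _ a')) = _
    rw [hmk, hπ2, ← e.commutes]
    congr 1
    rw [IsScalarTower.algebraMap_apply k A (B ⧸ Ideal.span {algebraMap A B t}), ← sub_eq_zero,
      ← map_sub]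
    obtain ⟨r, hr⟩ := Ideal.mem_span_singleton'.mp (hem a')
    rw [← hr, map_mul, hzero, mul_zero]
  obtain ⟨s, hs⟩ := exists_section_of_ext_trivial π hπsurj h3 hT
  exact ⟨psi s, psi_bijective hnil em (π : Rm →+* B₀) h1 h3 s hs⟩

end

theorem formallySmooth_fibre_of_rigid
    {k : Type u} [Field k] [IsAlgClosed k] (B₀ : Type u) [CommRing B₀] [Algebra k B₀]
    (hT : ∀ X : Exal.Ext k B₀ B₀, X.IsTrivial)
    (A B : Type u) [CommRing A] [CommRing B] [IsDomain A] [Algebra k A] [Algebra.FiniteType k A]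
    (t : A) (ht : (Ideal.span {t}).IsMaximal) (ht0 : t ≠ 0)
    [Algebra A B] [Algebra.FiniteType A B] [Module.Flat A B] [Algebra k B] [IsScalarTower k A B]
    (e : (B ⧸ Ideal.span {algebraMap A B t}) ≃ₐ[k] B₀)
    (hsm : ∀ q : PrimeSpectrum B, algebraMap A B t ∉ q.asIdeal → q ∈ Algebra.smoothLocus A B) :
    Algebra.FormallySmooth k B₀ := by
  haveI : IsNoetherianRing A := Algebra.FiniteType.isNoetherianRing k A
  haveI : IsNoetherianRing B := Algebra.FiniteType.isNoetherianRing A B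
  haveI : Algebra.FinitePresentation A B :=
    Algebra.FinitePresentation.of_finiteType.mp inferInstance
  have hD : (↑(PrimeSpectrum.basicOpen (algebraMap A B t)) : Set (PrimeSpectrum B)) ⊆
      Algebra.smoothLocus A B := fun q hq => hsm q hq
  obtain ⟨n, φ, hφ⟩ := exists_retract_of_smooth_away (algebraMap A B t) hD
    (Algebra.Presentation.ofFinitePresentation A B)
  have hm0 : n + 1 ≠ 0 := Nat.succ_ne_zero n
  obtain ⟨Ψ, hΨ⟩ := exists_triv B₀ A B t (n + 1) hT ht hm0 e
  have hc : algebraMap A (A ⧸ Ideal.span {t ^ (n + 1)}) (t ^ n) ≠ 0 := by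
    rw [Ideal.Quotient.algebraMap_eq, Ne, Ideal.Quotient.eq_zero_iff_mem,
      Ideal.mem_span_singleton']
    rintro ⟨r, hr⟩
    have h0 : t ^ n * (r * t - 1) = 0 := by
      rw [pow_succ] at hr
      linear_combination hr
    rcases mul_eq_zero.mp h0 with h | h
    · exact pow_ne_zero n ht0 h
    · apply ht.ne_top
      rw [Ideal.eq_top_iff_one]
      rw [sub_eq_zero] at h
      rw [← h]
      exact Ideal.mul_mem_left _ _ (Ideal.mem_span_singleton_self t)
  obtain ⟨lam, hlam⟩ := Module.Projective.exists_dual_eq_one k hc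
  refine formallySmooth_of_TData (A' := A ⧸ Ideal.span {t ^ (n + 1)})
    (R := (A ⧸ Ideal.span {t ^ (n + 1)}) ⊗[A] B)
    (Algebra.Presentation.ofFinitePresentation A B).toGenerators (t ^ n) φ ?_ (t ^ (n + 1)) ?_
    Algebra.TensorProduct.includeRight (includeRight_surjective _) ?_ Ψ hΨ lam hlam
  · rw [hφ, map_pow]
  · rw [Ideal.Quotient.algebraMap_eq, Ideal.Quotient.eq_zero_iff_mem]
    exact Ideal.mem_span_singleton_self _
  · intro b hb
    exact eq_mul_of_one_tmul_eq_zero (t ^ (n + 1)) b hb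

end Groth.Agent.Lib.Helper19.RigSm
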