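import Mathlib
import Groth.Prelude.Def_CotT2
import Groth.Agent.Lib.Helper19.RigSmA
import Groth.Agent.Lib.Helper18.CotTBasic
import Groth.Agent.Lib.Helper18.CotTInv
import Groth.Agent.S12289

/-!
# Smoothness away from `t` and uniform `t`-power torsion of `T¹` (helper19)
-/

set_option autoImplicit false
set_option linter.style.haveILetI false
set_option linter.unusedSectionVars false
universe u

open TensorProduct

namespace Groth.Agent.Lib.Helper19.RigSm

section Mod2

variable {B : Type*} [CommRing B] {N L Ω : Type*} [AddCommGroup N] [Module B N]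
  [AddCommGroup L] [Module B L] [AddCommGroup Ω] [Module B Ω]

theorem projective_away_of_retract (t : B) (d : N →ₗ[B] L) (π : L →ₗ[B] Ω)
    (hex : Function.Exact d π) (hπ : Function.Surjective π) [Module.Projective B L]
    (n : ℕ) (φ : L →ₗ[B] N) (hφ : φ ∘ₗ d = (t ^ n) • LinearMap.id) :
    Module.Projective (Localization.Away t) (LocalizedModule.Away t Ω) := by
  have hφ' : ∀ x, φ (d x) = t ^ n • x := fun x => by
    have h := LinearMap.congr_fun hφ x
    simpa using h
  let r : L →ₗ[B] L := (t ^ n) • LinearMap.id - d ∘ₗ φ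
  have hr : LinearMap.ker π ≤ LinearMap.ker r := by
    intro y hy
    obtain ⟨x, rfl⟩ := (hex y).mp hy
    rw [LinearMap.mem_ker]
    simp only [r, LinearMap.sub_apply, LinearMap.smul_apply, LinearMap.id_apply,
      LinearMap.comp_apply, hφ', map_smul, sub_self]
  obtain ⟨σ, hσ⟩ := Groth.Agent.Lib.Helper18.CotTBasic.exists_comp_eq_of_ker_le π hπ r hr
  have hσ' : ∀ y, σ (π y) = r y := fun y => LinearMap.congr_fun hσ y
  have hπσ : ∀ z, π (σ z) = t ^ n • z := by
    intro z
    obtain ⟨y, rfl⟩ := hπ z
    rw [hσ']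
    simp only [r, LinearMap.sub_apply, LinearMap.smul_apply, LinearMap.id_apply,
      LinearMap.comp_apply, map_sub, map_smul, hex.apply_apply_eq_zero, sub_zero]
  let S : Submonoid B := Submonoid.powers t
  let π' : LocalizedModule S L →ₗ[Localization S] LocalizedModule S Ω := LocalizedModule.map S π
  let σ' : LocalizedModule S Ω →ₗ[Localization S] LocalizedModule S L := LocalizedModule.map S σ
  have hu : IsUnit (algebraMap B (Localization S) (t ^ n)) :=
    IsLocalization.map_units (Localization S) (⟨t ^ n, n, rfl⟩ : S)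
  obtain ⟨u, hu'⟩ := hu
  have hcomp : π' ∘ₗ σ' = (algebraMap B (Localization S) (t ^ n)) • LinearMap.id := by
    apply LinearMap.ext
    intro z
    induction z using LocalizedModule.induction_on with
    | h z s =>
      simp only [π', σ', LinearMap.comp_apply, LocalizedModule.map_mk, hπσ, LinearMap.smul_apply,
        LinearMap.id_apply]
      rw [algebraMap_smul, LocalizedModule.smul'_mk]
  refine Module.Projective.of_split ((↑u⁻¹ : Localization S) • σ') π' ?_
  rw [LinearMap.comp_smul, hcomp, ← hu', smul_smul, Units.inv_mul, one_smul]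

end Mod2

section Alg2

variable {A B : Type u} [CommRing A] [CommRing B] [Algebra A B]

theorem smooth_away_of_retract [Algebra.FinitePresentation A B] (t : B)
    {ι σ : Type*} (P : Algebra.Presentation A B ι σ) (n : ℕ)
    (φ : P.toExtension.CotangentSpace →ₗ[B] P.toExtension.Cotangent)
    (hφ : φ ∘ₗ P.toExtension.cotangentComplex = (t ^ n) • LinearMap.id) :
    (↑(PrimeSpectrum.basicOpen t) : Set (PrimeSpectrum B)) ⊆ Algebra.smoothLocus A B := by
  rw [Algebra.smoothLocus_eq_compl_support_inter, Set.subset_inter_iff, Set.subset_compl_comm,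
    PrimeSpectrum.basicOpen_eq_zeroLocus_compl, compl_compl,
    ← LocalizedModule.subsingleton_iff_support_subset]
  refine ⟨?_, ?_⟩
  · rw [LocalizedModule.subsingleton_iff]
    intro x
    refine ⟨t ^ n, ⟨n, rfl⟩, ?_⟩
    obtain ⟨y, rfl⟩ := P.toGenerators.equivH1Cotangent.surjective x
    rw [← map_smul, LinearEquiv.map_eq_zero_iff]
    apply Subtype.ext
    have h := LinearMap.congr_fun hφ y.1
    simp only [LinearMap.comp_apply, LinearMap.smul_apply, LinearMap.id_apply] at h
    have hy : P.toExtension.cotangentComplex y.1 = 0 := y.2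
    rw [hy, map_zero] at h
    exact h.symm
  · rw [← PrimeSpectrum.basicOpen_eq_zeroLocus_compl, Module.basicOpen_subset_freeLocus_iff]
    exact projective_away_of_retract t _ _ P.toExtension.exact_cotangentComplex_toKaehler
      P.toExtension.toKaehler_surjective n φ hφ

end Alg2

section T1

open CotT

variable {A B : Type u} [CommRing A] [CommRing B] [Algebra A B]

theorem smul_T1_eq_zero_of_retract {ι σ : Type} (P : Algebra.Presentation A B ι σ) (c : B)
    (φ : P.toExtension.CotangentSpace →ₗ[B] P.toExtension.Cotangent)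
    (hφ : φ ∘ₗ P.toExtension.cotangentComplex = c • LinearMap.id)
    (M : Type u) [AddCommGroup M] [Module B M] (x : T1 (canon A B) M) : c • x = 0 := by
  obtain ⟨-, hker, hsurj⟩ := Groth.Agent.S12289.result A B ι σ P M
  let E := Groth.Agent.Lib.Helper18.CotTInv.T1equiv P (canon A B) M
  have h1 : c • E x = 0 := by
    obtain ⟨ψ, hψ⟩ := hsurj (E x)
    rw [← hψ, ← map_smul, ← LinearMap.mem_ker, hker]
    refine ⟨ψ ∘ₗ φ, ?_⟩
    rw [LinearMap.lcomp_apply', LinearMap.comp_assoc, hφ, LinearMap.comp_smul, LinearMap.comp_id]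
  rw [← map_smul, LinearEquiv.map_eq_zero_iff] at h1
  exact h1

theorem exists_retract_of_smul_T1_eq_zero {ι σ : Type} (P : Algebra.Presentation A B ι σ) (c : B)
    (h : ∀ x : T1 (canon A B) P.toExtension.Cotangent, c • x = 0) :
    ∃ φ : P.toExtension.CotangentSpace →ₗ[B] P.toExtension.Cotangent,
      φ ∘ₗ P.toExtension.cotangentComplex = c • LinearMap.id := by
  obtain ⟨-, hker, -⟩ := Groth.Agent.S12289.result A B ι σ P P.toExtension.Cotangent
  let E := Groth.Agent.Lib.Helper18.CotTInv.T1equiv P (canon A B) P.toExtension.Cotangent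
  have h1 : c • homToT1 P P.toExtension.Cotangent LinearMap.id = 0 := by
    have h2 := h (E.symm (homToT1 P P.toExtension.Cotangent LinearMap.id))
    rw [← map_smul, LinearEquiv.map_eq_zero_iff] at h2
    exact h2
  rw [← map_smul, ← LinearMap.mem_ker, hker] at h1
  obtain ⟨φ, hφ⟩ := h1
  exact ⟨φ, by rw [← hφ, LinearMap.lcomp_apply']⟩

end T1

end Groth.Agent.Lib.Helper19.RigSm
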