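import Mathlib

/-!
# Simultaneous diagonalisation of locally finite commuting families over a Noetherian ring (helper19)

* `le_iSup_inf_eigenspace`: an invariant subspace of a diagonalisable endomorphism is the sum of its intersections
  with the eigenspaces (Lagrange interpolation, no finiteness).
* `iSup_iInf_eigenspace_eq_top_of_isNoetherian`: commuting `R`-linear endomorphisms of a Noetherian `R`-module which
  are diagonalisable over the field `k` are simultaneously diagonalisable.
* `iSup_iInf_eigenspace_eq_top_of_locallyFinite`: the locally finite version.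
-/

set_option autoImplicit false
universe u v w x

namespace Groth.Agent.Lib.Helper19.SimDiag

section LemmaL

variable {k : Type*} [Field k] {M : Type*} [AddCommGroup M] [Module k M]

lemma aeval_mem (g : Module.End k M) (N : Submodule k M) (hN : ∀ x ∈ N, g x ∈ N)
    (p : Polynomial k) : ∀ x ∈ N, Polynomial.aeval g p x ∈ N := by
  have hpow : ∀ n : ℕ, ∀ x ∈ N, (g ^ n) x ∈ N := by
    intro n
    induction n with
    | zero =>
      intro x hx
      simpa using hx
    | succ n ih =>
      intro x hx
      rw [pow_succ, Module.End.mul_apply]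
      exact ih _ (hN x hx)
  induction p using Polynomial.induction_on' with
  | add p q hp hq =>
    intro x hx
    rw [map_add, LinearMap.add_apply]
    exact N.add_mem (hp x hx) (hq x hx)
  | monomial n c =>
    intro x hx
    rw [Polynomial.aeval_monomial, Module.End.mul_apply, Module.algebraMap_end_apply]
    exact N.smul_mem c (hpow n x hx)

lemma le_iSup_inf_eigenspace (g : Module.End k M)
    (hg : ⨆ μ : k, Module.End.eigenspace g μ = ⊤)
    (N : Submodule k M) (hN : ∀ x ∈ N, g x ∈ N) :
    N ≤ ⨆ μ : k, N ⊓ Module.End.eigenspace g μ := by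
  classical
  intro x hx
  have hx' : x ∈ ⨆ μ : k, Module.End.eigenspace g μ := by
    rw [hg]
    exact Submodule.mem_top
  obtain ⟨c, hc, rfl⟩ := (Submodule.mem_iSup_iff_exists_finsupp _ _).mp hx'
  have key : ∀ μ ∈ c.support, c μ ∈ N := by
    intro μ hμ
    have h1 : Polynomial.aeval g (Lagrange.basis c.support id μ) (c.sum fun _ xi => xi) = c μ := by
      rw [Finsupp.sum, map_sum, Finset.sum_eq_single μ]
      · rw [Module.End.aeval_apply_of_mem_apply_eq_smul (Module.End.mem_eigenspace_iff.mp (hc μ)),
          show (Lagrange.basis c.support id μ).eval μ = 1 from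
            Lagrange.eval_basis_self (v := id) (Set.injOn_id _) hμ, one_smul]
      · intro ν hν hne
        rw [Module.End.aeval_apply_of_mem_apply_eq_smul (Module.End.mem_eigenspace_iff.mp (hc ν)),
          show (Lagrange.basis c.support id μ).eval ν = 0 from
            Lagrange.eval_basis_of_ne (v := id) hne.symm hν, zero_smul]
      · intro h
        exact absurd hμ h
    rw [← h1]
    exact aeval_mem g N hN _ _ hx
  rw [Finsupp.sum]
  apply Submodule.sum_mem
  intro μ hμ
  exact Submodule.mem_iSup_of_mem μ ⟨key μ hμ, hc μ⟩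

end LemmaL

section LemmaA

variable {k : Type*} [Field k] {R : Type*} [CommRing R] [Algebra k R]
  {M : Type*} [AddCommGroup M] [Module R M] [Module k M] [IsScalarTower k R M]
  {ι : Type*} (g : ι → Module.End R M)

lemma mem_eig_iff (i : ι) (μ : k) (x : M) :
    x ∈ Module.End.eigenspace ((g i).restrictScalars k) μ ↔ g i x = μ • x := by
  rw [Module.End.mem_eigenspace_iff]
  rfl

/-- the eigenspace as an `R`-submodule -/
def eigR (i : ι) (μ : k) : Submodule R M := Module.End.eigenspace (g i) (algebraMap k R μ)

lemma mem_eigR (i : ι) (μ : k) (x : M) : x ∈ eigR g i μ ↔ g i x = μ • x := by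
  unfold eigR
  rw [Module.End.mem_eigenspace_iff, algebraMap_smul]

theorem iSup_iInf_eigenspace_eq_top_of_isNoetherian [IsNoetherian R M]
    (hcomm : ∀ i j, Commute (g i) (g j))
    (hdiag : ∀ i, ⨆ μ : k, Module.End.eigenspace ((g i).restrictScalars k) μ = ⊤) :
    ⨆ χ : ι → k, ⨅ i, Module.End.eigenspace ((g i).restrictScalars k) (χ i) = ⊤ := by
  classical
  let P : Submodule R M → Prop := fun C => ∀ N : Submodule R M,
    (∀ i, ∀ w ∈ N, g i w ∈ N) → Disjoint N C →
      N.restrictScalars k ≤
        ⨆ χ : ι → k, ⨅ i, Module.End.eigenspace ((g i).restrictScalars k) (χ i)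
  have main : ∀ C, P C := by
    intro C
    refine WellFoundedGT.induction (motive := P) C ?_
    intro C IH N hN hNC
    by_cases hcase : ∀ i, ∃ μ : k, ∀ x ∈ N, g i x = μ • x
    · choose χ hχ using hcase
      intro x hx
      refine Submodule.mem_iSup_of_mem χ ?_
      rw [Submodule.mem_iInf]
      intro i
      rw [mem_eig_iff]
      exact hχ i x hx
    · push Not at hcase
      obtain ⟨i, hi⟩ := hcase
      have hL := le_iSup_inf_eigenspace ((g i).restrictScalars k) (hdiag i)
        (N.restrictScalars k) (fun x hx => hN i x hx)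
      refine hL.trans (iSup_le fun μ => ?_)
      let Nμ : Submodule R M := N ⊓ eigR g i μ
      have hNμ_stable : ∀ j, ∀ w ∈ Nμ, g j w ∈ Nμ := by
        intro j w hw
        refine ⟨hN j w hw.1, ?_⟩
        rw [SetLike.mem_coe, mem_eigR]
        have h1 := (mem_eigR g i μ w).mp hw.2
        have h2 : g i (g j w) = g j (g i w) := LinearMap.congr_fun (hcomm i j).eq w
        rw [h2, h1, LinearMap.map_smul_of_tower]
      have hsub : (N.restrictScalars k ⊓
          Module.End.eigenspace ((g i).restrictScalars k) μ) ≤ Nμ.restrictScalars k := by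
        intro x hx
        exact ⟨hx.1, (mem_eigR g i μ x).mpr ((mem_eig_iff g i μ x).mp hx.2)⟩
      refine hsub.trans ?_
      by_cases hex : ∃ ν : k, ν ≠ μ ∧ ∃ y ∈ N, y ≠ 0 ∧ g i y = ν • y
      · obtain ⟨ν, hνμ, y, hyN, hy0, hyν⟩ := hex
        let Nν : Submodule R M := N ⊓ eigR g i ν
        have hyNν : y ∈ Nν := ⟨hyN, (mem_eigR g i ν y).mpr hyν⟩
        refine IH (C ⊔ Nν) ?_ Nμ hNμ_stable ?_
        · refine lt_of_le_of_ne le_sup_left ?_
          intro heq
          have hyC : y ∈ C := by
            rw [heq]
            exact Submodule.mem_sup_right hyNν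
          exact hy0 ((Submodule.disjoint_def.mp hNC) y hyN hyC)
        · rw [Submodule.disjoint_def]
          intro x hxμ hx
          obtain ⟨c, hc, d, hd, rfl⟩ := Submodule.mem_sup.mp hx
          have hcN : c ∈ N := by
            have : c = (c + d) - d := by abel
            rw [this]
            exact N.sub_mem hxμ.1 hd.1
          have hc0 : c = 0 := (Submodule.disjoint_def.mp hNC) c hcN hc
          subst hc0
          rw [zero_add] at hxμ ⊢
          have e1 := (mem_eigR g i μ d).mp hxμ.2
          have e2 := (mem_eigR g i ν d).mp hd.2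
          have h3 : (μ - ν) • d = 0 := by rw [sub_smul, ← e1, ← e2, sub_self]
          exact (smul_eq_zero.mp h3).resolve_left (sub_ne_zero.mpr hνμ.symm)
      · exfalso
        push Not at hex
        obtain ⟨x, hxN, hxne⟩ := hi μ
        apply hxne
        have hx' := hL hxN
        have hle : (⨆ ν : k, N.restrictScalars k ⊓
            Module.End.eigenspace ((g i).restrictScalars k) ν) ≤
            Module.End.eigenspace ((g i).restrictScalars k) μ := by
          apply iSup_le
          intro ν y hy
          by_cases hν : ν = μ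
          · subst hν
            exact hy.2
          · have hy2 := (mem_eig_iff g i ν y).mp hy.2
            by_cases hy0 : y = 0
            · rw [hy0]
              exact Submodule.zero_mem _
            · exact absurd hy2 (hex ν hν y hy.1 hy0)
        exact (mem_eig_iff g i μ x).mp (hle hx')
  rw [eq_top_iff]
  intro x _
  have h := main ⊥ ⊤ (fun _ _ _ => Submodule.mem_top) disjoint_bot_right
  exact h (Submodule.mem_top : x ∈ (⊤ : Submodule R M))

end LemmaA

section Main

theorem iSup_iInf_eigenspace_eq_top_of_locallyFinite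
    (k : Type u) [Field k] (R : Type v) [CommRing R] [Algebra k R] [IsNoetherianRing R]
    (V : Type w) [AddCommGroup V] [Module R V] [Module k V] [IsScalarTower k R V]
    (ι : Type x) (f : ι → Module.End R V)
    (hcomm : ∀ i j, Commute (f i) (f j))
    (hdiag : ∀ i, ⨆ μ : k, Module.End.eigenspace ((f i).restrictScalars k) μ = ⊤)
    (hfin : ∀ v : V, ∃ W : Submodule R V, v ∈ W ∧ W.FG ∧ ∀ i, ∀ w ∈ W, f i w ∈ W) :
    ⨆ χ : ι → k, ⨅ i, Module.End.eigenspace ((f i).restrictScalars k) (χ i) = ⊤ := by
  classical
  rw [eq_top_iff]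
  intro v _
  obtain ⟨W, hvW, hWfg, hWst⟩ := hfin v
  haveI : IsNoetherian R W := isNoetherian_of_fg_of_noetherian W hWfg
  let gW : ι → Module.End R W := fun i => (f i).restrict (hWst i)
  let φ : W →ₗ[k] V := W.subtype.restrictScalars k
  have hcommW : ∀ i j, Commute (gW i) (gW j) := by
    intro i j
    show gW i * gW j = gW j * gW i
    apply LinearMap.ext
    intro w
    apply Subtype.ext
    show f i (f j w) = f j (f i w)
    exact LinearMap.congr_fun (hcomm i j).eq w
  have hdiagW : ∀ i, ⨆ μ : k, Module.End.eigenspace ((gW i).restrictScalars k) μ = ⊤ := by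
    intro i
    rw [eq_top_iff]
    intro w _
    have hL := le_iSup_inf_eigenspace ((f i).restrictScalars k) (hdiag i)
      (W.restrictScalars k) (fun x hx => hWst i x hx)
    have hw := hL w.2
    have hle : (⨆ μ : k, W.restrictScalars k ⊓
        Module.End.eigenspace ((f i).restrictScalars k) μ) ≤
        Submodule.map φ (⨆ μ : k, Module.End.eigenspace ((gW i).restrictScalars k) μ) := by
      rw [Submodule.map_iSup]
      apply iSup_mono
      intro μ x hx
      refine ⟨⟨x, hx.1⟩, ?_, rfl⟩
      rw [SetLike.mem_coe, Module.End.mem_eigenspace_iff]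
      apply Subtype.ext
      exact Module.End.mem_eigenspace_iff.mp hx.2
    obtain ⟨w', hw', hww'⟩ := hle hw
    have hww : w' = w := Subtype.ext hww'
    rw [← hww]
    exact hw'
  have hA := iSup_iInf_eigenspace_eq_top_of_isNoetherian (k := k) gW hcommW hdiagW
  have hvtop : (⟨v, hvW⟩ : W) ∈
      ⨆ χ : ι → k, ⨅ i, Module.End.eigenspace ((gW i).restrictScalars k) (χ i) := by
    rw [hA]
    exact Submodule.mem_top
  have hmap : Submodule.map φ
      (⨆ χ : ι → k, ⨅ i, Module.End.eigenspace ((gW i).restrictScalars k) (χ i)) ≤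
      ⨆ χ : ι → k, ⨅ i, Module.End.eigenspace ((f i).restrictScalars k) (χ i) := by
    rw [Submodule.map_iSup]
    apply iSup_mono
    intro χ
    rintro _ ⟨w, hw, rfl⟩
    rw [SetLike.mem_coe, Submodule.mem_iInf] at hw
    rw [Submodule.mem_iInf]
    intro i
    have h1 := Module.End.mem_eigenspace_iff.mp (hw i)
    rw [Module.End.mem_eigenspace_iff]
    exact congrArg Subtype.val h1
  exact hmap ⟨⟨v, hvW⟩, hvtop, rfl⟩

end Main

end Groth.Agent.Lib.Helper19.SimDiag
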