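import Mathlib
import Groth.Prelude.Def_CotT
import Groth.Agent.Lib.Helper19.SmObsObs

/-!
# Using `T² = 0` (helper19)

An "obstruction relation" `Ob` on the relation module of a presentation `P` (single valued, defined
on all relations, additive, semilinear, killing the trivial relations) defines a `B₀`-linear map
`L₂ → B₀`; if `T²(P, B₀) = 0` it is of the form `q ↦ [Σ q_s G_s]`.
-/

set_option autoImplicit false
set_option maxHeartbeats 400000
universe u

open MvPolynomial TensorProduct

namespace Groth.Agent.Lib.Helper19.SmObs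

section

variable {k B₀ : Type u} [Field k] [CommRing B₀] [Algebra k B₀] {ι σ : Type u}
  (P : Algebra.Presentation k B₀ ι σ)

/-- identity, from Mathlib's name of the polynomial ring of the presentation. -/
def toR (r : P.toExtension.Ring) : MvPolynomial ι k := r

/-- identity on relation vectors. -/
def toM (x : CotT.relMod P) : σ →₀ MvPolynomial ι k := x

/-- identity on relation vectors, backwards. -/
def ofM (x : σ →₀ MvPolynomial ι k) : CotT.relMod P := x

lemma toM_zero : toM P 0 = 0 := rfl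
lemma toM_add (x y : CotT.relMod P) : toM P (x + y) = toM P x + toM P y := rfl
lemma toM_sub (x y : CotT.relMod P) : toM P (x - y) = toM P x - toM P y := rfl
lemma toM_smul (r : P.toExtension.Ring) (x : CotT.relMod P) :
    toM P (r • x) = toR P r • toM P x := rfl
lemma toM_single (s : σ) (r : P.toExtension.Ring) :
    toM P (Finsupp.single s r) = Finsupp.single s (toR P r) := rfl
lemma toM_ofM (x : σ →₀ MvPolynomial ι k) : toM P (ofM P x) = x := rfl
lemma jmap_eq (x : CotT.relMod P) : toR P (CotT.jmap P x) = lc P.relation (toM P x) := rfl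
lemma algebraMap_eq' (r : P.toExtension.Ring) :
    algebraMap P.toExtension.Ring B₀ r = aeval P.val (toR P r) :=
  CotT.algebraMap_toExtension P r
lemma mem_relKer_ofM {q : σ →₀ MvPolynomial ι k} (hq : lc P.relation q = 0) :
    ofM P q ∈ CotT.relKer P := hq
lemma lc_toM_of_mem (q : CotT.relKer P) : lc P.relation (toM P q.1) = 0 := q.2

theorem exists_G_of_T2 (hT2 : Subsingleton (CotT.T2 P B₀))
    (Ob : (σ →₀ MvPolynomial ι k) → B₀ → Prop)
    (hEx : ∀ q, lc P.relation q = 0 → ∃ b, Ob q b)
    (hUn : ∀ q b b', Ob q b → Ob q b' → b = b')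
    (hAdd : ∀ q q' b b', Ob q b → Ob q' b' → Ob (q + q') (b + b'))
    (hSmul : ∀ (r : MvPolynomial ι k) q b, Ob q b → Ob (r • q) (aeval P.val r * b))
    (hTriv : ∀ a b, Ob (lc P.relation a • b - lc P.relation b • a) 0) :
    ∃ G : σ → MvPolynomial ι k,
      ∀ q b, lc P.relation q = 0 → Ob q b → b = aeval P.val (lc G q) := by
  classical
  choose ψf hψf using fun q : CotT.relKer P => hEx (toM P q.1) (lc_toM_of_mem P q)
  obtain ⟨ψ, hψ⟩ : ∃ ψ : CotT.relKer P →ₗ[P.toExtension.Ring] B₀,
      ∀ q, Ob (toM P q.1) (ψ q) := by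
    refine ⟨{ toFun := ψf, map_add' := fun q q' => ?_, map_smul' := fun r q => ?_ }, hψf⟩
    · have h := hAdd _ _ _ _ (hψf q) (hψf q')
      rw [← toM_add] at h
      exact hUn _ _ _ (hψf (q + q')) h
    · have h := hSmul (toR P r) _ _ (hψf q)
      rw [← toM_smul, ← algebraMap_eq', ← Algebra.smul_def] at h
      exact hUn _ _ _ (hψf (r • q)) h
  have hOb0 : ∀ y ∈ CotT.trivRel P, Ob (toM P y) 0 := by
    intro y hy
    refine Submodule.span_induction (p := fun y _ => Ob (toM P y) 0) ?_ ?_ ?_ ?_ hy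
    · rintro _ ⟨a, b, rfl⟩
      have h := hTriv (toM P a) (toM P b)
      rw [← jmap_eq, ← jmap_eq, ← toM_smul, ← toM_smul, ← toM_sub] at h
      exact h
    · have h := hTriv 0 0
      rw [sub_self] at h
      exact h
    · intro x y _ _ hx hy
      have h := hAdd _ _ _ _ hx hy
      rw [add_zero, ← toM_add] at h
      exact h
    · intro r x _ hx
      have h := hSmul (toR P r) _ _ hx
      rw [mul_zero, ← toM_smul] at h
      exact h
  have hψ0 : ∀ x : CotT.relKer P, (x : CotT.relMod P) ∈ CotT.trivRel P → ψ x = 0 := fun x hx =>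
    hUn _ _ _ (hψ x) (hOb0 _ hx)
  have hle : LinearMap.range ((CotT.trivRelKer P).subtype.baseChange B₀) ≤
      LinearMap.ker (LinearMap.liftBaseChange B₀ ψ) := by
    rw [LinearMap.range_le_ker_iff]
    refine TensorProduct.AlgebraTensorModule.ext fun b x => ?_
    simp only [LinearMap.coe_comp, Function.comp_apply, LinearMap.baseChange_tmul,
      Submodule.coe_subtype, LinearMap.zero_apply]
    rw [LinearMap.liftBaseChange_tmul, hψ0 _ x.2, smul_zero]
  obtain ⟨Ψ, hΨ⟩ : ∃ Ψ : CotT.L2 P →ₗ[B₀] B₀,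
      ∀ z, Ψ (Submodule.Quotient.mk z) = LinearMap.liftBaseChange B₀ ψ z :=
    ⟨Submodule.liftQ _ (LinearMap.liftBaseChange B₀ ψ) hle, fun z => Submodule.liftQ_apply _ _ _⟩
  have hΨ0 : (Submodule.Quotient.mk Ψ : CotT.T2 P B₀) = 0 := Subsingleton.elim _ _
  rw [Submodule.Quotient.mk_eq_zero] at hΨ0
  obtain ⟨φ, hφ⟩ := hΨ0
  choose G hG using fun s => P.aeval_val_surjective
    (φ ((1 : B₀) ⊗ₜ[P.toExtension.Ring] (Finsupp.single s 1 : CotT.relMod P)))
  refine ⟨G, fun q b hq hb => ?_⟩
  have key : ∀ x : CotT.relMod P,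
      φ ((1 : B₀) ⊗ₜ[P.toExtension.Ring] x) = aeval P.val (lc G (toM P x)) := by
    intro x
    induction x using Finsupp.induction_linear with
    | zero => rw [TensorProduct.tmul_zero, map_zero, toM_zero, map_zero, map_zero]
    | add x y hx hy => rw [TensorProduct.tmul_add, map_add, hx, hy, toM_add, map_add, map_add]
    | single s r =>
      have e1 : (1 : B₀) ⊗ₜ[P.toExtension.Ring] (Finsupp.single s r : CotT.relMod P) =
          (algebraMap P.toExtension.Ring B₀ r) •
            ((1 : B₀) ⊗ₜ[P.toExtension.Ring] (Finsupp.single s 1 : CotT.relMod P)) := by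
        rw [TensorProduct.smul_tmul', smul_eq_mul, mul_one, ← Finsupp.smul_single_one s r,
          ← TensorProduct.smul_tmul, Algebra.smul_def, mul_one]
      rw [e1, map_smul, ← hG, smul_eq_mul, algebraMap_eq', toM_single]
      change _ = aeval P.val (Finsupp.linearCombination _ G (Finsupp.single s (toR P r)))
      rw [Finsupp.linearCombination_single, smul_eq_mul, map_mul]
  have hq' : ofM P q ∈ CotT.relKer P := mem_relKer_ofM P hq
  have hb' : b = ψ ⟨ofM P q, hq'⟩ := hUn _ _ _ hb (hψ ⟨ofM P q, hq'⟩)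
  have hk := key (ofM P q)
  rw [toM_ofM] at hk
  rw [hb', ← hk]
  have h1 : ψ ⟨ofM P q, hq'⟩ =
      Ψ (Submodule.Quotient.mk
        ((1 : B₀) ⊗ₜ[P.toExtension.Ring] (⟨ofM P q, hq'⟩ : CotT.relKer P))) := by
    rw [hΨ, LinearMap.liftBaseChange_tmul, one_smul]
  rw [h1, ← hφ, CotT.d2Star_apply, LinearMap.comp_apply, CotT.d2_mk_tmul]

end

end Groth.Agent.Lib.Helper19.SmObs
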