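import Mathlib
import Groth.Prelude.Def_ArtFun4
import Groth.Prelude.Def_CotT
import Groth.Agent.Lib.Helper19.AffDefAlg
import Groth.Agent.Lib.Helper19.SmObsLift
import Groth.Agent.Lib.Helper19.SmObsT2

/-!
# Unobstructedness of affine schemes with `T² = 0` (helper19)

`exists_lift`: if `T²(P, B₀) = 0` for a presentation `P` of `B₀` over `k`, every (algebraic datum of
a) deformation of `Spec B₀` over `A` lifts along a small extension `A' → A`.
-/

set_option autoImplicit false
set_option maxHeartbeats 400000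
set_option linter.style.haveILetI false
universe u

open MvPolynomial CategoryTheory CategoryTheory.Limits AlgebraicGeometry

namespace Groth.Agent.Lib.Helper19.SmObs

open ArtFun ArtFun.Art Groth.Agent.Lib.Helper19.AffDef

variable {k : Type u} [Field k] {B₀ : Type u} [CommRing B₀] [Algebra k B₀]

theorem bc_iso_of_isPushout {A' A : Art k k} (p : A' ⟶ A) (D' : AData A' B₀) (D : AData A B₀)
    (β : D'.R →+* D.R)
    (hP : IsPushout (CommRingCat.ofHom (algebraMap A' D'.R))
      (CommRingCat.ofHom p.toAlgHom.toRingHom)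
      (CommRingCat.ofHom β) (CommRingCat.ofHom (algebraMap A D.R)))
    (hπ : D.π.comp β = D'.π) :
    Nonempty (DefSch.Iso (D'.toDefSch.baseChange p) D.toDefSch) := by
  have hPB : IsPullback (Spec.map (CommRingCat.ofHom β)) D.toDefSch.f D'.toDefSch.f
      (specMap p) :=
    isPullback_SpecMap_of_isPushout _ _ _ _ hP
  refine ⟨{ iso := (IsPullback.of_hasPullback D'.toDefSch.f (specMap p)).isoIsPullback _ _ hPB
            hom_f := IsPullback.isoIsPullback_hom_snd _ _ _ _
            i_hom := ?_ }⟩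
  apply hPB.hom_ext
  · refine (Category.assoc _ _ _).trans ?_
    refine (congrArg (fun t => (D'.toDefSch.baseChange p).i ≫ t)
      (IsPullback.isoIsPullback_hom_fst _ _ (IsPullback.of_hasPullback _ _) hPB)).trans ?_
    refine (DefSch.baseChange_i_fst D'.toDefSch p).trans ?_
    change Spec.map (CommRingCat.ofHom D'.π) =
      Spec.map (CommRingCat.ofHom D.π) ≫ Spec.map (CommRingCat.ofHom β)
    rw [← Spec.map_comp, ← CommRingCat.ofHom_comp, hπ]
  · refine (Category.assoc _ _ _).trans ?_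
    refine (congrArg (fun t => (D'.toDefSch.baseChange p).i ≫ t)
      (IsPullback.isoIsPullback_hom_snd _ _ (IsPullback.of_hasPullback _ _) hPB)).trans ?_
    exact (DefSch.baseChange_i_f D'.toDefSch p).trans (DefSch.i_f D.toDefSch).symm

lemma isNilpotent_max' (A : Art k k) : IsNilpotent (IsLocalRing.maximalIdeal A) := by
  rw [← IsLocalRing.jacobson_eq_maximalIdeal ⊥ bot_ne_top]
  exact IsArtinianRing.isNilpotent_jacobson_bot

theorem sdata_of_isSmallExt {A' A : Art k k} (p : A' ⟶ A) (hp : IsSmallExt p) :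
    ∃ t : A', SData A'.res A.res p.toAlgHom t := by
  obtain ⟨hsurj, hne, ⟨⟨t, htker⟩⟩, hkill⟩ := hp
  refine ⟨t, ⟨hsurj, fun a => res_app p a, htker, fun a ha => ?_, fun h0 => hne ?_⟩⟩
  · have h1 : a ∈ IsLocalRing.maximalIdeal A' := (mem_maximalIdeal_iff A' a).2 ha
    have h2 : t ∈ RingHom.ker p.toAlgHom := by
      rw [htker]
      exact Submodule.mem_span_singleton_self t
    have h3 : a * t ∈ IsLocalRing.maximalIdeal A' * RingHom.ker p.toAlgHom :=
      Ideal.mul_mem_mul h1 h2
    rw [hkill] at h3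
    rw [mul_comm]
    exact h3
  · rw [htker, h0]
    simp

theorem exists_lift {ι σ : Type u} (P : Algebra.Presentation k B₀ ι σ)
    (hT2 : Subsingleton (CotT.T2 P B₀)) {A' A : Art k k} (p : A' ⟶ A) (hp : IsSmallExt p)
    (D : AData A B₀) :
    ∃ D' : AData A' B₀, Nonempty (DefSch.Iso (D'.toDefSch.baseChange p) D.toDefSch) := by
  classical
  obtain ⟨t, S⟩ := sdata_of_isSmallExt p hp
  obtain ⟨Q⟩ := exists_apres A.res D.π P (IsLocalRing.maximalIdeal A) (mem_maximalIdeal_iff A)
    (isNilpotent_max' A) D.h1 D.h2 D.h3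
  choose Fam₀ hFam₀ using fun s => rhoP_surjective (ι := ι) p.toAlgHom S.hp (Q.Fam s)
  obtain ⟨G, hG⟩ := exists_G_of_T2 P hT2 (Obs A'.res t P Fam₀)
    (fun q hq => obs_exists S _ (mem_maximalIdeal_iff A) Q Fam₀ hFam₀ q hq)
    (fun q b b' h h' => obs_unique S _ (mem_maximalIdeal_iff A) Q Fam₀ hFam₀ h h')
    (fun q q' b b' h h' => obs_add Fam₀ h h')
    (fun r q b h => obs_smul Fam₀ r h)
    (fun a b => obs_triv S Q Fam₀ hFam₀ a b)
  let Fam' : σ → MvPolynomial ι A' := fun s => Fam₀ s - C t * iot A' (G s)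
  have hF' : ∀ s, rhoP p.toAlgHom (Fam' s) = Q.Fam s := fun s => hF'_shift S Q Fam₀ hFam₀ G s
  have hO : ∀ (c : σ →₀ MvPolynomial ι A') (h : MvPolynomial ι k),
      lc Fam' c = C t * iot A' h → aeval P.val h = 0 :=
    fun c h hc => obs_shift_zero S Q Fam₀ hFam₀ G hG c h hc
  have hrel : ∀ s, rho A'.res (Fam' s) = P.relation s := fun s => rho_Fam' S Q Fam' hF' s
  haveI hmax : (IsLocalRing.maximalIdeal A').IsMaximal := IsLocalRing.maximalIdeal.isMaximal A'
  haveI hflat : Module.Flat A' (MvPolynomial ι A' ⧸ II Fam') :=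
    flat_quot S _ (mem_maximalIdeal_iff A) Q Fam' hF' (IsLocalRing.maximalIdeal A')
      (mem_maximalIdeal_iff A') (isNilpotent_max' A') hO
  let D' : AData A' B₀ :=
    { R := MvPolynomial ι A' ⧸ II Fam'
      π := piQ Fam' hrel
      h1 := piQ_algebraMap Fam' hrel
      h2 := piQ_surjective Fam' hrel
      h3 := ker_piQ Fam' (IsLocalRing.maximalIdeal A') (mem_maximalIdeal_iff A') hrel }
  refine ⟨D', bc_iso_of_isPushout p D' D (betaQ Q Fam' hF') ?_ ?_⟩
  · refine isPushout_of_surjective p.toAlgHom.toRingHom S.hp _ _ (betaQ Q Fam' hF')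
      (betaQ_surjective S Q Fam' hF') (betaQ_algebraMap Q Fam' hF') (fun r hr => ?_)
    have h1 := betaQ_ker S Q Fam' hF' r hr
    rw [← S.hker] at h1
    exact h1
  · exact RingHom.ext (pi_betaQ S Q Fam' hF' hrel)

end Groth.Agent.Lib.Helper19.SmObs
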