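import Mathlib

/-!
# Smooth monoid algebras of fine sharp monoids are polynomial algebras

If `N` is a finitely generated cancellative sharp commutative monoid and `k[N]` is formally smooth
over a field `k`, then `N` is free.  The proof: take a minimal generating set `G`, the surjection
`φ : k[x_G] → k[N]` with kernel `J`.  Sharpness + minimality force every element of `J` to have no
constant and no linear term.  Formal smoothness splits `J/J² → k[N] ⊗ Ω`, which yields
`J ≤ 𝔫 J` for `𝔫 = (x_g)`, so `J = 0` by Nakayama.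
-/

open scoped TensorProduct

namespace Groth.Agent.Lib.Helper19.SmoothMonoid

universe u

/-! ### Fiber lemma -/

theorem mapDomain_apply_of_fiber {α β M : Type*} [AddCommMonoid M] (π : α → β) (a₀ : α)
    (h : ∀ a, π a = π a₀ → a = a₀) (x : α →₀ M) :
    Finsupp.mapDomain π x (π a₀) = x a₀ := by
  classical
  show (x.sum fun a b => Finsupp.single (π a) b) (π a₀) = x a₀
  simp only [Finsupp.sum, Finsupp.finset_sum_apply, Finsupp.single_apply]
  have key : ∀ a, (if π a = π a₀ then x a else 0) = if a = a₀ then x a else 0 := by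
    intro a
    by_cases hc : a = a₀
    · subst hc; simp
    · rw [if_neg hc, if_neg (fun h' => hc (h a h'))]
  simp_rw [key]
  rw [Finset.sum_ite_eq']
  split_ifs with hmem
  · rfl
  · exact (Finsupp.notMem_support_iff.mp hmem).symm

/-! ### constant coefficient of a partial derivative -/

theorem constantCoeff_pderiv {σ R : Type*} [CommSemiring R] (i : σ) (f : MvPolynomial σ R) :
    MvPolynomial.constantCoeff (MvPolynomial.pderiv i f) =
      MvPolynomial.coeff (Finsupp.single i 1) f := by
  classical
  induction f using MvPolynomial.induction_on' with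
  | monomial s a =>
    rw [MvPolynomial.pderiv_monomial, MvPolynomial.constantCoeff_monomial,
      MvPolynomial.coeff_monomial]
    by_cases hs : s = Finsupp.single i 1
    · subst hs; simp
    · rw [if_neg hs]
      by_cases h0 : s - Finsupp.single i 1 = 0
      · rw [if_pos h0]
        have hle : s ≤ Finsupp.single i 1 := tsub_eq_zero_iff_le.mp h0
        have hsi : s i = 0 := by
          by_contra hne
          apply hs
          ext j
          have hj := Finsupp.le_def.mp hle j
          rw [Finsupp.single_apply] at hj ⊢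
          by_cases hij : i = j
          · subst hij
            rw [if_pos rfl] at hj ⊢
            omega
          · rw [if_neg hij] at hj ⊢
            omega
        rw [hsi]; simp
      · rw [if_neg h0]
  | add p q hp hq => rw [map_add, map_add, MvPolynomial.coeff_add, hp, hq]

/-! ### Monoid combinatorics -/

section Monoid

variable {N : Type*} [AddCommMonoid N]

/-- The canonical map `ℕ^G → N`. -/
noncomputable def pi (G : Finset N) : (G →₀ ℕ) →+ N :=
  (Finsupp.linearCombination ℕ (fun g : G => (g : N))).toAddMonoidHom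

theorem pi_apply (G : Finset N) (v : G →₀ ℕ) :
    pi G v = v.sum (fun g n => n • (g : N)) := by
  simp [pi, Finsupp.linearCombination_apply]

theorem pi_single (G : Finset N) (g : G) (n : ℕ) :
    pi G (Finsupp.single g n) = n • (g : N) := by
  simp [pi]

theorem pi_surjective (G : Finset N) (hG : AddSubmonoid.closure (G : Set N) = ⊤) :
    Function.Surjective (pi G) := by
  intro x
  have hx : x ∈ AddSubmonoid.closure (G : Set N) := by rw [hG]; trivial
  induction hx using AddSubmonoid.closure_induction with
  | mem y hy =>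
    exact ⟨Finsupp.single ⟨y, Finset.mem_coe.mp hy⟩ 1, by rw [pi_single]; simp⟩
  | zero => exact ⟨0, map_zero _⟩
  | add y z _ _ hy hz =>
    obtain ⟨v, rfl⟩ := hy
    obtain ⟨w, rfl⟩ := hz
    exact ⟨v + w, map_add _ _ _⟩

variable [DecidableEq N]

theorem exists_minimal_gen [AddMonoid.FG N] :
    ∃ G : Finset N, AddSubmonoid.closure (G : Set N) = ⊤ ∧
      ∀ g ∈ G, g ∉ AddSubmonoid.closure ((G.erase g : Finset N) : Set N) := by
  classical
  have hfg : (⊤ : AddSubmonoid N).FG := AddMonoid.fg_def.mp inferInstance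
  have hex : ∃ n, ∃ G : Finset N, G.card = n ∧ AddSubmonoid.closure (G : Set N) = ⊤ := by
    obtain ⟨S, hS⟩ := hfg
    exact ⟨S.card, S, rfl, hS⟩
  obtain ⟨G, hcard, hG⟩ := Nat.find_spec hex
  refine ⟨G, hG, fun g hg hmem => ?_⟩
  have hle : AddSubmonoid.closure (G : Set N) ≤
      AddSubmonoid.closure ((G.erase g : Finset N) : Set N) := by
    rw [AddSubmonoid.closure_le]
    intro x hx
    by_cases hxg : x = g
    · subst hxg; exact hmem
    · exact AddSubmonoid.subset_closure
        (Finset.mem_coe.mpr (Finset.mem_erase.mpr ⟨hxg, Finset.mem_coe.mp hx⟩))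
  have htop : AddSubmonoid.closure ((G.erase g : Finset N) : Set N) = ⊤ := by
    rw [eq_top_iff, ← hG]; exact hle
  have hlt : (G.erase g).card < Nat.find hex := by
    rw [← hcard]; exact Finset.card_erase_lt_of_mem hg
  exact Nat.find_min hex hlt ⟨G.erase g, rfl, htop⟩

variable [IsCancelAdd N]

theorem single_le_of_ne_zero {ι : Type*} (v : ι →₀ ℕ) (g : ι) (hg : v g ≠ 0) :
    Finsupp.single g 1 ≤ v := by
  classical
  refine Finsupp.le_def.mpr (fun j => ?_)
  rw [Finsupp.single_apply]
  split_ifs with hj
  · subst hj; exact Nat.one_le_iff_ne_zero.mpr hg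
  · exact Nat.zero_le _

omit [IsCancelAdd N] in
theorem pi_eq_zero (hsharp : ∀ n : N, IsAddUnit n → n = 0) (G : Finset N)
    (hmin : ∀ g ∈ G, g ∉ AddSubmonoid.closure ((G.erase g : Finset N) : Set N))
    (v : G →₀ ℕ) (hv : pi G v = 0) : v = 0 := by
  classical
  by_contra hne
  obtain ⟨g, hg⟩ : ∃ g, v g ≠ 0 := by
    by_contra hcon
    push Not at hcon
    exact hne (Finsupp.ext hcon)
  have hle := single_le_of_ne_zero v g hg
  have hdec : v = Finsupp.single g 1 + (v - Finsupp.single g 1) :=
    (add_tsub_cancel_of_le hle).symm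
  have hsum : (g : N) + pi G (v - Finsupp.single g 1) = 0 := by
    rw [← hv]
    conv_rhs => rw [hdec]
    rw [map_add, pi_single, one_smul]
  have hunit : IsAddUnit (g : N) := isAddUnit_iff_exists_neg.mpr ⟨_, hsum⟩
  have hg0 : (g : N) = 0 := hsharp _ hunit
  apply hmin g g.2
  rw [hg0]; exact zero_mem _

theorem pi_eq_single (hsharp : ∀ n : N, IsAddUnit n → n = 0) (G : Finset N)
    (hmin : ∀ g ∈ G, g ∉ AddSubmonoid.closure ((G.erase g : Finset N) : Set N))
    (g : G) (v : G →₀ ℕ) (hv : pi G v = pi G (Finsupp.single g 1)) :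
    v = Finsupp.single g 1 := by
  classical
  rw [pi_single, one_smul] at hv
  by_cases hvg : v g = 0
  · exfalso
    apply hmin g g.2
    have hmem : pi G v ∈ AddSubmonoid.closure ((G.erase (g : N) : Finset N) : Set N) := by
      rw [pi_apply, Finsupp.sum]
      refine AddSubmonoid.sum_mem _ (fun i hi => ?_)
      apply AddSubmonoid.nsmul_mem
      apply AddSubmonoid.subset_closure
      rw [Finset.mem_coe, Finset.mem_erase]
      refine ⟨fun hig => ?_, i.2⟩
      have : i = g := Subtype.ext hig
      subst this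
      exact (Finsupp.mem_support_iff.mp hi) hvg
    rw [hv] at hmem
    exact hmem
  · have hle := single_le_of_ne_zero v g hvg
    have hdec : v = Finsupp.single g 1 + (v - Finsupp.single g 1) :=
      (add_tsub_cancel_of_le hle).symm
    have h1 : pi G v = (g : N) + pi G (v - Finsupp.single g 1) := by
      conv_lhs => rw [hdec]
      rw [map_add, pi_single, one_smul]
    have h2 : pi G (v - Finsupp.single g 1) = 0 := by
      have : (g : N) + pi G (v - Finsupp.single g 1) = (g : N) + 0 := by
        rw [← h1, hv, add_zero]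
      exact add_left_cancel this
    have h3 := pi_eq_zero hsharp G hmin _ h2
    rw [hdec, h3, add_zero]

end Monoid

/-! ### The presentation `k[x_G] → k[N]` -/

section Alg

variable (k : Type*) [CommRing k] {N : Type*} [AddCommMonoid N]

/-- The algebra map `k[x_G] → k[N]`. -/
noncomputable def phi (G : Finset N) : MvPolynomial G k →ₐ[k] AddMonoidAlgebra k N :=
  AddMonoidAlgebra.mapDomainAlgHom k k (pi G)

variable {k}

theorem phi_coeff (G : Finset N) (f : MvPolynomial G k) :
    AddMonoidAlgebra.coeff (phi k G f) = Finsupp.mapDomain (pi G) (AddMonoidAlgebra.coeff f) := by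
  rw [phi, AddMonoidAlgebra.mapDomainAlgHom_apply, AddMonoidAlgebra.coeff_mapDomain]

theorem phi_surjective (G : Finset N) (hG : AddSubmonoid.closure (G : Set N) = ⊤) :
    Function.Surjective (phi k G) := by
  intro y
  obtain ⟨x, hx⟩ := Finsupp.mapDomain_surjective (pi_surjective G hG) (AddMonoidAlgebra.coeff y)
  refine ⟨AddMonoidAlgebra.ofCoeff x, ?_⟩
  apply AddMonoidAlgebra.coeff_injective
  rw [phi_coeff]
  exact hx

theorem coeff_eq_zero_of_fiber (G : Finset N) (f : MvPolynomial G k) (hf : phi k G f = 0)
    (a₀ : G →₀ ℕ) (h : ∀ a, pi G a = pi G a₀ → a = a₀) : MvPolynomial.coeff a₀ f = 0 := by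
  have h1 := mapDomain_apply_of_fiber (pi G) a₀ h (AddMonoidAlgebra.coeff f)
  rw [← phi_coeff, hf] at h1
  show (AddMonoidAlgebra.coeff f) a₀ = 0
  rw [← h1]
  simp

end Alg

section Field

variable (k : Type*) [Field k] {N : Type*} [AddCommMonoid N] [IsCancelAdd N] [DecidableEq N]

theorem phi_injective (hsharp : ∀ n : N, IsAddUnit n → n = 0) (G : Finset N)
    (hG : AddSubmonoid.closure (G : Set N) = ⊤)
    (hmin : ∀ g ∈ G, g ∉ AddSubmonoid.closure ((G.erase g : Finset N) : Set N))
    [Algebra.FormallySmooth k (AddMonoidAlgebra k N)] :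
    Function.Injective (phi k G) := by
  classical
  letI : Algebra (MvPolynomial G k) (AddMonoidAlgebra k N) := (phi k G).toRingHom.toAlgebra
  haveI : IsScalarTower k (MvPolynomial G k) (AddMonoidAlgebra k N) :=
    IsScalarTower.of_algebraMap_eq (fun r => ((phi k G).commutes r).symm)
  have hsurj : Function.Surjective (algebraMap (MvPolynomial G k) (AddMonoidAlgebra k N)) :=
    phi_surjective G hG
  set J := RingHom.ker (algebraMap (MvPolynomial G k) (AddMonoidAlgebra k N)) with hJ
  set 𝔫 := RingHom.ker (MvPolynomial.constantCoeff : MvPolynomial G k →+* k) with h𝔫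
  obtain ⟨l, hl⟩ : ∃ l : AddMonoidAlgebra k N ⊗[MvPolynomial G k] Ω[MvPolynomial G k⁄k]
      →ₗ[MvPolynomial G k] J.Cotangent,
      l ∘ₗ KaehlerDifferential.kerCotangentToTensor k (MvPolynomial G k) (AddMonoidAlgebra k N)
        = LinearMap.id :=
    (Algebra.FormallySmooth.iff_split_injection (R := k)
      (P := MvPolynomial G k) (A := AddMonoidAlgebra k N) hsurj).mp inferInstance
  have hJ0 : ∀ f ∈ J, phi k G f = 0 := fun f hf => RingHom.mem_ker.mp hf
  have hJn : J ≤ 𝔫 := by
    intro f hf
    rw [h𝔫, RingHom.mem_ker, MvPolynomial.constantCoeff_eq]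
    exact coeff_eq_zero_of_fiber G f (hJ0 f hf) 0
      (fun a ha => pi_eq_zero hsharp G hmin a (by rw [ha, map_zero]))
  have hpd : ∀ f ∈ J, ∀ i, MvPolynomial.pderiv i f ∈ 𝔫 := by
    intro f hf i
    rw [h𝔫, RingHom.mem_ker, constantCoeff_pderiv]
    exact coeff_eq_zero_of_fiber G f (hJ0 f hf) (Finsupp.single i 1)
      (fun a ha => pi_eq_single hsharp G hmin i a ha)
  have hc : ∀ i : G, ∃ c : J, J.toCotangent c =
      l (1 ⊗ₜ KaehlerDifferential.D k (MvPolynomial G k) (MvPolynomial.X i)) :=
    fun i => Ideal.toCotangent_surjective _ _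
  choose c hc using hc
  have hin : J ≤ 𝔫 • J := by
    intro f hf
    have e1 : KaehlerDifferential.D k (MvPolynomial G k) f =
        ∑ i, MvPolynomial.pderiv i f • KaehlerDifferential.D k (MvPolynomial G k)
          (MvPolynomial.X i) := by
      have := (KaehlerDifferential.mvPolynomialBasis k G).sum_repr
        (KaehlerDifferential.D k (MvPolynomial G k) f)
      simp only [KaehlerDifferential.mvPolynomialBasis_repr_apply,
        KaehlerDifferential.mvPolynomialBasis_apply] at this
      exact this.symm
    have e2 : J.toCotangent ⟨f, hf⟩ = ∑ i, MvPolynomial.pderiv i f • J.toCotangent (c i) := by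
      have := LinearMap.congr_fun hl (J.toCotangent ⟨f, hf⟩)
      rw [LinearMap.comp_apply, KaehlerDifferential.kerCotangentToTensor_toCotangent,
        LinearMap.id_apply] at this
      rw [← this]
      simp only []
      rw [e1, TensorProduct.tmul_sum, map_sum]
      refine Finset.sum_congr rfl (fun i _ => ?_)
      rw [TensorProduct.tmul_smul, map_smul, hc]
    have e3 : J.toCotangent ⟨f, hf⟩ = J.toCotangent (∑ i, MvPolynomial.pderiv i f • c i) := by
      rw [e2, map_sum]; simp only [map_smul]
    rw [Ideal.toCotangent_eq] at e3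
    have h2 : J ^ 2 ≤ 𝔫 • J := by
      rw [pow_two, smul_eq_mul]; exact Ideal.mul_mono_left hJn
    have h3 : ((∑ i, MvPolynomial.pderiv i f • c i : J) : MvPolynomial G k) ∈ 𝔫 • J := by
      rw [Submodule.coe_sum]
      refine Submodule.sum_mem _ (fun i _ => ?_)
      rw [Submodule.coe_smul]
      exact Submodule.smul_mem_smul (hpd f hf i) (c i).2
    have := Submodule.add_mem _ (h2 e3) h3
    rwa [sub_add_cancel] at this
  have hfg : J.FG := IsNoetherian.noetherian J
  obtain ⟨r, hr1, hr2⟩ :=
    Submodule.exists_sub_one_mem_and_smul_eq_zero_of_fg_of_le_smul 𝔫 J hfg hin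
  have hr0 : r ≠ 0 := by
    rintro rfl
    have h0 : MvPolynomial.constantCoeff (0 - 1 : MvPolynomial G k) = 0 := RingHom.mem_ker.mp hr1
    simp at h0
  rw [injective_iff_map_eq_zero]
  intro f hf
  have hfJ : f ∈ J := RingHom.mem_ker.mpr hf
  have := hr2 f hfJ
  rw [smul_eq_mul, mul_eq_zero] at this
  exact this.resolve_left hr0

theorem pi_injective (hsharp : ∀ n : N, IsAddUnit n → n = 0) (G : Finset N)
    (hG : AddSubmonoid.closure (G : Set N) = ⊤)
    (hmin : ∀ g ∈ G, g ∉ AddSubmonoid.closure ((G.erase g : Finset N) : Set N))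
    [Algebra.FormallySmooth k (AddMonoidAlgebra k N)] :
    Function.Injective (pi G) := by
  intro a b hab
  have h1 : phi k G (AddMonoidAlgebra.single a 1) = phi k G (AddMonoidAlgebra.single b 1) := by
    rw [phi, AddMonoidAlgebra.mapDomainAlgHom_apply, AddMonoidAlgebra.mapDomainAlgHom_apply,
      AddMonoidAlgebra.mapDomain_single, AddMonoidAlgebra.mapDomain_single, hab]
  have h2 := phi_injective k hsharp G hG hmin h1
  exact AddMonoidAlgebra.single_left_injective (one_ne_zero) h2

end Field

/-! ### Main theorem -/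

theorem main (R : Type u) [CommRing R] (N : Type) [AddCommMonoid N] [AddMonoid.FG N]
    [IsCancelAdd N] (hsharp : ∀ n : N, IsAddUnit n → n = 0)
    [Algebra.Smooth R (AddMonoidAlgebra R N)] :
    ∃ (P : Type u) (_ : AddCommGroup P) (_ : Module R P), Module.Finite R P ∧
      Module.Projective R P ∧ Nonempty (AddMonoidAlgebra R N ≃ₐ[R] SymmetricAlgebra R P) := by
  classical
  obtain ⟨G, hG, hmin⟩ := exists_minimal_gen (N := N)
  refine ⟨G →₀ R, inferInstance, inferInstance, inferInstance, inferInstance, ?_⟩
  rcases subsingleton_or_nontrivial R with hR | hR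
  · haveI : Subsingleton (AddMonoidAlgebra R N) := Module.subsingleton R _
    haveI : Subsingleton (SymmetricAlgebra R (G →₀ R)) := Module.subsingleton R _
    exact ⟨
      { toFun := fun _ => 0
        invFun := fun _ => 0
        left_inv := fun _ => Subsingleton.elim _ _
        right_inv := fun _ => Subsingleton.elim _ _
        map_mul' := fun _ _ => Subsingleton.elim _ _
        map_add' := fun _ _ => Subsingleton.elim _ _
        commutes' := fun _ => Subsingleton.elim _ _ }⟩
  · obtain ⟨𝔪, h𝔪⟩ := Ideal.exists_maximal R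
    letI : Field (R ⧸ 𝔪) := Ideal.Quotient.field 𝔪
    haveI : Algebra.FormallySmooth (R ⧸ 𝔪) (AddMonoidAlgebra (R ⧸ 𝔪) N) :=
      Algebra.FormallySmooth.of_equiv (AddMonoidAlgebra.scalarTensorEquiv R (R ⧸ 𝔪))
    have hinj : Function.Injective (pi G) := pi_injective (R ⧸ 𝔪) hsharp G hG hmin
    let e : N ≃+ (G →₀ ℕ) := (AddEquiv.ofBijective (pi G) ⟨hinj, pi_surjective G hG⟩).symm
    exact ⟨(AddMonoidAlgebra.domCongr R R e).trans
      (SymmetricAlgebra.equivMvPolynomial (Finsupp.basisSingleOne)).symm⟩

end Groth.Agent.Lib.Helper19.SmoothMonoid
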