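import Mathlib
import Groth.Prelude.Def_VecGrp

/-!
# Finitely generated stable submodules of `G`-modules, `G` flat quasi-compact (helper19)

`G` a flat quasi-compact group scheme over `Spec R` (not necessarily affine), `E` a `G`-module.
A finite affine open cover of `G` gives a single flat `R`-algebra `A` and a point `gU ∈ G(A)` through
which every point of `G` factors Zariski locally (`exists_cover`).  For a submodule `F ⊆ E` the *core*
`{x | ρ(gU)(1 ⊗ x) ∈ A ⊗ F}` is `G`-stable and contained in `F`.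
-/

set_option autoImplicit false
universe u

open CategoryTheory MonoidalCategory CartesianMonoidalCategory MonObj GrpObj AlgebraicGeometry Limits
open scoped TensorProduct

namespace Groth.Agent.Lib.Helper19.StableSub

open VecGrp

section Alg

variable {R : Type u} [CommRing R] {E : Type u} [AddCommGroup E] [Module R E]

/-- the image of `B ⊗ F` in `B ⊗ E` -/
abbrev im (B : Type u) [CommRing B] [Algebra R B] (F : Submodule R E) : Submodule B (B ⊗[R] E) :=
  LinearMap.range (F.subtype.baseChange B)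

lemma mem_im_iff (B : Type u) [CommRing B] [Algebra R B] (F : Submodule R E) (z : B ⊗[R] E) :
    z ∈ im B F ↔ F.mkQ.baseChange B z = 0 := by
  have hex : Function.Exact (F.subtype.lTensor B) (F.mkQ.lTensor B) :=
    lTensor_exact B (LinearMap.exact_subtype_mkQ F) (Submodule.mkQ_surjective F)
  constructor
  · rintro ⟨w, rfl⟩
    exact (hex _).mpr ⟨w, rfl⟩
  · intro hz
    obtain ⟨w, hw⟩ := (hex z).mp hz
    exact ⟨w, hw⟩

lemma im_mono (B : Type u) [CommRing B] [Algebra R B] {F F' : Submodule R E} (h : F ≤ F') :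
    im B F ≤ im B F' := by
  rintro _ ⟨w, rfl⟩
  refine ⟨(Submodule.inclusion h).baseChange B w, ?_⟩
  have h1 : F'.subtype ∘ₗ Submodule.inclusion h = F.subtype := Submodule.subtype_comp_inclusion _ _ h
  rw [← LinearMap.comp_apply, ← LinearMap.baseChange_comp, h1]

lemma Wmap_mem_im {B B' : Type u} [CommRing B] [Algebra R B] [CommRing B'] [Algebra R B']
    (φ : B →ₐ[R] B') (F : Submodule R E) {z : B ⊗[R] E} (hz : z ∈ im B F) :
    Wmap (M := E) φ z ∈ im B' F := by
  obtain ⟨w, rfl⟩ := hz
  exact ⟨Wmap φ w, (baseChange_natural F.subtype φ w).symm⟩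

lemma exists_fg_im (A : Type u) [CommRing A] [Algebra R A] (t : A ⊗[R] E) :
    ∃ F : Submodule R E, F.FG ∧ t ∈ im A F := by
  induction t using TensorProduct.induction_on with
  | zero => exact ⟨⊥, Submodule.fg_bot, Submodule.zero_mem _⟩
  | tmul a e =>
    refine ⟨Submodule.span R {e}, Submodule.fg_span_singleton e,
      ⟨a ⊗ₜ ⟨e, Submodule.mem_span_singleton_self e⟩, ?_⟩⟩
    rfl
  | add x y hx hy =>
    obtain ⟨F1, h1, hx⟩ := hx
    obtain ⟨F2, h2, hy⟩ := hy
    exact ⟨F1 ⊔ F2, h1.sup h2,
      Submodule.add_mem _ (im_mono A le_sup_left hx) (im_mono A le_sup_right hy)⟩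

lemma loc_vanish (B : Type u) [CommRing B] [Algebra R B] (E' : Type u) [AddCommGroup E']
    [Module R E'] (b : B) (z : B ⊗[R] E')
    (hz : Wmap (M := E') (IsScalarTower.toAlgHom R B (Localization.Away b)) z = 0) :
    ∃ n : ℕ, (b ^ n) • z = 0 := by
  have hf : ∀ z : B ⊗[R] E',
      TensorProduct.AlgebraTensorModule.rTensor R E' (Algebra.linearMap B (Localization.Away b)) z
        = Wmap (M := E') (IsScalarTower.toAlgHom R B (Localization.Away b)) z := by
    intro z
    induction z using TensorProduct.induction_on with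
    | zero => simp
    | tmul c e => rfl
    | add x y hx hy => rw [map_add, map_add, hx, hy]
  rw [← hf] at hz
  obtain ⟨⟨s, hs⟩, hsz⟩ := (IsLocalizedModule.eq_zero_iff (Submonoid.powers b) _).mp hz
  obtain ⟨n, rfl⟩ := (Submonoid.mem_powers_iff _ _).mp hs
  exact ⟨n, hsz⟩

end Alg

section GM

variable {R : Type u} [CommRing R] {E : Type u} [AddCommGroup E] [Module R E]
variable {G : Over (Spec (CommRingCat.of R))} [GrpObj G] (m : GMod G E)

/-- `x ↦ ρ(g)(1 ⊗ x)` -/
noncomputable def orb (B : Type u) [CommRing B] [Algebra R B] (g : pt R B ⟶ G) : E →ₗ[R] B ⊗[R] E where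
  toFun x := m.ρ B g ((1 : B) ⊗ₜ[R] x)
  map_add' x y := by rw [TensorProduct.tmul_add, map_add]
  map_smul' r x := by
    rw [TensorProduct.tmul_smul, RingHom.id_apply, ← algebraMap_smul B r ((1 : B) ⊗ₜ[R] x),
      map_smul, algebraMap_smul]

lemma orb_apply (B : Type u) [CommRing B] [Algebra R B] (g : pt R B ⟶ G) (x : E) :
    orb m B g x = m.ρ B g ((1 : B) ⊗ₜ[R] x) := rfl

lemma orb_natural {B B' : Type u} [CommRing B] [Algebra R B] [CommRing B'] [Algebra R B']
    (φ : B →ₐ[R] B') (g : pt R B ⟶ G) (x : E) :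
    Wmap (M := E) φ (orb m B g x) = orb m B' (ptMap φ ≫ g) x := by
  rw [orb_apply, orb_apply, m.naturality φ g, Wmap_tmul, map_one]

variable {A : Type u} [CommRing A] [Algebra R A] (gU : pt R A ⟶ G)
  (hcov : ∀ (B : Type u) [CommRing B] [Algebra R B] (g : pt R B ⟶ G) (p : PrimeSpectrum B),
    ∃ b : B, b ∉ p.asIdeal ∧ ∃ ψ : A →ₐ[R] Localization.Away b,
      ptMap (IsScalarTower.toAlgHom R B (Localization.Away b)) ≫ g = ptMap ψ ≫ gU)

include hcov in
lemma orb_mem_im_of_cover (Q : Submodule R E) (x : E) (hx : orb m A gU x ∈ im A Q)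
    (B : Type u) [CommRing B] [Algebra R B] (g : pt R B ⟶ G) : orb m B g x ∈ im B Q := by
  rw [mem_im_iff]
  have key : Q.mkQ.baseChange B (orb m B g x) ∈ (⊥ : Submodule B (B ⊗[R] (E ⧸ Q))) := by
    let S : Set B := {b | ∃ ψ : A →ₐ[R] Localization.Away b,
      ptMap (IsScalarTower.toAlgHom R B (Localization.Away b)) ≫ g = ptMap ψ ≫ gU}
    have hS : Ideal.span S = ⊤ := by
      by_contra hne
      obtain ⟨P, hP, hle⟩ := Ideal.exists_le_maximal _ hne
      obtain ⟨b, hb, ψ, hψ⟩ := hcov B g ⟨P, hP.isPrime⟩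
      exact hb (hle (Ideal.subset_span ⟨ψ, hψ⟩))
    refine Submodule.mem_of_span_eq_top_of_smul_pow_mem ⊥ S hS _ ?_
    rintro ⟨b, ψ, hψ⟩
    have h1 : Wmap (M := E) (IsScalarTower.toAlgHom R B (Localization.Away b)) (orb m B g x)
        = Wmap (M := E) ψ (orb m A gU x) := by
      rw [orb_natural, orb_natural, hψ]
    have h2 : Wmap (M := E ⧸ Q) (IsScalarTower.toAlgHom R B (Localization.Away b))
        (Q.mkQ.baseChange B (orb m B g x)) = 0 := by
      rw [baseChange_natural, h1, ← baseChange_natural, (mem_im_iff A Q _).mp hx, map_zero]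
    obtain ⟨n, hn⟩ := loc_vanish B (E ⧸ Q) b _ h2
    exact ⟨n, by rw [hn]; exact Submodule.zero_mem _⟩
  simpa using key

/-- `E → A ⊗ E/F` -/
noncomputable def psi (F : Submodule R E) : E →ₗ[R] A ⊗[R] (E ⧸ F) :=
  ((F.mkQ.baseChange A).restrictScalars R) ∘ₗ orb m A gU

/-- the core of `F` -/
noncomputable def core (F : Submodule R E) : Submodule R E := LinearMap.ker (psi m gU F)

lemma mem_core_iff (F : Submodule R E) (x : E) : x ∈ core m gU F ↔ orb m A gU x ∈ im A F := by
  rw [mem_im_iff]
  exact LinearMap.mem_ker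

include hcov in
lemma core_le (F : Submodule R E) : core m gU F ≤ F := by
  intro x hx
  have h1 := orb_mem_im_of_cover m gU hcov F x ((mem_core_iff m gU F x).mp hx) R 1
  rw [mem_im_iff, orb_apply, map_one] at h1
  have h2 : (1 : R) ⊗ₜ[R] (F.mkQ x) = 0 := h1
  have h3 := congrArg (TensorProduct.lid R (E ⧸ F)) h2
  rw [TensorProduct.lid_tmul, one_smul, map_zero] at h3
  exact (Submodule.Quotient.mk_eq_zero F).mp h3

lemma theta_tmul (F : Submodule R E) (a : A) (t : A ⊗[R] (E ⧸ F)) :
    (TensorProduct.assoc R A A (E ⧸ F)).symm (a ⊗ₜ[R] t) =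
      (Algebra.TensorProduct.includeLeft (R := R) (S := R) (A := A) (B := A) a) •
        Wmap (M := E ⧸ F) (Algebra.TensorProduct.includeRight (R := R) (A := A) (B := A)) t := by
  induction t using TensorProduct.induction_on with
  | zero => simp
  | tmul a' e' =>
    rw [TensorProduct.assoc_symm_tmul, Wmap_tmul, TensorProduct.smul_tmul', smul_eq_mul,
      Algebra.TensorProduct.includeLeft_apply, Algebra.TensorProduct.includeRight_apply,
      Algebra.TensorProduct.tmul_mul_tmul, _root_.mul_one, _root_.one_mul]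
  | add x y hx hy => rw [TensorProduct.tmul_add, map_add, hx, hy, map_add, smul_add]

lemma theta_psi (F : Submodule R E) (w : A ⊗[R] E) :
    (TensorProduct.assoc R A A (E ⧸ F)).symm ((psi m gU F).lTensor A w) =
      F.mkQ.baseChange (A ⊗[R] A)
        (m.ρ (A ⊗[R] A) (ptMap (Algebra.TensorProduct.includeRight (R := R) (A := A) (B := A)) ≫ gU)
          (Wmap (M := E) (Algebra.TensorProduct.includeLeft (R := R) (S := R) (A := A) (B := A)) w)) := by
  induction w using TensorProduct.induction_on with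
  | zero => simp
  | tmul a e =>
    rw [LinearMap.lTensor_tmul, theta_tmul]
    show _ • Wmap (M := E ⧸ F) _ (F.mkQ.baseChange A (orb m A gU e)) = _
    rw [baseChange_natural, orb_natural, ← map_smul, orb_apply, ← map_smul, Wmap_tmul,
      TensorProduct.smul_tmul', smul_eq_mul, _root_.mul_one]
  | add x y hx hy => rw [map_add, map_add, hx, hy, map_add, map_add, map_add]

include hcov in
lemma core_stable [Module.Flat R A] (F : Submodule R E) (x : E) (hx : x ∈ core m gU F) :
    orb m A gU x ∈ im A (core m gU F) := by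
  have hex : Function.Exact ((core m gU F).subtype.lTensor A) ((psi m gU F).lTensor A) :=
    Module.Flat.lTensor_exact A (LinearMap.exact_subtype_ker_map (psi m gU F))
  have h0 : (psi m gU F).lTensor A (orb m A gU x) = 0 := by
    apply (TensorProduct.assoc R A A (E ⧸ F)).symm.injective
    rw [theta_psi, map_zero, orb_natural, orb_apply, ← LinearEquiv.mul_apply, ← map_mul, ← orb_apply]
    exact (mem_im_iff _ F _).mp
      (orb_mem_im_of_cover m gU hcov F x ((mem_core_iff m gU F x).mp hx) _ _)
  obtain ⟨w, hw⟩ := (hex _).mp h0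
  exact ⟨w, hw⟩

include hcov in
theorem main [IsNoetherianRing R] [Module.Flat R A] (M : Submodule R E) (hM : M.FG) :
    ∃ N : Submodule R E, M ≤ N ∧ N.FG ∧
      ∀ (B : Type u) [CommRing B] [Algebra R B] (g : pt R B ⟶ G) (x : E), x ∈ N →
        m.ρ B g ((1 : B) ⊗ₜ[R] x) ∈ LinearMap.range (N.subtype.baseChange B) := by
  classical
  obtain ⟨s, rfl⟩ := hM
  have hF : ∃ F : Submodule R E, F.FG ∧ ∀ x ∈ s, orb m A gU x ∈ im A F := by
    induction s using Finset.induction_on with
    | empty => exact ⟨⊥, Submodule.fg_bot, fun x hx => absurd hx (Finset.notMem_empty x)⟩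
    | insert a s _ ih =>
      obtain ⟨F1, h1, hF1⟩ := ih
      obtain ⟨F2, h2, hF2⟩ := exists_fg_im A (orb m A gU a)
      refine ⟨F1 ⊔ F2, h1.sup h2, fun x hx => ?_⟩
      rcases Finset.mem_insert.mp hx with rfl | hx
      · exact im_mono A le_sup_right hF2
      · exact im_mono A le_sup_left (hF1 x hx)
  obtain ⟨F, hFfg, hFs⟩ := hF
  refine ⟨core m gU F, ?_, ?_, ?_⟩
  · rw [Submodule.span_le]
    intro x hx
    exact (mem_core_iff m gU F x).mpr (hFs x hx)
  · have : IsNoetherian R F := isNoetherian_of_fg_of_noetherian F hFfg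
    exact isNoetherian_submodule.mp this _ (core_le m gU hcov F)
  · intro B _ _ g x hx
    exact orb_mem_im_of_cover m gU hcov (core m gU F) x (core_stable m gU hcov F x hx) B g

end GM

end Groth.Agent.Lib.Helper19.StableSub
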