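import Mathlib
import Groth.Prelude.Def_VecGrp

/-!
# A flat affine "cover" of a flat quasi-compact scheme over an affine base, in point form (helper19)
-/

set_option autoImplicit false
universe u

open CategoryTheory MonoidalCategory CartesianMonoidalCategory MonObj GrpObj AlgebraicGeometry Limits
open scoped TensorProduct

namespace Groth.Agent.Lib.Helper19.StableSub

open VecGrp

theorem exists_cover {R : Type u} [CommRing R] (G : Over (Spec (CommRingCat.of R)))
    [Flat G.hom] [QuasiCompact G.hom] :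
    ∃ (A : Type u) (_ : CommRing A) (_ : Algebra R A) (_ : Module.Flat R A) (gU : pt R A ⟶ G),
      ∀ (B : Type u) [CommRing B] [Algebra R B] (g : pt R B ⟶ G) (p : PrimeSpectrum B),
        ∃ b : B, b ∉ p.asIdeal ∧ ∃ ψ : A →ₐ[R] Localization.Away b,
          ptMap (IsScalarTower.toAlgHom R B (Localization.Away b)) ≫ g = ptMap ψ ≫ gU := by
  haveI : CompactSpace G.left := QuasiCompact.compactSpace_of_compactSpace G.hom
  let 𝒱 := G.left.affineCover.finiteSubcover
  let U : Scheme.{u} := ∐ 𝒱.X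
  let σ : U ⟶ G.left := Sigma.desc 𝒱.f
  haveI : IsAffine U := inferInstance
  haveI : Flat (σ ≫ G.hom) := inferInstance
  let A : CommRingCat.{u} := Γ(U, ⊤)
  let e : U ≅ Spec A := U.isoSpec
  let τ : Spec A ⟶ Spec (CommRingCat.of R) := e.inv ≫ σ ≫ G.hom
  let alg : CommRingCat.of R ⟶ A := Spec.preimage τ
  have halg : Spec.map alg = τ := Spec.map_preimage τ
  letI : Algebra R A := alg.hom.toAlgebra
  have hflat : Module.Flat R A := by
    have h1 : Flat (Spec.map alg) := by rw [halg]; infer_instance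
    exact (HasRingHomProperty.Spec_iff (P := @Flat)).mp h1
  have hof : CommRingCat.ofHom (algebraMap R A) = alg := rfl
  let gU : pt R A ⟶ G := Over.homMk (e.inv ≫ σ) (by
    show (e.inv ≫ σ) ≫ G.hom = Spec.map (CommRingCat.ofHom (algebraMap R A))
    rw [hof, halg, Category.assoc])
  refine ⟨A, inferInstance, inferInstance, hflat, gU, ?_⟩
  intro B _ _ g p
  obtain ⟨i, y, hy⟩ := 𝒱.exists_eq (g.left p)
  let W : Set (PrimeSpectrum B) := g.left ⁻¹' Set.range (𝒱.f i)
  have hWo : IsOpen W := (IsOpenImmersion.isOpen_range (𝒱.f i)).preimage g.left.continuous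
  have hpW : p ∈ W := ⟨y, hy⟩
  obtain ⟨_, ⟨b, rfl⟩, hpb, hbW⟩ :=
    PrimeSpectrum.isTopologicalBasis_basic_opens.exists_subset_of_mem_open hpW hWo
  refine ⟨b, hpb, ?_⟩
  let loc : B →ₐ[R] Localization.Away b := IsScalarTower.toAlgHom R B (Localization.Away b)
  let h : Spec (CommRingCat.of (Localization.Away b)) ⟶ G.left :=
    Spec.map (CommRingCat.ofHom loc.toRingHom) ≫ g.left
  have hrange : Set.range h ⊆ Set.range (𝒱.f i) := by
    rintro _ ⟨q, rfl⟩
    apply hbW
    show (PrimeSpectrum.comap loc.toRingHom q) ∈ (PrimeSpectrum.basicOpen b : Set (PrimeSpectrum B))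
    rw [SetLike.mem_coe, PrimeSpectrum.mem_basicOpen]
    intro hmem
    have hu : IsUnit (loc.toRingHom b) := IsLocalization.Away.algebraMap_isUnit b
    exact q.2.ne_top (Ideal.eq_top_of_isUnit_mem _ hmem hu)
  let ℓ : Spec (CommRingCat.of (Localization.Away b)) ⟶ 𝒱.X i := IsOpenImmersion.lift (𝒱.f i) h hrange
  have hℓ : ℓ ≫ 𝒱.f i = h := IsOpenImmersion.lift_fac _ _ _
  let s : Spec (CommRingCat.of (Localization.Away b)) ⟶ Spec A := ℓ ≫ Sigma.ι 𝒱.X i ≫ e.hom
  have hs : s ≫ e.inv ≫ σ = h := by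
    simp only [s, σ, Category.assoc, Iso.hom_inv_id_assoc, Sigma.ι_desc]
    exact hℓ
  let ψ₀ : A ⟶ CommRingCat.of (Localization.Away b) := Spec.preimage s
  have hψ₀ : Spec.map ψ₀ = s := Spec.map_preimage s
  have hcomm : alg ≫ ψ₀ = CommRingCat.ofHom (algebraMap R (Localization.Away b)) := by
    apply Spec.map_injective
    rw [Spec.map_comp, hψ₀, halg]
    show s ≫ e.inv ≫ σ ≫ G.hom = _
    have hw : g.left ≫ G.hom = Spec.map (CommRingCat.ofHom (algebraMap R B)) := Over.w g
    rw [← Category.assoc, ← Category.assoc, Category.assoc s, hs]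
    show (Spec.map (CommRingCat.ofHom loc.toRingHom) ≫ g.left) ≫ G.hom = _
    rw [Category.assoc, hw, ← Spec.map_comp, ← CommRingCat.ofHom_comp]
    congr 2
  let ψ : A →ₐ[R] Localization.Away b :=
    { ψ₀.hom with
      commutes' := fun r => by
        have := congrArg (fun f => f.hom r) hcomm
        exact this }
  refine ⟨ψ, ?_⟩
  apply Over.OverMorphism.ext
  show Spec.map (CommRingCat.ofHom loc.toRingHom) ≫ g.left =
    Spec.map (CommRingCat.ofHom ψ.toRingHom) ≫ (e.inv ≫ σ)
  have hψ' : Spec.map (CommRingCat.ofHom ψ.toRingHom) = s := hψ₀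
  rw [hψ', hs]

end Groth.Agent.Lib.Helper19.StableSub
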