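import Mathlib
import Groth.Prelude.Def_CoactBr2
import Groth.Agent.Lib.Helper28.SmallestSubcomod

/-!
# Faithfully flat descent of the smallest subcomodule (helper19)

`A` a commutative ring, `C` an `A`-coalgebra, `V` a `C`-comodule, `A'` a faithfully flat `A`-algebra
with `A' ⊗ C` projective over `A'`.  The smallest subcomodule of `V` containing a submodule `M` is
the preimage in `V` of the smallest subcomodule of `A' ⊗ V` containing `A' ⊗ M`.
-/

set_option autoImplicit false
universe u

open TensorProduct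

namespace Groth.Agent.Lib.Helper19.SubcomodDescent

variable {A : Type u} [CommRing A] {C : Type u} [AddCommGroup C] [Module A C] [Coalgebra A C]
  {V : Type u} [AddCommGroup V] [Module A V] [HopfRep.Comod A C V]
  (A' : Type u) [CommRing A'] [Algebra A A']

/-- base change of a submodule, as a range -/
noncomputable def bc (N : Submodule A V) : Submodule A' (A' ⊗[A] V) :=
  LinearMap.range (N.subtype.baseChange A')

lemma one_tmul_mem_bc {N : Submodule A V} {n : V} (hn : n ∈ N) : (1 : A') ⊗ₜ[A] n ∈ bc A' N :=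
  ⟨(1 : A') ⊗ₜ[A] (⟨n, hn⟩ : N), by rw [LinearMap.baseChange_tmul]; rfl⟩

lemma bc_le {N : Submodule A V} {P : Submodule A' (A' ⊗[A] V)}
    (h : ∀ n ∈ N, (1 : A') ⊗ₜ[A] n ∈ P) : bc A' N ≤ P := by
  rintro _ ⟨t, rfl⟩
  induction t using TensorProduct.induction_on with
  | zero => rw [map_zero]; exact P.zero_mem
  | tmul a n =>
    rw [LinearMap.baseChange_tmul]
    have e : a ⊗ₜ[A] (N.subtype n) = a • ((1 : A') ⊗ₜ[A] (n : V)) := by
      rw [TensorProduct.smul_tmul', smul_eq_mul, mul_one]
      rfl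
    rw [e]
    exact P.smul_mem a (h _ n.2)
  | add x y hx hy => rw [map_add]; exact P.add_mem hx hy

lemma bc_mono {N N' : Submodule A V} (h : N ≤ N') : bc A' N ≤ bc A' N' :=
  bc_le A' fun _ hn => one_tmul_mem_bc A' (h hn)

lemma bc_fg {N : Submodule A V} (hN : N.FG) : (bc A' N).FG := by
  haveI : Module.Finite A N := Module.Finite.iff_fg.2 hN
  unfold bc
  rw [LinearMap.range_eq_map]
  exact Submodule.FG.map _ Module.Finite.fg_top

lemma mem_of_one_tmul_mem_bc [Module.FaithfullyFlat A A'] {N : Submodule A V} {v : V}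
    (h : (1 : A') ⊗ₜ[A] v ∈ bc A' N) : v ∈ N := by
  have h1 : (N.mkQ.baseChange A') ((1 : A') ⊗ₜ[A] v) = 0 := by
    obtain ⟨t, ht⟩ := h
    rw [← ht, ← LinearMap.comp_apply, ← LinearMap.baseChange_comp]
    have h0 : N.mkQ ∘ₗ N.subtype = 0 := by
      ext x
      rw [LinearMap.comp_apply, Submodule.subtype_apply, Submodule.mkQ_apply, LinearMap.zero_apply,
        Submodule.Quotient.mk_eq_zero]
      exact x.2
    rw [h0, LinearMap.baseChange_zero, LinearMap.zero_apply]
  rw [LinearMap.baseChange_tmul] at h1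
  have h2 : TensorProduct.mk A A' (V ⧸ N) 1 (N.mkQ v) = TensorProduct.mk A A' (V ⧸ N) 1 0 := by
    rw [TensorProduct.mk_apply, h1, map_zero]
  have h3 := Module.FaithfullyFlat.tensorProduct_mk_injective (A := A) (B := A') (V ⧸ N) h2
  rwa [Submodule.mkQ_apply, Submodule.Quotient.mk_eq_zero] at h3

/-- the base change of a subcomodule is a subcomodule of the base-changed comodule -/
lemma isSubcomod_bc {W : Submodule A V} (hW : HopfRep.IsSubcomod (k := A) (A := C) W) :
    ∀ x ∈ bc A' W, (CoactBr.Comod.baseChange A A' C V).coact x ∈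
      LinearMap.range ((bc A' W).subtype.rTensor (A' ⊗[A] C)) := by
  have hP : bc A' W ≤ (LinearMap.range ((bc A' W).subtype.rTensor (A' ⊗[A] C))).comap
      (CoactBr.Comod.baseChange A A' C V).coact := by
    apply bc_le
    intro w hw
    rw [Submodule.mem_comap]
    obtain ⟨t, ht⟩ := hW w hw
    obtain ⟨S, hS⟩ := TensorProduct.exists_finset t
    have hS' : HopfRep.Comod.coact (k := A) (A := C) w =
        S.sum fun i => ((i.1 : W) : V) ⊗ₜ[A] i.2 := by
      rw [← ht, hS, map_sum]
      refine Finset.sum_congr rfl fun i _ => ?_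
      rw [LinearMap.rTensor_tmul, Submodule.subtype_apply]
    rw [CoactBr.baseChange_coact_tmul_of_sum A A' C V S (1 : A') w (fun i => ((i.1 : W) : V))
      (fun i => i.2) hS']
    refine ⟨S.sum fun i => (⟨(1 : A') ⊗ₜ[A] ((i.1 : W) : V), one_tmul_mem_bc A' i.1.2⟩ : bc A' W)
      ⊗ₜ[A'] ((1 : A') ⊗ₜ[A] i.2), ?_⟩
    rw [map_sum]
    refine Finset.sum_congr rfl fun i _ => ?_
    rw [LinearMap.rTensor_tmul, Submodule.subtype_apply]
  intro x hx
  exact hP hx

/-- descent: the preimage in `V` of a subcomodule of `A' ⊗ V` is a subcomodule, when `C` is flat -/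
lemma isSubcomod_of_comap [Module.Flat A C] {W' : Submodule A' (A' ⊗[A] V)} {W : Submodule A V}
    (hWW' : ∀ v, v ∈ W ↔ (1 : A') ⊗ₜ[A] v ∈ W')
    (hW' : ∀ x ∈ W', (CoactBr.Comod.baseChange A A' C V).coact x ∈
      LinearMap.range (W'.subtype.rTensor (A' ⊗[A] C))) :
    HopfRep.IsSubcomod (k := A) (A := C) W := by
  intro w hw
  have hw' : (1 : A') ⊗ₜ[A] w ∈ W' := (hWW' w).1 hw
  obtain ⟨f, hf⟩ : ∃ f : V →ₗ[A] (A' ⊗[A] V) ⧸ W', ∀ v, f v = W'.mkQ ((1 : A') ⊗ₜ[A] v) :=
    ⟨(W'.mkQ.restrictScalars A) ∘ₗ (TensorProduct.mk A A' V 1), fun v => rfl⟩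
  have hfker : ∀ v, f v = 0 ↔ v ∈ W := by
    intro v
    rw [hf, hWW', Submodule.mkQ_apply, Submodule.Quotient.mk_eq_zero]
  have key : (f.rTensor C) (HopfRep.Comod.coact (k := A) (A := C) w) = 0 := by
    obtain ⟨S, hS⟩ := TensorProduct.exists_finset (HopfRep.Comod.coact (k := A) (A := C) w)
    have h1 := CoactBr.baseChange_coact_tmul_of_sum A A' C V S (1 : A') w (fun i => i.1)
      (fun i => i.2) hS
    obtain ⟨t, ht⟩ := hW' _ hw'
    have h2 : (W'.mkQ.rTensor (A' ⊗[A] C))
        ((CoactBr.Comod.baseChange A A' C V).coact ((1 : A') ⊗ₜ[A] w)) = 0 := by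
      rw [← ht, ← LinearMap.comp_apply, ← LinearMap.rTensor_comp]
      have h0 : W'.mkQ ∘ₗ W'.subtype = 0 := by
        ext x
        rw [LinearMap.comp_apply, Submodule.subtype_apply, Submodule.mkQ_apply,
          LinearMap.zero_apply, Submodule.Quotient.mk_eq_zero]
        exact x.2
      rw [h0, LinearMap.rTensor_zero, LinearMap.zero_apply]
    rw [h1, map_sum] at h2
    have h3 := congrArg
      (TensorProduct.AlgebraTensorModule.cancelBaseChange A A' A' ((A' ⊗[A] V) ⧸ W') C) h2
    rw [map_sum, map_zero] at h3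
    rw [hS, map_sum]
    refine Eq.trans (Finset.sum_congr rfl fun i _ => ?_) h3
    rw [LinearMap.rTensor_tmul, LinearMap.rTensor_tmul,
      TensorProduct.AlgebraTensorModule.cancelBaseChange_tmul, one_smul, hf]
  have hle : W ≤ LinearMap.ker f := fun v hv => LinearMap.mem_ker.2 ((hfker v).2 hv)
  have hge : LinearMap.ker f ≤ W := fun v hv => (hfker v).1 (LinearMap.mem_ker.1 hv)
  have hjinj : Function.Injective (W.liftQ f hle) := by
    rw [← LinearMap.ker_eq_bot]
    exact Submodule.ker_liftQ_eq_bot W f hle hge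
  have hfac : f = (W.liftQ f hle) ∘ₗ W.mkQ := (Submodule.liftQ_mkQ W f hle).symm
  have hinj2 : Function.Injective ((W.liftQ f hle).rTensor C) :=
    Module.Flat.rTensor_preserves_injective_linearMap _ hjinj
  have h4 : (W.mkQ.rTensor C) (HopfRep.Comod.coact (k := A) (A := C) w) = 0 := by
    apply hinj2
    rw [map_zero, ← LinearMap.comp_apply, ← LinearMap.rTensor_comp, ← hfac]
    exact key
  have hex : Function.Exact (W.subtype.rTensor C) (W.mkQ.rTensor C) :=
    rTensor_exact C (LinearMap.exact_subtype_mkQ W) (Submodule.mkQ_surjective W)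
  exact (hex _).1 h4

/-- the smallest subcomodule containing a submodule exists when `A' ⊗ C` is projective over a
faithfully flat `A'` -/
theorem exists_smallest_subcomod_of_fflat [Module.FaithfullyFlat A A']
    [Module.Projective A' (A' ⊗[A] C)] (M : Submodule A V) :
    ∃ W : Submodule A V, HopfRep.IsSubcomod (k := A) (A := C) W ∧ M ≤ W ∧
      (∀ W' : Submodule A V, HopfRep.IsSubcomod (k := A) (A := C) W' → M ≤ W' → W ≤ W') ∧
      (M.FG → W.FG) := by
  letI : HopfRep.Comod A' (A' ⊗[A] C) (A' ⊗[A] V) := CoactBr.Comod.baseChange A A' C V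
  obtain ⟨W', hW'sub, hMW', hW'min, hW'fg⟩ :=
    Groth.Agent.Lib.Helper28.SmallestSubcomod.exists_smallest_subcomod
      (A := A') (C := A' ⊗[A] C) (V := A' ⊗[A] V) (bc A' M)
  haveI : Module.Flat A C := Module.Flat.of_flat_tensorProduct A C A'
  obtain ⟨W, hWW'⟩ : ∃ W : Submodule A V, ∀ v, v ∈ W ↔ (1 : A') ⊗ₜ[A] v ∈ W' :=
    ⟨(W'.restrictScalars A).comap (TensorProduct.mk A A' V 1), fun v => Iff.rfl⟩
  have hsub : HopfRep.IsSubcomod (k := A) (A := C) W :=
    isSubcomod_of_comap A' hWW' (fun x hx => hW'sub x hx)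
  have hMW : M ≤ W := fun m hm => (hWW' m).2 (hMW' (one_tmul_mem_bc A' hm))
  have hbcW : bc A' W = W' :=
    le_antisymm (bc_le A' fun n hn => (hWW' n).1 hn)
      (hW'min _ (isSubcomod_bc A' hsub) (bc_mono A' hMW))
  refine ⟨W, hsub, hMW, ?_, ?_⟩
  · intro W'' hW'' hM'' w hw
    have h1 : W' ≤ bc A' W'' := hW'min _ (isSubcomod_bc A' hW'') (bc_mono A' hM'')
    exact mem_of_one_tmul_mem_bc A' (h1 ((hWW' w).1 hw))
  · intro hM
    have h1 : W'.FG := hW'fg (bc_fg A' hM)
    rw [← hbcW] at h1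
    have hinj : Function.Injective (W.subtype.baseChange A') := by
      rw [LinearMap.baseChange_eq_ltensor]
      exact Module.Flat.lTensor_preserves_injective_linearMap _ (Submodule.injective_subtype W)
    haveI : Module.Finite A' (LinearMap.range (W.subtype.baseChange A')) :=
      Module.Finite.iff_fg.2 h1
    haveI : Module.Finite A' (A' ⊗[A] W) :=
      Module.Finite.equiv (LinearEquiv.ofInjective (W.subtype.baseChange A') hinj).symm
    haveI : Module.Finite A W := Module.Finite.of_finite_tensorProduct_of_faithfullyFlat A'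
    exact Module.Finite.iff_fg.1 inferInstance

end Groth.Agent.Lib.Helper19.SubcomodDescent
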