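import Mathlib
import Groth.Prelude.Def_ArtFun5
import Groth.Agent.Lib.Helper1.PSOmega
import Groth.Agent.Lib.Helper19.ArtFunBasic
import Groth.Agent.Lib.Helper19.ArtFunComplete

/-!
# The `T¹`-lifting criterion for complete local `k`-algebras in characteristic zero (helper19)

* `tszHom`: an algebra map into a trivial square-zero extension from an algebra map and a
  derivation-like map;
* `res_comp_eq`: every `k`-algebra map from a coefficient ring to an object of `Art k k` is
  compatible with the augmentations;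
* `eul`: the Euler operator `∑ Xᵢ ∂ᵢ` on `k[[x₁, …, xₙ]]`, with `eul f ≡ N f` modulo `m^(N+1)` for
  `f ∈ m^N`;
* `injective_of_T1`: a surjection `k[[x]] → R` with kernel in `m²` is injective as soon as
  `R` has the first-order lifting property for the surjections `E → E/J` of modules over Artinian
  quotients `E` of `R` (characteristic zero);
* `lift_of_equiv`: conversely the power series ring has the lifting property for all surjections of
  modules.
-/

set_option autoImplicit false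
universe u

open IsLocalRing MvPowerSeries

namespace Groth.Agent.Lib.Helper19.T1Core

open ArtFun ArtFun.Art

section Hom

variable {k : Type u} [Field k]

/-- algebra hom into a trivial square-zero extension from an algebra map and a derivation-like
map -/
noncomputable def tszHom {P E M : Type*} [CommRing P] [CommRing E] [Algebra k P] [Algebra k E]
    [AddCommGroup M] [Module E M] [Module Eᵐᵒᵖ M] [IsCentralScalar E M] [Module k M]
    [IsScalarTower k E M] [IsScalarTower k Eᵐᵒᵖ M]
    (ρ : P →ₐ[k] E) (d : P → M) (d_add : ∀ p q, d (p + q) = d p + d q)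
    (d_mul : ∀ p q, d (p * q) = ρ p • d q + ρ q • d p)
    (d_alg : ∀ c : k, d (algebraMap k P c) = 0) : P →ₐ[k] TrivSqZeroExt E M where
  toFun p := (ρ p, d p)
  map_one' := TrivSqZeroExt.ext (map_one ρ) (by
    show d 1 = 0
    have h := d_alg 1
    rw [map_one] at h
    exact h)
  map_mul' x y := TrivSqZeroExt.ext (map_mul ρ _ _) (by
    show d (x * y) = ρ x • d y + MulOpposite.op (ρ y) • d x
    rw [d_mul, op_smul_eq_smul])
  map_zero' := TrivSqZeroExt.ext (map_zero ρ) (by
    show d 0 = 0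
    have h := d_alg 0
    rw [map_zero] at h
    exact h)
  map_add' x y := TrivSqZeroExt.ext (map_add ρ _ _) (d_add x y)
  commutes' c := by
    rw [TrivSqZeroExt.algebraMap_eq_inl']
    exact TrivSqZeroExt.ext (ρ.commutes c) (d_alg c)

theorem tszHom_fst {P E M : Type*} [CommRing P] [CommRing E] [Algebra k P] [Algebra k E]
    [AddCommGroup M] [Module E M] [Module Eᵐᵒᵖ M] [IsCentralScalar E M] [Module k M]
    [IsScalarTower k E M] [IsScalarTower k Eᵐᵒᵖ M]
    (ρ : P →ₐ[k] E) (d : P → M) (d_add : ∀ p q, d (p + q) = d p + d q)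
    (d_mul : ∀ p q, d (p * q) = ρ p • d q + ρ q • d p)
    (d_alg : ∀ c : k, d (algebraMap k P c) = 0) (p : P) :
    (tszHom ρ d d_add d_mul d_alg p).fst = ρ p := rfl

theorem tszHom_snd {P E M : Type*} [CommRing P] [CommRing E] [Algebra k P] [Algebra k E]
    [AddCommGroup M] [Module E M] [Module Eᵐᵒᵖ M] [IsCentralScalar E M] [Module k M]
    [IsScalarTower k E M] [IsScalarTower k Eᵐᵒᵖ M]
    (ρ : P →ₐ[k] E) (d : P → M) (d_add : ∀ p q, d (p + q) = d p + d q)
    (d_mul : ∀ p q, d (p * q) = ρ p • d q + ρ q • d p)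
    (d_alg : ∀ c : k, d (algebraMap k P c) = 0) (p : P) :
    (tszHom ρ d d_add d_mul d_alg p).snd = d p := rfl

/-- the map of trivial square-zero extensions induced by a linear map, as a `k`-algebra map -/
noncomputable def mapHom (A : Type*) [CommRing A] [Algebra k A] {M M' : Type*}
    [AddCommGroup M] [Module A M] [Module Aᵐᵒᵖ M] [IsCentralScalar A M] [Module k M]
    [IsScalarTower k A M] [IsScalarTower k Aᵐᵒᵖ M]
    [AddCommGroup M'] [Module A M'] [Module Aᵐᵒᵖ M'] [IsCentralScalar A M'] [Module k M']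
    [IsScalarTower k A M'] [IsScalarTower k Aᵐᵒᵖ M'] (f : M' →ₗ[A] M) :
    TrivSqZeroExt A M' →ₐ[k] TrivSqZeroExt A M :=
  tszHom (TrivSqZeroExt.fstHom k A M') (fun x => f x.snd)
    (fun p q => by rw [TrivSqZeroExt.snd_add, map_add])
    (fun p q => by
      rw [TrivSqZeroExt.snd_mul, map_add, map_smul, op_smul_eq_smul, map_smul]
      rfl)
    (fun c => by
      rw [TrivSqZeroExt.algebraMap_eq_inl', TrivSqZeroExt.snd_inl, map_zero])

/-- every `k`-algebra map from a coefficient ring to an Artinian object respects the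
augmentations -/
theorem res_comp_eq {R : CRing k k} {A : Art k k} (g : R.carrier →ₐ[k] A) :
    A.res.comp g = R.res := by
  have e : ∀ c : k, algebraMap k k c = c := fun c => rfl
  apply AlgHom.ext
  intro r
  show A.res (g r) = R.res r
  by_contra hne
  have hx : r - algebraMap k R.carrier (R.res r) ∈ maximalIdeal R.carrier := by
    rw [CRing.mem_maximalIdeal_iff, map_sub, AlgHom.commutes, e, sub_self]
  have hd : A.res (g (r - algebraMap k R.carrier (R.res r))) ≠ 0 := by
    rw [map_sub, map_sub, AlgHom.commutes, AlgHom.commutes, e]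
    intro h
    exact hne (sub_eq_zero.1 h)
  have hu : IsUnit (r - algebraMap k R.carrier (R.res r) -
      algebraMap k R.carrier (A.res (g (r - algebraMap k R.carrier (R.res r))))) := by
    by_contra hnu
    have h1 : r - algebraMap k R.carrier (R.res r) -
        algebraMap k R.carrier (A.res (g (r - algebraMap k R.carrier (R.res r)))) ∈
        maximalIdeal R.carrier := (mem_maximalIdeal _).2 hnu
    have h2 := Ideal.sub_mem _ hx h1
    rw [sub_sub_cancel, CRing.mem_maximalIdeal_iff, AlgHom.commutes, e] at h2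
    exact hd h2
  have hu' := hu.map g
  have hm : g (r - algebraMap k R.carrier (R.res r) -
      algebraMap k R.carrier (A.res (g (r - algebraMap k R.carrier (R.res r))))) ∈
      maximalIdeal A := by
    rw [Art.mem_maximalIdeal_iff, map_sub, map_sub (A.res), AlgHom.commutes, AlgHom.commutes, e,
      sub_self]
  exact (mem_maximalIdeal _).1 hm hu'

end Hom

section Euler

variable (k : Type u) [Field k] (n : ℕ)

local notation "P" => MvPowerSeries (Fin n) k
local notation "𝔪" => maximalIdeal (MvPowerSeries (Fin n) k)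

/-- the Euler operator `∑ Xᵢ ∂ᵢ` -/
noncomputable def eul (p : P) : P := ∑ i : Fin n, (X i : P) * pderiv k i p

theorem X_mem (i : Fin n) : (X i : P) ∈ 𝔪 := by
  rw [Groth.Agent.Lib.Helper1.PSOmega.maximalIdeal_eq_span]
  exact Ideal.subset_span ⟨i, rfl⟩

theorem eul_add (p q : P) : eul k n (p + q) = eul k n p + eul k n q := by
  unfold eul
  rw [← Finset.sum_add_distrib]
  refine Finset.sum_congr rfl fun i _ => ?_
  rw [map_add, mul_add]

theorem eul_zero : eul k n (0 : P) = 0 := by
  unfold eul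
  refine Finset.sum_eq_zero fun i _ => ?_
  rw [map_zero, mul_zero]

theorem eul_mul (p q : P) : eul k n (p * q) = p * eul k n q + q * eul k n p := by
  unfold eul
  rw [Finset.mul_sum, Finset.mul_sum, ← Finset.sum_add_distrib]
  refine Finset.sum_congr rfl fun i _ => ?_
  rw [Derivation.leibniz, smul_eq_mul, smul_eq_mul]
  ring

theorem eul_X (j : Fin n) : eul k n (X j : P) = X j := by
  classical
  unfold eul
  rw [Finset.sum_eq_single j]
  · rw [pderiv_X, Pi.single_eq_same, mul_one]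
  · intro i _ hij
    rw [pderiv_X, Pi.single_eq_of_ne (Ne.symm hij), mul_zero]
  · intro h
    exact absurd (Finset.mem_univ j) h

theorem eul_mem (p : P) : eul k n p ∈ 𝔪 := by
  unfold eul
  exact Ideal.sum_mem _ fun i _ => Ideal.mul_mem_right _ _ (X_mem k n i)

theorem eul_sub_mem_sq (a : P) (ha : a ∈ 𝔪) : eul k n a - a ∈ 𝔪 ^ 2 := by
  have hspan := Groth.Agent.Lib.Helper1.PSOmega.maximalIdeal_eq_span k n
  have ha' : a ∈ Ideal.span (Set.range (X : Fin n → P)) := by rw [← hspan]; exact ha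
  refine Submodule.span_induction (p := fun x _ => eul k n x - x ∈ 𝔪 ^ 2) ?_ ?_ ?_ ?_ ha'
  · rintro _ ⟨j, rfl⟩
    rw [eul_X, sub_self]
    exact zero_mem _
  · rw [eul_zero, sub_zero]
    exact zero_mem _
  · intro x y _ _ hx hy
    have h : eul k n (x + y) - (x + y) = (eul k n x - x) + (eul k n y - y) := by
      rw [eul_add]; ring
    rw [h]
    exact add_mem hx hy
  · intro g x hx ih
    have hxm : x ∈ 𝔪 := by rw [hspan]; exact hx
    have h : eul k n (g • x) - g • x = g * (eul k n x - x) + x * eul k n g := by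
      rw [smul_eq_mul, eul_mul]; ring
    rw [h]
    refine add_mem (Ideal.mul_mem_left _ _ ih) ?_
    rw [pow_two]
    exact Ideal.mul_mem_mul hxm (eul_mem k n g)

theorem eul_sub_nat_mul_mem (N : ℕ) :
    ∀ p ∈ 𝔪 ^ N, eul k n p - (N : P) * p ∈ 𝔪 ^ (N + 1) := by
  induction N with
  | zero =>
    intro p _
    rw [Nat.cast_zero, zero_mul, sub_zero, zero_add, pow_one]
    exact eul_mem k n p
  | succ N ih =>
    intro p hp
    rw [pow_succ] at hp
    refine Submodule.mul_induction_on hp ?_ ?_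
    · intro g hg a ha
      have h : eul k n (g * a) - ((N + 1 : ℕ) : P) * (g * a) =
          g * (eul k n a - a) + a * (eul k n g - (N : P) * g) := by
        rw [eul_mul]; push_cast; ring
      rw [h]
      refine add_mem ?_ ?_
      · have h1 := Ideal.mul_mem_mul hg (eul_sub_mem_sq k n a ha)
        rw [← pow_add] at h1
        exact h1
      · have h1 := Ideal.mul_mem_mul ha (ih g hg)
        rw [← pow_succ'] at h1
        exact h1
    · intro x y hx hy
      have h : eul k n (x + y) - ((N + 1 : ℕ) : P) * (x + y) =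
          (eul k n x - ((N + 1 : ℕ) : P) * x) + (eul k n y - ((N + 1 : ℕ) : P) * y) := by
        rw [eul_add]; ring
      rw [h]
      exact add_mem hx hy

theorem pderiv_mem_pow (i : Fin n) (N : ℕ) :
    ∀ g ∈ 𝔪 ^ (N + 1), pderiv k i g ∈ 𝔪 ^ N := by
  induction N with
  | zero =>
    intro g _
    rw [pow_zero, Ideal.one_eq_top]
    trivial
  | succ N ih =>
    intro g hg
    rw [pow_succ] at hg
    refine Submodule.mul_induction_on hg ?_ ?_
    · intro a ha b hb
      rw [Derivation.leibniz, smul_eq_mul, smul_eq_mul]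
      refine add_mem (Ideal.mul_mem_right _ _ ha) ?_
      have h1 := Ideal.mul_mem_mul hb (ih a ha)
      rw [← pow_succ'] at h1
      exact h1
    · intro x y hx hy
      rw [map_add]
      exact add_mem hx hy

end Euler

section Core

variable {k : Type u} [Field k] [CharZero k]

theorem step (R : CRing k k) {n : ℕ}
    (ψ : MvPowerSeries (Fin n) k →ₐ[k] R.carrier) (hψ : Function.Surjective ψ)
    (HT : ∀ (E : Art k k) (J : Ideal E) (φ : R.carrier →ₐ[k] TrivSqZeroExt E (E ⧸ J)),
      ∃ ψ' : R.carrier →ₐ[k] TrivSqZeroExt E E, ∀ r, (ψ' r).fst = (φ r).fst ∧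
        Ideal.Quotient.mk J (ψ' r).snd = (φ r).snd)
    (N : ℕ) (hN : 2 ≤ N)
    (hI : ∀ q, ψ q = 0 → q ∈ maximalIdeal (MvPowerSeries (Fin n) k) ^ N) :
    ∀ q, ψ q = 0 → q ∈ maximalIdeal (MvPowerSeries (Fin n) k) ^ (N + 1) := by
  classical
  intro p hp
  have hpN : p ∈ maximalIdeal (MvPowerSeries (Fin n) k) ^ N := hI p hp
  haveI : IsLocalHom (ψ : MvPowerSeries (Fin n) k →+* R.carrier) :=
    Function.Surjective.isLocalHom _ hψ
  have hψm : ∀ a ∈ maximalIdeal (MvPowerSeries (Fin n) k), ψ a ∈ maximalIdeal R.carrier := by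
    intro a ha
    rw [mem_maximalIdeal, mem_nonunits_iff] at ha ⊢
    intro hu
    exact ha (isUnit_of_map_unit (ψ : MvPowerSeries (Fin n) k →+* R.carrier) a hu)
  have hmap : maximalIdeal R.carrier = Ideal.map ψ (maximalIdeal (MvPowerSeries (Fin n) k)) := by
    apply le_antisymm
    · intro r hr
      obtain ⟨a, rfl⟩ := hψ r
      refine Ideal.mem_map_of_mem _ ?_
      rw [mem_maximalIdeal, mem_nonunits_iff] at hr ⊢
      intro hu
      exact hr (hu.map ψ)
    · rw [Ideal.map_le_iff_le_comap]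
      intro a ha
      exact hψm a ha
  obtain ⟨E, πE, hπs, hπk⟩ := Groth.Agent.Lib.Helper19.ArtFunComplete.exists_art_quot R
    (maximalIdeal R.carrier ^ N) (Ideal.pow_le_self (by omega)) N le_rfl
  have hresE : ∀ r, E.res (πE.1 r) = R.res r := fun r => AlgHom.congr_fun πE.2 r
  obtain ⟨ρ, hρdef⟩ : ∃ ρ : MvPowerSeries (Fin n) k →ₐ[k] E, ∀ q, ρ q = πE.1 (ψ q) :=
    ⟨πE.1.comp ψ, fun _ => rfl⟩
  have hρm : ∀ a ∈ maximalIdeal (MvPowerSeries (Fin n) k), ρ a ∈ maximalIdeal E := by
    intro a ha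
    rw [Art.mem_maximalIdeal_iff, hρdef, hresE, ← CRing.mem_maximalIdeal_iff]
    exact hψm a ha
  have hmEN : maximalIdeal E ^ N = ⊥ := by
    have h1 : maximalIdeal E ≤ Ideal.map πE.1 (maximalIdeal R.carrier) := by
      intro x hx
      obtain ⟨r, rfl⟩ := hπs x
      refine Ideal.mem_map_of_mem _ ?_
      rw [CRing.mem_maximalIdeal_iff, ← hresE]
      exact (Art.mem_maximalIdeal_iff E _).1 hx
    rw [eq_bot_iff]
    calc maximalIdeal E ^ N ≤ (Ideal.map πE.1 (maximalIdeal R.carrier)) ^ N :=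
          Ideal.pow_right_mono h1 N
      _ = Ideal.map πE.1 (maximalIdeal R.carrier ^ N) := (Ideal.map_pow _ _ _).symm
      _ ≤ ⊥ := le_of_eq ((Ideal.map_eq_bot_iff_le_ker _).2 (le_of_eq hπk.symm))
  obtain ⟨J, hJdef⟩ : ∃ J : Ideal E, J = maximalIdeal E ^ (N - 1) := ⟨_, rfl⟩
  have hJ : ∀ x ∈ maximalIdeal E, ∀ y ∈ J, x * y = 0 := by
    intro x hx y hy
    rw [hJdef] at hy
    have h := Ideal.mul_mem_mul hx hy
    rw [← pow_succ', show N - 1 + 1 = N by omega, hmEN] at h
    exact (Ideal.mem_bot).1 h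
  have hρker : ∀ g : MvPowerSeries (Fin n) k, ρ g = 0 →
      g ∈ maximalIdeal (MvPowerSeries (Fin n) k) ^ N := by
    intro g hg
    have h1 : ψ g ∈ maximalIdeal R.carrier ^ N := by
      rw [← hπk, RingHom.mem_ker, ← hρdef]
      exact hg
    rw [hmap, ← Ideal.map_pow, Ideal.mem_map_iff_of_surjective ψ hψ] at h1
    obtain ⟨h, hh, hhg⟩ := h1
    have h2 : g - h ∈ maximalIdeal (MvPowerSeries (Fin n) k) ^ N :=
      hI _ (by rw [map_sub, hhg, sub_self])
    have h3 := Ideal.add_mem _ h2 hh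
    rwa [sub_add_cancel] at h3
  have hρJ : ∀ g ∈ maximalIdeal (MvPowerSeries (Fin n) k) ^ (N - 1), ρ g ∈ J := by
    intro g hg
    have h1 : Ideal.map ρ (maximalIdeal (MvPowerSeries (Fin n) k)) ≤ maximalIdeal E := by
      rw [Ideal.map_le_iff_le_comap]
      intro a ha
      exact hρm a ha
    have h2 : ρ g ∈ Ideal.map ρ (maximalIdeal (MvPowerSeries (Fin n) k) ^ (N - 1)) :=
      Ideal.mem_map_of_mem _ hg
    rw [Ideal.map_pow] at h2
    rw [hJdef]
    exact Ideal.pow_right_mono h1 _ h2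
  have hpd : ∀ i : Fin n, pderiv k i p ∈ maximalIdeal (MvPowerSeries (Fin n) k) ^ N := by
    intro i
    have d_add : ∀ a b : MvPowerSeries (Fin n) k,
        Ideal.Quotient.mk J (ρ (pderiv k i (a + b))) =
          Ideal.Quotient.mk J (ρ (pderiv k i a)) + Ideal.Quotient.mk J (ρ (pderiv k i b)) := by
      intro a b
      rw [map_add, map_add, map_add]
    have d_mul : ∀ a b : MvPowerSeries (Fin n) k,
        Ideal.Quotient.mk J (ρ (pderiv k i (a * b))) =
          ρ a • Ideal.Quotient.mk J (ρ (pderiv k i b)) +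
            ρ b • Ideal.Quotient.mk J (ρ (pderiv k i a)) := by
      intro a b
      rw [Derivation.leibniz, smul_eq_mul, smul_eq_mul, map_add, map_mul, map_mul, map_add,
        map_mul, map_mul]
      rfl
    have d_alg : ∀ c : k, Ideal.Quotient.mk J
        (ρ (pderiv k i (algebraMap k (MvPowerSeries (Fin n) k) c))) = 0 := by
      intro c
      rw [Derivation.map_algebraMap, map_zero, map_zero]
    obtain ⟨Φ, hΦ1, hΦ2⟩ : ∃ Φ : MvPowerSeries (Fin n) k →ₐ[k] TrivSqZeroExt E (E ⧸ J),
        (∀ q, (Φ q).fst = ρ q) ∧ ∀ q, (Φ q).snd = Ideal.Quotient.mk J (ρ (pderiv k i q)) :=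
      ⟨tszHom ρ (fun q => Ideal.Quotient.mk J (ρ (pderiv k i q))) d_add d_mul d_alg,
        fun _ => rfl, fun _ => rfl⟩
    have hΦker : RingHom.ker ψ.toRingHom ≤ RingHom.ker Φ.toRingHom := by
      intro q hq
      have hq' : ψ q = 0 := hq
      have hq0 : ρ q = 0 := by rw [hρdef, hq', map_zero]
      have hq1 : pderiv k i q ∈ maximalIdeal (MvPowerSeries (Fin n) k) ^ (N - 1) := by
        apply pderiv_mem_pow k n i (N - 1) q
        rw [show N - 1 + 1 = N by omega]
        exact hI q hq'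
      show Φ q = 0
      refine TrivSqZeroExt.ext ?_ ?_
      · rw [hΦ1, hq0]; rfl
      · rw [hΦ2]
        exact Ideal.Quotient.eq_zero_iff_mem.2 (hρJ _ hq1)
    obtain ⟨φ, hφ⟩ : ∃ φ : R.carrier →ₐ[k] TrivSqZeroExt E (E ⧸ J), ∀ q, φ (ψ q) = Φ q :=
      ⟨AlgHom.liftOfSurjective ψ hψ Φ hΦker, fun q => AlgHom.liftOfSurjective_apply ψ hψ Φ hΦker q⟩
    obtain ⟨ψ', hψ'⟩ := HT E J φ
    have fstΨ : ∀ q, (ψ' (ψ q)).fst = ρ q := by
      intro q
      rw [(hψ' (ψ q)).1, hφ, hΦ1]
    have sndΨ : ∀ q, Ideal.Quotient.mk J (ψ' (ψ q)).snd =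
        Ideal.Quotient.mk J (ρ (pderiv k i q)) := by
      intro q
      rw [(hψ' (ψ q)).2, hφ, hΦ2]
    obtain ⟨δ, hδdef⟩ : ∃ δ : MvPowerSeries (Fin n) k → E,
        ∀ q, δ q = (ψ' (ψ q)).snd - ρ (pderiv k i q) := ⟨_, fun _ => rfl⟩
    have hδJ : ∀ q, δ q ∈ J := by
      intro q
      rw [hδdef]
      exact Ideal.Quotient.eq.1 (sndΨ q)
    have hδadd : ∀ a b, δ (a + b) = δ a + δ b := by
      intro a b
      rw [hδdef, hδdef, hδdef, map_add, map_add, TrivSqZeroExt.snd_add, map_add, map_add]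
      ring
    have hδmul : ∀ a b, δ (a * b) = ρ a * δ b + ρ b * δ a := by
      intro a b
      have e1 : (ψ' (ψ (a * b))).snd = ρ a * (ψ' (ψ b)).snd + ρ b * (ψ' (ψ a)).snd := by
        rw [map_mul, map_mul, TrivSqZeroExt.snd_mul, fstΨ, fstΨ, smul_eq_mul, op_smul_eq_smul,
          smul_eq_mul]
      have e2 : ρ (pderiv k i (a * b)) = ρ a * ρ (pderiv k i b) + ρ b * ρ (pderiv k i a) := by
        rw [Derivation.leibniz, smul_eq_mul, smul_eq_mul, map_add, map_mul, map_mul]
      rw [hδdef, hδdef, hδdef, e1, e2]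
      ring
    have hδsq : ∀ q ∈ maximalIdeal (MvPowerSeries (Fin n) k) ^ 2, δ q = 0 := by
      intro q hq
      rw [pow_two] at hq
      refine Submodule.mul_induction_on hq ?_ ?_
      · intro a ha b hb
        rw [hδmul, hJ _ (hρm a ha) _ (hδJ b), hJ _ (hρm b hb) _ (hδJ a), add_zero]
      · intro x y hx hy
        rw [hδadd, hx, hy, add_zero]
    have h0 : δ p = 0 := hδsq p (Ideal.pow_le_pow_right hN hpN)
    have h1 : (ψ' (ψ p)).snd = 0 := by
      rw [hp, map_zero]; rfl
    rw [hδdef, h1, zero_sub, neg_eq_zero] at h0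
    exact hρker _ h0
  have hE1 : eul k n p ∈ maximalIdeal (MvPowerSeries (Fin n) k) ^ (N + 1) := by
    unfold eul
    refine Ideal.sum_mem _ fun i _ => ?_
    rw [pow_succ']
    exact Ideal.mul_mem_mul (X_mem k n i) (hpd i)
  have hE2 := eul_sub_nat_mul_mem k n N p hpN
  have hNp : (N : MvPowerSeries (Fin n) k) * p ∈
      maximalIdeal (MvPowerSeries (Fin n) k) ^ (N + 1) := by
    have h := Ideal.sub_mem _ hE1 hE2
    rwa [sub_sub_cancel] at h
  have hNk : (N : k) ≠ 0 := Nat.cast_ne_zero.2 (by omega)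
  have hpe : p = algebraMap k (MvPowerSeries (Fin n) k) ((N : k)⁻¹) *
      ((N : MvPowerSeries (Fin n) k) * p) := by
    rw [← mul_assoc, ← map_natCast (algebraMap k (MvPowerSeries (Fin n) k)) N, ← map_mul,
      inv_mul_cancel₀ hNk, map_one, one_mul]
  rw [hpe]
  exact Ideal.mul_mem_left _ _ hNp

/-- **`T¹`-lifting criterion, hard direction.** -/
theorem injective_of_T1 (R : CRing k k) {n : ℕ}
    (ψ : MvPowerSeries (Fin n) k →ₐ[k] R.carrier) (hψ : Function.Surjective ψ)
    (hker : RingHom.ker ψ ≤ maximalIdeal (MvPowerSeries (Fin n) k) ^ 2)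
    (HT : ∀ (E : Art k k) (J : Ideal E) (φ : R.carrier →ₐ[k] TrivSqZeroExt E (E ⧸ J)),
      ∃ ψ' : R.carrier →ₐ[k] TrivSqZeroExt E E, ∀ r, (ψ' r).fst = (φ r).fst ∧
        Ideal.Quotient.mk J (ψ' r).snd = (φ r).snd) :
    Function.Injective ψ := by
  have hall : ∀ N : ℕ, ∀ q, ψ q = 0 → q ∈ maximalIdeal (MvPowerSeries (Fin n) k) ^ N := by
    intro N
    induction N with
    | zero =>
      intro q _
      rw [pow_zero, Ideal.one_eq_top]
      trivial
    | succ N ih =>
      by_cases hN : 2 ≤ N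
      · exact step R ψ hψ HT N hN ih
      · intro q hq
        have h2 : N + 1 ≤ 2 := by omega
        exact Ideal.pow_le_pow_right h2 (hker ((RingHom.mem_ker).2 hq))
  rw [injective_iff_map_eq_zero]
  intro q hq
  have h1 : q ∈ ⨅ i : ℕ, maximalIdeal (MvPowerSeries (Fin n) k) ^ i := by
    rw [Ideal.mem_iInf]
    intro N
    exact hall N q hq
  rw [Ideal.iInf_pow_eq_bot_of_isLocalRing _ (maximalIdeal.isMaximal _).ne_top] at h1
  exact (Ideal.mem_bot).1 h1

end Core

section Forward

variable {k : Type u} [Field k]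

/-- **`T¹`-lifting criterion, easy direction**: the power series ring lifts along every surjection
of modules. -/
theorem lift_of_equiv (R : CRing k k) {n : ℕ} (e : R.carrier ≃ₐ[k] MvPowerSeries (Fin n) k)
    (A : Art k k) (M M' : Type u) [AddCommGroup M] [Module A M] [Module Aᵐᵒᵖ M]
    [IsCentralScalar A M] [Module k M] [IsScalarTower k A M] [IsScalarTower k Aᵐᵒᵖ M]
    [AddCommGroup M'] [Module A M'] [Module Aᵐᵒᵖ M'] [IsCentralScalar A M'] [Module k M']
    [IsScalarTower k A M'] [IsScalarTower k Aᵐᵒᵖ M']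
    (f : M' →ₗ[A] M) (hf : Function.Surjective f) (φ : R.carrier →ₐ[k] TrivSqZeroExt A M) :
    ∃ ψ : R.carrier →ₐ[k] TrivSqZeroExt A M', ∀ r, (ψ r).fst = (φ r).fst ∧
      f (ψ r).snd = (φ r).snd := by
  classical
  obtain ⟨φ', hφ'⟩ : ∃ φ' : MvPowerSeries (Fin n) k →ₐ[k] TrivSqZeroExt A M,
      ∀ q, φ' q = φ (e.symm q) := ⟨φ.comp e.symm.toAlgHom, fun _ => rfl⟩
  have hnil : ∀ i, IsNilpotent (φ' (X i)).fst := by
    intro i
    have hg := res_comp_eq ((TrivSqZeroExt.fstHom k A M).comp φ)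
    have hXi : e.symm (X i) ∈ maximalIdeal R.carrier := by
      rw [mem_maximalIdeal, mem_nonunits_iff]
      intro hu
      have h1 : IsUnit (e (e.symm (X i))) := hu.map e
      rw [AlgEquiv.apply_symm_apply, MvPowerSeries.isUnit_iff_constantCoeff,
        MvPowerSeries.constantCoeff_X] at h1
      exact not_isUnit_zero h1
    have h1 : (φ' (X i)).fst ∈ maximalIdeal A := by
      rw [Art.mem_maximalIdeal_iff, hφ']
      have h2 := AlgHom.congr_fun hg (e.symm (X i))
      rw [(CRing.mem_maximalIdeal_iff R _).1 hXi] at h2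
      exact h2
    obtain ⟨m, hm⟩ := Groth.Agent.Lib.Helper19.ArtFunBasic.exists_maximalIdeal_pow_eq_bot A
    refine ⟨m, ?_⟩
    have h3 := Ideal.pow_mem_pow h1 m
    rwa [hm, Ideal.mem_bot] at h3
  choose m' hm' using fun i => hf (φ' (X i)).snd
  obtain ⟨z', hz'1, hz'2⟩ : ∃ z' : Fin n → TrivSqZeroExt A M',
      (∀ i, (z' i).fst = (φ' (X i)).fst) ∧ ∀ i, (z' i).snd = m' i :=
    ⟨fun i => ((φ' (X i)).fst, m' i), fun _ => rfl, fun _ => rfl⟩
  have hz' : ∀ i, IsNilpotent (z' i) := by
    intro i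
    rw [TrivSqZeroExt.isNilpotent_iff_isNilpotent_fst, hz'1]
    exact hnil i
  obtain ⟨g', hg'⟩ := Groth.Agent.Lib.Helper6.PowerSeriesAdic.exists_algHom_of_isNilpotent
    (A := k) (E := TrivSqZeroExt A M') z' hz'
  have hagree : ∀ i, ((mapHom (k := k) A f).comp g') (X i) = φ' (X i) := by
    intro i
    show mapHom (k := k) A f (g' (X i)) = φ' (X i)
    rw [hg']
    refine TrivSqZeroExt.ext ?_ ?_
    · show (z' i).fst = (φ' (X i)).fst
      exact hz'1 i
    · show f (z' i).snd = (φ' (X i)).snd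
      rw [hz'2, hm']
  have hnil2 : ∀ i, IsNilpotent (φ' (X i)) := by
    intro i
    rw [TrivSqZeroExt.isNilpotent_iff_isNilpotent_fst]
    exact hnil i
  have hE : ∃ j : ℕ, ((⊥ : Ideal k) ^ j).map (algebraMap k (TrivSqZeroExt A M)) = ⊥ :=
    ⟨1, by rw [pow_one, Ideal.map_bot]⟩
  have hk1 := Groth.Agent.Lib.Helper6.PowerSeriesAdic.kills_pow_of_isNilpotent (⊥ : Ideal k) hE
    ((mapHom (k := k) A f).comp g') (fun i => by rw [hagree]; exact hnil2 i)
  have hk2 := Groth.Agent.Lib.Helper6.PowerSeriesAdic.kills_pow_of_isNilpotent (⊥ : Ideal k) hE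
    φ' hnil2
  have heq : (mapHom (k := k) A f).comp g' = φ' :=
    Groth.Agent.Lib.Helper6.PowerSeriesAdic.algHom_ext_of_kills _ le_sup_right _ _ hk1 hk2 hagree
  refine ⟨g'.comp e.toAlgHom, fun r => ?_⟩
  have h1 : φ r = mapHom (k := k) A f (g' (e r)) := by
    have h2 := AlgHom.congr_fun heq (e r)
    rw [hφ', AlgEquiv.symm_apply_apply] at h2
    exact h2.symm
  rw [h1]
  exact ⟨rfl, rfl⟩

end Forward

end Groth.Agent.Lib.Helper19.T1Core
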