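import Mathlib
import Groth.Agent.Lib.Helper19.TorsDense

/-!
# Schematic density of torsion in groups of multiplicative type (helper19)

* `diag_step`: the diagonalisable case `T[M]`, `M` finitely generated, over any ring `T`.
* `exists_pow_mul_eq_zero`: for `A` of multiplicative type and of finite type over `R` and
  `a, x ∈ A`: if for all `n > 0` some `a ^ e * x` lies in the ideal of the `n`-torsion subgroup,
  then some `a ^ e * x` vanishes.
-/

set_option autoImplicit false
universe u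

open TensorProduct

namespace Groth.Agent.Lib.Helper19.TorsDense

open Groth.Agent.Lib.Helper19 Groth.Agent.Lib.Helper28

theorem diag_step (T : Type u) [CommRing T] (M : Type u) [CommGroup M] [Group.FG M]
    (a x : MonoidAlgebra T M)
    (H : ∀ n : ℕ, 0 < n → ∃ e : ℕ, ∀ (C : Type u) [CommRing C] (ψ : MonoidAlgebra T M →+* C),
      (∀ m : M, ψ (MonoidAlgebra.single (m ^ n) 1) = 1) → ψ (a ^ e * x) = 0) :
    ∃ e : ℕ, a ^ e * x = 0 := by
  classical
  obtain ⟨ι, j, _, _, p, hp, ee, ⟨ε⟩⟩ := CommGroup.equiv_free_prod_prod_multiplicative_zmod M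
  haveI : ∀ i, NeZero (p i ^ ee i) := fun i => ⟨pow_ne_zero _ (hp i).ne_zero⟩
  haveI : Finite ((i : ι) → Multiplicative (ZMod (p i ^ ee i))) := inferInstance
  obtain ⟨N, hN⟩ : ∃ N : ℕ, N = Nat.card ((i : ι) → Multiplicative (ZMod (p i ^ ee i))) :=
    ⟨_, rfl⟩
  have hNpos : 0 < N := hN ▸ Nat.card_pos
  have hT₀ : ∀ t : (i : ι) → Multiplicative (ZMod (p i ^ ee i)), t ^ N = 1 := fun t => by
    rw [hN]; exact pow_card_eq_one'
  let d : MonoidAlgebra T M →+*
      MonoidAlgebra (MonoidAlgebra T ((i : ι) → Multiplicative (ZMod (p i ^ ee i))))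
        (j → Multiplicative ℤ) :=
    (MonoidAlgebra.curryRingEquiv (R := T) (M := j → Multiplicative ℤ)
      (N := (i : ι) → Multiplicative (ZMod (p i ^ ee i)))).toRingHom.comp
      (MonoidAlgebra.mapDomainRingEquiv T ε).toRingHom
  have hd : Function.Injective d := by
    intro y y' h
    exact (MonoidAlgebra.mapDomainRingEquiv T ε).injective
      (MonoidAlgebra.curryRingEquiv.injective h)
  have hgood := LaurentDense.dense_pi_int j
    (MonoidAlgebra T ((i : ι) → Multiplicative (ZMod (p i ^ ee i)))) (d a) (d x) ?_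
  · obtain ⟨e, he⟩ := hgood
    refine ⟨e, hd ?_⟩
    rw [map_mul, map_pow, he, map_zero]
  · rintro ⟨n, hn⟩
    obtain ⟨e, he⟩ := H (n * N) (Nat.mul_pos hn hNpos)
    refine ⟨e, ?_⟩
    have h1 := he _ ((MonoidAlgebra.mapDomainRingHom
      (MonoidAlgebra T ((i : ι) → Multiplicative (ZMod (p i ^ ee i))))
      (LaurentDense.powQuot (j → Multiplicative ℤ) ⟨n, hn⟩)).comp d) ?_
    · rw [RingHom.comp_apply, map_mul, map_pow] at h1
      exact h1
    · intro m
      rw [RingHom.comp_apply]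
      have h2 : d (MonoidAlgebra.single (m ^ (n * N)) 1) =
          MonoidAlgebra.single (((ε m).1 ^ N) ^ n) 1 := by
        show MonoidAlgebra.curryRingEquiv
          (MonoidAlgebra.mapDomainRingEquiv T ε (MonoidAlgebra.single (m ^ (n * N)) 1)) = _
        rw [MonoidAlgebra.mapDomainRingEquiv_single, map_pow]
        have h3 : (ε m) ^ (n * N) = (((ε m).1 ^ N) ^ n, 1) := by
          apply Prod.ext
          · rw [Prod.pow_fst, ← pow_mul, mul_comm]
          · rw [Prod.pow_snd, mul_comm, pow_mul, hT₀, one_pow]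
        rw [h3, MonoidAlgebra.curryRingEquiv_single, ← MonoidAlgebra.one_def]
      rw [h2, MonoidAlgebra.mapDomainRingHom_apply, MonoidAlgebra.mapDomain_single]
      have h4 : LaurentDense.powQuot (j → Multiplicative ℤ) ⟨n, hn⟩ (((ε m).1 ^ N) ^ n) = 1 := by
        rw [QuotientGroup.mk'_apply, QuotientGroup.eq_one_iff]
        exact ⟨(ε m).1 ^ N, rfl⟩
      rw [h4, ← MonoidAlgebra.one_def]

variable {R : Type u} [CommRing R] {A : Type u} [CommRing A] [HopfAlgebra R A]

theorem local_step (hft : Algebra.FiniteType R A) (f : R)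
    (hc : SGA3b.IsMultTypeConst (Localization.Away f) (Localization.Away f ⊗[R] A)) (a x : A)
    (H : ∀ n : ℕ, 0 < n → ∃ e : ℕ, a ^ e * x ∈ SGA3b.torsionIdeal R A n) :
    ∃ e k : ℕ, f ^ k • (a ^ e * x) = 0 := by
  obtain ⟨R', _, _, M, _, Φ, hff, hΦ, hK, hfin, -⟩ := exists_diag_hom R A f hc
  rcases subsingleton_or_nontrivial R' with hs | hnt
  · obtain ⟨k, hk⟩ := hΦ (a ^ 0 * x) (Subsingleton.elim _ _)
    exact ⟨0, k, hk⟩
  · haveI := hfin hft
    haveI : Group.FG M := (MonoidAlgebra.finiteType_iff_group_fg (R := R') (G := M)).1 inferInstance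
    obtain ⟨e, he⟩ := diag_step R' M (Φ a) (Φ x) (by
      intro n hn
      obtain ⟨e, he⟩ := H n hn
      refine ⟨e, fun C _ ψ hψ => ?_⟩
      rw [← map_pow, ← map_mul]
      exact hK C n ψ hψ _ he)
    rw [← map_pow, ← map_mul] at he
    obtain ⟨k, hk⟩ := hΦ _ he
    exact ⟨e, k, hk⟩

/-- **Schematic density of the torsion subgroups** in every basic open of a group of
multiplicative type and of finite type. -/
theorem exists_pow_mul_eq_zero (hft : Algebra.FiniteType R A) (h : SGA3b.IsMultType R A) (a x : A)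
    (H : ∀ n : ℕ, 0 < n → ∃ e : ℕ, a ^ e * x ∈ SGA3b.torsionIdeal R A n) :
    ∃ e : ℕ, a ^ e * x = 0 := by
  classical
  obtain ⟨s, hs, hmt⟩ := h
  have key : ∀ f ∈ s, ∃ e k : ℕ, f ^ k • (a ^ e * x) = 0 := fun f hf =>
    local_step hft f (hmt f hf) a x H
  obtain ⟨s₀, hs₀s, hs₀⟩ := (Ideal.span_eq_top_iff_finite s).1 hs
  choose! ef kf hef using key
  refine ⟨∑ f ∈ s₀, ef f, ?_⟩
  rw [← Submodule.mem_bot R]
  apply Submodule.mem_of_span_eq_top_of_smul_pow_mem ⊥ (s₀ : Set R) hs₀
  rintro ⟨f, hf⟩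
  refine ⟨kf f, ?_⟩
  have hle : ef f ≤ ∑ g ∈ s₀, ef g := Finset.single_le_sum (fun _ _ => Nat.zero_le _) hf
  obtain ⟨d, hd⟩ := Nat.exists_eq_add_of_le hle
  rw [Submodule.mem_bot, hd,
    show a ^ (ef f + d) * x = a ^ d * (a ^ ef f * x) by ring, ← mul_smul_comm,
    hef f (hs₀s hf), mul_zero]

end Groth.Agent.Lib.Helper19.TorsDense
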