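import Mathlib
import Groth.Agent.Lib.Helper19.Coalg1
import Groth.Agent.Lib.Helper19.HopfSub
import Groth.Agent.Lib.Helper28.HopfIntegral
import Groth.Agent.Lib.Helper28.FrobKerRed
import Groth.Agent.Lib.Helper28.HopfEtale

/-!
# The trace of a finite commutative Hopf algebra is an invariant integral (helper19)

For a finite-dimensional commutative Hopf algebra `A` over a field `k`:
* `trace_comul`: the trace form is right invariant, `Σ Tr(a₁) a₂ = Tr(a) 1`;
* `eq_zero_of_forall_mul`: an antipode-invariant normalised integral gives a non-degenerate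
  bilinear form `(a, b) ↦ ∫ a b` (Larson–Sweedler, in the form needed here);
* `etale_of_finrank_ne_zero`: if `dim A` is invertible in `k` then `A` is étale.
-/

set_option autoImplicit false
set_option linter.unusedSectionVars false
universe u

open TensorProduct

namespace Groth.Agent.Lib.Helper19.TraceInt

open Groth.Agent.Lib.Helper19.Reynolds
open Groth.Agent.Lib.Helper19.Coalg
open Groth.Agent.Lib.Helper28.HopfIntegral
open Groth.Agent.Lib.Helper28.FrobKerRed

section Trace

variable (k : Type u) [Field k] (A : Type u) [CommRing A] [HopfAlgebra k A] [Module.Finite k A]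

/-- the antipode as an algebra automorphism -/
noncomputable def antipodeEquiv : A ≃ₐ[k] A :=
  AlgEquiv.ofAlgHom (HopfAlgebra.antipodeAlgHom k A) (HopfAlgebra.antipodeAlgHom k A)
    (AlgHom.ext fun a => HopfSub.antipode_antipode a)
    (AlgHom.ext fun a => HopfSub.antipode_antipode a)

lemma trace_antipode (a : A) :
    Algebra.trace k A (HopfAlgebra.antipode k a) = Algebra.trace k A a :=
  Algebra.trace_eq_of_algEquiv (antipodeEquiv k A) a

/-- the twisted shear map `x ⊗ y ↦ (x ⊗ 1) * (Σ y₂ ⊗ y₁)` as a ring automorphism -/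
noncomputable def tauRing : A ⊗[k] A ≃+* A ⊗[k] A :=
  ((Algebra.TensorProduct.comm k A A).toRingEquiv.trans (shear k A)).trans
    (Algebra.TensorProduct.comm k A A).toRingEquiv

lemma tauRing_tmul (x y : A) :
    tauRing k A (x ⊗ₜ[k] y) =
      (x ⊗ₜ[k] (1 : A)) * Algebra.TensorProduct.comm k A A (Coalgebra.comul (R := k) y) := by
  show Algebra.TensorProduct.comm k A A (shear k A (Algebra.TensorProduct.comm k A A
    (x ⊗ₜ[k] y))) = _
  rw [Algebra.TensorProduct.comm_tmul, shear_tmul, map_mul, Algebra.TensorProduct.comm_tmul,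
    mul_comm]

/-- the twisted shear map as an automorphism of the `A`-algebra `A ⊗ A` (left structure) -/
noncomputable def tau : A ⊗[k] A ≃ₐ[A] A ⊗[k] A :=
  AlgEquiv.ofRingEquiv (f := tauRing k A) (fun x => by
    rw [Algebra.TensorProduct.algebraMap_apply, Algebra.algebraMap_self_apply, tauRing_tmul,
      Bialgebra.comul_one, Algebra.TensorProduct.one_def, Algebra.TensorProduct.comm_tmul,
      ← Algebra.TensorProduct.one_def, mul_one])

lemma tau_one_tmul (y : A) :
    tau k A ((1 : A) ⊗ₜ[k] y) = Algebra.TensorProduct.comm k A A (Coalgebra.comul (R := k) y) := by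
  show tauRing k A ((1 : A) ⊗ₜ[k] y) = _
  rw [tauRing_tmul, ← Algebra.TensorProduct.one_def, one_mul]

lemma trace_one_tmul (y : A) :
    Algebra.trace A (A ⊗[k] A) ((1 : A) ⊗ₜ[k] y) = algebraMap k A (Algebra.trace k A y) := by
  rw [Algebra.trace_apply, ← Algebra.baseChange_lmul, LinearMap.trace_baseChange,
    ← Algebra.trace_apply]

lemma trace_comm (t : A ⊗[k] A) :
    Algebra.trace A (A ⊗[k] A) (Algebra.TensorProduct.comm k A A t) =
      TensorProduct.lid k A ((Algebra.trace k A).rTensor A t) := by
  induction t using TensorProduct.induction_on with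
  | zero => simp
  | tmul u v =>
    have e : v ⊗ₜ[k] u = v • ((1 : A) ⊗ₜ[k] u) := by
      rw [TensorProduct.smul_tmul', smul_eq_mul, mul_one]
    rw [Algebra.TensorProduct.comm_tmul, e, map_smul, trace_one_tmul, LinearMap.rTensor_tmul,
      TensorProduct.lid_tmul, smul_eq_mul, Algebra.smul_def, mul_comm]
  | add x y hx hy => simp only [map_add, hx, hy]

/-- **The trace form is right invariant.** -/
theorem trace_comul (a : A) :
    TensorProduct.lid k A ((Algebra.trace k A).rTensor A (Coalgebra.comul (R := k) a)) =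
      Algebra.trace k A a • (1 : A) := by
  rw [← trace_comm, ← tau_one_tmul, Algebra.trace_eq_of_algEquiv, trace_one_tmul,
    Algebra.algebraMap_eq_smul_one]

end Trace

section Nondeg

variable {k : Type u} [Field k] {A : Type u} [CommRing A] [HopfAlgebra k A]

/-- **Non-degeneracy** of the form attached to an antipode-invariant integral. -/
theorem eq_zero_of_forall_mul (I : A →ₗ[k] k) (hI : IsIntegral I)
    (hS : ∀ a : A, I (HopfAlgebra.antipode k a) = I a) (a : A)
    (ha : ∀ b : A, I (a * b) = 0) : a = 0 := by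
  -- the radical
  let R : Submodule k A :=
    { carrier := {x : A | ∀ b : A, I (x * b) = 0}
      add_mem' := fun {x y} hx hy b => by rw [add_mul, map_add, hx b, hy b, add_zero]
      zero_mem' := fun b => by rw [zero_mul, map_zero]
      smul_mem' := fun c x hx b => by rw [smul_mul_assoc, map_smul, hx b, smul_zero] }
  have hRmem : ∀ x : A, x ∈ R ↔ ∀ b : A, I (x * b) = 0 := fun x => Iff.rfl
  have hSS : ∀ x : A, HopfAlgebra.antipode k (HopfAlgebra.antipode k x) = x :=
    fun x => HopfSub.antipode_antipode x
  have hSmul : ∀ x y : A, HopfAlgebra.antipode k (x * y) =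
      HopfAlgebra.antipode k x * HopfAlgebra.antipode k y :=
    fun x y => map_mul (HopfAlgebra.antipodeAlgHom k A) x y
  have hRS : ∀ x ∈ R, HopfAlgebra.antipode k x ∈ R := by
    intro x hx b
    have e : HopfAlgebra.antipode k x * b =
        HopfAlgebra.antipode k (x * HopfAlgebra.antipode k b) := by
      rw [hSmul, hSS]
    rw [e, hS]
    exact hx _
  have hRmul : ∀ x ∈ R, ∀ y : A, x * y ∈ R := by
    intro x hx y b
    rw [mul_assoc]
    exact hx _
  have hRmul' : ∀ x ∈ R, ∀ y : A, y * x ∈ R := by
    intro x hx y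
    rw [mul_comm]
    exact hRmul x hx y
  -- the comultiplication maps `R` into `R ⊗ A`
  have hcomul : ∀ x ∈ R, Coalgebra.comul (R := k) x ∈ LinearMap.range (R.subtype.rTensor A) := by
    intro x hx
    rw [mem_range_rTensor_iff]
    intro f b
    have h0 : theta I x = 0 := by
      apply LinearMap.ext
      intro c
      rw [theta_apply, LinearMap.zero_apply]
      exact hx _
    have hkey := key_identity I hI x (HopfAlgebra.antipode k b)
    rw [h0, LinearMap.lTensor_zero, LinearMap.zero_apply, map_zero] at hkey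
    have h1 : lsl ((theta I).flip (HopfAlgebra.antipode k b)) (Coalgebra.comul (R := k) x) = 0 :=
      hkey.symm
    have h2 := apply_slice f ((theta I).flip (HopfAlgebra.antipode k b))
      (Coalgebra.comul (R := k) x)
    rw [h1, map_zero] at h2
    have h3 : (theta I).flip (HopfAlgebra.antipode k b) (slice f (Coalgebra.comul (R := k) x)) =
        I (slice f (Coalgebra.comul (R := k) x) * b) := by
      rw [LinearMap.flip_apply, theta_apply, hSS]
    rw [← h3]
    exact h2
  -- the counit vanishes on `R`
  have h1R : (1 : A) ∉ R := by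
    intro h
    have := h 1
    rw [mul_one, hI.1] at this
    exact one_ne_zero this
  have hmuS : ∀ z : ↥R ⊗[k] A, LinearMap.mul' k A
      ((HopfAlgebra.antipode k).rTensor A (R.subtype.rTensor A z)) ∈ R := by
    intro z
    induction z using TensorProduct.induction_on with
    | zero => simp
    | tmul r y =>
      rw [LinearMap.rTensor_tmul, LinearMap.rTensor_tmul, LinearMap.mul'_apply]
      exact hRmul _ (hRS _ r.2) y
    | add z₁ z₂ h₁ h₂ =>
      rw [map_add, map_add, map_add]
      exact R.add_mem h₁ h₂
  have hεR : ∀ x ∈ R, Coalgebra.counit (R := k) x = 0 := by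
    intro x hx
    obtain ⟨z, hz⟩ := hcomul x hx
    have h1 := hmuS z
    rw [hz, HopfAlgebra.mul_antipode_rTensor_comul_apply] at h1
    by_contra hne
    apply h1R
    have h2 := R.smul_mem (Coalgebra.counit (R := k) x)⁻¹ h1
    rw [Algebra.algebraMap_eq_smul_one, smul_smul, inv_mul_cancel₀ hne, one_smul] at h2
    exact h2
  -- conclusion
  have haR : a ∈ R := ha
  obtain ⟨z, hz⟩ := hcomul a haR
  have hε0 : (Coalgebra.counit (R := k) (A := A)) ∘ₗ R.subtype = 0 := by
    apply LinearMap.ext
    intro r
    exact hεR r r.2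
  have h1 : lsl (Coalgebra.counit (R := k) (A := A)) (R.subtype.rTensor A z) = 0 := by
    rw [lsl_rTensor, hε0]
    show TensorProduct.lid k A ((0 : ↥R →ₗ[k] k).rTensor A z) = 0
    rw [LinearMap.rTensor_zero, LinearMap.zero_apply, map_zero]
  rw [hz] at h1
  have h2 : lsl (Coalgebra.counit (R := k) (A := A)) (Coalgebra.comul (R := k) a) = a := by
    show TensorProduct.lid k A ((Coalgebra.counit (R := k) (A := A)).rTensor A
      (Coalgebra.comul (R := k) a)) = a
    rw [Coalgebra.rTensor_counit_comul, TensorProduct.lid_tmul, one_smul]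
  rw [← h2, h1]

end Nondeg

section Main

variable (k : Type u) [Field k] (A : Type u) [CommRing A] [HopfAlgebra k A] [Module.Finite k A]

theorem etale_of_finrank_ne_zero (h : (Module.finrank k A : k) ≠ 0) : Algebra.Etale k A := by
  classical
  -- the normalised trace
  let I : A →ₗ[k] k := (Module.finrank k A : k)⁻¹ • Algebra.trace k A
  have hIapp : ∀ a : A, I a = (Module.finrank k A : k)⁻¹ * Algebra.trace k A a := fun a => rfl
  have htr1 : Algebra.trace k A 1 = (Module.finrank k A : k) := by
    have h1 := Algebra.trace_algebraMap (R := k) (S := A) (1 : k)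
    rw [map_one, nsmul_eq_mul, mul_one] at h1
    exact h1
  have hI : IsIntegral I := by
    refine ⟨?_, fun a => ?_⟩
    · rw [hIapp, htr1, inv_mul_cancel₀ h]
    · show TensorProduct.lid k A (((Module.finrank k A : k)⁻¹ • Algebra.trace k A).rTensor A
        (Coalgebra.comul (R := k) a)) = _
      rw [LinearMap.rTensor_smul, LinearMap.smul_apply, map_smul, trace_comul, hIapp, smul_smul]
  have hS : ∀ a : A, I (HopfAlgebra.antipode k a) = I a := by
    intro a
    rw [hIapp, hIapp, trace_antipode]
  -- representing the counit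
  let Θ : A →ₗ[k] Module.Dual k A := (LinearMap.mul k A).compr₂ I
  have hΘ : ∀ c b : A, Θ c b = I (c * b) := fun c b => rfl
  have hΘinj : Function.Injective Θ := by
    rw [← LinearMap.ker_eq_bot, LinearMap.ker_eq_bot']
    intro c hc
    apply eq_zero_of_forall_mul I hI hS c
    intro b
    rw [← hΘ, hc, LinearMap.zero_apply]
  have hΘsurj : Function.Surjective Θ :=
    (LinearMap.injective_iff_surjective_of_finrank_eq_finrank
      (Subspace.dual_finrank_eq (K := k) (V := A)).symm).1 hΘinj
  obtain ⟨Λ, hΛ⟩ := hΘsurj (Coalgebra.counit (R := k) (A := A))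
  have hΛ' : ∀ b : A, I (Λ * b) = Coalgebra.counit (R := k) b := by
    intro b
    rw [← hΘ, hΛ]
  set J := RingHom.ker (Bialgebra.counitAlgHom k A) with hJ
  have hJmem : ∀ x : A, x ∈ J ↔ Coalgebra.counit (R := k) x = 0 := fun x => RingHom.mem_ker
  -- `J Λ = 0`
  have hJΛ : ∀ x ∈ J, x * Λ = 0 := by
    intro x hx
    apply eq_zero_of_forall_mul I hI hS
    intro b
    have e : x * Λ * b = Λ * (x * b) := by ring
    rw [e, hΛ', Bialgebra.counit_mul, (hJmem x).1 hx, zero_mul]
  -- `ε Λ ≠ 0`
  have hmulΛ : ∀ x : A, Λ * x = Coalgebra.counit (R := k) x • Λ := by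
    intro x
    have hx : x - algebraMap k A (Coalgebra.counit (R := k) x) ∈ J := by
      rw [hJmem, map_sub, Bialgebra.counit_algebraMap, sub_self]
    have h1 := hJΛ _ hx
    rw [sub_mul, sub_eq_zero] at h1
    rw [mul_comm, h1, Algebra.smul_def]
  have htrΛ : Algebra.trace k A Λ = Coalgebra.counit (R := k) Λ := by
    have e : Algebra.lmul k A Λ =
        dualTensorHom k A A ((Coalgebra.counit (R := k) (A := A)) ⊗ₜ[k] Λ) := by
      apply LinearMap.ext
      intro x
      rw [dualTensorHom_apply]
      exact hmulΛ x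
    rw [Algebra.trace_apply, e, LinearMap.trace_eq_contract_apply, contractLeft_apply]
  have hεΛ : Coalgebra.counit (R := k) Λ ≠ 0 := by
    intro h0
    have h1 := hΛ' 1
    rw [mul_one, hIapp, htrΛ, h0, mul_zero, Bialgebra.counit_one] at h1
    exact zero_ne_one h1
  -- the idempotent
  let e' : A := (Coalgebra.counit (R := k) Λ)⁻¹ • Λ
  have he'ε : Coalgebra.counit (R := k) e' = 1 := by
    show Coalgebra.counit (R := k) ((Coalgebra.counit (R := k) Λ)⁻¹ • Λ) = 1
    rw [map_smul, smul_eq_mul, inv_mul_cancel₀ hεΛ]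
  have hJe' : ∀ x ∈ J, x * e' = 0 := by
    intro x hx
    show x * ((Coalgebra.counit (R := k) Λ)⁻¹ • Λ) = 0
    rw [mul_smul_comm, hJΛ x hx, smul_zero]
  have heJ : 1 - e' ∈ J := by
    rw [hJmem, map_sub, Bialgebra.counit_one, he'ε, sub_self]
  have hsq : J ^ 2 = J := by
    apply le_antisymm (Ideal.pow_le_self two_ne_zero)
    intro x hx
    have e : x = x * (1 - e') := by
      rw [mul_sub, mul_one, hJe' x hx, sub_zero]
    rw [e, pow_two]
    exact Ideal.mul_mem_mul hx heJ
  exact Groth.Agent.Lib.Helper28.HopfEtale.etale_iff.2 hsq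

end Main

end Groth.Agent.Lib.Helper19.TraceInt
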