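import Groth.Agent.Lib.Helper19.Diag

/-!
# Commutative groups over an algebraically closed field are trigonalizable (helper19)
-/

set_option autoImplicit false
set_option linter.unusedSectionVars false
universe u v w

open TensorProduct

namespace Groth.Agent.Lib.Helper19.Trig

open Groth.Agent.Lib.Helper19.Reynolds
open Groth.Agent.Lib.Helper19.Diag
open Groth.Agent.Lib.Helper28.ComodHom

variable {k : Type u} [Field k] {A : Type v} [CommRing A] [HopfAlgebra k A]
variable {V : Type w} [AddCommGroup V] [Module k V] [HopfRep.Comod k A V]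

lemma isSubcomod_span_singleton_of_eigen (v : V) (a : A)
    (ha : HopfRep.Comod.coact (k := k) (A := A) v = v ⊗ₜ[k] a) :
    HopfRep.IsSubcomod (k := k) (A := A) (Submodule.span k {v}) := by
  rw [isSubcomod_iff]
  intro f w hw
  obtain ⟨c, rfl⟩ := Submodule.mem_span_singleton.mp hw
  rw [map_smul, opT_apply, ha, slice_tmul]
  exact Submodule.smul_mem _ _ (Submodule.smul_mem _ _ (Submodule.mem_span_singleton_self v))

theorem finrank_eq_one_of_isSimpleComod [IsAlgClosed k] [Coalgebra.IsCocomm k A]
    [FiniteDimensional k V] (hs : HopfRep.IsSimpleComod k A V) : Module.finrank k V = 1 := by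
  obtain ⟨hnt, hsimple⟩ := hs
  obtain ⟨v, hv⟩ := exists_ne (0 : V)
  obtain ⟨a, ha⟩ := exists_coact_eq_tmul_of_minimal (k := k) (A := A) (⊤ : Submodule k V)
    isSubcomod_top (fun W hW _ => hsimple W hW) v Submodule.mem_top
  have hsub := isSubcomod_span_singleton_of_eigen v a ha
  rcases hsimple _ hsub with h | h
  · exfalso
    have : v ∈ Submodule.span k {v} := Submodule.mem_span_singleton_self v
    rw [h, Submodule.mem_bot] at this
    exact hv this
  · rw [← finrank_top k V, ← h]
    exact finrank_span_singleton hv

theorem isTrigonalizable [IsAlgClosed k] [Coalgebra.IsCocomm k A] :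
    HopfRep.IsTrigonalizable k A := by
  intro V _ _ _ hfin hs
  haveI : Module.Finite k V := hfin
  exact finrank_eq_one_of_isSimpleComod hs

end Groth.Agent.Lib.Helper19.Trig
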