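import Groth.Agent.Lib.Helper19.Unip2
import Mathlib.RingTheory.Flat.TorsionFree
import Mathlib.RingTheory.Localization.BaseChange
import Mathlib.RingTheory.DiscreteValuationRing.Basic
import Mathlib.RingTheory.DedekindDomain.Basic
import Mathlib.LinearAlgebra.TensorProduct.RightExactness
import Mathlib.RingTheory.HopfAlgebra.TensorProduct

/-!
# Unipotence of the fibres of a flat group scheme over a Dedekind domain (helper19)

`A` is a Dedekind domain with fraction field `K`, `H` a flat commutative Hopf algebra over `A` with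
unipotent generic fibre `K ⊗ H`.  Then `L ⊗ H` is unipotent for every field `L` over `A`
(`isUnipotent_fibre`).  The proof restricts the unitriangular filtration of `K ⊗ H` to `H`
(`intFilt`), shows `Δ c - c ⊗ 1 ∈ F_r ⊗ H` for `c ∈ F_{r+1}` (`comul_intFilt`, using that `H / F_r` is
torsion free hence flat), and pushes the filtration to `L ⊗ H`.
-/

set_option autoImplicit false
universe u v w

open TensorProduct

namespace Groth.Agent.Lib.Helper19.Unip

open Groth.Agent.Lib.Helper19.Reynolds
open Groth.Agent.Lib.Helper19.Coalg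

section FieldLevel

variable {K : Type u} {B : Type v} [Field K] [CommRing B] [Bialgebra K B]

lemma comul_sub_mem_range (r : ℕ) (y : B) (hy : y ∈ utFilt K B (r + 1)) :
    Coalgebra.comul (R := K) y - y ⊗ₜ[K] (1 : B) ∈
      LinearMap.range ((utFilt K B r).subtype.rTensor B) := by
  set RK := LinearMap.range ((utFilt K B r).subtype.rTensor B) with hRK
  set P : Submodule K (B ⊗[K] B) :=
    (utFilt K B (r + 1)).map ((TensorProduct.mk K B B).flip 1) with hP
  have hz : ∀ z ∈ utFilt K B r, z ⊗ₜ[K] (1 : B) ∈ RK := fun z hz =>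
    ⟨(⟨z, hz⟩ : utFilt K B r) ⊗ₜ[K] (1 : B), rfl⟩
  have h1 : Coalgebra.comul (R := K) y ∈ P ⊔ RK := by
    have h2 := comul_utFilt K (A := B) (r + 1) (Submodule.mem_map_of_mem hy)
    refine (iSup₂_le ?_ : _ ≤ P ⊔ RK) h2
    intro i hi
    rw [Finset.mem_range] at hi
    rintro _ ⟨t, rfl⟩
    induction t using TensorProduct.induction_on with
    | zero =>
      rw [map_zero]
      exact zero_mem _
    | add a b ha hb =>
      rw [map_add]
      exact add_mem ha hb
    | tmul a b =>
      rw [TensorProduct.mapIncl, TensorProduct.map_tmul]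
      by_cases hir : i ≤ r
      · apply Submodule.mem_sup_right
        exact ⟨(⟨a.1, utFilt_mono K hir a.2⟩ : utFilt K B r) ⊗ₜ[K] b.1, rfl⟩
      · apply Submodule.mem_sup_left
        have ha1 : (a : B) ∈ utFilt K B (r + 1) := utFilt_mono K (by omega) a.2
        have hb0 : (b : B) ∈ utFilt K B 0 := utFilt_mono K (by omega) b.2
        rw [utFilt_zero] at hb0
        obtain ⟨c, hc⟩ := Submodule.mem_span_singleton.1 hb0
        refine ⟨c • (a : B), Submodule.smul_mem _ _ ha1, ?_⟩
        show (c • (a : B)) ⊗ₜ[K] (1 : B) = (a : B) ⊗ₜ[K] (b : B)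
        rw [← hc, TensorProduct.smul_tmul]
  obtain ⟨p, hp, w, hw, hpw⟩ := Submodule.mem_sup.1 h1
  obtain ⟨y', hy', rfl⟩ := hp
  have hslice : ∀ w ∈ RK, slice (Coalgebra.counit (R := K) (A := B)) w ∈ utFilt K B r := by
    rintro _ ⟨t, rfl⟩
    induction t using TensorProduct.induction_on with
    | zero =>
      rw [map_zero, map_zero]
      exact zero_mem _
    | add a b ha hb =>
      rw [map_add, map_add]
      exact add_mem ha hb
    | tmul a b =>
      rw [LinearMap.rTensor_tmul, slice_tmul]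
      exact Submodule.smul_mem _ _ a.2
  have hy2 : y = y' + slice (Coalgebra.counit (R := K) (A := B)) w := by
    have h3 := congrArg (slice (Coalgebra.counit (R := K) (A := B))) hpw
    rw [map_add] at h3
    have h4 : slice (Coalgebra.counit (R := K) (A := B)) (Coalgebra.comul (R := K) y) = y :=
      opT_counit (C := B) (V := B) y
    rw [h4] at h3
    rw [← h3]
    simp
  have h5 : Coalgebra.comul (R := K) y - y ⊗ₜ[K] (1 : B) =
      w - (slice (Coalgebra.counit (R := K) (A := B)) w) ⊗ₜ[K] (1 : B) := by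
    rw [← hpw]
    conv_lhs => rw [hy2]
    rw [TensorProduct.add_tmul]
    simp only [LinearMap.flip_apply, TensorProduct.mk_apply]
    abel
  rw [h5]
  exact sub_mem hw (hz _ (hslice w hw))

end FieldLevel

section Fraction

variable {A : Type u} [CommRing A] [IsDomain A] {K : Type u} [Field K] [Algebra A K]
  [IsFractionRing A K]

lemma one_tmul_eq_zero_iff {M : Type*} [AddCommGroup M] [Module A M] [Module.IsTorsionFree A M]
    (m : M) : (1 : K) ⊗ₜ[A] m = 0 ↔ m = 0 := by
  constructor
  · intro h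
    have h1 : TensorProduct.mk A K M 1 m = 0 := h
    rw [IsLocalizedModule.eq_zero_iff (nonZeroDivisors A)] at h1
    obtain ⟨c, hc⟩ := h1
    exact (smul_eq_zero_iff_right (nonZeroDivisors.coe_ne_zero c)).1 hc
  · rintro rfl
    exact TensorProduct.tmul_zero _ _

lemma exists_smul_eq_one_tmul {M : Type*} [AddCommGroup M] [Module A M] (x : K ⊗[A] M) :
    ∃ a : A, a ≠ 0 ∧ ∃ m : M, a • x = (1 : K) ⊗ₜ[A] m := by
  obtain ⟨⟨m, s⟩, h⟩ := IsLocalizedModule.surj (nonZeroDivisors A) (TensorProduct.mk A K M 1) x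
  exact ⟨s, nonZeroDivisors.coe_ne_zero s, m, h⟩

end Fraction

section Dedekind

variable {A : Type u} [CommRing A] [IsDedekindDomain A]
variable {K : Type u} [Field K] [Algebra A K] [IsFractionRing A K]
variable {H : Type u} [CommRing H] [HopfAlgebra A H] [Module.Flat A H]

variable (A K H) in
/-- the integral part of the unitriangular filtration of the generic fibre -/
noncomputable def intFilt (r : ℕ) : Submodule A H :=
  ((utFilt K (K ⊗[A] H) r).restrictScalars A).comap (TensorProduct.mk A K H 1)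

lemma mem_intFilt {r : ℕ} {h : H} :
    h ∈ intFilt A K H r ↔ (1 : K) ⊗ₜ[A] h ∈ utFilt K (K ⊗[A] H) r := Iff.rfl

lemma intFilt_mono : Monotone (intFilt A K H) := fun _ _ hrs _ hh => utFilt_mono K hrs hh

lemma intFilt_saturated {r : ℕ} {a : A} (ha : a ≠ 0) {h : H} (hh : a • h ∈ intFilt A K H r) :
    h ∈ intFilt A K H r := by
  rw [mem_intFilt] at hh ⊢
  rw [TensorProduct.tmul_smul] at hh
  have h1 := Submodule.smul_mem (utFilt K (K ⊗[A] H) r) (algebraMap A K a)⁻¹ hh
  rwa [← algebraMap_smul K a ((1 : K) ⊗ₜ[A] h), smul_smul,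
    inv_mul_cancel₀ ((map_ne_zero_iff _ (IsFractionRing.injective A K)).2 ha), one_smul] at h1

instance intFilt_quot_isTorsionFree (r : ℕ) : Module.IsTorsionFree A (H ⧸ intFilt A K H r) where
  isSMulRegular a ha := by
    intro x y hxy
    have hxy' : a • x = a • y := hxy
    have h0 : a • (x - y) = 0 := by rw [smul_sub, hxy', sub_self]
    obtain ⟨z, hz⟩ := Submodule.mkQ_surjective (intFilt A K H r) (x - y)
    rw [← hz, ← map_smul, Submodule.mkQ_apply, Submodule.Quotient.mk_eq_zero] at h0
    have h1 := intFilt_saturated ha.ne_zero h0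
    have h2 : x - y = 0 := by
      rw [← hz, Submodule.mkQ_apply, Submodule.Quotient.mk_eq_zero]
      exact h1
    exact sub_eq_zero.1 h2

variable (A K H) in
/-- the natural map `H ⊗ H → (K ⊗ H) ⊗_K (K ⊗ H)` -/
noncomputable def iota2 : H ⊗[A] H →ₗ[A] (K ⊗[A] H) ⊗[K] (K ⊗[A] H) :=
  ((AlgebraTensorModule.tensorTensorTensorComm A K A K K K H H).toLinearMap.restrictScalars A) ∘ₗ
    (TensorProduct.mk A (K ⊗[K] K) (H ⊗[A] H) ((1 : K) ⊗ₜ[K] (1 : K)))

lemma iota2_apply (t : H ⊗[A] H) : iota2 A K H t =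
    AlgebraTensorModule.tensorTensorTensorComm A K A K K K H H
      (((1 : K) ⊗ₜ[K] (1 : K)) ⊗ₜ[A] t) := rfl

lemma iota2_tmul (x y : H) :
    iota2 A K H (x ⊗ₜ[A] y) = ((1 : K) ⊗ₜ[A] x) ⊗ₜ[K] ((1 : K) ⊗ₜ[A] y) := by
  rw [iota2_apply, AlgebraTensorModule.tensorTensorTensorComm_tmul]

lemma comul_one_tmul (h : H) : Coalgebra.comul (R := K) ((1 : K) ⊗ₜ[A] h) =
    iota2 A K H (Coalgebra.comul (R := A) h) := by
  rw [TensorProduct.comul_tmul, CommSemiring.comul_apply, iota2_apply]

lemma iota2_injective : Function.Injective (iota2 A K H) := by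
  rw [injective_iff_map_eq_zero]
  intro v hv
  rw [iota2_apply, LinearEquiv.map_eq_zero_iff] at hv
  have h1 := congrArg (LinearMap.rTensor (H ⊗[A] H)
    ((TensorProduct.lid K K).toLinearMap.restrictScalars A)) hv
  rw [LinearMap.rTensor_tmul, map_zero] at h1
  simp only [LinearMap.coe_restrictScalars, LinearEquiv.coe_coe, TensorProduct.lid_tmul,
    smul_eq_mul, mul_one] at h1
  exact (one_tmul_eq_zero_iff (K := K) v).1 h1

lemma exists_smul_rTensor_eq (r : ℕ) (w : utFilt K (K ⊗[A] H) r ⊗[K] (K ⊗[A] H)) :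
    ∃ d : A, d ≠ 0 ∧ ∃ s : intFilt A K H r ⊗[A] H,
      d • ((utFilt K (K ⊗[A] H) r).subtype.rTensor (K ⊗[A] H) w) =
        iota2 A K H ((intFilt A K H r).subtype.rTensor H s) := by
  induction w using TensorProduct.induction_on with
  | zero => exact ⟨1, one_ne_zero, 0, by simp⟩
  | tmul x y =>
    obtain ⟨a, ha, h, hx⟩ := exists_smul_eq_one_tmul (A := A) (K := K) (x : K ⊗[A] H)
    obtain ⟨b, hb, h', hy⟩ := exists_smul_eq_one_tmul (A := A) (K := K) y
    have hh : h ∈ intFilt A K H r := by
      rw [mem_intFilt, ← hx, ← algebraMap_smul K a (x : K ⊗[A] H)]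
      exact Submodule.smul_mem _ _ x.2
    refine ⟨a * b, mul_ne_zero ha hb, (⟨h, hh⟩ : intFilt A K H r) ⊗ₜ[A] h', ?_⟩
    rw [LinearMap.rTensor_tmul, LinearMap.rTensor_tmul, Submodule.subtype_apply,
      Submodule.subtype_apply, iota2_tmul, ← hx, ← hy]
    rw [← algebraMap_smul K a (x : K ⊗[A] H), ← algebraMap_smul K b y,
      ← algebraMap_smul K (a * b), map_mul, TensorProduct.smul_tmul_smul]
  | add w₁ w₂ h₁ h₂ =>
    obtain ⟨d₁, hd₁, s₁, e₁⟩ := h₁
    obtain ⟨d₂, hd₂, s₂, e₂⟩ := h₂
    refine ⟨d₁ * d₂, mul_ne_zero hd₁ hd₂, d₂ • s₁ + d₁ • s₂, ?_⟩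
    rw [map_add, smul_add, map_add, map_add, map_smul, map_smul, map_smul, map_smul, ← e₁, ← e₂,
      smul_smul, smul_smul, mul_comm d₂ d₁]

/-- the integral filtration is compatible with the comultiplication -/
lemma comul_intFilt (r : ℕ) (c : H) (hc : c ∈ intFilt A K H (r + 1)) :
    ∃ s : intFilt A K H r ⊗[A] H,
      Coalgebra.comul (R := A) c = c ⊗ₜ[A] (1 : H) + (intFilt A K H r).subtype.rTensor H s := by
  set u := Coalgebra.comul (R := A) c - c ⊗ₜ[A] (1 : H) with hu
  obtain ⟨w, hw⟩ := comul_sub_mem_range (K := K) (B := K ⊗[A] H) r ((1 : K) ⊗ₜ[A] c) hc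
  obtain ⟨d, hd, s, hs⟩ := exists_smul_rTensor_eq r w
  have h1 : iota2 A K H (d • u) = iota2 A K H ((intFilt A K H r).subtype.rTensor H s) := by
    rw [← hs, hw, map_smul, hu, map_sub, ← comul_one_tmul, iota2_tmul,
      Algebra.TensorProduct.one_def]
  have h2 : d • u = (intFilt A K H r).subtype.rTensor H s := iota2_injective h1
  have h3 : (intFilt A K H r).mkQ.rTensor H u = 0 := by
    have h4 : (intFilt A K H r).mkQ.rTensor H (d • u) = 0 := by
      rw [h2, ← LinearMap.mem_ker, rTensor_mkQ]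
      exact ⟨s, rfl⟩
    rw [map_smul] at h4
    exact (smul_eq_zero_iff_right hd).1 h4
  rw [← LinearMap.mem_ker, rTensor_mkQ] at h3
  obtain ⟨s', hs'⟩ := h3
  refine ⟨s', ?_⟩
  rw [hs', hu]
  abel

variable (L : Type u) [Field L] [Algebra A L]

variable (A K H) in
/-- the image of the integral filtration in a fibre -/
noncomputable def fibFilt (r : ℕ) : Submodule L (L ⊗[A] H) :=
  Submodule.span L (Set.range fun c : intFilt A K H r => (1 : L) ⊗ₜ[A] (c : H))

lemma fibFilt_mono : Monotone (fibFilt A K H L) := by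
  intro r s hrs
  apply Submodule.span_mono
  rintro _ ⟨c, rfl⟩
  exact ⟨⟨c.1, intFilt_mono hrs c.2⟩, rfl⟩

lemma isF1_fibFilt (hut : utSpan K (K ⊗[A] H) = ⊤) : IsF1 (fibFilt A K H L) where
  zero := by
    apply Submodule.span_le.2
    rintro _ ⟨c, rfl⟩
    have hc := c.2
    rw [mem_intFilt, utFilt_zero] at hc
    obtain ⟨k₀, hk₀⟩ := Submodule.mem_span_singleton.1 hc
    have h1 := congrArg (Coalgebra.counit (R := K)) hk₀
    rw [map_smul, Bialgebra.counit_one, TensorProduct.counit_tmul, CommSemiring.counit_apply,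
      smul_eq_mul, mul_one] at h1
    rw [h1, smul_assoc, one_smul] at hk₀
    have h2 : (1 : K) ⊗ₜ[A] ((c : H) - Coalgebra.counit (R := A) (c : H) • (1 : H)) = 0 := by
      rw [TensorProduct.tmul_sub, TensorProduct.tmul_smul, ← hk₀, Algebra.TensorProduct.one_def,
        sub_self]
    have h3 : (c : H) = Coalgebra.counit (R := A) (c : H) • (1 : H) :=
      sub_eq_zero.1 ((one_tmul_eq_zero_iff (K := K) _).1 h2)
    show (1 : L) ⊗ₜ[A] (c : H) ∈ Submodule.span L {(1 : L ⊗[A] H)}
    rw [h3, TensorProduct.tmul_smul, ← Algebra.TensorProduct.one_def, ← algebraMap_smul L]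
    exact Submodule.smul_mem _ _ (Submodule.subset_span rfl)
  exh := fun x => by
    induction x using TensorProduct.induction_on with
    | zero => exact ⟨0, zero_mem _⟩
    | tmul l h =>
      have hh : (1 : K) ⊗ₜ[A] h ∈ ⨆ r, utFilt K (K ⊗[A] H) r := by
        rw [iSup_utFilt K hut]
        exact Submodule.mem_top
      obtain ⟨r, hr⟩ := (Submodule.mem_iSup_of_directed _ (utFilt_mono K).directed_le).1 hh
      refine ⟨r, ?_⟩
      have h1 : l ⊗ₜ[A] h = l • ((1 : L) ⊗ₜ[A] h) := by
        rw [TensorProduct.smul_tmul', smul_eq_mul, mul_one]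
      rw [h1]
      exact Submodule.smul_mem _ _ (Submodule.subset_span ⟨⟨h, hr⟩, rfl⟩)
    | add x y hx hy =>
      obtain ⟨r₁, h₁⟩ := hx
      obtain ⟨r₂, h₂⟩ := hy
      exact ⟨max r₁ r₂, add_mem (fibFilt_mono L (le_max_left _ _) h₁)
        (fibFilt_mono L (le_max_right _ _) h₂)⟩
  step := fun f hf r x hx => by
    unfold fibFilt at hx
    induction hx using Submodule.span_induction with
    | mem x hx =>
      obtain ⟨c, rfl⟩ := hx
      obtain ⟨s, hs⟩ := comul_intFilt (K := K) r (c : H) c.2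
      have aux : ∀ s : intFilt A K H r ⊗[A] H,
          slice f (AlgebraTensorModule.tensorTensorTensorComm A L A L L L H H
            (((1 : L) ⊗ₜ[L] (1 : L)) ⊗ₜ[A] ((intFilt A K H r).subtype.rTensor H s))) ∈
            fibFilt A K H L r := by
        intro s
        induction s using TensorProduct.induction_on with
        | zero =>
          rw [map_zero, TensorProduct.tmul_zero, map_zero, map_zero]
          exact zero_mem _
        | tmul x y =>
          rw [LinearMap.rTensor_tmul, AlgebraTensorModule.tensorTensorTensorComm_tmul, slice_tmul]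
          exact Submodule.smul_mem _ _ (Submodule.subset_span ⟨x, rfl⟩)
        | add a b ha hb =>
          rw [map_add, TensorProduct.tmul_add, map_add, map_add]
          exact add_mem ha hb
      rw [opT_regular_apply]
      show slice f (Coalgebra.comul (R := L) ((1 : L) ⊗ₜ[A] (c : H))) ∈ _
      rw [TensorProduct.comul_tmul, CommSemiring.comul_apply, hs, TensorProduct.tmul_add, map_add,
        map_add, AlgebraTensorModule.tensorTensorTensorComm_tmul, slice_tmul,
        ← Algebra.TensorProduct.one_def, hf, zero_smul, zero_add]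
      exact aux s
    | zero =>
      rw [map_zero]
      exact zero_mem _
    | add x y _ _ hx hy =>
      rw [map_add]
      exact add_mem hx hy
    | smul c x _ hx =>
      rw [map_smul]
      exact Submodule.smul_mem _ c hx

/-- If the generic fibre of a flat group scheme over a Dedekind domain is unipotent, so is every
fibre. -/
theorem isUnipotent_fibre (hK : HopfRep.IsUnipotent K (K ⊗[A] H)) :
    HopfRep.IsUnipotent L (L ⊗[A] H) :=
  isUnipotent_of_isCoconn (isCoconn_of_isF1
    (isF1_fibFilt (A := A) (K := K) (H := H) L (utSpan_eq_top_of_isUnipotent hK)))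

end Dedekind

end Groth.Agent.Lib.Helper19.Unip
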