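import Mathlib
import Groth.Agent.Lib.Helper19.TrigBC
import Groth.Agent.Lib.Helper19.UnipDVR

/-!
# Trigonalizability of the fibres of a flat group scheme over a valuation Dedekind ring (helper19)

`A` is a discrete valuation ring with fraction field `K`, `H` a flat commutative Hopf algebra over `A`
with trigonalizable generic fibre `K ⊗ H`.  Then `L ⊗ H` is trigonalizable for every field `L` over `A`
(`isTrigonalizable_fibre`).

A simple `L ⊗ H`-comodule `W` embeds in the regular comodule; finitely many elements of `H` carry its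
image; they lie in a finite-dimensional subcomodule `V` of `K ⊗ H`, which has a full flag `G i` of
subcomodules.  The saturated submodules `intPart (G i) = G i ∩ H` are subcomodules of `H` (flatness),
and their images `F' i` in `L ⊗ H` are subcomodules with `dim F' (i+1) / F' i ≤ 1` (valuation ring).
`W ∩ F' i` jumps from `0` to `W` at one step, so `dim W ≤ 1`.
-/

set_option autoImplicit false
universe u v w

open TensorProduct

namespace Groth.Agent.Lib.Helper19.TrigDVR

open Groth.Agent.Lib.Helper28.ComodHom Groth.Agent.Lib.Helper28.GenIdeal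
  Groth.Agent.Lib.Helper19.Coalg Groth.Agent.Lib.Helper19.Flag Groth.Agent.Lib.Helper19.Unip

section LinAlg

variable {L : Type u} [Field L] {V : Type v} [AddCommGroup V] [Module L V]

/-- a subspace of codimension at most one: any two vectors are dependent modulo it -/
lemma exists_comb_mem_of_finrank (P Q : Submodule L V) [FiniteDimensional L Q] (hPQ : P ≤ Q)
    (hdim : Module.finrank L Q ≤ Module.finrank L P + 1) (x y : V) (hx : x ∈ Q) (hy : y ∈ Q) :
    ∃ α β : L, (α ≠ 0 ∨ β ≠ 0) ∧ α • x + β • y ∈ P := by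
  by_cases hxP : x ∈ P
  · exact ⟨1, 0, Or.inl one_ne_zero, by rw [one_smul, zero_smul, add_zero]; exact hxP⟩
  · have hle : P ⊔ Submodule.span L {x} ≤ Q :=
      sup_le hPQ ((Submodule.span_singleton_le_iff_mem x Q).2 hx)
    haveI : FiniteDimensional L ↥(P ⊔ Submodule.span L {x}) :=
      Submodule.finiteDimensional_of_le hle
    have hlt : P < P ⊔ Submodule.span L {x} := by
      refine lt_of_le_of_ne le_sup_left ?_
      intro h
      apply hxP
      rw [h]
      exact Submodule.mem_sup_right (Submodule.mem_span_singleton_self x)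
    have h1 := Submodule.finrank_lt_finrank_of_lt hlt
    have h2 : P ⊔ Submodule.span L {x} = Q :=
      Submodule.eq_of_le_of_finrank_le hle (by omega)
    rw [← h2] at hy
    obtain ⟨p, hp, z, hz, e⟩ := Submodule.mem_sup.1 hy
    obtain ⟨c, rfl⟩ := Submodule.mem_span_singleton.1 hz
    refine ⟨-c, 1, Or.inr one_ne_zero, ?_⟩
    have h3 : -c • x + (1 : L) • y = p := by
      rw [← e]
      module
    rw [h3]
    exact hp

/-- a spanning set whose elements are pairwise proportional modulo `P` spans a space of dimension at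
most one modulo `P` -/
lemma exists_comb_of_pairs (S : Set V) (P : Submodule L V)
    (hS : ∀ x ∈ S, ∀ y ∈ S, ∃ c : L, x + c • y ∈ P ∨ y + c • x ∈ P)
    (x y : V) (hx : x ∈ Submodule.span L S) (hy : y ∈ Submodule.span L S) :
    ∃ α β : L, (α ≠ 0 ∨ β ≠ 0) ∧ α • x + β • y ∈ P := by
  by_cases hSP : S ⊆ P
  · refine ⟨1, 0, Or.inl one_ne_zero, ?_⟩
    rw [one_smul, zero_smul, add_zero]
    exact Submodule.span_le.2 hSP hx
  · obtain ⟨s₀, hs₀, hs₀P⟩ := Set.not_subset.1 hSP
    have hle : Submodule.span L S ≤ P ⊔ Submodule.span L {s₀} := by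
      rw [Submodule.span_le]
      intro s hs
      rw [SetLike.mem_coe, Submodule.mem_sup]
      rcases hS s hs s₀ hs₀ with ⟨c, hc | hc⟩
      · refine ⟨s + c • s₀, hc, (-c) • s₀,
          Submodule.smul_mem _ _ (Submodule.mem_span_singleton_self s₀), ?_⟩
        module
      · have hc0 : c ≠ 0 := by
          rintro rfl
          rw [zero_smul, add_zero] at hc
          exact hs₀P hc
        refine ⟨c⁻¹ • (s₀ + c • s), Submodule.smul_mem _ _ hc, (-c⁻¹) • s₀,
          Submodule.smul_mem _ _ (Submodule.mem_span_singleton_self s₀), ?_⟩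
        rw [smul_add, smul_smul, inv_mul_cancel₀ hc0, one_smul]
        module
    obtain ⟨p, hp, z, hz, ex⟩ := Submodule.mem_sup.1 (hle hx)
    obtain ⟨p', hp', z', hz', ey⟩ := Submodule.mem_sup.1 (hle hy)
    obtain ⟨a, rfl⟩ := Submodule.mem_span_singleton.1 hz
    obtain ⟨b, rfl⟩ := Submodule.mem_span_singleton.1 hz'
    by_cases hab : a = 0 ∧ b = 0
    · refine ⟨1, 0, Or.inl one_ne_zero, ?_⟩
      rw [one_smul, zero_smul, add_zero, ← ex, hab.1, zero_smul, add_zero]
      exact hp
    · refine ⟨b, -a, ?_, ?_⟩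
      · by_contra hcon
        push Not at hcon
        exact hab ⟨neg_eq_zero.1 hcon.2, hcon.1⟩
      · have h3 : b • x + -a • y = b • p + -a • p' := by
          rw [← ex, ← ey]
          module
        rw [h3]
        exact add_mem (P.smul_mem _ hp) (P.smul_mem _ hp')

end LinAlg

section General

variable {A : Type u} [CommRing A] {L : Type u} [Field L] [Algebra A L] {H : Type u}
  [AddCommGroup H] [Module A H]

lemma exists_finset_mem_baseChange (x : L ⊗[A] H) :
    ∃ s : Finset H, x ∈ (Submodule.span A (s : Set H)).baseChange L := by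
  classical
  induction x using TensorProduct.induction_on with
  | zero => exact ⟨∅, zero_mem _⟩
  | tmul c a =>
    refine ⟨{a}, Submodule.tmul_mem_baseChange_of_mem c ?_⟩
    apply Submodule.subset_span
    simp
  | add x y hx hy =>
    obtain ⟨s, hs⟩ := hx
    obtain ⟨t, ht⟩ := hy
    refine ⟨s ∪ t, add_mem ?_ ?_⟩
    · refine Submodule.baseChange_mono L (Submodule.span_mono ?_) hs
      intro z hz
      simp only [Finset.coe_union]
      exact Or.inl hz
    · refine Submodule.baseChange_mono L (Submodule.span_mono ?_) ht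
      intro z hz
      simp only [Finset.coe_union]
      exact Or.inr hz

end General

section Dedekind

variable {A : Type u} [CommRing A] [IsDedekindDomain A]
variable {K : Type u} [Field K] [Algebra A K] [IsFractionRing A K]
variable {H : Type u} [CommRing H] [HopfAlgebra A H] [Module.Flat A H]

/-- the integral part `G ∩ H` of a `K`-subspace of the generic fibre -/
noncomputable def intPart (G : Submodule K (K ⊗[A] H)) : Submodule A H :=
  (G.restrictScalars A).comap (TensorProduct.mk A K H 1)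

lemma mem_intPart {G : Submodule K (K ⊗[A] H)} {h : H} :
    h ∈ intPart G ↔ (1 : K) ⊗ₜ[A] h ∈ G := Iff.rfl

lemma intPart_mono {G G' : Submodule K (K ⊗[A] H)} (hGG' : G ≤ G') : intPart G ≤ intPart G' :=
  fun _ hx => hGG' hx

lemma intPart_bot : intPart (⊥ : Submodule K (K ⊗[A] H)) = ⊥ := by
  rw [eq_bot_iff]
  intro h hh
  rw [mem_intPart, Submodule.mem_bot] at hh
  rw [Submodule.mem_bot]
  exact (one_tmul_eq_zero_iff (K := K) h).1 hh

lemma intPart_saturated (G : Submodule K (K ⊗[A] H)) {a : A} (ha : a ≠ 0) {h : H}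
    (hh : a • h ∈ intPart G) : h ∈ intPart G := by
  rw [mem_intPart] at hh ⊢
  rw [TensorProduct.tmul_smul] at hh
  have h1 := Submodule.smul_mem G (algebraMap A K a)⁻¹ hh
  rwa [← algebraMap_smul K a ((1 : K) ⊗ₜ[A] h), smul_smul,
    inv_mul_cancel₀ ((map_ne_zero_iff _ (IsFractionRing.injective A K)).2 ha), one_smul] at h1

instance intPart_quot_isTorsionFree (G : Submodule K (K ⊗[A] H)) :
    Module.IsTorsionFree A (H ⧸ intPart G) where
  isSMulRegular a ha := by
    intro x y hxy
    have hxy' : a • x = a • y := hxy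
    have h0 : a • (x - y) = 0 := by rw [smul_sub, hxy', sub_self]
    obtain ⟨z, hz⟩ := Submodule.mkQ_surjective (intPart G) (x - y)
    rw [← hz, ← map_smul, Submodule.mkQ_apply, Submodule.Quotient.mk_eq_zero] at h0
    have h1 := intPart_saturated G ha.ne_zero h0
    have h2 : x - y = 0 := by
      rw [← hz, Submodule.mkQ_apply, Submodule.Quotient.mk_eq_zero]
      exact h1
    exact sub_eq_zero.1 h2

lemma exists_smul_rTensor_eq' (G : Submodule K (K ⊗[A] H)) (w : G ⊗[K] (K ⊗[A] H)) :
    ∃ d : A, d ≠ 0 ∧ ∃ s : intPart G ⊗[A] H,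
      d • (G.subtype.rTensor (K ⊗[A] H) w) =
        iota2 A K H ((intPart G).subtype.rTensor H s) := by
  induction w using TensorProduct.induction_on with
  | zero => exact ⟨1, one_ne_zero, 0, by simp⟩
  | tmul x y =>
    obtain ⟨a, ha, h, hx⟩ := exists_smul_eq_one_tmul (A := A) (K := K) (x : K ⊗[A] H)
    obtain ⟨b, hb, h', hy⟩ := exists_smul_eq_one_tmul (A := A) (K := K) y
    have hh : h ∈ intPart G := by
      rw [mem_intPart, ← hx, ← algebraMap_smul K a (x : K ⊗[A] H)]
      exact Submodule.smul_mem _ _ x.2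
    refine ⟨a * b, mul_ne_zero ha hb, (⟨h, hh⟩ : intPart G) ⊗ₜ[A] h', ?_⟩
    rw [LinearMap.rTensor_tmul, LinearMap.rTensor_tmul, Submodule.subtype_apply,
      Submodule.subtype_apply, iota2_tmul, ← hx, ← hy]
    rw [← algebraMap_smul K a (x : K ⊗[A] H), ← algebraMap_smul K b y,
      ← algebraMap_smul K (a * b), map_mul, TensorProduct.smul_tmul_smul]
  | add w₁ w₂ h₁ h₂ =>
    obtain ⟨d₁, hd₁, s₁, e₁⟩ := h₁
    obtain ⟨d₂, hd₂, s₂, e₂⟩ := h₂
    refine ⟨d₁ * d₂, mul_ne_zero hd₁ hd₂, d₂ • s₁ + d₁ • s₂, ?_⟩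
    rw [map_add, smul_add, map_add, map_add, map_smul, map_smul, map_smul, map_smul, ← e₁, ← e₂,
      smul_smul, smul_smul, mul_comm d₂ d₁]

/-- if the image of `u ∈ H ⊗ H` in the generic fibre lies in `G ⊗ (K ⊗ H)` then `u` lies in
`(G ∩ H) ⊗ H` -/
lemma mem_range_rTensor_of_iota2 (G : Submodule K (K ⊗[A] H)) (u : H ⊗[A] H)
    (w : G ⊗[K] (K ⊗[A] H)) (hw : G.subtype.rTensor (K ⊗[A] H) w = iota2 A K H u) :
    u ∈ LinearMap.range ((intPart G).subtype.rTensor H) := by
  obtain ⟨d, hd, s, hs⟩ := exists_smul_rTensor_eq' G w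
  have h1 : iota2 A K H (d • u) = iota2 A K H ((intPart G).subtype.rTensor H s) := by
    rw [← hs, hw, map_smul]
  have h2 : d • u = (intPart G).subtype.rTensor H s := iota2_injective h1
  have h3 : (intPart G).mkQ.rTensor H u = 0 := by
    have h4 : (intPart G).mkQ.rTensor H (d • u) = 0 := by
      rw [h2, ← LinearMap.mem_ker, rTensor_mkQ]
      exact ⟨s, rfl⟩
    rw [map_smul] at h4
    exact (smul_eq_zero_iff_right hd).1 h4
  rw [← LinearMap.mem_ker, rTensor_mkQ] at h3
  exact h3

lemma exists_int_comb (G : Submodule K (K ⊗[A] H)) (n n' : H) (α β : K) (hαβ : α ≠ 0 ∨ β ≠ 0)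
    (h : α • ((1 : K) ⊗ₜ[A] n) + β • ((1 : K) ⊗ₜ[A] n') ∈ G) :
    ∃ a a' : A, (a ≠ 0 ∨ a' ≠ 0) ∧ a • n + a' • n' ∈ intPart G := by
  obtain ⟨x₁, y₁, hy₁, e₁⟩ := IsFractionRing.div_surjective A α
  obtain ⟨x₂, y₂, hy₂, e₂⟩ := IsFractionRing.div_surjective A β
  have hy₁0 : algebraMap A K y₁ ≠ 0 :=
    (map_ne_zero_iff _ (IsFractionRing.injective A K)).2 (nonZeroDivisors.ne_zero hy₁)
  have hy₂0 : algebraMap A K y₂ ≠ 0 :=
    (map_ne_zero_iff _ (IsFractionRing.injective A K)).2 (nonZeroDivisors.ne_zero hy₂)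
  refine ⟨x₁ * y₂, x₂ * y₁, ?_, ?_⟩
  · rcases hαβ with h1 | h1
    · left
      intro h0
      apply h1
      have hx : x₁ = 0 := (mul_eq_zero.1 h0).resolve_right (nonZeroDivisors.ne_zero hy₂)
      rw [← e₁, hx, map_zero, zero_div]
    · right
      intro h0
      apply h1
      have hx : x₂ = 0 := (mul_eq_zero.1 h0).resolve_right (nonZeroDivisors.ne_zero hy₁)
      rw [← e₂, hx, map_zero, zero_div]
  · rw [mem_intPart, TensorProduct.tmul_add, TensorProduct.tmul_smul, TensorProduct.tmul_smul]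
    have h2 := Submodule.smul_mem G (algebraMap A K y₁ * algebraMap A K y₂) h
    have hα : algebraMap A K y₁ * algebraMap A K y₂ * α = algebraMap A K (x₁ * y₂) := by
      rw [← e₁, map_mul, div_eq_mul_inv]
      calc algebraMap A K y₁ * algebraMap A K y₂ * (algebraMap A K x₁ * (algebraMap A K y₁)⁻¹)
          = algebraMap A K x₁ * algebraMap A K y₂ *
              (algebraMap A K y₁ * (algebraMap A K y₁)⁻¹) := by ring
        _ = algebraMap A K x₁ * algebraMap A K y₂ := by rw [mul_inv_cancel₀ hy₁0, mul_one]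
    have hβ : algebraMap A K y₁ * algebraMap A K y₂ * β = algebraMap A K (x₂ * y₁) := by
      rw [← e₂, map_mul, div_eq_mul_inv]
      calc algebraMap A K y₁ * algebraMap A K y₂ * (algebraMap A K x₂ * (algebraMap A K y₂)⁻¹)
          = algebraMap A K x₂ * algebraMap A K y₁ *
              (algebraMap A K y₂ * (algebraMap A K y₂)⁻¹) := by ring
        _ = algebraMap A K x₂ * algebraMap A K y₁ := by rw [mul_inv_cancel₀ hy₂0, mul_one]
    rw [smul_add, smul_smul, smul_smul, hα, hβ, algebraMap_smul, algebraMap_smul] at h2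
    exact h2

lemma exists_unit_comb [ValuationRing A] (G : Submodule K (K ⊗[A] H)) (n n' : H) (a a' : A)
    (h0 : a ≠ 0 ∨ a' ≠ 0) (h : a • n + a' • n' ∈ intPart G) :
    ∃ c : A, n + c • n' ∈ intPart G ∨ n' + c • n ∈ intPart G := by
  rcases ValuationRing.dvd_total a a' with ⟨c, hc⟩ | ⟨c, hc⟩
  · have ha : a ≠ 0 := by
      rintro rfl
      rw [zero_mul] at hc
      rcases h0 with h0 | h0
      · exact h0 rfl
      · exact h0 hc
    refine ⟨c, Or.inl (intPart_saturated G ha ?_)⟩
    rw [smul_add, smul_smul, ← hc]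
    exact h
  · have ha' : a' ≠ 0 := by
      rintro rfl
      rw [zero_mul] at hc
      rcases h0 with h0 | h0
      · exact h0 hc
      · exact h0 rfl
    refine ⟨c, Or.inr (intPart_saturated G ha' ?_)⟩
    rw [smul_add, smul_smul, ← hc, add_comm]
    exact h

variable (L : Type u) [Field L] [Algebra A L]

/-- the image in a fibre of the integral part of a subcomodule of the generic fibre is a
subcomodule -/
theorem isSubcomod_fib (G : Submodule K (K ⊗[A] H))
    (hG : HopfRep.IsSubcomod (k := K) (A := K ⊗[A] H) G) :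
    HopfRep.IsSubcomod (k := L) (A := L ⊗[A] H) ((intPart G).baseChange L) := by
  intro x hx
  rw [Submodule.baseChange_eq_span] at hx
  induction hx using Submodule.span_induction with
  | mem x hx =>
    obtain ⟨n, hn, rfl⟩ := hx
    obtain ⟨w, hw⟩ := hG _ (mem_intPart.1 hn)
    change G.subtype.rTensor (K ⊗[A] H) w = Coalgebra.comul (R := K) ((1 : K) ⊗ₜ[A] n) at hw
    rw [comul_one_tmul] at hw
    obtain ⟨y, hy⟩ := mem_range_rTensor_of_iota2 G _ w hw
    change CoalgebraStruct.comul (R := L) ((1 : L) ⊗ₜ[A] n) ∈ _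
    rw [TensorProduct.comul_tmul, CommSemiring.comul_apply, ← hy]
    clear hy hw
    induction y using TensorProduct.induction_on with
    | zero =>
      rw [map_zero, TensorProduct.tmul_zero, map_zero]
      exact zero_mem _
    | tmul n' a =>
      rw [LinearMap.rTensor_tmul, AlgebraTensorModule.tensorTensorTensorComm_tmul]
      exact ⟨(⟨(1 : L) ⊗ₜ[A] (n' : H), Submodule.tmul_mem_baseChange_of_mem 1 n'.2⟩ :
        (intPart G).baseChange L) ⊗ₜ[L] ((1 : L) ⊗ₜ[A] a), rfl⟩
    | add y₁ y₂ h₁ h₂ =>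
      rw [map_add, TensorProduct.tmul_add, map_add]
      exact add_mem h₁ h₂
  | zero =>
    rw [map_zero]
    exact zero_mem _
  | add x y _ _ hx hy =>
    rw [map_add]
    exact add_mem hx hy
  | smul c x _ hx =>
    rw [map_smul]
    exact Submodule.smul_mem _ c hx

/-- one step of the integral flag has dimension at most one in the fibre -/
lemma exists_comb_fib [ValuationRing A] (P Q : Submodule K (K ⊗[A] H)) [FiniteDimensional K Q]
    (hPQ : P ≤ Q) (hdim : Module.finrank K Q ≤ Module.finrank K P + 1)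
    (x y : L ⊗[A] H) (hx : x ∈ (intPart Q).baseChange L) (hy : y ∈ (intPart Q).baseChange L) :
    ∃ α β : L, (α ≠ 0 ∨ β ≠ 0) ∧ α • x + β • y ∈ (intPart P).baseChange L := by
  rw [Submodule.baseChange_eq_span] at hx hy
  refine exists_comb_of_pairs _ ((intPart P).baseChange L) ?_ x y hx hy
  rintro _ ⟨n, hn, rfl⟩ _ ⟨n', hn', rfl⟩
  obtain ⟨α, β, hαβ, h1⟩ := exists_comb_mem_of_finrank P Q hPQ hdim _ _
    (mem_intPart.1 hn) (mem_intPart.1 hn')
  obtain ⟨a, a', h0, h2⟩ := exists_int_comb P n n' α β hαβ h1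
  obtain ⟨c, hc | hc⟩ := exists_unit_comb P n n' a a' h0 h2
  · refine ⟨algebraMap A L c, Or.inl ?_⟩
    have h3 := Submodule.tmul_mem_baseChange_of_mem (A := L) (1 : L) hc
    rw [TensorProduct.tmul_add, TensorProduct.tmul_smul, ← algebraMap_smul L c] at h3
    exact h3
  · refine ⟨algebraMap A L c, Or.inr ?_⟩
    have h3 := Submodule.tmul_mem_baseChange_of_mem (A := L) (1 : L) hc
    rw [TensorProduct.tmul_add, TensorProduct.tmul_smul, ← algebraMap_smul L c] at h3
    exact h3

/-- If the generic fibre of a flat group scheme over a discrete valuation ring is trigonalizable, so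
is every fibre. -/
theorem isTrigonalizable_fibre [ValuationRing A]
    (hK : HopfRep.IsTrigonalizable K (K ⊗[A] H)) :
    HopfRep.IsTrigonalizable L (L ⊗[A] H) := by
  classical
  intro W _ _ _ hfin hsimple
  haveI := hfin
  haveI : Nontrivial W := hsimple.1
  obtain ⟨g, hg, hginj⟩ := TrigBC.exists_embedding hsimple
  let b := Module.finBasis L W
  choose s hs using fun i => exists_finset_mem_baseChange (A := A) (L := L) (g (b i))
  obtain ⟨V, hVfin, hV, -, hVs⟩ := exists_finite_subcomod (K := K) (C := K ⊗[A] H)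
    (V := K ⊗[A] H) ((Finset.univ.biUnion s).image (fun h => (1 : K) ⊗ₜ[A] h)) ⊤ isSubcomod_top
    (by intro x _; trivial)
  haveI := hVfin
  letI cV : HopfRep.Comod K (K ⊗[A] H) V :=
    ComodSub.Comod.restr (HopfRep.Comod.regular K (K ⊗[A] H)) V hV
  obtain ⟨F, hFmono, hFsub, hFdim⟩ := exists_flag hK (Module.finrank K V) V rfl
  have hsubt : Hoch.IsComodHom (K ⊗[A] H) V.subtype :=
    ComodSub.isComodHom_subtype (HopfRep.Comod.regular K (K ⊗[A] H)) V hV
  obtain ⟨G, hG_def⟩ : ∃ G : ℕ → Submodule K (K ⊗[A] H), G = fun i => (F i).map V.subtype :=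
    ⟨_, rfl⟩
  have hG_apply : ∀ i, G i = (F i).map V.subtype := fun i => by rw [hG_def]
  have hGmono : Monotone G := by
    intro i j hij
    rw [hG_apply, hG_apply]
    exact Submodule.map_mono (hFmono hij)
  have hGsub : ∀ i, HopfRep.IsSubcomod (k := K) (A := K ⊗[A] H) (G i) := by
    intro i
    rw [hG_apply]
    exact isSubcomod_map V.subtype hsubt (F i) (hFsub i)
  have hGdim : ∀ i, i ≤ Module.finrank K V → Module.finrank K (G i) = i := by
    intro i hi
    rw [hG_apply,
      ← LinearEquiv.finrank_eq (Submodule.equivMapOfInjective V.subtype V.injective_subtype (F i)),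
      hFdim i hi]
  have hGfin : ∀ i, FiniteDimensional K (G i) := by
    intro i
    rw [hG_apply]
    infer_instance
  have hF0 : F 0 = ⊥ := Submodule.finrank_eq_zero.mp (hFdim 0 (Nat.zero_le _))
  have hFn : F (Module.finrank K V) = ⊤ := Submodule.eq_top_of_finrank_eq (hFdim _ le_rfl)
  have hG0 : G 0 = ⊥ := by rw [hG_apply, hF0, Submodule.map_bot]
  have hGn : G (Module.finrank K V) = V := by rw [hG_apply, hFn, Submodule.map_subtype_top]
  obtain ⟨F', hF'_def⟩ : ∃ F' : ℕ → Submodule L (L ⊗[A] H),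
      F' = fun i => (intPart (G i)).baseChange L := ⟨_, rfl⟩
  have hF'_apply : ∀ i, F' i = (intPart (G i)).baseChange L := fun i => by rw [hF'_def]
  have hF'mono : Monotone F' := by
    intro i j hij
    rw [hF'_apply, hF'_apply]
    exact Submodule.baseChange_mono L (intPart_mono (hGmono hij))
  have hF'sub : ∀ i, HopfRep.IsSubcomod (k := L) (A := L ⊗[A] H) (F' i) := by
    intro i
    rw [hF'_apply]
    exact isSubcomod_fib L (G i) (hGsub i)
  have hF'0 : F' 0 = ⊥ := by
    rw [hF'_apply, hG0, intPart_bot, Submodule.baseChange_bot]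
  have hrange : LinearMap.range g ≤ F' (Module.finrank K V) := by
    rw [LinearMap.range_eq_map, ← b.span_eq, Submodule.map_span_le]
    rintro _ ⟨i, rfl⟩
    rw [hF'_apply]
    refine Submodule.baseChange_mono L (Submodule.span_le.2 ?_) (hs i)
    intro z hz
    rw [SetLike.mem_coe, mem_intPart, hGn]
    exact hVs (Finset.mem_coe.2 (Finset.mem_image.2
      ⟨z, Finset.mem_biUnion.2 ⟨i, Finset.mem_univ i, hz⟩, rfl⟩))
  have hpair : ∀ j, j + 1 ≤ Module.finrank K V → ∀ x ∈ F' (j + 1), ∀ y ∈ F' (j + 1),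
      ∃ α β : L, (α ≠ 0 ∨ β ≠ 0) ∧ α • x + β • y ∈ F' j := by
    intro j hj x hx y hy
    rw [hF'_apply] at hx hy ⊢
    haveI := hGfin (j + 1)
    refine exists_comb_fib L (G j) (G (j + 1)) (hGmono (Nat.le_succ j)) ?_ x y hx hy
    rw [hGdim (j + 1) hj, hGdim j (by omega)]
  -- the chain in `W`
  obtain ⟨Q, hQ_def⟩ : ∃ Q : ℕ → Submodule L W, Q = fun i => (F' i).comap g := ⟨_, rfl⟩
  have hmemQ : ∀ i (w : W), w ∈ Q i ↔ g w ∈ F' i := by
    intro i w
    rw [hQ_def]
    exact Submodule.mem_comap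
  have hQsub : ∀ i, HopfRep.IsSubcomod (k := L) (A := L ⊗[A] H) (Q i) := by
    intro i
    rw [hQ_def]
    exact isSubcomod_comap g hg _ (hF'sub i)
  have hQ0 : Q 0 = ⊥ := by
    rw [eq_bot_iff]
    intro w hw
    have h1 := (hmemQ 0 w).1 hw
    rw [hF'0, Submodule.mem_bot] at h1
    rw [Submodule.mem_bot]
    exact hginj (by rw [h1, map_zero])
  have hQn : Q (Module.finrank K V) = ⊤ := by
    rw [eq_top_iff]
    intro w _
    rw [hmemQ]
    exact hrange ⟨w, rfl⟩
  have hex : ∃ i, Q i = ⊤ := ⟨_, hQn⟩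
  obtain ⟨m, hm_def⟩ : ∃ m, m = Nat.find hex := ⟨_, rfl⟩
  have hm : Q m = ⊤ := by rw [hm_def]; exact Nat.find_spec hex
  have hmn : m ≤ Module.finrank K V := by rw [hm_def]; exact Nat.find_min' hex hQn
  have hm0 : m ≠ 0 := by
    intro h0
    rw [h0, hQ0] at hm
    exact bot_ne_top hm
  obtain ⟨j, rfl⟩ := Nat.exists_eq_succ_of_ne_zero hm0
  have hQj : Q j = ⊥ := by
    rcases hsimple.2 (Q j) (hQsub j) with h | h
    · exact h
    · exfalso
      have : j + 1 ≤ j := by
        have := Nat.find_min' hex h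
        omega
      omega
  have hle : LinearMap.range g ≤ F' (j + 1) := by
    rintro _ ⟨w, rfl⟩
    rw [← hmemQ, hm]
    trivial
  have hdep : ∀ w₁ w₂ : W, ∃ α β : L, (α ≠ 0 ∨ β ≠ 0) ∧ α • w₁ + β • w₂ = 0 := by
    intro w₁ w₂
    obtain ⟨α, β, hαβ, hmem⟩ := hpair j hmn (g w₁) (hle ⟨w₁, rfl⟩) (g w₂) (hle ⟨w₂, rfl⟩)
    refine ⟨α, β, hαβ, ?_⟩
    have h1 : α • w₁ + β • w₂ ∈ Q j := by
      rw [hmemQ, map_add, map_smul, map_smul]
      exact hmem
    rw [hQj, Submodule.mem_bot] at h1
    exact h1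
  obtain ⟨w₀, hw₀⟩ := exists_ne (0 : W)
  have h1 : Module.finrank L W ≤ 1 := by
    rw [finrank_le_one_iff]
    refine ⟨w₀, fun w => ?_⟩
    obtain ⟨α, β, hαβ, h⟩ := hdep w₀ w
    have hβ : β ≠ 0 := by
      rintro rfl
      rw [zero_smul, add_zero] at h
      rcases hαβ with h1 | h1
      · exact hw₀ ((smul_eq_zero.1 h).resolve_left h1)
      · exact h1 rfl
    have h3 : β • w = -(α • w₀) := eq_neg_of_add_eq_zero_right h
    refine ⟨-(β⁻¹ * α), ?_⟩
    calc (-(β⁻¹ * α)) • w₀ = β⁻¹ • (-(α • w₀)) := by rw [neg_smul, mul_smul, smul_neg]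
      _ = β⁻¹ • (β • w) := by rw [h3]
      _ = w := by rw [smul_smul, inv_mul_cancel₀ hβ, one_smul]
  have h2 : 0 < Module.finrank L W := Module.finrank_pos
  omega

end Dedekind

end Groth.Agent.Lib.Helper19.TrigDVR
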