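import Groth.Agent.Lib.Helper19.LinearGrp
import Groth.Agent.Lib.Helper28.ComodHom
import Groth.Prelude.Def_ComodSub

/-!
# Unipotent affine groups in Hopf form (helper19)

* `IsUTMat R M`: `M` is an upper unitriangular corepresentation matrix of the bialgebra `A`.
* `utFilt R A r`, `utSpan R A`: span of the entries `M i j` (`j ≤ i + r`, resp. all) of such matrices.
* `IsF1 C`: abstract "coradical type" filtration; `isCoconn_of_isF1`, `isUnipotent_of_isCoconn`,
  `isCoconn_of_isUnipotent`.
* `exists_ut_basis`: over a unipotent `A`, every finite-dimensional comodule has a basis whose matrix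
  of coefficients is upper unitriangular; `utSpan_eq_top_of_isUnipotent`.
-/

set_option autoImplicit false
universe u v w

open TensorProduct

namespace Groth.Agent.Lib.Helper19.Unip

open Groth.Agent.Lib.Helper19.Reynolds
open Groth.Agent.Lib.Helper19.Coalg
open Groth.Agent.Lib.Helper19.LinearGrp
open Groth.Agent.Lib.Helper28.ComodHom

section UT

variable (R : Type u) {A : Type v} [CommRing R] [CommRing A] [Bialgebra R A]

/-- upper unitriangular corepresentation matrix -/
structure IsUTMat {n : ℕ} (M : Matrix (Fin n) (Fin n) A) : Prop where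
  comul : ∀ i j, Coalgebra.comul (R := R) (M i j) = ∑ l, M i l ⊗ₜ[R] M l j
  counit : ∀ i j, Coalgebra.counit (R := R) (M i j) = if i = j then (1 : R) else 0
  lower : ∀ i j, j < i → M i j = 0
  diag : ∀ i, M i i = 1

variable (A) in
/-- span of the entries `M i j`, `j ≤ i + r`, of unitriangular corepresentation matrices -/
def utFilt (r : ℕ) : Submodule R A :=
  Submodule.span R {x | ∃ (n : ℕ) (M : Matrix (Fin n) (Fin n) A) (i j : Fin n),
    IsUTMat R M ∧ (j : ℕ) ≤ (i : ℕ) + r ∧ x = M i j}

variable (A) in
/-- span of all entries of unitriangular corepresentation matrices -/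
def utSpan : Submodule R A :=
  Submodule.span R {x | ∃ (n : ℕ) (M : Matrix (Fin n) (Fin n) A) (i j : Fin n),
    IsUTMat R M ∧ x = M i j}

lemma isUTMat_one : IsUTMat R (fun _ _ => (1 : A) : Matrix (Fin 1) (Fin 1) A) where
  comul := fun i j => by
    show Coalgebra.comul (R := R) (1 : A) = ∑ _l : Fin 1, (1 : A) ⊗ₜ[R] (1 : A)
    rw [Fin.sum_univ_one, Bialgebra.comul_one, Algebra.TensorProduct.one_def]
  counit := fun i j => by
    show Coalgebra.counit (R := R) (1 : A) = _
    rw [if_pos (Subsingleton.elim i j), Bialgebra.counit_one]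
  lower := fun i j h => by
    exfalso
    rw [Subsingleton.elim i j] at h
    exact lt_irrefl _ h
  diag := fun _ => rfl

lemma utFilt_mono : Monotone (utFilt R A) := by
  intro r s hrs
  apply Submodule.span_mono
  rintro x ⟨n, M, i, j, hM, hij, rfl⟩
  exact ⟨n, M, i, j, hM, by omega, rfl⟩

lemma utFilt_zero : utFilt R A 0 = Submodule.span R {(1 : A)} := by
  apply le_antisymm
  · apply Submodule.span_le.2
    rintro x ⟨n, M, i, j, hM, hij, rfl⟩
    rcases lt_or_eq_of_le (show (j : ℕ) ≤ i by omega) with h | h
    · rw [hM.lower i j (Fin.lt_def.2 h)]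
      exact zero_mem _
    · rw [show j = i from Fin.ext h, hM.diag]
      exact Submodule.subset_span rfl
  · apply Submodule.span_le.2
    intro x hx
    rw [Set.mem_singleton_iff.1 hx]
    exact Submodule.subset_span ⟨1, fun _ _ => 1, 0, 0, isUTMat_one R, by simp, rfl⟩

lemma utSpan_le_iSup_utFilt : utSpan R A ≤ ⨆ r, utFilt R A r := by
  apply Submodule.span_le.2
  rintro x ⟨n, M, i, j, hM, rfl⟩
  refine Submodule.mem_iSup_of_mem n (Submodule.subset_span ⟨n, M, i, j, hM, ?_, rfl⟩)
  have := j.isLt
  omega

lemma iSup_utFilt (h : utSpan R A = ⊤) : (⨆ r, utFilt R A r) = ⊤ :=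
  top_le_iff.1 (h ▸ utSpan_le_iSup_utFilt R)

lemma comul_utFilt (r : ℕ) :
    Submodule.map (CoalgebraStruct.comul (R := R) (A := A)) (utFilt R A r) ≤
      ⨆ i ∈ Finset.range (r + 1),
        LinearMap.range (TensorProduct.mapIncl (utFilt R A i) (utFilt R A (r - i))) := by
  rw [Submodule.map_le_iff_le_comap]
  apply Submodule.span_le.2
  rintro x ⟨n, M, i, j, hM, hij, rfl⟩
  rw [SetLike.mem_coe, Submodule.mem_comap]
  have hc : CoalgebraStruct.comul (R := R) (M i j) = ∑ l, M i l ⊗ₜ[R] M l j := hM.comul i j
  rw [hc]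
  apply Submodule.sum_mem
  intro l _
  by_cases h1 : l < i
  · rw [hM.lower i l h1, TensorProduct.zero_tmul]
    exact zero_mem _
  by_cases h2 : j < l
  · rw [hM.lower l j h2, TensorProduct.tmul_zero]
    exact zero_mem _
  have h1' : (i : ℕ) ≤ l := Fin.le_def.1 (not_lt.1 h1)
  have h2' : (l : ℕ) ≤ j := Fin.le_def.1 (not_lt.1 h2)
  have hs : (l : ℕ) - i ∈ Finset.range (r + 1) := Finset.mem_range.2 (by omega)
  have ha : M i l ∈ utFilt R A ((l : ℕ) - i) :=
    Submodule.subset_span ⟨n, M, i, l, hM, by omega, rfl⟩
  have hb : M l j ∈ utFilt R A (r - ((l : ℕ) - i)) :=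
    Submodule.subset_span ⟨n, M, l, j, hM, by omega, rfl⟩
  refine Submodule.mem_iSup_of_mem ((l : ℕ) - i) (Submodule.mem_iSup_of_mem hs ?_)
  exact ⟨(⟨M i l, ha⟩ : utFilt R A _) ⊗ₜ[R] (⟨M l j, hb⟩ : utFilt R A _), rfl⟩

/-- the image of a unitriangular corepresentation matrix under a bialgebra map -/
lemma IsUTMat.map {B : Type w} [CommRing B] [Bialgebra R B] (φ : A →ₐc[R] B) {n : ℕ}
    {M : Matrix (Fin n) (Fin n) A} (hM : IsUTMat R M) :
    IsUTMat R (fun i j => φ (M i j) : Matrix (Fin n) (Fin n) B) where
  comul := fun i j => by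
    show Coalgebra.comul (R := R) (φ (M i j)) = ∑ l, φ (M i l) ⊗ₜ[R] φ (M l j)
    rw [← CoalgHomClass.map_comp_comul_apply, hM.comul, map_sum]
    simp only [TensorProduct.map_tmul]
    rfl
  counit := fun i j => by
    show Coalgebra.counit (R := R) (φ (M i j)) = _
    rw [CoalgHomClass.counit_comp_apply, hM.counit]
  lower := fun i j h => by
    show φ (M i j) = 0
    rw [hM.lower i j h, map_zero]
  diag := fun i => by
    show φ (M i i) = 1
    rw [hM.diag, map_one]

lemma utSpan_map_le {B : Type w} [CommRing B] [Bialgebra R B] (φ : A →ₐc[R] B) :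
    Submodule.map (φ : A →ₐc[R] B).toLinearMap (utSpan R A) ≤ utSpan R B := by
  rw [Submodule.map_le_iff_le_comap]
  apply Submodule.span_le.2
  rintro x ⟨n, M, i, j, hM, rfl⟩
  exact Submodule.subset_span ⟨n, _, i, j, hM.map R φ, rfl⟩

end UT

section Field

variable {K : Type u} {A : Type v} [Field K] [CommRing A] [Bialgebra K A]

/-- an exhaustive filtration starting at the scalars, lowered by the operators `T_f`, `f 1 = 0` -/
structure IsF1 (C : ℕ → Submodule K A) : Prop where
  zero : C 0 ≤ Submodule.span K {(1 : A)}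
  exh : ∀ a, ∃ r, a ∈ C r
  step : ∀ f : A →ₗ[K] K, f 1 = 0 → ∀ r, ∀ a ∈ C (r + 1), opT K A A f a ∈ C r

lemma opT_regular_apply (f : A →ₗ[K] K) (a : A) :
    opT K A A f a = slice f (Coalgebra.comul (R := K) a) := rfl

lemma isF1_utFilt (h : utSpan K A = ⊤) : IsF1 (utFilt K A) where
  zero := (utFilt_zero K).le
  exh := fun a => by
    have ha : a ∈ ⨆ r, utFilt K A r := by
      rw [iSup_utFilt K h]
      exact Submodule.mem_top
    exact (Submodule.mem_iSup_of_directed _ (utFilt_mono K).directed_le).1 ha
  step := fun f hf r a ha => by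
    unfold utFilt at ha
    induction ha using Submodule.span_induction with
    | mem x hx =>
      obtain ⟨n, M, i, j, hM, hij, rfl⟩ := hx
      have hop : opT K A A f (M i j) = ∑ l, f (M l j) • M i l := by
        rw [opT_regular_apply, hM.comul, map_sum]
        simp only [slice_tmul]
      rw [hop]
      apply Submodule.sum_mem
      intro l _
      by_cases h1 : l < j
      · apply Submodule.smul_mem
        have := Fin.lt_def.1 h1
        exact Submodule.subset_span ⟨n, M, i, l, hM, by omega, rfl⟩
      · rcases eq_or_lt_of_le (not_lt.1 h1) with h2 | h2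
        · subst h2
          rw [hM.diag, hf, zero_smul]
          exact zero_mem _
        · rw [hM.lower l j h2, map_zero, zero_smul]
          exact zero_mem _
    | zero => rw [map_zero]; exact zero_mem _
    | add x y _ _ hx hy => rw [map_add]; exact add_mem hx hy
    | smul c x _ hx => rw [map_smul]; exact Submodule.smul_mem _ c hx

variable (K A) in
/-- every nonzero right coideal contains `1` -/
def IsCoconn : Prop :=
  ∀ W : Submodule K A, HopfRep.IsSubcomod (k := K) (A := A) W → W ≠ ⊥ → (1 : A) ∈ W

lemma eq_counit_smul_one_of_fixed (w : A)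
    (h : Coalgebra.comul (R := K) w = w ⊗ₜ[K] (1 : A)) :
    w = Coalgebra.counit (R := K) w • (1 : A) := by
  have h1 := Coalgebra.rTensor_counit_comul (R := K) w
  rw [h, LinearMap.rTensor_tmul] at h1
  have h2 := congrArg (TensorProduct.lid K A) h1
  rw [TensorProduct.lid_tmul, TensorProduct.lid_tmul, one_smul] at h2
  exact h2.symm

lemma fixed_of_forall_zero (w : A) (h : ∀ f : A →ₗ[K] K, f 1 = 0 → opT K A A f w = 0) :
    w ∈ HopfRep.fixedPts K A A := by
  rw [mem_fixedPts_iff_opT]
  intro f
  set g : A →ₗ[K] K := f - f 1 • Coalgebra.counit (R := K) (A := A) with hg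
  have hg1 : g 1 = 0 := by
    rw [hg, LinearMap.sub_apply, LinearMap.smul_apply, Bialgebra.counit_one, smul_eq_mul, mul_one,
      sub_self]
  have hf : f = g + f 1 • Coalgebra.counit (R := K) (A := A) := by
    rw [hg, sub_add_cancel]
  have h0 := h g hg1
  rw [opT_apply] at h0
  have key : slice f (HopfRep.Comod.coact (k := K) (A := A) w) =
      slice g (HopfRep.Comod.coact (k := K) (A := A) w) +
        f 1 • slice (Coalgebra.counit (R := K) (A := A))
          (HopfRep.Comod.coact (k := K) (A := A) w) := by
    conv_lhs => rw [hf]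
    rw [slice_add, slice_smul]
  rw [opT_apply, key, h0, zero_add, ← opT_apply, opT_counit]

theorem isCoconn_of_isF1 {C : ℕ → Submodule K A} (hC : IsF1 C) : IsCoconn K A := by
  have key : ∀ r, ∀ W : Submodule K A, HopfRep.IsSubcomod (k := K) (A := A) W →
      ∀ w ∈ W, w ≠ 0 → w ∈ C r → (1 : A) ∈ W := by
    intro r
    induction r with
    | zero =>
      intro W hW w hw hw0 hwC
      obtain ⟨c, rfl⟩ := Submodule.mem_span_singleton.1 (hC.zero hwC)
      have hc : c ≠ 0 := by
        rintro rfl
        exact hw0 (zero_smul _ _)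
      have := W.smul_mem c⁻¹ hw
      rwa [smul_smul, inv_mul_cancel₀ hc, one_smul] at this
    | succ r ih =>
      intro W hW w hw hw0 hwC
      by_cases hex : ∃ f : A →ₗ[K] K, f 1 = 0 ∧ opT K A A f w ≠ 0
      · obtain ⟨f, hf1, hfw⟩ := hex
        exact ih W hW _ ((isSubcomod_iff W).1 hW f w hw) hfw (hC.step f hf1 r w hwC)
      · push Not at hex
        have hfix : Coalgebra.comul (R := K) w = w ⊗ₜ[K] (1 : A) := fixed_of_forall_zero w hex
        obtain ⟨c, hc⟩ : ∃ c : K, w = c • (1 : A) := ⟨_, eq_counit_smul_one_of_fixed w hfix⟩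
        have hc0 : c ≠ 0 := by
          rintro rfl
          rw [zero_smul] at hc
          exact hw0 hc
        have h1 : (1 : A) = c⁻¹ • w := by
          rw [hc, smul_smul, inv_mul_cancel₀ hc0, one_smul]
        rw [h1]
        exact W.smul_mem _ hw
  intro W hW hW0
  obtain ⟨w, hw, hw0⟩ := Submodule.exists_mem_ne_zero_of_ne_bot hW0
  obtain ⟨r, hr⟩ := hC.exh w
  exact key r W hW w hw hw0 hr

theorem isUnipotent_of_isCoconn (h : IsCoconn K A) : HopfRep.IsUnipotent K A := by
  have key : ∀ n : ℕ, ∀ (V : Type v) [AddCommGroup V] [Module K V] [c : HopfRep.Comod K A V],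
      Module.Finite K V → Module.finrank K V = n → Nontrivial V →
        HopfRep.fixedPts K A V ≠ ⊥ := by
    intro n
    induction n using Nat.strong_induction_on with
    | _ n ih =>
      intro V _ _ c hfin hn hnt
      haveI := hfin
      obtain ⟨v, hv⟩ := exists_ne (0 : V)
      obtain ⟨φ, hφ⟩ := exists_apply_ne_zero (K := K) hv
      set g : V →ₗ[K] A := cfm (C := A) φ with hg
      have hgc : Hoch.IsComodHom A g := isComodHom_cfm φ
      have hgv : g v ≠ 0 := by
        intro h0
        apply hφ
        rw [← counit_cfm (C := A) φ v]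
        show Coalgebra.counit (R := K) (g v) = 0
        rw [h0, map_zero]
      by_cases hker : LinearMap.ker g = ⊥
      · have hinj : Function.Injective g := LinearMap.ker_eq_bot.1 hker
        have hW : HopfRep.IsSubcomod (k := K) (A := A) (LinearMap.range g) :=
          isSubcomod_range g hgc
        have hW0 : LinearMap.range g ≠ ⊥ := by
          intro h0
          have : g v ∈ LinearMap.range g := ⟨v, rfl⟩
          rw [h0, Submodule.mem_bot] at this
          exact hgv this
        obtain ⟨s, hs⟩ := h _ hW hW0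
        have hs0 : s ≠ 0 := by
          rintro rfl
          rw [map_zero] at hs
          exact hgv (eq_zero_of_zero_eq_one hs (g v))
        have hsfix : s ∈ HopfRep.fixedPts K A V := by
          rw [mem_fixedPts_iff_opT]
          intro f
          apply hinj
          rw [map_opT g hgc f s, hs, map_smul, hs, opT_regular_apply, Bialgebra.comul_one,
            Algebra.TensorProduct.one_def, slice_tmul]
        intro hbot
        rw [hbot, Submodule.mem_bot] at hsfix
        exact hs0 hsfix
      · set Ker := LinearMap.ker g with hKer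
        have hKs : HopfRep.IsSubcomod (k := K) (A := A) Ker := isSubcomod_ker g hgc
        letI cK : HopfRep.Comod K A Ker := ComodSub.Comod.restr c Ker hKs
        have hlt : Module.finrank K Ker < n := by
          rw [← hn]
          apply Submodule.finrank_lt
          intro htop
          have : v ∈ Ker := htop ▸ Submodule.mem_top
          exact hgv (LinearMap.mem_ker.1 this)
        have hntK : Nontrivial Ker := Submodule.nontrivial_iff_ne_bot.2 hker
        have hfix := ih _ hlt Ker inferInstance rfl hntK
        obtain ⟨x, hx, hx0⟩ := Submodule.exists_mem_ne_zero_of_ne_bot hfix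
        have hx' : HopfRep.Comod.coact (k := K) (A := A) (x : V) = (x : V) ⊗ₜ[K] (1 : A) := by
          have h1 := ComodSub.restr_coact_coe c Ker hKs x
          have h2 : (ComodSub.Comod.restr c Ker hKs).coact x = x ⊗ₜ[K] (1 : A) := hx
          rw [h2, LinearMap.rTensor_tmul] at h1
          exact h1.symm
        intro hbot
        have hmem : (x : V) ∈ HopfRep.fixedPts K A V := hx'
        rw [hbot, Submodule.mem_bot] at hmem
        exact hx0 (Subtype.ext hmem)
  intro V _ _ _ hfin hnt
  exact key _ V hfin rfl hnt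

theorem isCoconn_of_isUnipotent (hU : HopfRep.IsUnipotent K A) : IsCoconn K A := by
  intro W hW hW0
  obtain ⟨w, hw, hw0⟩ := Submodule.exists_mem_ne_zero_of_ne_bot hW0
  set G : Submodule K A := gen (K := K) (C := A) w with hG
  have hGs : HopfRep.IsSubcomod (k := K) (A := A) G := isSubcomod_gen w
  have hGW : G ≤ W := by
    rintro x ⟨f, rfl⟩
    exact (isSubcomod_iff W).1 hW f w hw
  haveI : FiniteDimensional K G := finiteDimensional_gen w
  letI cG : HopfRep.Comod K A G := ComodSub.Comod.restr (HopfRep.Comod.regular K A) G hGs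
  have hnt : Nontrivial G :=
    ⟨⟨⟨w, mem_gen w⟩, 0, fun h => hw0 (congrArg Subtype.val h)⟩⟩
  have hfix := hU G inferInstance hnt
  obtain ⟨x, hx, hx0⟩ := Submodule.exists_mem_ne_zero_of_ne_bot hfix
  have hx' : Coalgebra.comul (R := K) (x : A) = (x : A) ⊗ₜ[K] (1 : A) := by
    have h1 := ComodSub.restr_coact_coe (HopfRep.Comod.regular K A) G hGs x
    have h2 : (ComodSub.Comod.restr (HopfRep.Comod.regular K A) G hGs).coact x =
        x ⊗ₜ[K] (1 : A) := hx
    rw [h2, LinearMap.rTensor_tmul] at h1
    exact h1.symm
  obtain ⟨c, hc⟩ : ∃ c : K, (x : A) = c • (1 : A) := ⟨_, eq_counit_smul_one_of_fixed (x : A) hx'⟩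
  have hc0 : c ≠ 0 := by
    rintro rfl
    rw [zero_smul] at hc
    exact hx0 (Subtype.ext hc)
  have h1 : (1 : A) = c⁻¹ • (x : A) := by
    rw [hc, smul_smul, inv_mul_cancel₀ hc0, one_smul]
  rw [h1]
  exact W.smul_mem _ (hGW x.2)

theorem isUnipotent_of_utSpan (h : utSpan K A = ⊤) : HopfRep.IsUnipotent K A :=
  isUnipotent_of_isCoconn (isCoconn_of_isF1 (isF1_utFilt h))

lemma isUTMat_mc {V : Type w} [AddCommGroup V] [Module K V] [HopfRep.Comod K A V] {n : ℕ}
    (b : Module.Basis (Fin n) K V) (hl : ∀ i j, j < i → mc (C := A) b i j = 0)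
    (hd : ∀ i, mc (C := A) b i i = 1) :
    IsUTMat K (fun i j => mc (C := A) b i j : Matrix (Fin n) (Fin n) A) where
  comul := fun i j => comul_mc b i j
  counit := fun i j => counit_mc b i j
  lower := hl
  diag := hd

/-- Over a unipotent group every finite-dimensional representation has a basis in which the group
acts through upper unitriangular matrices. -/
theorem exists_ut_basis (hU : HopfRep.IsUnipotent K A) :
    ∀ (n : ℕ) (V : Type v) [AddCommGroup V] [Module K V] [c : HopfRep.Comod K A V]
      [Module.Finite K V], Module.finrank K V = n →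
      ∃ b : Module.Basis (Fin n) K V, (∀ i j, j < i → mc (C := A) b i j = 0) ∧
        ∀ i, mc (C := A) b i i = 1 := by
  intro n
  induction n with
  | zero =>
    intro V _ _ c _ hn
    exact ⟨Module.finBasisOfFinrankEq K V hn, fun i => i.elim0, fun i => i.elim0⟩
  | succ n ih =>
    intro V _ _ c _ hn
    have hnt : Nontrivial V := Module.nontrivial_of_finrank_pos (R := K) (by omega)
    have hfix := hU V inferInstance hnt
    obtain ⟨v₁, hv₁, hv₁0⟩ := Submodule.exists_mem_ne_zero_of_ne_bot hfix
    have hco : HopfRep.Comod.coact (k := K) (A := A) v₁ = v₁ ⊗ₜ[K] (1 : A) := hv₁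
    set W : Submodule K V := Submodule.span K {v₁} with hWdef
    have hv₁W : v₁ ∈ W := Submodule.mem_span_singleton_self v₁
    have hW : HopfRep.IsSubcomod (k := K) (A := A) W := by
      rw [isSubcomod_iff]
      intro f w hw
      obtain ⟨a, rfl⟩ := Submodule.mem_span_singleton.1 hw
      rw [map_smul, (mem_fixedPts_iff_opT v₁).1 hv₁ f]
      exact W.smul_mem _ (W.smul_mem _ hv₁W)
    letI cq : HopfRep.Comod K A (V ⧸ W) := ComodSub.Comod.quot c W hW
    have hmk : Hoch.IsComodHom A W.mkQ := ComodSub.isComodHom_mkQ c W hW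
    have hmk0 : W.mkQ v₁ = 0 := (Submodule.Quotient.mk_eq_zero W).2 hv₁W
    have hrank : Module.finrank K (V ⧸ W) = n := by
      have h1 := Submodule.finrank_quotient_add_finrank W
      have h2 : Module.finrank K W = 1 := finrank_span_singleton hv₁0
      omega
    obtain ⟨q, hql, hqd⟩ := ih (V ⧸ W) hrank
    choose ℓ hℓ using fun i => W.mkQ_surjective (q i)
    have hli : LinearIndependent K (Fin.cons v₁ ℓ : Fin (n + 1) → V) := by
      rw [linearIndependent_fin_cons]
      refine ⟨?_, ?_⟩
      · apply LinearIndependent.of_comp W.mkQ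
        have : (W.mkQ ∘ ℓ) = q := funext hℓ
        rw [this]
        exact q.linearIndependent
      · intro hmem
        obtain ⟨cf, hcf⟩ := (Submodule.mem_span_range_iff_exists_fun K).1 hmem
        have h0 : ∑ i, cf i • q i = 0 := by
          have := congrArg W.mkQ hcf
          rw [map_sum, hmk0] at this
          simp only [map_smul, hℓ] at this
          exact this
        have hcf0 := Fintype.linearIndependent_iff.1 q.linearIndependent cf h0
        apply hv₁0
        rw [← hcf]
        simp [hcf0]
    have hcard : Fintype.card (Fin (n + 1)) = Module.finrank K V := by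
      rw [Fintype.card_fin, hn]
    set b : Module.Basis (Fin (n + 1)) K V :=
      basisOfLinearIndependentOfCardEqFinrank hli hcard with hb
    have hb0 : b 0 = v₁ := by
      rw [hb, coe_basisOfLinearIndependentOfCardEqFinrank]
      rfl
    have hbs : ∀ i : Fin n, b i.succ = ℓ i := by
      intro i
      rw [hb, coe_basisOfLinearIndependentOfCardEqFinrank]
      rfl
    have hcoord : ∀ i j : Fin (n + 1), b.coord i (b j) = if i = j then (1 : K) else 0 := by
      intro i j
      rw [Module.Basis.coord_apply, Module.Basis.repr_self, Finsupp.single_apply]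
      by_cases h : i = j
      · subst h; simp
      · rw [if_neg h, if_neg (Ne.symm h)]
    have hcoordq : ∀ i j : Fin n, q.coord i (q j) = if i = j then (1 : K) else 0 := by
      intro i j
      rw [Module.Basis.coord_apply, Module.Basis.repr_self, Finsupp.single_apply]
      by_cases h : i = j
      · subst h; simp
      · rw [if_neg h, if_neg (Ne.symm h)]
    have hA : ∀ i : Fin (n + 1), mc (C := A) b i 0 = if i = 0 then 1 else 0 := by
      intro i
      have h1 : mc (C := A) b i 0 = (b.coord i (b 0)) • (1 : A) := by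
        unfold mc
        rw [cfm_apply]
        conv_lhs => rw [hb0, hco, lsl_tmul, ← hb0]
      rw [h1, hcoord]
      split_ifs
      · rw [one_smul]
      · rw [zero_smul]
    have hB : ∀ i : Fin n, b.coord i.succ = q.coord i ∘ₗ W.mkQ := by
      intro i
      apply b.ext
      intro j
      cases j using Fin.cases with
      | zero =>
        rw [hcoord, if_neg (Fin.succ_ne_zero i), LinearMap.comp_apply, hb0, hmk0, map_zero]
      | succ j =>
        rw [hcoord, LinearMap.comp_apply, hbs, hℓ, hcoordq]
        simp only [Fin.succ_inj]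
    have hC' : ∀ i j : Fin n, mc (C := A) b i.succ j.succ = mc (C := A) q i j := by
      intro i j
      unfold mc
      rw [hB i, hbs j, ← cfm_comp_of_isComodHom W.mkQ hmk (q.coord i) (ℓ j), hℓ j]
    refine ⟨b, ?_, ?_⟩
    · intro i j hji
      cases i using Fin.cases with
      | zero => exact absurd hji (Fin.not_lt_zero _)
      | succ i' =>
        cases j using Fin.cases with
        | zero => rw [hA, if_neg (Fin.succ_ne_zero i')]
        | succ j' =>
          rw [hC']
          exact hql i' j' (Fin.succ_lt_succ_iff.1 hji)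
    · intro i
      cases i using Fin.cases with
      | zero => rw [hA, if_pos rfl]
      | succ i' =>
        rw [hC']
        exact hqd i'

theorem utSpan_eq_top_of_isUnipotent (hU : HopfRep.IsUnipotent K A) : utSpan K A = ⊤ := by
  rw [eq_top_iff]
  intro a _
  set G : Submodule K A := gen (K := K) (C := A) a with hG
  have hGs : HopfRep.IsSubcomod (k := K) (A := A) G := isSubcomod_gen a
  haveI : FiniteDimensional K G := finiteDimensional_gen a
  letI cG : HopfRep.Comod K A G := ComodSub.Comod.restr (HopfRep.Comod.regular K A) G hGs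
  have hι : Hoch.IsComodHom A G.subtype :=
    ComodSub.isComodHom_subtype (HopfRep.Comod.regular K A) G hGs
  obtain ⟨b, hl, hd⟩ := exists_ut_basis hU (Module.finrank K G) G rfl
  have hM := isUTMat_mc b hl hd
  have h2 : ∀ (φ : G →ₗ[K] K) (j : Fin (Module.finrank K G)),
      cfm (C := A) φ (b j) ∈ utSpan K A := by
    intro φ j
    rw [cfm_apply, coact_basis b j, map_sum]
    apply Submodule.sum_mem
    intro l _
    rw [lsl_tmul]
    apply Submodule.smul_mem
    exact Submodule.subset_span ⟨_, _, l, j, hM, rfl⟩
  have h3 : ∀ (φ : G →ₗ[K] K) (x : G), cfm (C := A) φ x ∈ utSpan K A := by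
    intro φ x
    rw [← b.sum_repr x, map_sum]
    apply Submodule.sum_mem
    intro j _
    rw [map_smul]
    exact Submodule.smul_mem _ _ (h2 φ j)
  have h1 : a = cfm (C := A) (Coalgebra.counit (R := K) (A := A) ∘ₗ G.subtype)
      (⟨a, mem_gen a⟩ : G) := by
    rw [← cfm_comp_of_isComodHom G.subtype hι (Coalgebra.counit (R := K) (A := A))
      (⟨a, mem_gen a⟩ : G)]
    exact (cfm_counit_regular a).symm
  rw [h1]
  exact h3 _ _

end Field

end Groth.Agent.Lib.Helper19.Unip
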