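import Mathlib
import Groth.Agent.Lib.Helper19.TruncPoly

/-!
# Invariants of truncated polynomial algebras (helper19)

* `finrank_trunc`: `dim K[X_1..X_r]/(X_i^{n_i}) = ∏ n_i`.
* `nilPow q B`: the ideal generated by the `q`-th powers of nilpotent elements.
* `finrank_quot_nilPow`: for `A = K[X]/(X_i^{p^{e_i}})`, `dim A / nilPow (p^m) A = p ^ Σ min(e_i, m)`.
* `exists_equiv_of_sum_min`: the combinatorial reconstruction of the exponents.
-/

set_option autoImplicit false
universe u v

namespace Groth.Agent.Lib.Helper19.TruncInv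

open Groth.Agent.Lib.Helper19.TruncPoly

section Dim

variable {K : Type u} [Field K] {r : ℕ} (n : Fin r → ℕ)

lemma range_eq_image :
    (Set.range fun i : Fin r => (MvPolynomial.X i : MvPolynomial (Fin r) K) ^ n i) =
      (fun s => MvPolynomial.monomial s (1 : K)) ''
        (Set.range fun i : Fin r => Finsupp.single i (n i)) := by
  rw [← Set.range_comp]
  congr 1
  funext i
  simp only [Function.comp_apply]
  rw [MvPolynomial.X_pow_eq_monomial]

/-- a polynomial in the monomial ideal `(X_i ^ n_i)` supported in the box is zero -/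
lemma eq_zero_of_mem_of_support (P : MvPolynomial (Fin r) K)
    (hP : P ∈ Ideal.span (Set.range fun i : Fin r =>
      (MvPolynomial.X i : MvPolynomial (Fin r) K) ^ n i))
    (hs : ∀ β ∈ P.support, ∀ i, β i < n i) : P = 0 := by
  classical
  rw [range_eq_image, MvPolynomial.mem_ideal_span_monomial_image] at hP
  by_contra hne
  obtain ⟨β, hβ⟩ := Finset.nonempty_of_ne_empty
    (fun h => hne (MvPolynomial.support_eq_empty.1 h))
  obtain ⟨_, ⟨i, rfl⟩, hle⟩ := hP β hβ
  have h1 := hle i
  simp only [Finsupp.single_eq_same] at h1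
  exact absurd (hs β hβ i) (not_lt.2 h1)

lemma toFs_injective : Function.Injective (toFs n) := by
  intro α α' h
  funext i
  apply Fin.ext
  have := DFunLike.congr_fun h i
  rw [toFs_apply, toFs_apply] at this
  exact this

theorem finrank_trunc :
    Module.finrank K (MvPolynomial (Fin r) K ⧸ Ideal.span (Set.range fun i : Fin r =>
      (MvPolynomial.X i : MvPolynomial (Fin r) K) ^ n i)) = ∏ i, n i := by
  classical
  set I := Ideal.span (Set.range fun i : Fin r =>
      (MvPolynomial.X i : MvPolynomial (Fin r) K) ^ n i) with hI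
  let g₀ : (((i : Fin r) → Fin (n i)) → K) →ₗ[K] MvPolynomial (Fin r) K :=
    { toFun := fun c => ∑ α, MvPolynomial.monomial (toFs n α) (c α)
      map_add' := by
        intro c d
        rw [← Finset.sum_add_distrib]
        refine Finset.sum_congr rfl fun α _ => ?_
        rw [Pi.add_apply, map_add]
      map_smul' := by
        intro a c
        rw [Finset.smul_sum]
        refine Finset.sum_congr rfl fun α _ => ?_
        rw [Pi.smul_apply, RingHom.id_apply, MvPolynomial.smul_monomial] }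
  have hg₀ : ∀ c, g₀ c = ∑ α, MvPolynomial.monomial (toFs n α) (c α) := fun c => rfl
  let g : (((i : Fin r) → Fin (n i)) → K) →ₗ[K] (MvPolynomial (Fin r) K ⧸ I) :=
    (Ideal.Quotient.mkₐ K I).toLinearMap ∘ₗ g₀
  have hg : ∀ c, g c = Ideal.Quotient.mk I (g₀ c) := fun c => rfl
  have hcoeff : ∀ c α₀, MvPolynomial.coeff (toFs n α₀) (g₀ c) = c α₀ := by
    intro c α₀
    rw [hg₀, MvPolynomial.coeff_sum, Finset.sum_eq_single α₀]
    · rw [MvPolynomial.coeff_monomial, if_pos rfl]
    · intro α _ hne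
      rw [MvPolynomial.coeff_monomial, if_neg]
      intro h
      exact hne (toFs_injective n h)
    · intro h
      exact absurd (Finset.mem_univ _) h
  have hsupp : ∀ c, ∀ β ∈ (g₀ c).support, ∀ i, β i < n i := by
    intro c β hβ i
    rw [MvPolynomial.mem_support_iff] at hβ
    by_contra hlt
    apply hβ
    rw [hg₀, MvPolynomial.coeff_sum]
    refine Finset.sum_eq_zero fun α _ => ?_
    rw [MvPolynomial.coeff_monomial, if_neg]
    intro hαβ
    apply hlt
    rw [← hαβ, toFs_apply]
    exact (α i).2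
  have hinj : Function.Injective g := by
    rw [← LinearMap.ker_eq_bot, LinearMap.ker_eq_bot']
    intro c hc
    rw [hg, Ideal.Quotient.eq_zero_iff_mem] at hc
    have h0 := eq_zero_of_mem_of_support n (g₀ c) hc (hsupp c)
    funext α
    rw [← hcoeff c α, h0, MvPolynomial.coeff_zero, Pi.zero_apply]
  have hsurj : Function.Surjective g := by
    intro a
    obtain ⟨P, rfl⟩ := Ideal.Quotient.mk_surjective a
    obtain ⟨c, hc⟩ := exists_coeffs_sub_mem n P
    refine ⟨c, ?_⟩
    rw [hg, hg₀]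
    exact ((Ideal.Quotient.mk_eq_mk_iff_sub_mem _ _).2 hc).symm
  have e := LinearEquiv.ofBijective g ⟨hinj, hsurj⟩
  rw [← e.finrank_eq, Module.finrank_fintype_fun_eq_card, Fintype.card_pi]
  simp only [Fintype.card_fin]

lemma span_sup_span (a b : Fin r → ℕ) :
    Ideal.span (Set.range fun i : Fin r => (MvPolynomial.X i : MvPolynomial (Fin r) K) ^ a i) ⊔
      Ideal.span (Set.range fun i : Fin r => (MvPolynomial.X i : MvPolynomial (Fin r) K) ^ b i) =
    Ideal.span (Set.range fun i : Fin r =>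
      (MvPolynomial.X i : MvPolynomial (Fin r) K) ^ min (a i) (b i)) := by
  apply le_antisymm
  · refine sup_le (Ideal.span_le.2 ?_) (Ideal.span_le.2 ?_)
    · rintro _ ⟨i, rfl⟩
      exact Ideal.pow_mem_of_pow_mem _ (Ideal.subset_span ⟨i, rfl⟩) (min_le_left _ _)
    · rintro _ ⟨i, rfl⟩
      exact Ideal.pow_mem_of_pow_mem _ (Ideal.subset_span ⟨i, rfl⟩) (min_le_right _ _)
  · refine Ideal.span_le.2 ?_
    rintro _ ⟨i, rfl⟩
    show (MvPolynomial.X i : MvPolynomial (Fin r) K) ^ min (a i) (b i) ∈ _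
    rcases min_choice (a i) (b i) with h | h
    · rw [h]
      exact Ideal.mem_sup_left (Ideal.subset_span ⟨i, rfl⟩)
    · rw [h]
      exact Ideal.mem_sup_right (Ideal.subset_span ⟨i, rfl⟩)

end Dim

section NilPow

/-- the ideal generated by the `q`-th powers of the nilpotent elements -/
def nilPow (q : ℕ) (B : Type v) [CommRing B] : Ideal B :=
  Ideal.span {y | ∃ a : B, IsNilpotent a ∧ y = a ^ q}

lemma nilPow_map {K : Type u} [CommRing K] {A B : Type v} [CommRing A] [CommRing B]
    [Algebra K A] [Algebra K B] (q : ℕ) (φ : A ≃ₐ[K] B) :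
    nilPow q B = (nilPow q A).map (φ : A →+* B) := by
  unfold nilPow
  rw [Ideal.map_span]
  congr 1
  ext y
  constructor
  · rintro ⟨b, hb, rfl⟩
    refine ⟨(φ.symm b) ^ q, ⟨φ.symm b, hb.map φ.symm, rfl⟩, ?_⟩
    simp
  · rintro ⟨_, ⟨a, ha, rfl⟩, rfl⟩
    exact ⟨φ a, ha.map φ, by simp⟩

theorem finrank_quot_nilPow_eq {K : Type u} [Field K] {A B : Type v} [CommRing A] [CommRing B]
    [Algebra K A] [Algebra K B] (q : ℕ) (φ : A ≃ₐ[K] B) :
    Module.finrank K (A ⧸ nilPow q A) = Module.finrank K (B ⧸ nilPow q B) :=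
  (Ideal.quotientEquivAlg (nilPow q A) (nilPow q B) φ (nilPow_map q φ)).toLinearEquiv.finrank_eq

lemma pow_mem_span_pow {R : Type v} [CommRing R] (p : ℕ) [Fact p.Prime] [CharP R p] (m : ℕ)
    (S : Set R) {x : R} (hx : x ∈ Ideal.span S) :
    x ^ p ^ m ∈ Ideal.span ((fun s => s ^ p ^ m) '' S) := by
  induction hx using Submodule.span_induction with
  | mem x h => exact Ideal.subset_span ⟨x, h, rfl⟩
  | zero =>
    rw [zero_pow (pow_ne_zero _ (Fact.out : p.Prime).ne_zero)]
    exact Ideal.zero_mem _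
  | add x y _ _ hx hy =>
    rw [add_pow_char_pow]
    exact Ideal.add_mem _ hx hy
  | smul a x _ hx =>
    rw [smul_eq_mul, mul_pow]
    exact Ideal.mul_mem_left _ _ hx

variable {K : Type u} [Field K] {r : ℕ}

theorem nilPow_trunc (p : ℕ) [Fact p.Prime] [CharP K p] (n : Fin r → ℕ) (hn : ∀ i, 1 ≤ n i)
    (m : ℕ) :
    nilPow (p ^ m) (MvPolynomial (Fin r) K ⧸ Ideal.span (Set.range fun i : Fin r =>
      (MvPolynomial.X i : MvPolynomial (Fin r) K) ^ n i)) =
    (Ideal.span (Set.range fun i : Fin r =>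
      (MvPolynomial.X i : MvPolynomial (Fin r) K) ^ p ^ m)).map
      (Ideal.Quotient.mkₐ K (Ideal.span (Set.range fun i : Fin r =>
      (MvPolynomial.X i : MvPolynomial (Fin r) K) ^ n i))) := by
  classical
  set I := Ideal.span (Set.range fun i : Fin r =>
      (MvPolynomial.X i : MvPolynomial (Fin r) K) ^ n i) with hI
  apply le_antisymm
  · unfold nilPow
    rw [Ideal.span_le]
    rintro _ ⟨a, ha, rfl⟩
    obtain ⟨P, rfl⟩ := Ideal.Quotient.mk_surjective a
    obtain ⟨N, hN⟩ := ha
    have h1 : P ^ N ∈ I := by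
      rw [← Ideal.Quotient.eq_zero_iff_mem, map_pow]
      exact hN
    have hIle : I ≤ RingHom.ker (MvPolynomial.constantCoeff (σ := Fin r) (R := K)) := by
      rw [hI, Ideal.span_le]
      rintro _ ⟨i, rfl⟩
      rw [SetLike.mem_coe, RingHom.mem_ker, map_pow, MvPolynomial.constantCoeff_X,
        zero_pow (by have := hn i; omega)]
    have h2 : MvPolynomial.constantCoeff P = 0 := by
      have h := hIle h1
      rw [RingHom.mem_ker, map_pow] at h
      exact IsNilpotent.eq_zero ⟨N, h⟩
    have h3 : P ∈ Ideal.span (Set.range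
        (MvPolynomial.X : Fin r → MvPolynomial (Fin r) K)) := by
      rw [← Set.image_univ, MvPolynomial.mem_ideal_span_X_image]
      intro β hβ
      have hβ0 : β ≠ 0 := by
        rintro rfl
        rw [MvPolynomial.mem_support_iff, ← MvPolynomial.constantCoeff_eq] at hβ
        exact hβ h2
      obtain ⟨i, hi⟩ := DFunLike.ne_iff.1 hβ0
      exact ⟨i, Set.mem_univ _, hi⟩
    have h4 := pow_mem_span_pow p m _ h3
    rw [← Set.range_comp] at h4
    rw [SetLike.mem_coe, ← map_pow]
    exact Ideal.mem_map_of_mem (Ideal.Quotient.mkₐ K I) h4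
  · rw [Ideal.map_span, Ideal.span_le]
    rintro _ ⟨_, ⟨i, rfl⟩, rfl⟩
    apply Ideal.subset_span
    refine ⟨Ideal.Quotient.mk I (MvPolynomial.X i), ⟨n i, ?_⟩, ?_⟩
    · rw [← map_pow]
      exact Ideal.Quotient.eq_zero_iff_mem.2 (Ideal.subset_span ⟨i, rfl⟩)
    · exact map_pow (Ideal.Quotient.mk I) _ _

lemma min_pow (p a b : ℕ) (hp : 0 < p) : min (p ^ a) (p ^ b) = p ^ min a b := by
  rcases le_total a b with h | h
  · rw [min_eq_left h, min_eq_left (Nat.pow_le_pow_right hp h)]
  · rw [min_eq_right h, min_eq_right (Nat.pow_le_pow_right hp h)]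

theorem finrank_quot_nilPow (p : ℕ) [Fact p.Prime] [CharP K p] (e : Fin r → ℕ) (m : ℕ) :
    Module.finrank K ((MvPolynomial (Fin r) K ⧸ Ideal.span (Set.range fun i : Fin r =>
      (MvPolynomial.X i : MvPolynomial (Fin r) K) ^ p ^ e i)) ⧸
      nilPow (p ^ m) (MvPolynomial (Fin r) K ⧸ Ideal.span (Set.range fun i : Fin r =>
      (MvPolynomial.X i : MvPolynomial (Fin r) K) ^ p ^ e i))) = p ^ ∑ i, min (e i) m := by
  have hp : 0 < p := (Fact.out : p.Prime).pos
  have h1 := nilPow_trunc (K := K) p (fun i : Fin r => p ^ e i)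
    (fun i => Nat.one_le_pow _ _ hp) m
  rw [(Ideal.quotientEquivAlgOfEq K h1).toLinearEquiv.finrank_eq,
    (DoubleQuot.quotQuotEquivQuotSupₐ K _ _).toLinearEquiv.finrank_eq,
    (Ideal.quotientEquivAlgOfEq K (span_sup_span (K := K) (fun i : Fin r => p ^ e i)
      (fun _ => p ^ m))).toLinearEquiv.finrank_eq, finrank_trunc]
  rw [← Finset.prod_pow_eq_pow_sum]
  refine Finset.prod_congr rfl fun i _ => ?_
  exact min_pow p _ _ hp

end NilPow

section Comb

lemma sum_min_succ {r : ℕ} (g : Fin r → ℕ) (m : ℕ) :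
    ∑ i, min (g i) (m + 1) = ∑ i, min (g i) m + ∑ i, (if m + 1 ≤ g i then 1 else 0) := by
  rw [← Finset.sum_add_distrib]
  refine Finset.sum_congr rfl fun i _ => ?_
  split_ifs with h <;> omega

lemma sum_ge_eq {r : ℕ} (g : Fin r → ℕ) (m : ℕ) :
    ∑ i, (if m ≤ g i then 1 else 0) =
      ∑ i, (if g i = m then 1 else 0) + ∑ i, (if m + 1 ≤ g i then 1 else 0) := by
  rw [← Finset.sum_add_distrib]
  refine Finset.sum_congr rfl fun i _ => ?_
  split_ifs <;> omega

lemma card_fiber {r : ℕ} (g : Fin r → ℕ) (m : ℕ) :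
    Fintype.card {i // g i = m} = ∑ i, (if g i = m then 1 else 0) := by
  classical
  rw [Fintype.card_subtype, Finset.card_filter]

theorem exists_equiv_of_card {r s : ℕ} (e : Fin r → ℕ) (f : Fin s → ℕ)
    (h : ∀ m, Fintype.card {i // e i = m} = Fintype.card {j // f j = m}) :
    ∃ σ : Fin r ≃ Fin s, ∀ i, f (σ i) = e i := by
  classical
  let τ : ∀ m, {i // e i = m} ≃ {j // f j = m} := fun m => Fintype.equivOfCardEq (h m)
  refine ⟨(Equiv.sigmaFiberEquiv e).symm.trans
    ((Equiv.sigmaCongrRight τ).trans (Equiv.sigmaFiberEquiv f)), ?_⟩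
  intro i
  exact (τ (e i) ⟨i, rfl⟩).2

theorem exists_equiv_of_sum_min {r s : ℕ} (e : Fin r → ℕ) (f : Fin s → ℕ)
    (he : ∀ i, 1 ≤ e i) (hf : ∀ j, 1 ≤ f j)
    (h : ∀ m, ∑ i, min (e i) m = ∑ j, min (f j) m) :
    ∃ σ : Fin r ≃ Fin s, ∀ i, f (σ i) = e i := by
  classical
  have hge : ∀ m, ∑ i, (if m + 1 ≤ e i then 1 else 0) = ∑ j, (if m + 1 ≤ f j then 1 else 0) := by
    intro m
    have h1 := sum_min_succ e m
    have h2 := sum_min_succ f m
    have h3 := h m
    have h4 := h (m + 1)
    omega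
  apply exists_equiv_of_card
  intro m
  rw [card_fiber, card_fiber]
  rcases Nat.eq_zero_or_pos m with rfl | hm
  · rw [Finset.sum_eq_zero, Finset.sum_eq_zero]
    · intro j _
      rw [if_neg]
      have := hf j
      omega
    · intro i _
      rw [if_neg]
      have := he i
      omega
  · obtain ⟨m', rfl⟩ : ∃ m', m = m' + 1 := ⟨m - 1, by omega⟩
    have h1 := sum_ge_eq e (m' + 1)
    have h2 := sum_ge_eq f (m' + 1)
    have h3 := hge m'
    have h4 := hge (m' + 1)
    omega

end Comb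

end Groth.Agent.Lib.Helper19.TruncInv
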