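import Mathlib
import Groth.Agent.Lib.Helper19.Caten2

/-!
# Universally catenary rings: localization and essentially finite type algebras (helper19)

* `isCatenary_of_range_subset`: comparison of two rings mapping into a common quasi-sober space.
* `isCatenary_of_isLocalization`: a localization of a catenary ring is catenary.
* `isCatenarySpace_primeSpectrum_iff`: `Spec B` is a catenary space iff `B` is a catenary ring.
* `isCatenary_of_essFiniteType`: a local ring of a finite type algebra over `A` is catenary when
  the corresponding localization of `A` is universally catenary.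
* `isCatenary_of_finiteType_over_localization`: finite type algebras over `A_p` are catenary when
  all finite type `A`-algebras are.
-/

set_option autoImplicit false
universe u

namespace Groth.Agent.Lib.Helper19.Caten

open TopologicalSpace

theorem isCatenary_of_range_subset {R₁ R₂ : Type*} [CommRing R₁] [CommRing R₂] {X : Type*}
    [TopologicalSpace X] [QuasiSober X]
    (ψ₁ : PrimeSpectrum R₁ → X) (h₁ : Topology.IsInducing ψ₁)
    (g₁ : StableUnderGeneralization (Set.range ψ₁))
    (ψ₂ : PrimeSpectrum R₂ → X) (h₂ : Topology.IsInducing ψ₂)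
    (g₂ : StableUnderGeneralization (Set.range ψ₂))
    (hsub : Set.range ψ₂ ⊆ Set.range ψ₁) (H : CAlg.IsCatenary R₁) : CAlg.IsCatenary R₂ := by
  rw [isCatenary_iff_of_isInducing ψ₂ h₂ g₂]
  rw [isCatenary_iff_of_isInducing ψ₁ h₁ g₁] at H
  intro T T' hTT' hne
  obtain ⟨x, hxT, hx⟩ := hne
  exact H T T' hTT' ⟨x, hxT, hsub hx⟩

theorem stableUnderGeneralization_disjoint {B : Type*} [CommRing B] (M : Submonoid B) :
    StableUnderGeneralization {P : PrimeSpectrum B | Disjoint (M : Set B) P.asIdeal} := by
  intro x y hyx hx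
  rw [← PrimeSpectrum.le_iff_specializes] at hyx
  have hx' : Disjoint (M : Set B) (x.asIdeal : Set B) := hx
  show Disjoint (M : Set B) (y.asIdeal : Set B)
  exact Set.disjoint_of_subset_right (fun a ha => hyx ha) hx'

theorem stableUnderGeneralization_range_id (B : Type*) [CommRing B] :
    StableUnderGeneralization (Set.range (id : PrimeSpectrum B → PrimeSpectrum B)) := by
  rw [Set.range_id]
  exact fun _ _ _ _ => Set.mem_univ _

theorem isCatenary_of_isLocalization {B C : Type*} [CommRing B] [CommRing C] [Algebra B C]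
    (M : Submonoid B) [IsLocalization M C] (H : CAlg.IsCatenary B) : CAlg.IsCatenary C := by
  refine isCatenary_of_range_subset (X := PrimeSpectrum B) id Topology.IsInducing.id
    (stableUnderGeneralization_range_id B)
    (PrimeSpectrum.comap (algebraMap B C)) (PrimeSpectrum.localization_comap_isInducing C M)
    ?_ ?_ H
  · rw [PrimeSpectrum.localization_comap_range C M]
    exact stableUnderGeneralization_disjoint M
  · rw [Set.range_id]
    exact Set.subset_univ _

theorem isCatenarySpace_primeSpectrum_iff (B : Type*) [CommRing B] :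
    PtTop.IsCatenarySpace (PrimeSpectrum B) ↔ CAlg.IsCatenary B := by
  rw [isCatenarySpace_iff, isCatenary_iff_of_isInducing (X := PrimeSpectrum B) id
    Topology.IsInducing.id (stableUnderGeneralization_range_id B)]
  constructor
  · intro h T T' hTT' _
    exact h T T' hTT'
  · intro h T T' hTT'
    obtain ⟨x, hx⟩ := T.isIrreducible.nonempty
    exact h T T' hTT' ⟨x, hx, by rw [Set.range_id]; exact Set.mem_univ _⟩

theorem isCatenary_of_essFiniteType {A B R T : Type u} [CommRing A] [CommRing B] [CommRing R]
    [CommRing T] (φ : A →+* B) (hφ : φ.FiniteType) (q : Ideal B) [q.IsPrime] (p : Ideal A)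
    [p.IsPrime] (hp : q.comap φ = p) [Algebra A R] [IsLocalization.AtPrime R p] [Algebra B T]
    [IsLocalization.AtPrime T q] (hR : CAlg.IsUniversallyCatenary R) : CAlg.IsCatenary T := by
  have hψ : (IsLocalization.map (Localization (Submonoid.map φ p.primeCompl)) φ
      (Submonoid.le_comap_map p.primeCompl) :
      R →+* Localization (Submonoid.map φ p.primeCompl)).FiniteType :=
    RingHom.finiteType_localizationPreserves φ p.primeCompl R
      (Localization (Submonoid.map φ p.primeCompl)) hφ
  have hB' : CAlg.IsCatenary (Localization (Submonoid.map φ p.primeCompl)) := by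
    letI : Algebra R (Localization (Submonoid.map φ p.primeCompl)) :=
      (IsLocalization.map (Localization (Submonoid.map φ p.primeCompl)) φ
        (Submonoid.le_comap_map p.primeCompl) :
        R →+* Localization (Submonoid.map φ p.primeCompl)).toAlgebra
    exact hR.2 (Localization (Submonoid.map φ p.primeCompl)) hψ
  refine isCatenary_of_range_subset (X := PrimeSpectrum B)
    (PrimeSpectrum.comap (algebraMap B (Localization (Submonoid.map φ p.primeCompl))))
    (PrimeSpectrum.localization_comap_isInducing _ (Submonoid.map φ p.primeCompl)) ?_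
    (PrimeSpectrum.comap (algebraMap B T))
    (PrimeSpectrum.localization_comap_isInducing T q.primeCompl) ?_ ?_ hB'
  · rw [PrimeSpectrum.localization_comap_range _ (Submonoid.map φ p.primeCompl)]
    exact stableUnderGeneralization_disjoint _
  · rw [PrimeSpectrum.localization_comap_range T q.primeCompl]
    exact stableUnderGeneralization_disjoint _
  · rw [PrimeSpectrum.localization_comap_range T q.primeCompl,
      PrimeSpectrum.localization_comap_range _ (Submonoid.map φ p.primeCompl)]
    intro P hP
    have hP' : Disjoint (q.primeCompl : Set B) (P.asIdeal : Set B) := hP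
    show Disjoint ((Submonoid.map φ p.primeCompl : Submonoid B) : Set B) (P.asIdeal : Set B)
    refine Set.disjoint_of_subset_left ?_ hP'
    rintro _ ⟨a, ha, rfl⟩
    intro hqa
    apply ha
    rw [← hp]
    exact hqa

theorem isCatenary_of_finiteType_over_localization {A R C : Type u} [CommRing A] [CommRing R]
    [CommRing C] (p : Ideal A) [p.IsPrime] [Algebra A R] [IsLocalization.AtPrime R p]
    [Algebra R C] (hC : Algebra.FiniteType R C)
    (H : ∀ (B' : Type u) [CommRing B'] [Algebra A B'], Algebra.FiniteType A B' →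
      CAlg.IsCatenary B') : CAlg.IsCatenary C := by
  classical
  letI : Algebra A C := ((algebraMap R C).comp (algebraMap A R)).toAlgebra
  have hAC : ∀ a : A, algebraMap A C a = algebraMap R C (algebraMap A R a) := fun a => rfl
  obtain ⟨s, hs⟩ := hC.out
  obtain ⟨B', hB'⟩ : ∃ B' : Subalgebra A C, B' = Algebra.adjoin A (s : Set C) := ⟨_, rfl⟩
  have hB'ft : Algebra.FiniteType A B' := by
    rw [hB']
    exact (Subalgebra.fg_iff_finiteType _).mp (Subalgebra.fg_adjoin_finset s)
  have hB'cat : CAlg.IsCatenary B' := H B' hB'ft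
  have hsB' : ∀ z ∈ s, z ∈ B' := by
    intro z hz
    rw [hB']
    exact Algebra.subset_adjoin hz
  have key : ∀ z : C, ∃ b ∈ B', ∃ a ∈ p.primeCompl, z * algebraMap A C a = b := by
    intro z
    have hz : z ∈ Algebra.adjoin R (s : Set C) := by rw [hs]; exact Algebra.mem_top
    induction hz using Algebra.adjoin_induction with
    | mem x hx => exact ⟨x, hsB' x hx, 1, Submonoid.one_mem _, by rw [map_one, mul_one]⟩
    | algebraMap r =>
      obtain ⟨⟨a₁, a₂⟩, h⟩ := IsLocalization.surj p.primeCompl r
      have h' : r * algebraMap A R (a₂ : A) = algebraMap A R a₁ := h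
      refine ⟨algebraMap A C a₁, B'.algebraMap_mem a₁, a₂, a₂.2, ?_⟩
      rw [hAC, hAC, ← map_mul, h']
    | add x y _ _ hx hy =>
      obtain ⟨b₁, hb₁, a₁, ha₁, e₁⟩ := hx
      obtain ⟨b₂, hb₂, a₂, ha₂, e₂⟩ := hy
      refine ⟨b₁ * algebraMap A C a₂ + b₂ * algebraMap A C a₁,
        B'.add_mem (B'.mul_mem hb₁ (B'.algebraMap_mem a₂))
          (B'.mul_mem hb₂ (B'.algebraMap_mem a₁)),
        a₁ * a₂, Submonoid.mul_mem _ ha₁ ha₂, ?_⟩
      rw [map_mul, ← e₁, ← e₂]
      ring
    | mul x y _ _ hx hy =>
      obtain ⟨b₁, hb₁, a₁, ha₁, e₁⟩ := hx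
      obtain ⟨b₂, hb₂, a₂, ha₂, e₂⟩ := hy
      refine ⟨b₁ * b₂, B'.mul_mem hb₁ hb₂, a₁ * a₂, Submonoid.mul_mem _ ha₁ ha₂, ?_⟩
      rw [map_mul, ← e₁, ← e₂]
      ring
  have : IsLocalization (Algebra.algebraMapSubmonoid B' p.primeCompl) C := by
    rw [isLocalization_iff]
    refine ⟨?_, ?_, ?_⟩
    · rintro ⟨y, a, ha, rfl⟩
      have h1 : IsUnit (algebraMap A R a) := IsLocalization.map_units R (⟨a, ha⟩ : p.primeCompl)
      exact h1.map (algebraMap R C)
    · intro z
      obtain ⟨b, hb, a, ha, e⟩ := key z
      exact ⟨(⟨b, hb⟩, ⟨algebraMap A B' a, ⟨a, ha, rfl⟩⟩), e⟩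
    · intro x y hxy
      exact ⟨1, by rw [Subtype.ext hxy]⟩
  exact isCatenary_of_isLocalization (Algebra.algebraMapSubmonoid B' p.primeCompl) hB'cat

end Groth.Agent.Lib.Helper19.Caten
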