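import Groth.Agent.Lib.Helper19.Unip1
import Mathlib.RingTheory.HopfAlgebra.Convolution
import Mathlib.RingTheory.Bialgebra.Convolution

/-!
# Points of unipotent groups act through unitriangular matrices (helper19)

* `ut_eq_one_of_pow`: an upper unitriangular matrix of finite order prime to the characteristic is `1`.
* `evM g M`: the value of a point `g` on a unitriangular corepresentation matrix; it is
  multiplicative in `g` (`evM_one`, `evM_mul`, `evM_pow`).
-/

set_option autoImplicit false
universe u v

open TensorProduct

namespace Groth.Agent.Lib.Helper19.Unip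

section MatrixLemma

variable {K : Type*} [Field K] {n : ℕ}

lemma ut_pow (U : Matrix (Fin n) (Fin n) K) (hl : ∀ i j, j < i → U i j = 0)
    (hd : ∀ i, U i i = 1) (s : ℕ) :
    (∀ i j, j < i → (U ^ s) i j = 0) ∧ ∀ i, (U ^ s) i i = 1 := by
  induction s with
  | zero =>
    refine ⟨fun i j h => ?_, fun i => ?_⟩
    · rw [pow_zero, Matrix.one_apply_ne (ne_of_gt h)]
    · rw [pow_zero, Matrix.one_apply_eq]
  | succ s ih =>
    obtain ⟨ih1, ih2⟩ := ih
    refine ⟨fun i j h => ?_, fun i => ?_⟩
    · rw [pow_succ, Matrix.mul_apply]
      apply Finset.sum_eq_zero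
      intro l _
      by_cases h1 : l < i
      · rw [ih1 i l h1, zero_mul]
      · rw [hl l j (lt_of_lt_of_le h (not_lt.1 h1)), mul_zero]
    · rw [pow_succ, Matrix.mul_apply, Finset.sum_eq_single i]
      · rw [ih2, hd, one_mul]
      · intro l _ hli
        rcases lt_or_gt_of_ne hli with h1 | h1
        · rw [ih1 i l h1, zero_mul]
        · rw [hl l i h1, mul_zero]
      · intro h
        exact absurd (Finset.mem_univ i) h

/-- an upper unitriangular matrix of finite order invertible in the field is the identity -/
theorem ut_eq_one_of_pow (U : Matrix (Fin n) (Fin n) K) (hl : ∀ i j, j < i → U i j = 0)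
    (hd : ∀ i, U i i = 1) (m : ℕ) (hm : (m : K) ≠ 0) (hU : U ^ m = 1) : U = 1 := by
  have key : ∀ d : ℕ, ∀ i j : Fin n, i < j → (j : ℕ) - i = d → U i j = 0 := by
    intro d
    induction d using Nat.strong_induction_on with
    | _ d ih =>
      intro i j hij hdist
      have hs : ∀ s : ℕ,
          (∀ i' j' : Fin n, i' < j' → (j' : ℕ) - i' < d → (U ^ s) i' j' = 0) ∧
          (∀ i' j' : Fin n, i' < j' → (j' : ℕ) - i' = d → (U ^ s) i' j' = (s : K) * U i' j') := by
        intro s
        induction s with
        | zero =>
          refine ⟨fun i' j' h _ => ?_, fun i' j' h _ => ?_⟩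
          · rw [pow_zero, Matrix.one_apply_ne (ne_of_lt h)]
          · rw [pow_zero, Matrix.one_apply_ne (ne_of_lt h), Nat.cast_zero, zero_mul]
        | succ s ihs =>
          obtain ⟨ihs1, ihs2⟩ := ihs
          obtain ⟨hp1, hp2⟩ := ut_pow U hl hd s
          refine ⟨fun i' j' h hlt => ?_, fun i' j' h heq => ?_⟩
          · rw [pow_succ, Matrix.mul_apply]
            apply Finset.sum_eq_zero
            intro l _
            rcases lt_trichotomy l i' with h1 | h1 | h1
            · rw [hp1 i' l h1, zero_mul]
            · rw [h1, ih _ hlt i' j' h rfl, mul_zero]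
            · rcases lt_trichotomy l j' with h2 | h2 | h2
              · have a1 := Fin.lt_def.1 h1
                have a2 := Fin.lt_def.1 h2
                have : (l : ℕ) - i' < d := by omega
                rw [ihs1 i' l h1 this, zero_mul]
              · rw [h2, ihs1 i' j' h hlt, zero_mul]
              · rw [hl l j' h2, mul_zero]
          · rw [pow_succ, Matrix.mul_apply, Finset.sum_eq_add i' j' (ne_of_lt h)]
            · rw [hp2, hd, ihs2 i' j' h heq]
              push_cast
              ring
            · intro l _ hl'
              rcases lt_trichotomy l i' with h1 | h1 | h1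
              · rw [hp1 i' l h1, zero_mul]
              · exact absurd h1 hl'.1
              · rcases lt_trichotomy l j' with h2 | h2 | h2
                · have a1 := Fin.lt_def.1 h1
                  have a2 := Fin.lt_def.1 h2
                  have : (l : ℕ) - i' < d := by omega
                  rw [ihs1 i' l h1 this, zero_mul]
                · exact absurd h2 hl'.2
                · rw [hl l j' h2, mul_zero]
            · intro h'
              exact absurd (Finset.mem_univ _) h'
            · intro h'
              exact absurd (Finset.mem_univ _) h'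
      have h1 := (hs m).2 i j hij hdist
      rw [hU, Matrix.one_apply_ne (ne_of_lt hij)] at h1
      rcases mul_eq_zero.1 h1.symm with h2 | h2
      · exact absurd h2 hm
      · exact h2
  ext i j
  by_cases hij : i = j
  · subst hij
    rw [hd, Matrix.one_apply_eq]
  · rw [Matrix.one_apply_ne hij]
    rcases lt_or_gt_of_ne hij with h | h
    · exact key _ i j h rfl
    · exact hl i j h

end MatrixLemma

section Points

variable {K : Type u} {A : Type v} [Field K] [CommRing A] [HopfAlgebra K A]

/-- the matrix of values of a point on a corepresentation matrix -/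
def evM (g : WithConv (A →ₐ[K] K)) {n : ℕ} (M : Matrix (Fin n) (Fin n) A) :
    Matrix (Fin n) (Fin n) K := fun i j => g.ofConv (M i j)

lemma evM_apply (g : WithConv (A →ₐ[K] K)) {n : ℕ} (M : Matrix (Fin n) (Fin n) A) (i j : Fin n) :
    evM g M i j = g.ofConv (M i j) := rfl

lemma evM_lower (g : WithConv (A →ₐ[K] K)) {n : ℕ} {M : Matrix (Fin n) (Fin n) A}
    (hM : IsUTMat K M) (i j : Fin n) (h : j < i) : evM g M i j = 0 := by
  rw [evM_apply, hM.lower i j h, map_zero]

lemma evM_diag (g : WithConv (A →ₐ[K] K)) {n : ℕ} {M : Matrix (Fin n) (Fin n) A}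
    (hM : IsUTMat K M) (i : Fin n) : evM g M i i = 1 := by
  rw [evM_apply, hM.diag, map_one]

lemma evM_one {n : ℕ} {M : Matrix (Fin n) (Fin n) A} (hM : IsUTMat K M) :
    evM (1 : WithConv (A →ₐ[K] K)) M = 1 := by
  ext i j
  have h1 : (1 : WithConv (A →ₐ[K] K)).ofConv (M i j) =
      algebraMap K K (Coalgebra.counit (R := K) (M i j)) := rfl
  rw [evM_apply, h1, hM.counit, Matrix.one_apply]
  split_ifs
  · rw [map_one]
  · rw [map_zero]

lemma evM_mul (g h : WithConv (A →ₐ[K] K)) {n : ℕ} {M : Matrix (Fin n) (Fin n) A}
    (hM : IsUTMat K M) : evM (g * h) M = evM g M * evM h M := by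
  ext i j
  rw [Matrix.mul_apply, evM_apply, AlgHom.convMul_apply, hM.comul, map_sum]
  simp only [Algebra.TensorProduct.lift_tmul, evM_apply]

lemma evM_pow (g : WithConv (A →ₐ[K] K)) {n : ℕ} {M : Matrix (Fin n) (Fin n) A}
    (hM : IsUTMat K M) (m : ℕ) : evM (g ^ m) M = (evM g M) ^ m := by
  induction m with
  | zero => rw [pow_zero, pow_zero, evM_one hM]
  | succ m ih => rw [pow_succ, pow_succ, evM_mul _ _ hM, ih]

/-- a point is determined by its values on unitriangular corepresentation matrices -/
lemma eq_of_evM_eq (hut : utSpan K A = ⊤) (g h : WithConv (A →ₐ[K] K))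
    (H : ∀ {n : ℕ} {M : Matrix (Fin n) (Fin n) A}, IsUTMat K M → evM g M = evM h M) : g = h := by
  apply WithConv.ext
  apply AlgHom.toLinearMap_injective
  apply LinearMap.ext_on hut
  rintro _ ⟨n, M, i, j, hM, rfl⟩
  exact congrFun (congrFun (H hM) i) j

end Points

end Groth.Agent.Lib.Helper19.Unip
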