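import Groth.Agent.Lib.Helper19.Unip6

/-!
# Bridge between `LieHopf.Lie` and `ε`-derivations as linear forms (helper19)
-/

set_option autoImplicit false
universe u w

open TensorProduct

namespace Groth.Agent.Lib.Helper19.Unip

open Groth.Agent.Lib.Helper19.Reynolds
open Groth.Agent.Lib.Helper19.Coalg

section Bridge

variable {k : Type u} [Field k] {A : Type u} [CommRing A] [HopfAlgebra k A]

/-- the linear form underlying an element of the Lie algebra -/
noncomputable def lieFun (ξ : LieHopf.Lie k A) : A →ₗ[k] k := ξ.toLinearMap.restrictScalars k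

lemma isEpsDer_lieFun (ξ : LieHopf.Lie k A) : IsEpsDer (lieFun ξ) :=
  fun a b => LieHopf.dlin_mul ξ a b

/-- an `ε`-derivation as an element of the Lie algebra -/
noncomputable def toLie (ξ' : A →ₗ[k] k) (h : IsEpsDer ξ') : LieHopf.Lie k A :=
  Derivation.mk' (ξ' : A →ₗ[k] LieHopf.K k A) (fun a b => by
    show ξ' (a * b) = Coalgebra.counit (R := k) a * ξ' b + Coalgebra.counit (R := k) b * ξ' a
    exact h a b)

lemma lieFun_toLie (ξ' : A →ₗ[k] k) (h : IsEpsDer ξ') : lieFun (toLie ξ' h) = ξ' :=
  LinearMap.ext fun _ => rfl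

variable {R : Type w} [AddCommGroup R] [Module k R]

lemma lTensor_lie_eq_zero_iff (ξ : LieHopf.Lie k A) (t : R ⊗[k] A) :
    LinearMap.lTensor R (ξ.toLinearMap.restrictScalars k) t = 0 ↔ slice (lieFun ξ) t = 0 := by
  constructor
  · intro h
    have h' : LinearMap.lTensor R (lieFun ξ) t = 0 := h
    show (TensorProduct.rid k R) (LinearMap.lTensor R (lieFun ξ) t) = 0
    rw [h', map_zero]
  · intro h
    have h' : (TensorProduct.rid k R) (LinearMap.lTensor R (lieFun ξ) t) = 0 := h
    exact (TensorProduct.rid k R).map_eq_zero_iff.1 h'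

lemma lTensor_lie_mem_range_iff (ξ : LieHopf.Lie k A) (W : Submodule k R) (t : R ⊗[k] A) :
    LinearMap.lTensor R (ξ.toLinearMap.restrictScalars k) t ∈
      LinearMap.range (LinearMap.rTensor (LieHopf.K k A) W.subtype) ↔
      slice (lieFun ξ) t ∈ W := by
  have key : ∀ s : R ⊗[k] k, s ∈ LinearMap.range (LinearMap.rTensor k W.subtype) ↔
      TensorProduct.rid k R s ∈ W := by
    intro s
    constructor
    · rintro ⟨u, rfl⟩
      induction u using TensorProduct.induction_on with
      | zero =>
        rw [map_zero, map_zero]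
        exact W.zero_mem
      | tmul w c =>
        rw [LinearMap.rTensor_tmul, TensorProduct.rid_tmul]
        exact W.smul_mem c w.2
      | add x y hx hy =>
        rw [map_add, map_add]
        exact W.add_mem hx hy
    · intro hs
      refine ⟨(⟨_, hs⟩ : W) ⊗ₜ[k] (1 : k), ?_⟩
      rw [LinearMap.rTensor_tmul]
      show (TensorProduct.rid k R s) ⊗ₜ[k] (1 : k) = s
      rw [← TensorProduct.rid_symm_apply, LinearEquiv.symm_apply_apply]
  exact key (LinearMap.lTensor R (lieFun ξ) t)

variable {R₂ : Type w} [AddCommGroup R₂] [Module k R₂]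

lemma slice_eq_of_lTensor_lie_eq (e : R →ₗ[k] R₂) (ξ : LieHopf.Lie k A) (t₂ : R₂ ⊗[k] A)
    (t₁ : R ⊗[k] A)
    (h : LinearMap.lTensor R₂ (ξ.toLinearMap.restrictScalars k) t₂ =
      LinearMap.rTensor (LieHopf.K k A) e
        (LinearMap.lTensor R (ξ.toLinearMap.restrictScalars k) t₁)) :
    slice (lieFun ξ) t₂ = e (slice (lieFun ξ) t₁) := by
  have h' : LinearMap.lTensor R₂ (lieFun ξ) t₂ =
      LinearMap.rTensor k e (LinearMap.lTensor R (lieFun ξ) t₁) := h
  show TensorProduct.rid k R₂ (LinearMap.lTensor R₂ (lieFun ξ) t₂) =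
    e (TensorProduct.rid k R (LinearMap.lTensor R (lieFun ξ) t₁))
  rw [h']
  generalize LinearMap.lTensor R (lieFun ξ) t₁ = s
  induction s using TensorProduct.induction_on with
  | zero => simp
  | tmul w c => simp
  | add x y hx hy => simp only [map_add, hx, hy]

end Bridge

end Groth.Agent.Lib.Helper19.Unip
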