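import Mathlib
import Groth.Agent.Lib.Helper6.WeilC

/-!
# Minimal central order of Weil numbers: existence of the symmetric polynomial `h` (helper19)
-/

set_option autoImplicit false

noncomputable section

namespace Groth.Agent.Lib.Helper19.WG

open MvPolynomial Groth.Agent.Lib.Helper6.WeilA Groth.Agent.Lib.Helper6.WeilB
  Groth.Agent.Lib.Helper6.WeilC

/-- existence of `h` with `F^D h ≡ P(F)` modulo `F V - q`, from the functional equation -/
theorem exists_h (q : ℤ) (hq : q ≠ 0) (P : Polynomial ℤ) (D : ℕ) (hdeg : P.natDegree = 2 * D)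
    (hmonic : P.Monic)
    (hFE : ∀ j ≤ P.natDegree,
      P.coeff (P.natDegree - j) * q ^ (P.natDegree - j) = P.coeff 0 * P.coeff j) :
    ∃ h : P2, X 0 ^ D * h - Polynomial.aeval (X 0 : P2) P ∈ I0 q := by
  -- the constant coefficient is `± q^D`
  have h0 := hFE 0 (Nat.zero_le _)
  rw [Nat.sub_zero, hmonic.coeff_natDegree, one_mul, hdeg] at h0
  have h0' : (P.coeff 0) ^ 2 = (q ^ D) ^ 2 := by
    rw [sq, ← h0, ← pow_mul, mul_comm]
  obtain ⟨ε, hε⟩ : ∃ ε : ℤ, P.coeff 0 = ε * q ^ D := by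
    rcases sq_eq_sq_iff_eq_or_eq_neg.mp h0' with h1 | h1
    · exact ⟨1, by rw [h1, one_mul]⟩
    · exact ⟨-1, by rw [h1]; ring⟩
  -- low coefficients
  have hcoef : ∀ i, i < D → P.coeff i = ε * q ^ (D - i) * P.coeff (2 * D - i) := by
    intro i hi
    have h1 := hFE (2 * D - i) (by rw [hdeg]; omega)
    rw [hdeg] at h1
    have e1 : 2 * D - (2 * D - i) = i := by omega
    rw [e1, hε] at h1
    have e2 : q ^ D = q ^ i * q ^ (D - i) := by rw [← pow_add]; congr 1; omega
    rw [e2] at h1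
    have h2 : q ^ i * P.coeff i = q ^ i * (ε * q ^ (D - i) * P.coeff (2 * D - i)) := by
      rw [mul_comm (q ^ i) (P.coeff i), h1]; ring
    exact mul_left_cancel₀ (pow_ne_zero i hq) h2
  refine ⟨(∑ j ∈ Finset.range (D + 1), C (P.coeff (D + j)) * X 0 ^ j) +
    ∑ i ∈ Finset.range D, C (ε * P.coeff (2 * D - i)) * X 1 ^ (D - i), ?_⟩
  have hsum : Polynomial.aeval (X 0 : P2) P =
      ∑ j ∈ Finset.range (D + (D + 1)), C (P.coeff j) * X 0 ^ j := by
    rw [Polynomial.aeval_eq_sum_range, hdeg]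
    have : 2 * D + 1 = D + (D + 1) := by ring
    rw [this]
    refine Finset.sum_congr rfl fun j _ => ?_
    rw [MvPolynomial.smul_eq_C_mul]
  have key : ∀ i ∈ Finset.range D, r0 q ∣
      (C (ε * P.coeff (2 * D - i)) * (X 0 ^ D * X 1 ^ (D - i)) - C (P.coeff i) * X 0 ^ i : P2) := by
    intro i hi
    have hi' : i < D := Finset.mem_range.mp hi
    have e2 : (C (ε * P.coeff (2 * D - i)) * (X 0 ^ D * X 1 ^ (D - i)) -
        C (P.coeff i) * X 0 ^ i : P2) =
        C (ε * P.coeff (2 * D - i)) * X 0 ^ i * ((X 0 * X 1) ^ (D - i) - (C q) ^ (D - i)) := by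
      rw [hcoef i hi']
      have : (X 0 : P2) ^ D = X 0 ^ i * X 0 ^ (D - i) := by rw [← pow_add]; congr 1; omega
      rw [this, mul_pow]
      simp only [map_mul, map_pow]
      ring
    rw [e2]
    exact Dvd.dvd.mul_left (sub_dvd_pow_sub_pow _ _ _) _
  have hsum' : Polynomial.aeval (X 0 : P2) P =
      (∑ j ∈ Finset.range D, C (P.coeff j) * X 0 ^ j) +
        ∑ j ∈ Finset.range (D + 1), C (P.coeff (D + j)) * X 0 ^ (D + j) := by
    rw [hsum, Finset.sum_range_add]
  have e1 : (X 0 : P2) ^ D * (∑ j ∈ Finset.range (D + 1), C (P.coeff (D + j)) * X 0 ^ j) =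
      ∑ j ∈ Finset.range (D + 1), C (P.coeff (D + j)) * X 0 ^ (D + j) := by
    rw [Finset.mul_sum]
    exact Finset.sum_congr rfl fun j _ => by rw [pow_add]; ring
  have e2 : (X 0 : P2) ^ D *
      (∑ i ∈ Finset.range D, C (ε * P.coeff (2 * D - i)) * X 1 ^ (D - i)) =
      ∑ i ∈ Finset.range D, C (ε * P.coeff (2 * D - i)) * (X 0 ^ D * X 1 ^ (D - i)) := by
    rw [Finset.mul_sum]
    exact Finset.sum_congr rfl fun i _ => by ring
  have hdiff : X 0 ^ D * ((∑ j ∈ Finset.range (D + 1), C (P.coeff (D + j)) * X 0 ^ j) +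
      ∑ i ∈ Finset.range D, C (ε * P.coeff (2 * D - i)) * X 1 ^ (D - i)) -
      Polynomial.aeval (X 0 : P2) P =
      ∑ i ∈ Finset.range D, (C (ε * P.coeff (2 * D - i)) * (X 0 ^ D * X 1 ^ (D - i)) -
        C (P.coeff i) * X 0 ^ i : P2) := by
    rw [mul_add, e1, e2, hsum', Finset.sum_sub_distrib]
    ring
  rw [hdiff]
  exact Ideal.sum_mem _ fun i hi => Ideal.mem_span_singleton.mpr (key i hi)

end Groth.Agent.Lib.Helper19.WG
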