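import Mathlib
import Groth.Agent.Lib.Helper4.GorRing
import Groth.Agent.Lib.Helper1.KRegIdeal10
import Groth.Agent.Lib.Helper1.SecReg

/-!
# Gorenstein property of the image of `ℤ[F, V]` modulo a regular sequence (helper19)

The image lives in an arbitrary universe `u`, so the presentation is transported to
`MvPolynomial (Fin 2) (ULift.{u} ℤ)`.
-/

set_option autoImplicit false
set_option linter.style.haveILetI false

universe u

noncomputable section

namespace Groth.Agent.Lib.Helper19.WG

/-- quotient of a Gorenstein ring by (the ideal of) a weakly regular sequence -/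
theorem gor_of_surjective_of_wreg {P S : Type u} [CommRing P] [CommRing S]
    (hP : LocCoh.IsGorensteinRing P) (f : P →+* S) (hf : Function.Surjective f) (l : List P)
    (hl : RingTheory.Sequence.IsWeaklyRegular P l) (hker : RingHom.ker f = Ideal.ofList l) :
    LocCoh.IsGorensteinRing S := by
  have h1 : LocCoh.IsGorensteinRing (P ⧸ RingHom.ker f) := by
    rw [hker]
    exact Groth.Agent.Lib.Helper4.GorRing.gorRing_quot_of_isKoszulRegularIdeal hP _
      (Groth.Agent.Lib.Helper1.KRegIdeal.isKoszulRegularIdeal_ofList l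
        (Groth.Agent.Lib.Helper1.SecReg.isKoszulRegularSeq_of_isWeaklyRegular l hl))
  exact Groth.Agent.Lib.Helper4.GorRing.gorRing_of_ringEquiv
    (RingHom.quotientKerEquivOfSurjective hf) h1

/-- weak regularity is transported by ring isomorphisms -/
theorem wreg_map_equiv {A : Type*} {B : Type*} [CommRing A] [CommRing B] (e : A ≃+* B)
    (l : List A) (hl : RingTheory.Sequence.IsWeaklyRegular A l) :
    RingTheory.Sequence.IsWeaklyRegular B (l.map e) := by
  letI : Algebra A B := e.toRingHom.toAlgebra
  have hsm : ∀ (a : A) (b : B), a • b = e a * b := fun a b => rfl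
  haveI : Module.Flat A B := by
    let l' : B ≃ₗ[A] A :=
      { e.symm.toAddEquiv with
        map_smul' := fun a x => by
          show e.symm (a • x) = a * e.symm x
          rw [hsm, map_mul, RingEquiv.symm_apply_apply] }
    exact Module.Flat.of_linearEquiv l'
  exact hl.of_flat (S := B)

/-- `ℤ[F, V]` in universe `u` -/
abbrev Qu := MvPolynomial (Fin 2) (ULift.{u} ℤ)

/-- the comparison isomorphism -/
def eQ : MvPolynomial (Fin 2) ℤ ≃+* Qu.{u} :=
  MvPolynomial.mapEquiv (Fin 2) (ULift.ringEquiv.symm : ℤ ≃+* ULift.{u} ℤ)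

theorem gor_Qu : LocCoh.IsGorensteinRing Qu.{u} := by
  haveI : IsRegularRing (ULift.{u} ℤ) :=
    IsRegularRing.of_ringEquiv (R := ℤ) (ULift.ringEquiv.symm : ℤ ≃+* ULift.{u} ℤ)
  exact Groth.Agent.Lib.Helper4.GorRing.gorRing_of_isRegularRing _

/-- the image of `ℤ[F, V]` under an algebra map whose kernel is generated by a weakly regular
sequence is Gorenstein -/
theorem gor_range {T : Type u} [CommRing T] [Algebra ℤ T]
    (φ : MvPolynomial (Fin 2) ℤ →ₐ[ℤ] T) (l : List (MvPolynomial (Fin 2) ℤ))
    (hl : RingTheory.Sequence.IsWeaklyRegular (MvPolynomial (Fin 2) ℤ) l)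
    (hker : RingHom.ker φ = Ideal.ofList l) : LocCoh.IsGorensteinRing φ.range := by
  let f : Qu.{u} →+* φ.range :=
    (φ.rangeRestrict : MvPolynomial (Fin 2) ℤ →+* φ.range).comp (eQ.{u}.symm : Qu.{u} →+* _)
  have hf : Function.Surjective f := by
    intro y
    obtain ⟨x, hx⟩ := φ.rangeRestrict_surjective y
    exact ⟨eQ.{u} x, by
      show φ.rangeRestrict (eQ.{u}.symm (eQ.{u} x)) = y
      rw [RingEquiv.symm_apply_apply, hx]⟩
  have hkerf : RingHom.ker f = Ideal.ofList (l.map eQ.{u}) := by
    have h1 : RingHom.ker f = (RingHom.ker φ).comap (eQ.{u}.symm : Qu.{u} →+* _) := by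
      ext x
      rw [RingHom.mem_ker, Ideal.mem_comap, RingHom.mem_ker]
      constructor
      · intro h
        exact congrArg Subtype.val h
      · intro h
        exact Subtype.ext h
    rw [h1, hker]
    have h2 : (Ideal.ofList l).comap (eQ.{u}.symm : Qu.{u} →+* _) =
        (Ideal.ofList l).map (eQ.{u} : _ →+* Qu.{u}) := Ideal.comap_symm eQ.{u}
    rw [h2, Ideal.map_ofList]
    rfl
  exact gor_of_surjective_of_wreg gor_Qu f hf (l.map eQ.{u}) (wreg_map_equiv eQ.{u} l hl) hkerf

end Groth.Agent.Lib.Helper19.WG
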