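import Mathlib
import Groth.Agent.Lib.Helper19.WG1
import Groth.Agent.Lib.Helper19.WG2
import Groth.Agent.Lib.Helper12.IntegralDim

/-!
# The minimal central order of a family of Weil numbers: free of rank `2D`, dimension one,
Gorenstein (helper19)
-/

set_option autoImplicit false
set_option linter.style.haveILetI false
set_option maxHeartbeats 1000000

universe u

noncomputable section

namespace Groth.Agent.Lib.Helper19.WG

open MvPolynomial Groth.Agent.Lib.Helper6.WeilA Groth.Agent.Lib.Helper6.WeilB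
  Groth.Agent.Lib.Helper6.WeilC

theorem exists_uniform {M : Type*} [AddCommGroup M] (S L : Submodule ℤ M) (hS : S.FG)
    (h : ∀ x ∈ S, ∃ N : ℤ, N ≠ 0 ∧ N • x ∈ L) : ∃ N : ℤ, N ≠ 0 ∧ ∀ x ∈ S, N • x ∈ L := by
  classical
  obtain ⟨t, ht⟩ := hS
  have h' : ∀ x : M, ∃ N : ℤ, N ≠ 0 ∧ (x ∈ S → N • x ∈ L) := by
    intro x
    by_cases hx : x ∈ S
    · obtain ⟨N, hN, hNx⟩ := h x hx
      exact ⟨N, hN, fun _ => hNx⟩
    · exact ⟨1, one_ne_zero, fun h => absurd h hx⟩
  choose Nf hNf0 hNf using h'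
  refine ⟨∏ x ∈ t, Nf x, Finset.prod_ne_zero_iff.mpr fun x _ => hNf0 x, fun x hx => ?_⟩
  rw [← ht] at hx
  induction hx using Submodule.span_induction with
  | mem y hy =>
    have hyS : y ∈ S := ht ▸ Submodule.subset_span hy
    rw [← Finset.mul_prod_erase t Nf (Finset.mem_coe.mp hy), mul_comm, mul_smul]
    exact L.smul_mem _ (hNf y hyS)
  | zero => rw [smul_zero]; exact L.zero_mem
  | add a b _ _ ha hb => rw [smul_add]; exact L.add_mem ha hb
  | smul a y _ hy => rw [smul_comm]; exact L.smul_mem _ hy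

theorem main985 (p e : ℕ) [Fact p.Prime] (he : 0 < e)
    (ι : Type) [Fintype ι] (K : ι → Type u) [∀ i, Field (K i)] [∀ i, CharZero (K i)] (π : ∀ i, K i)
    (hint : ∀ i, IsIntegral ℤ (π i))
    (hweil : ∀ i, ∀ z ∈ (minpoly ℤ (π i)).aroots ℂ, ‖z‖ = Real.sqrt ((p : ℝ) ^ e))
    (hinj : ∀ i j, minpoly ℤ (π i) = minpoly ℤ (π j) → i = j) [Nonempty ι]
    (D : ℕ) (hD : ∑ i, (minpoly ℤ (π i)).natDegree = 2 * D) :
    Module.Free ℤ (MvPolynomial.aeval ![fun i => π i, fun i => ((p : K i) ^ e) / π i] :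
        MvPolynomial (Fin 2) ℤ →ₐ[ℤ] ((i : ι) → K i)).range ∧
      Module.finrank ℤ (MvPolynomial.aeval ![fun i => π i, fun i => ((p : K i) ^ e) / π i] :
        MvPolynomial (Fin 2) ℤ →ₐ[ℤ] ((i : ι) → K i)).range = 2 * D ∧
      ringKrullDim (MvPolynomial.aeval ![fun i => π i, fun i => ((p : K i) ^ e) / π i] :
        MvPolynomial (Fin 2) ℤ →ₐ[ℤ] ((i : ι) → K i)).range = 1 ∧
      LocCoh.IsGorensteinRing (MvPolynomial.aeval ![fun i => π i, fun i => ((p : K i) ^ e) / π i] :
        MvPolynomial (Fin 2) ℤ →ₐ[ℤ] ((i : ι) → K i)).range := by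
  classical
  obtain ⟨φ, hφ⟩ : ∃ φ : MvPolynomial (Fin 2) ℤ →ₐ[ℤ] ((i : ι) → K i),
      φ = MvPolynomial.aeval ![fun i => π i, fun i => ((p : K i) ^ e) / π i] := ⟨_, rfl⟩
  rw [← hφ]
  obtain ⟨q, hqdef⟩ : ∃ q : ℤ, q = (p : ℤ) ^ e := ⟨_, rfl⟩
  have hqpos : 0 < q := by
    rw [hqdef]
    exact pow_pos (by exact_mod_cast (Fact.out : p.Prime).pos) e
  have hq : q ≠ 0 := hqpos.ne'
  have hcast : ((q:ℤ):ℝ) = (p:ℝ)^e := by rw [hqdef]; simp
  have hweil' : ∀ i, ∀ z ∈ (minpoly ℤ (π i)).aroots ℂ, ‖z‖ = Real.sqrt ((q:ℤ):ℝ) := by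
    intro i z hz
    rw [hweil i z hz, hcast]
  obtain ⟨P, hPdef⟩ : ∃ P, P = Pw π := ⟨_, rfl⟩
  have hmonic : P.Monic := hPdef ▸ Pw_monic π hint
  have hdeg : P.natDegree = 2 * D := by rw [hPdef, Pw_natDegree π hint, hD]
  have hFE := Pw_FE π hint hinj q hqpos hweil'
  rw [← hPdef] at hFE
  have hpi : ∀ i, π i ≠ 0 :=
    pi_ne_zero π hint _ (by rw [hcast.symm]; exact_mod_cast hqpos) hweil
  have hts : ∀ i, π i * (((p : K i) ^ e) / π i) = ((q:ℤ) : K i) := by
    intro i
    rw [mul_div_cancel₀ _ (hpi i), hqdef]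
    push_cast
    rfl
  have hX0 : φ (X 0) = fun i => π i := by
    rw [hφ, aeval_X]
    rfl
  have hX1 : φ (X 1) = fun i => ((p : K i) ^ e) / π i := by
    rw [hφ, aeval_X]
    rfl
  -- the polynomial `h`
  obtain ⟨h, hh'⟩ := exists_h q hq P D hdeg hmonic hFE
  have hh : X 0 ^ D * h - Polynomial.aeval (X 0 : MvPolynomial (Fin 2) ℤ)
      (∏ i, minpoly ℤ (π i)) ∈
      Ideal.span ({X 0 * X 1 - C ((p : ℤ) ^ e)} : Set (MvPolynomial (Fin 2) ℤ)) := by
    rw [← hqdef]
    rw [hPdef] at hh'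
    exact hh'
  obtain ⟨hker0, hwreg⟩ := main984 p e he ι K π hint hweil hinj D hD h hh
  rw [← hφ] at hker0
  -- Gorenstein
  have hGor : LocCoh.IsGorensteinRing φ.range := by
    refine gor_range φ [X 0 * X 1 - C ((p : ℤ) ^ e), h] hwreg ?_
    rw [hker0]
    unfold Ideal.ofList
    congr 1
    ext x
    simp
  -- evaluation in a product
  have hevalF : ∀ (G : Polynomial ℤ) (x : (i : ι) → K i) (i : ι),
      (Polynomial.aeval x G) i = Polynomial.eval₂ (Int.castRingHom (K i)) (x i) G := by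
    intro G x i
    have h1 := Polynomial.hom_eval₂ G (algebraMap ℤ ((i : ι) → K i)) (Pi.evalRingHom K i) x
    have e1 : (Pi.evalRingHom K i).comp (algebraMap ℤ ((i : ι) → K i)) =
        Int.castRingHom (K i) := RingHom.ext_int _ _
    rw [e1] at h1
    rw [Polynomial.aeval_def]
    exact h1
  have hPi : ∀ i, Polynomial.eval₂ (Int.castRingHom (K i)) (π i) P = 0 := by
    intro i
    rw [hPdef]
    exact Pw_root π i
  have hFroot : Polynomial.aeval (fun i => π i : (i : ι) → K i) P = 0 := by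
    funext i
    rw [hevalF, Pi.zero_apply]
    exact hPi i
  have hVroot : Polynomial.aeval (fun i => ((p : K i) ^ e) / π i : (i : ι) → K i) P = 0 := by
    funext i
    rw [hevalF, Pi.zero_apply]
    have h1 := FE_field (L := K i) P q hFE (π i) (((p : K i) ^ e) / π i) (hts i)
    rw [hPi i, mul_zero] at h1
    rcases mul_eq_zero.mp h1 with h3 | h3
    · exact absurd h3 (pow_ne_zero _ (hpi i))
    · exact h3
  -- finiteness
  have hrange : φ.range = Algebra.adjoin ℤ (Set.range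
      ![(fun i => π i : (i : ι) → K i), fun i => ((p : K i) ^ e) / π i]) := by
    rw [hφ]
    exact (Algebra.adjoin_range_eq_range_aeval ℤ _).symm
  have hfg : (Subalgebra.toSubmodule φ.range).FG := by
    rw [hrange]
    refine fg_adjoin_of_finite (Set.finite_range _) ?_
    intro x hx
    rw [Set.mem_range] at hx
    obtain ⟨j, rfl⟩ := hx
    revert j
    rw [Fin.forall_fin_two]
    exact ⟨⟨P, hmonic, by rw [← Polynomial.aeval_def]; exact hFroot⟩,
      ⟨P, hmonic, by rw [← Polynomial.aeval_def]; exact hVroot⟩⟩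
  haveI hfin : Module.Finite ℤ φ.range := Module.Finite.iff_fg.mpr hfg
  -- torsion-freeness
  have hcancel : ∀ (N : ℤ), N ≠ 0 → ∀ a b : (i : ι) → K i, N • a = N • b → a = b := by
    intro N hN a b hab
    funext i
    have h1 := congrFun hab i
    rw [Pi.smul_apply, Pi.smul_apply, zsmul_eq_mul, zsmul_eq_mul] at h1
    exact mul_left_cancel₀ (Int.cast_ne_zero.mpr hN) h1
  haveI htf : Module.IsTorsionFree ℤ φ.range := by
    refine Module.IsTorsionFree.of_smul_eq_zero fun r m hrm => ?_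
    by_cases hr : r = 0
    · exact Or.inl hr
    · right
      have h1 : r • (m : (i : ι) → K i) = r • (0 : (i : ι) → K i) := by
        rw [smul_zero]
        exact congrArg Subtype.val hrm
      exact Subtype.ext (hcancel r hr _ _ h1)
  have hFree : Module.Free ℤ φ.range := inferInstance
  -- the subring `ℤ[F]`
  have hext : ((Algebra.ofId ℤ ((i : ι) → K i) : ℤ →ₐ[ℤ] _) : ℤ →+* ((i : ι) → K i)) =
      algebraMap ℤ ((i : ι) → K i) := RingHom.ext_int _ _
  let ψ : AdjoinRoot P →ₐ[ℤ] ((i : ι) → K i) :=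
    AdjoinRoot.liftAlgHom P (Algebra.ofId ℤ _) (fun i => π i)
      ((Polynomial.eval₂_congr hext rfl rfl).trans hFroot)
  have hψ : ∀ G : Polynomial ℤ, ψ (AdjoinRoot.mk P G) =
      Polynomial.aeval (fun i => π i : (i : ι) → K i) G :=
    fun G => Polynomial.eval₂_congr hext rfl rfl
  have hψinj : Function.Injective ψ := by
    rw [injective_iff_map_eq_zero]
    intro x hx
    obtain ⟨G, rfl⟩ := AdjoinRoot.mk_surjective x
    rw [hψ] at hx
    have hG : ∀ i, Polynomial.eval₂ (Int.castRingHom (K i)) (π i) G = 0 := fun i => by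
      rw [← hevalF G (fun i => π i) i, hx]
      rfl
    have h1 := B2 π hint hinj G hG
    rw [AdjoinRoot.mk_eq_zero, hPdef]
    exact h1
  have hψS : ∀ x, ψ x ∈ φ.range := by
    intro x
    obtain ⟨G, rfl⟩ := AdjoinRoot.mk_surjective x
    rw [hψ]
    refine (AlgHom.mem_range φ).mpr ⟨Polynomial.aeval (X 0 : MvPolynomial (Fin 2) ℤ) G, ?_⟩
    rw [← Polynomial.aeval_algHom_apply, hX0]
  have hAR : Module.finrank ℤ (AdjoinRoot P) = 2 * D := by
    rw [(AdjoinRoot.powerBasis' hmonic).finrank, AdjoinRoot.powerBasis'_dim, hdeg]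
  haveI : Module.Free ℤ (AdjoinRoot P) := hmonic.free_adjoinRoot
  haveI : Module.Finite ℤ (AdjoinRoot P) :=
    Module.Finite.of_basis (AdjoinRoot.powerBasis' hmonic).basis
  let ψ' : AdjoinRoot P →ₗ[ℤ] φ.range :=
    { toFun := fun x => ⟨ψ x, hψS x⟩
      map_add' := fun a b => Subtype.ext (map_add ψ a b)
      map_smul' := fun c a => Subtype.ext (map_smul ψ c a) }
  have hψ'inj : Function.Injective ψ' := fun a b hab => hψinj (congrArg Subtype.val hab)
  have hge : 2 * D ≤ Module.finrank ℤ φ.range :=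
    hAR ▸ LinearMap.finrank_le_finrank_of_injective hψ'inj
  -- `a₀ V ∈ ℤ[F]`
  have ha0 : P.coeff 0 ≠ 0 := by
    intro h0
    have h1 := hFE 0 (Nat.zero_le _)
    rw [Nat.sub_zero, hmonic.coeff_natDegree, one_mul, h0, zero_mul] at h1
    exact pow_ne_zero _ hq h1
  have hv0 : ψ (AdjoinRoot.mk P (- Polynomial.C q * P.divX)) =
      (P.coeff 0) • (fun i => ((p : K i) ^ e) / π i : (i : ι) → K i) := by
    rw [hψ]
    funext i
    rw [hevalF, Pi.smul_apply, zsmul_eq_mul]
    have h1 : Polynomial.eval₂ (Int.castRingHom (K i)) (π i) (P.divX * Polynomial.X +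
        Polynomial.C (P.coeff 0)) = 0 := by
      rw [Polynomial.divX_mul_X_add]
      exact hPi i
    rw [Polynomial.eval₂_add, Polynomial.eval₂_mul, Polynomial.eval₂_X, Polynomial.eval₂_C] at h1
    rw [Polynomial.eval₂_mul, Polynomial.eval₂_neg, Polynomial.eval₂_C]
    have h2 : ((P.coeff 0 : ℤ) : K i) = - (Polynomial.eval₂ (Int.castRingHom (K i)) (π i) P.divX *
        π i) := by
      rw [eq_neg_iff_add_eq_zero, add_comm]
      exact h1
    have h3 : (Int.castRingHom (K i)) q = ((q : ℤ) : K i) := rfl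
    rw [h2, h3, ← hts i]
    field_simp
  have hpt : ∀ g : MvPolynomial (Fin 2) ℤ, ∃ N : ℤ, N ≠ 0 ∧
      N • φ g ∈ LinearMap.range ψ.toLinearMap := by
    intro g
    induction g using MvPolynomial.induction_on with
    | C a =>
      refine ⟨1, one_ne_zero, ⟨algebraMap ℤ _ a, ?_⟩⟩
      rw [one_smul, AlgHom.toLinearMap_apply, AlgHom.commutes]
      exact (φ.commutes a).symm
    | add f g hf hg =>
      obtain ⟨N, hN, x, hx⟩ := hf
      obtain ⟨M, hM, y, hy⟩ := hg
      refine ⟨N * M, mul_ne_zero hN hM, ⟨M • x + N • y, ?_⟩⟩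
      rw [map_add, map_add, map_smul, map_smul, hx, hy, smul_add, mul_smul, mul_smul,
        smul_comm M N (φ f)]
    | mul_X f j hf =>
      obtain ⟨N, hN, x, hx⟩ := hf
      rw [AlgHom.toLinearMap_apply] at hx
      revert j
      rw [Fin.forall_fin_two]
      constructor
      · refine ⟨N, hN, ⟨x * AdjoinRoot.root P, ?_⟩⟩
        rw [AlgHom.toLinearMap_apply, map_mul, hx, map_mul, hX0]
        have h1 : ψ (AdjoinRoot.root P) = (fun i => π i : (i : ι) → K i) :=
          AdjoinRoot.liftAlgHom_root P _ _ _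
        rw [h1, smul_mul_assoc]
      · refine ⟨P.coeff 0 * N, mul_ne_zero ha0 hN,
          ⟨x * AdjoinRoot.mk P (- Polynomial.C q * P.divX), ?_⟩⟩
        rw [AlgHom.toLinearMap_apply, map_mul, hx, hv0, map_mul, hX1]
        simp only [zsmul_eq_mul]
        push_cast
        ring
  obtain ⟨N, hN, hNS⟩ := exists_uniform (Subalgebra.toSubmodule φ.range)
    (LinearMap.range ψ.toLinearMap) hfg (by
      intro x hx
      obtain ⟨g, rfl⟩ := (AlgHom.mem_range φ).mp hx
      exact hpt g)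
  let χ : φ.range →ₗ[ℤ] LinearMap.range ψ.toLinearMap :=
    { toFun := fun x => ⟨N • (x : (i : ι) → K i), hNS x x.2⟩
      map_add' := fun a b => Subtype.ext (smul_add N (a : (i : ι) → K i) b)
      map_smul' := fun c a => Subtype.ext (smul_comm N c (a : (i : ι) → K i)) }
  have hχinj : Function.Injective χ := by
    intro a b hab
    exact Subtype.ext (hcancel N hN _ _ (congrArg Subtype.val hab))
  have hle : Module.finrank ℤ φ.range ≤ 2 * D := by
    have h1 := LinearMap.finrank_le_finrank_of_injective hχinj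
    have h2 : Module.finrank ℤ (LinearMap.range ψ.toLinearMap) = Module.finrank ℤ (AdjoinRoot P) :=
      (LinearEquiv.ofInjective ψ.toLinearMap hψinj).finrank_eq.symm
    rw [h2, hAR] at h1
    exact h1
  -- Krull dimension
  haveI : Algebra.IsIntegral ℤ φ.range := Algebra.IsIntegral.of_finite ℤ _
  have hinjZ : Function.Injective (algebraMap ℤ φ.range) := by
    intro a b hab
    obtain ⟨i₀⟩ := ‹Nonempty ι›
    have h1 := congrFun (congrArg Subtype.val hab) i₀
    have h2 : ∀ n : ℤ, ((algebraMap ℤ φ.range n : φ.range) : (i : ι) → K i) i₀ = (n : K i₀) := by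
      intro n
      rw [Subalgebra.coe_algebraMap, eq_intCast, Pi.intCast_apply]
    rw [h2, h2] at h1
    exact_mod_cast h1
  have hdimZ : ringKrullDim ℤ = 1 := IsPrincipalIdealRing.ringKrullDim_eq_one ℤ Int.not_isField
  have hdim : ringKrullDim φ.range = 1 :=
    le_antisymm (hdimZ ▸ Groth.Agent.Lib.Helper12.ringKrullDim_le_of_isIntegral (R := ℤ))
      (hdimZ ▸ Groth.Agent.Lib.Helper12.ringKrullDim_le_of_isIntegral_of_injective hinjZ)
  exact ⟨hFree, le_antisymm hle hge, hdim, hGor⟩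

end Groth.Agent.Lib.Helper19.WG
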