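import Mathlib
import Groth.Agent.Lib.Helper22.KoszRegQuot

/-!
# A Koszul-regular ideal with three generators (helper19)

The ideal `(r₀, h x, h y)` is Koszul-regular when it is locally one of `(x, y)`, `(r₀, h)`,
`(r₀, h x)`, each generated by a regular sequence.
-/

set_option autoImplicit false
set_option linter.style.haveILetI false
set_option maxHeartbeats 1000000

universe u

noncomputable section

namespace Groth.Agent.Lib.Helper19.WO

open RingTheory.Sequence

theorem span_triple_eq {S : Type*} [CommRing S] (a b c u v : S)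
    (hle : a ∈ Ideal.span {u, v} ∧ b ∈ Ideal.span {u, v} ∧ c ∈ Ideal.span {u, v})
    (hge : u ∈ Ideal.span {a, b, c} ∧ v ∈ Ideal.span {a, b, c}) :
    Ideal.span {a, b, c} = Ideal.ofList [u, v] := by
  have e : Ideal.ofList [u, v] = Ideal.span {u, v} := by
    unfold Ideal.ofList
    congr 1
    ext z
    simp
  rw [e]
  apply le_antisymm
  · rw [Ideal.span_le]
    intro z hz
    simp only [Set.mem_insert_iff, Set.mem_singleton_iff] at hz
    rcases hz with rfl | rfl | rfl
    · exact hle.1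
    · exact hle.2.1
    · exact hle.2.2
  · rw [Ideal.span_le]
    intro z hz
    simp only [Set.mem_insert_iff, Set.mem_singleton_iff] at hz
    rcases hz with rfl | rfl
    · exact hge.1
    · exact hge.2

theorem kreg_three {A : Type u} [CommRing A] [IsNoetherianRing A]
    (r0 h x y F s : A)
    (h1 : IsWeaklyRegular A [r0, h]) (h2 : IsWeaklyRegular A [x, y])
    (h3 : IsWeaklyRegular A [r0, h * x])
    (hr0 : r0 ∈ Ideal.span {x, y}) (hFy : F * y = r0 - s * x)
    (h5 : ∀ 𝔓 : Ideal A, 𝔓.IsPrime → h ∈ 𝔓 → x ∈ 𝔓 → y ∈ 𝔓 → F ∉ 𝔓) :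
    LCI.IsKoszulRegularIdeal (Ideal.span {r0, h * x, h * y}) := by
  apply Groth.Agent.Lib.Helper22.KoszRegQuot.isKoszulRegularIdeal_of_local
  intro 𝔓 h𝔓 hI
  obtain ⟨φ, hφ⟩ : ∃ φ : A →+* Localization.AtPrime 𝔓,
      φ = algebraMap A (Localization.AtPrime 𝔓) := ⟨_, rfl⟩
  have hunit : ∀ a : A, a ∉ 𝔓 → IsUnit (φ a) := by
    intro a ha
    rw [hφ]
    exact IsLocalization.map_units (Localization.AtPrime 𝔓) (⟨a, ha⟩ : 𝔓.primeCompl)
  have hmap : (Ideal.span {r0, h * x, h * y}).map (algebraMap A (Localization.AtPrime 𝔓)) =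
      Ideal.span {φ r0, φ h * φ x, φ h * φ y} := by
    rw [Ideal.map_span, Set.image_insert_eq, Set.image_insert_eq, Set.image_singleton, ← hφ,
      map_mul, map_mul]
  rw [hmap]
  obtain ⟨a, b, hab⟩ := Ideal.mem_span_pair.mp hr0
  have hr0φ : φ a * φ x + φ b * φ y = φ r0 := by rw [← hab, map_add, map_mul, map_mul]
  have hFyφ : φ F * φ y = φ r0 - φ s * φ x := by rw [← map_mul, hFy, map_sub, map_mul]
  have w1 : IsWeaklyRegular (Localization.AtPrime 𝔓) [φ r0, φ h] := by
    rw [hφ]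
    exact h1.of_flat (S := Localization.AtPrime 𝔓)
  have w2 : IsWeaklyRegular (Localization.AtPrime 𝔓) [φ x, φ y] := by
    rw [hφ]
    exact h2.of_flat (S := Localization.AtPrime 𝔓)
  have w3 : IsWeaklyRegular (Localization.AtPrime 𝔓) [φ r0, φ h * φ x] := by
    rw [hφ, ← map_mul]
    exact h3.of_flat (S := Localization.AtPrime 𝔓)
  by_cases hh : h ∈ 𝔓
  · by_cases hx : x ∈ 𝔓
    · by_cases hy : y ∈ 𝔓
      · -- case C
        have hFu := hunit F (h5 𝔓 h𝔓 hh hx hy)
        refine ⟨[φ r0, φ h * φ x], w3, ?_⟩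
        refine span_triple_eq _ _ _ _ _ ⟨?_, ?_, ?_⟩ ⟨?_, ?_⟩
        · exact Ideal.mem_span_pair.mpr ⟨1, 0, by ring⟩
        · exact Ideal.mem_span_pair.mpr ⟨0, 1, by ring⟩
        · refine (Ideal.unit_mul_mem_iff_mem _ hFu).mp ?_
          refine Ideal.mem_span_pair.mpr ⟨φ h, -φ s, ?_⟩
          rw [show φ F * (φ h * φ y) = φ h * (φ F * φ y) by ring, hFyφ]
          ring
        · exact Ideal.subset_span (by simp)
        · exact Ideal.subset_span (by simp)
      · -- case B, `y` a unit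
        refine ⟨[φ r0, φ h], w1, ?_⟩
        refine span_triple_eq _ _ _ _ _ ⟨?_, ?_, ?_⟩ ⟨?_, ?_⟩
        · exact Ideal.mem_span_pair.mpr ⟨1, 0, by ring⟩
        · exact Ideal.mem_span_pair.mpr ⟨0, φ x, by ring⟩
        · exact Ideal.mem_span_pair.mpr ⟨0, φ y, by ring⟩
        · exact Ideal.subset_span (by simp)
        · refine (Ideal.unit_mul_mem_iff_mem _ (hunit y hy)).mp ?_
          have hc : φ y * φ h = φ h * φ y := mul_comm _ _
          rw [hc]
          exact Ideal.subset_span (by simp)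
    · -- case B, `x` a unit
      refine ⟨[φ r0, φ h], w1, ?_⟩
      refine span_triple_eq _ _ _ _ _ ⟨?_, ?_, ?_⟩ ⟨?_, ?_⟩
      · exact Ideal.mem_span_pair.mpr ⟨1, 0, by ring⟩
      · exact Ideal.mem_span_pair.mpr ⟨0, φ x, by ring⟩
      · exact Ideal.mem_span_pair.mpr ⟨0, φ y, by ring⟩
      · exact Ideal.subset_span (by simp)
      · refine (Ideal.unit_mul_mem_iff_mem _ (hunit x hx)).mp ?_
        have hc : φ x * φ h = φ h * φ x := mul_comm _ _
        rw [hc]
        exact Ideal.subset_span (by simp)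
  · -- case A
    refine ⟨[φ x, φ y], w2, ?_⟩
    refine span_triple_eq _ _ _ _ _ ⟨?_, ?_, ?_⟩ ⟨?_, ?_⟩
    · exact Ideal.mem_span_pair.mpr ⟨φ a, φ b, hr0φ⟩
    · exact Ideal.mem_span_pair.mpr ⟨φ h, 0, by ring⟩
    · exact Ideal.mem_span_pair.mpr ⟨0, φ h, by ring⟩
    · refine (Ideal.unit_mul_mem_iff_mem _ (hunit h hh)).mp ?_
      exact Ideal.subset_span (by simp)
    · refine (Ideal.unit_mul_mem_iff_mem _ (hunit h hh)).mp ?_
      exact Ideal.subset_span (by simp)

end Groth.Agent.Lib.Helper19.WO
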