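import Mathlib
import Groth.Agent.Lib.Helper6.WeilC
import Groth.Agent.Lib.Helper6.WeilE

/-!
# The central order of a family of Weil numbers enlarged by a rational Weil number:
polynomial lemmas in `ℤ[F, V]` (helper19)
-/

set_option autoImplicit false
set_option linter.style.haveILetI false
set_option maxHeartbeats 1000000

noncomputable section

namespace Groth.Agent.Lib.Helper19.WO

open MvPolynomial Groth.Agent.Lib.Helper6.PermReg Groth.Agent.Lib.Helper6.GrassA
  Groth.Agent.Lib.Helper6.WeilA Groth.Agent.Lib.Helper6.WeilB Groth.Agent.Lib.Helper6.WeilC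

theorem theta_comp {S S' : Type*} [CommRing S] [CommRing S'] (g : S →+* S') (t s : S) (z : P2) :
    g (theta t s z) = theta (g t) (g s) z := by
  have h := theta_unique (g t) (g s) (g.comp (theta t s))
    (by rw [RingHom.comp_apply, theta_X0]) (by rw [RingHom.comp_apply, theta_X1])
  exact RingHom.congr_fun h z

theorem theta_hom {S : Type*} [CommRing S] (f : P2 →+* S) (z : P2) :
    f z = theta (f (X 0)) (f (X 1)) z :=
  RingHom.congr_fun (theta_unique _ _ f rfl rfl) z

/-- `z ≡ z(s, s)` modulo `(F - s, V - s)` -/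
theorem ev_sub_mem (s : ℤ) (z : P2) :
    z - C (theta (s : ℤ) s z) ∈ Ideal.span {(X 0 : P2) - C s, X 1 - C s} := by
  have hi : ∀ i : Fin 2, theta (s : ℤ) s (X i) = s :=
    Fin.forall_fin_two.mpr ⟨theta_X0 _ _, theta_X1 _ _⟩
  have hmem : ∀ i : Fin 2, (X i : P2) - C s ∈ Ideal.span {(X 0 : P2) - C s, X 1 - C s} :=
    Fin.forall_fin_two.mpr ⟨Ideal.subset_span (by simp), Ideal.subset_span (by simp)⟩
  refine MvPolynomial.induction_on
    (motive := fun z => z - C (theta (s : ℤ) s z) ∈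
      Ideal.span {(X 0 : P2) - C s, X 1 - C s}) z ?_ ?_ ?_
  · intro a
    rw [theta_C, Int.cast_id, sub_self]
    exact Ideal.zero_mem _
  · intro f g hf hg
    have e : f + g - C (theta (s : ℤ) s (f + g)) =
        (f - C (theta (s : ℤ) s f)) + (g - C (theta (s : ℤ) s g)) := by
      rw [map_add, C_add]
      ring
    rw [e]
    exact Ideal.add_mem _ hf hg
  · intro f i hf
    have e : f * X i - C (theta (s : ℤ) s (f * X i)) =
        (f - C (theta (s : ℤ) s f)) * X i + C (theta (s : ℤ) s f) * (X i - C s) := by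
      rw [map_mul, hi, C_mul]
      ring
    rw [e]
    exact Ideal.add_mem _ (Ideal.mul_mem_right _ _ hf) (Ideal.mul_mem_left _ _ (hmem i))

theorem decomp0 (z : P2) : ∃ a b : P2, z = C (theta (0 : ℤ) 0 z) + X 0 * a + X 1 * b := by
  have h := ev_sub_mem 0 z
  obtain ⟨a, b, hab⟩ := Ideal.mem_span_pair.mp h
  refine ⟨a, b, ?_⟩
  have h0 : (C (0 : ℤ) : P2) = 0 := map_zero _
  rw [h0, sub_zero, sub_zero] at hab
  linear_combination (-1 : P2) * hab

/-- `F ↦ s`, `V ↦ X` -/
def sig (s : ℤ) : P2 →+* Polynomial ℤ := theta (Polynomial.C s) Polynomial.X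

theorem sig_mem (s : ℤ) (z : P2) :
    z - Polynomial.aeval (X 1 : P2) (sig s z) ∈ Ideal.span {(X 0 : P2) - C s} := by
  refine MvPolynomial.induction_on
    (motive := fun z => z - Polynomial.aeval (X 1 : P2) (sig s z) ∈
      Ideal.span {(X 0 : P2) - C s}) z ?_ ?_ ?_
  · intro a
    have h1 : sig s (C a) = Polynomial.C a := by
      unfold sig
      rw [theta_C]
      exact (eq_intCast Polynomial.C a).symm
    rw [h1, Polynomial.aeval_C]
    have h2 : algebraMap ℤ P2 a = C a := rfl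
    rw [h2, sub_self]
    exact Ideal.zero_mem _
  · intro p₁ p₂ h₁ h₂
    have e : p₁ + p₂ - Polynomial.aeval (X 1 : P2) (sig s (p₁ + p₂)) =
        (p₁ - Polynomial.aeval (X 1 : P2) (sig s p₁)) +
          (p₂ - Polynomial.aeval (X 1 : P2) (sig s p₂)) := by
      rw [map_add, map_add]
      ring
    rw [e]
    exact Ideal.add_mem _ h₁ h₂
  · intro p₁ j h₁
    by_cases hj : j = 0
    · subst hj
      have h2 : sig s (X 0) = Polynomial.C s := theta_X0 _ _
      have h3 : algebraMap ℤ P2 s = C s := rfl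
      have e : p₁ * X 0 - Polynomial.aeval (X 1 : P2) (sig s (p₁ * X 0)) =
          (p₁ - Polynomial.aeval (X 1 : P2) (sig s p₁)) * X 0 +
            Polynomial.aeval (X 1 : P2) (sig s p₁) * (X 0 - C s) := by
        rw [map_mul, h2, map_mul, Polynomial.aeval_C, h3]
        ring
      rw [e]
      exact Ideal.add_mem _ (Ideal.mul_mem_right _ _ h₁)
        (Ideal.mul_mem_left _ _ (Ideal.mem_span_singleton_self _))
    · have hj1 : j = 1 := Fin.eq_one_of_ne_zero j hj
      subst hj1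
      have h2 : sig s (X 1) = Polynomial.X := theta_X1 _ _
      have e : p₁ * X 1 - Polynomial.aeval (X 1 : P2) (sig s (p₁ * X 1)) =
          (p₁ - Polynomial.aeval (X 1 : P2) (sig s p₁)) * X 1 := by
        rw [map_mul, h2, map_mul, Polynomial.aeval_X]
        ring
      rw [e]
      exact Ideal.mul_mem_right _ _ h₁

theorem wreg_xy (s : ℤ) :
    RingTheory.Sequence.IsWeaklyRegular P2 [(X 0 : P2) - C s, X 1 - C s] := by
  have hx0 : sig s (X 0 - C s) = 0 := by
    unfold sig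
    rw [map_sub, theta_X0, theta_C, eq_intCast Polynomial.C s, sub_self]
  have hy : sig s (X 1 - C s) = Polynomial.X - Polynomial.C s := by
    unfold sig
    rw [map_sub, theta_X1, theta_C, eq_intCast Polynomial.C s]
  have hxne : (X 0 : P2) - C s ≠ 0 := by
    intro h0
    have h1 := congrArg (theta (s + 1 : ℤ) (0 : ℤ)) h0
    rw [map_sub, theta_X0, theta_C, map_zero, Int.cast_id] at h1
    omega
  have hreg : Reg (Ideal.span {(X 0 : P2) - C s}) (X 1 - C s) := by
    intro w hw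
    obtain ⟨g, hg⟩ := Ideal.mem_span_singleton'.mp hw
    have h1 : sig s (X 1 - C s) * sig s w = 0 := by
      rw [← map_mul, ← hg, map_mul, hx0, mul_zero]
    have hyne : (Polynomial.X : Polynomial ℤ) - Polynomial.C s ≠ 0 := Polynomial.X_sub_C_ne_zero s
    have h2 : sig s w = 0 := by
      rcases mul_eq_zero.mp h1 with h | h
      · rw [hy] at h
        exact absurd h hyne
      · exact h
    have h3 := sig_mem s w
    rw [h2, map_zero, sub_zero] at h3
    exact h3
  exact wreg_pair _ _ hxne hreg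

theorem wreg_r0_hx (q s : ℤ) (hq : q ≠ 0) (hs : s * s = q) (h : P2) (hh : h ∉ I0 q) :
    RingTheory.Sequence.IsWeaklyRegular P2 [r0 q, h * (X 0 - C s)] := by
  have hs0 : s ≠ 0 := by
    rintro rfl
    exact hq (by rw [← hs]; ring)
  have hx : (X 0 : P2) - C s ∉ I0 q := by
    intro hmem
    have h1 := theta_I0 q (-s) (-s) (by rw [Int.cast_id, ← hs]; ring) _ hmem
    rw [map_sub, theta_X0, theta_C, Int.cast_id] at h1
    omega
  have hprime := I0_prime q hq
  have hnot : h * (X 0 - C s) ∉ I0 q := by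
    intro hmem
    rcases hprime.mem_or_mem hmem with h1 | h1
    · exact hh h1
    · exact hx h1
  exact wreg_pair _ _ (r0_ne_zero q hq) (Reg_I0_of_notMem q hq hnot)

theorem r0_eq (q s : ℤ) (hs : s * s = q) :
    (X 1 : P2) * (X 0 - C s) + C s * (X 1 - C s) = r0 q := by
  unfold r0
  rw [← hs, C_mul]
  ring

theorem X0y_eq (q s : ℤ) (hs : s * s = q) :
    (X 0 : P2) * (X 1 - C s) = r0 q - C s * (X 0 - C s) := by
  unfold r0
  rw [← hs, C_mul]
  ring

theorem h5_P2 (p : ℕ) (hp : p.Prime) (e : ℕ) (s : ℤ) (hs : s * s = (p : ℤ) ^ e) (h : P2)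
    (hc0 : ¬ (p : ℤ) ∣ theta (0 : ℤ) 0 h) (𝔓 : Ideal P2) (h𝔓 : 𝔓.IsPrime)
    (hh : h ∈ 𝔓) (hx : (X 0 : P2) - C s ∈ 𝔓) (hy : (X 1 : P2) - C s ∈ 𝔓) :
    (X 0 : P2) ∉ 𝔓 := by
  intro hX0
  have hCs : (C s : P2) ∈ 𝔓 := by
    have e1 : (C s : P2) = X 0 - (X 0 - C s) := by ring
    rw [e1]
    exact Ideal.sub_mem _ hX0 hx
  have hX1 : (X 1 : P2) ∈ 𝔓 := by
    have e1 : (X 1 : P2) = (X 1 - C s) + C s := by ring
    rw [e1]
    exact Ideal.add_mem _ hy hCs
  obtain ⟨a, b, hab⟩ := decomp0 h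
  have hc : (C (theta (0 : ℤ) 0 h) : P2) ∈ 𝔓 := by
    have e1 : (C (theta (0 : ℤ) 0 h) : P2) = h - X 0 * a - X 1 * b := by
      linear_combination (-1 : P2) * hab
    rw [e1]
    exact Ideal.sub_mem _ (Ideal.sub_mem _ hh (Ideal.mul_mem_right _ _ hX0))
      (Ideal.mul_mem_right _ _ hX1)
  have hCp : (C (p : ℤ) : P2) ∈ 𝔓 := by
    have h1 : (C (p : ℤ) : P2) ^ e ∈ 𝔓 := by
      rw [← C_pow, ← hs, C_mul]
      exact Ideal.mul_mem_left _ _ hCs
    exact h𝔓.mem_of_pow_mem e h1
  have hcop : IsCoprime (p : ℤ) (theta (0 : ℤ) 0 h) :=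
    (Nat.prime_iff_prime_int.mp hp).irreducible.coprime_iff_not_dvd.mpr hc0
  obtain ⟨u, v, huv⟩ := hcop
  have h1 : (1 : P2) ∈ 𝔓 := by
    have e1 : (1 : P2) = C u * C (p : ℤ) + C v * C (theta (0 : ℤ) 0 h) := by
      rw [← C_mul, ← C_mul, ← C_add, huv, C_1]
    rw [e1]
    exact Ideal.add_mem _ (Ideal.mul_mem_left _ _ hCp) (Ideal.mul_mem_left _ _ hc)
  exact h𝔓.ne_top ((Ideal.eq_top_iff_one _).mpr h1)

end Groth.Agent.Lib.Helper19.WO
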