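import Mathlib
import Groth.Agent.Lib.Helper19.WO2

/-!
# Reduction modulo `p` of `ℤ[F, V]` and middle coefficients of Weil polynomials (helper19)
-/

set_option autoImplicit false
set_option linter.style.haveILetI false
set_option maxHeartbeats 1000000

noncomputable section

namespace Groth.Agent.Lib.Helper19.WO

open MvPolynomial Groth.Agent.Lib.Helper6.PermReg Groth.Agent.Lib.Helper6.GrassA
  Groth.Agent.Lib.Helper6.WeilA Groth.Agent.Lib.Helper6.WeilB Groth.Agent.Lib.Helper6.WeilC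

/-- the coefficients below the middle of a Weil polynomial are divisible by `p` -/
theorem low_coeff_dvd (p e : ℕ) (hp : p.Prime) (he : 0 < e) (m : Polynomial ℤ) (hm : m.Monic)
    (d : ℕ) (hdeg : m.natDegree = 2 * d)
    (hFE : ∀ j ≤ m.natDegree,
      m.coeff (m.natDegree - j) * ((p : ℤ) ^ e) ^ (m.natDegree - j) = m.coeff 0 * m.coeff j)
    (j : ℕ) (hj : j < d) : (p : ℤ) ∣ m.coeff j := by
  obtain ⟨q, hq⟩ : ∃ q : ℤ, q = (p : ℤ) ^ e := ⟨_, rfl⟩
  rw [← hq] at hFE
  have hq0 : q ≠ 0 := by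
    rw [hq]
    exact pow_ne_zero _ (by exact_mod_cast hp.ne_zero)
  have hpq : (p : ℤ) ∣ q := by
    rw [hq]
    exact dvd_pow_self _ he.ne'
  have h0 := hFE 0 (Nat.zero_le _)
  rw [Nat.sub_zero, hm.coeff_natDegree, one_mul, hdeg] at h0
  have h1 := hFE (m.natDegree - j) (Nat.sub_le _ _)
  have e1 : m.natDegree - (m.natDegree - j) = j := by omega
  rw [e1] at h1
  have e2 : q ^ (2 * j) * q ^ (2 * (d - j)) = q ^ (2 * d) := by
    rw [← pow_add]
    congr 1
    omega
  have h2 : q ^ (2 * j) * m.coeff j ^ 2 =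
      q ^ (2 * j) * (q ^ (2 * (d - j)) * m.coeff (m.natDegree - j) ^ 2) := by
    calc q ^ (2 * j) * m.coeff j ^ 2 = (m.coeff j * q ^ j) ^ 2 := by ring
      _ = (m.coeff 0 * m.coeff 0) * m.coeff (m.natDegree - j) ^ 2 := by rw [h1]; ring
      _ = q ^ (2 * d) * m.coeff (m.natDegree - j) ^ 2 := by rw [← h0]
      _ = _ := by rw [← e2]; ring
  have h3 : m.coeff j ^ 2 = q ^ (2 * (d - j)) * m.coeff (m.natDegree - j) ^ 2 :=
    mul_left_cancel₀ (pow_ne_zero _ hq0) h2
  have h5 : (p : ℤ) ∣ m.coeff j ^ 2 := by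
    rw [h3]
    exact Dvd.dvd.mul_right (dvd_pow hpq (by omega)) _
  exact Int.Prime.dvd_pow' hp h5

/-- the middle coefficient of a product of Weil polynomials is, modulo `p`, the product of the
middle coefficients -/
theorem coeff_mid_prod (p e : ℕ) (hp : p.Prime) (he : 0 < e) {ι : Type} [Fintype ι]
    (m : ι → Polynomial ℤ) (hm : ∀ i, (m i).Monic) (d : ι → ℕ)
    (hdeg : ∀ i, (m i).natDegree = 2 * d i)
    (hFE : ∀ i, ∀ j ≤ (m i).natDegree,
      (m i).coeff ((m i).natDegree - j) * ((p : ℤ) ^ e) ^ ((m i).natDegree - j) =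
        (m i).coeff 0 * (m i).coeff j) :
    (((∏ i, m i).coeff (∑ i, d i) : ℤ) : ZMod p) = ∏ i, (((m i).coeff (d i) : ℤ) : ZMod p) := by
  obtain ⟨c, -⟩ : ∃ c : ℤ →+* ZMod p, c = Int.castRingHom (ZMod p) := ⟨_, rfl⟩
  have hv : ∀ i, ∃ v : Polynomial (ZMod p), (m i).map c = Polynomial.X ^ d i * v := by
    intro i
    have h1 : (Polynomial.X : Polynomial (ZMod p)) ^ d i ∣ (m i).map c := by
      rw [Polynomial.X_pow_dvd_iff]
      intro j hj
      rw [Polynomial.coeff_map, eq_intCast c]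
      exact (CharP.intCast_eq_zero_iff (ZMod p) p _).mpr
        (low_coeff_dvd p e hp he (m i) (hm i) (d i) (hdeg i) (hFE i) j hj)
    exact h1
  choose v hv using hv
  have hprod : (∏ i, m i).map c = Polynomial.X ^ (∑ i, d i) * ∏ i, v i := by
    rw [Polynomial.map_prod, Finset.prod_congr rfl (fun i _ => hv i), Finset.prod_mul_distrib,
      Finset.prod_pow_eq_pow_sum]
  have h1 : ((∏ i, m i).map c).coeff (∑ i, d i) = (∏ i, v i).coeff 0 := by
    rw [hprod]
    have h := Polynomial.coeff_X_pow_mul (∏ i, v i) (∑ i, d i) 0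
    rwa [zero_add] at h
  rw [Polynomial.coeff_map, eq_intCast c] at h1
  have h2 : (∏ i, v i).coeff 0 = ∏ i, (v i).coeff 0 := by
    have h := map_prod (Polynomial.constantCoeff : Polynomial (ZMod p) →+* ZMod p) v Finset.univ
    rw [Polynomial.constantCoeff_apply] at h
    rw [h]
    exact Finset.prod_congr rfl (fun i _ => Polynomial.constantCoeff_apply _)
  have h3 : ∀ i, (v i).coeff 0 = (((m i).coeff (d i) : ℤ) : ZMod p) := by
    intro i
    rw [← eq_intCast c, ← Polynomial.coeff_map, hv i]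
    have h := Polynomial.coeff_X_pow_mul (v i) (d i) 0
    rw [zero_add] at h
    exact h.symm
  rw [h1, h2]
  exact Finset.prod_congr rfl (fun i _ => h3 i)

/-- a polynomial without integer roots has no real root of absolute value `|s|` -/
theorem nonreal_of_sq {m : Polynomial ℤ} (hm : ∀ t : ℤ, m.eval t ≠ 0) (s : ℤ) (Q : ℝ)
    (hQ : Q = (s : ℝ) ^ 2) (z : ℂ) (hz : z ∈ m.aroots ℂ) (hn : ‖z‖ = Real.sqrt Q) :
    z.im ≠ 0 := by
  intro him
  obtain ⟨r, rfl⟩ : ∃ r : ℝ, z = (r : ℂ) := ⟨z.re, Complex.ext rfl (by simp [him])⟩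
  rw [Complex.norm_real, Real.norm_eq_abs, hQ, Real.sqrt_sq_eq_abs] at hn
  have hcases : r = (s : ℝ) ∨ r = -(s : ℝ) := abs_eq_abs.mp hn
  have key : ∀ t : ℤ, r = (t : ℝ) → False := by
    rintro t rfl
    rw [Polynomial.mem_aroots] at hz
    have h1 : (((t : ℤ) : ℝ) : ℂ) = algebraMap ℤ ℂ t := by simp
    rw [h1, Polynomial.aeval_algebraMap_apply] at hz
    have h2 : Polynomial.aeval t m = 0 :=
      (algebraMap ℤ ℂ).injective_int (by rw [hz.2, map_zero])
    rw [Polynomial.coe_aeval_eq_eval] at h2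
    exact hm t h2
  rcases hcases with h | h
  · exact key s h
  · exact key (-s) (by rw [h]; push_cast; ring)

/-- `F ↦ X`, `V ↦ 0` modulo `p` -/
def thF (p : ℕ) : P2 →+* Polynomial (ZMod p) := theta Polynomial.X 0

/-- `F ↦ 0`, `V ↦ X` modulo `p` -/
def thV (p : ℕ) : P2 →+* Polynomial (ZMod p) := theta 0 Polynomial.X

theorem intCast_poly_zero (p : ℕ) (a : ℤ) (ha : (p : ℤ) ∣ a) :
    ((a : ℤ) : Polynomial (ZMod p)) = 0 := by
  rw [← map_intCast (Polynomial.C : ZMod p →+* Polynomial (ZMod p)) a,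
    (CharP.intCast_eq_zero_iff (ZMod p) p a).mpr ha, map_zero]

theorem thF_C (p : ℕ) (a : ℤ) : thF p (C a) = Polynomial.C ((a : ℤ) : ZMod p) := by
  unfold thF
  rw [theta_C, map_intCast]

theorem thV_C (p : ℕ) (a : ℤ) : thV p (C a) = Polynomial.C ((a : ℤ) : ZMod p) := by
  unfold thV
  rw [theta_C, map_intCast]

theorem thF_X0 (p : ℕ) : thF p (X 0) = Polynomial.X := theta_X0 _ _
theorem thF_X1 (p : ℕ) : thF p (X 1) = 0 := theta_X1 _ _
theorem thV_X0 (p : ℕ) : thV p (X 0) = 0 := theta_X0 _ _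
theorem thV_X1 (p : ℕ) : thV p (X 1) = Polynomial.X := theta_X1 _ _

theorem thF_I0 (p : ℕ) (q : ℤ) (hq : (p : ℤ) ∣ q) (z : P2) (hz : z ∈ I0 q) : thF p z = 0 := by
  unfold thF
  exact theta_I0 q _ _ (by rw [mul_zero, intCast_poly_zero p q hq]) z hz

theorem thV_I0 (p : ℕ) (q : ℤ) (hq : (p : ℤ) ∣ q) (z : P2) (hz : z ∈ I0 q) : thV p z = 0 := by
  unfold thV
  exact theta_I0 q _ _ (by rw [zero_mul, intCast_poly_zero p q hq]) z hz

theorem eval2_X_eq_map (p : ℕ) (G : Polynomial ℤ) :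
    Polynomial.eval₂ (Int.castRingHom (Polynomial (ZMod p))) Polynomial.X G =
      G.map (Int.castRingHom (ZMod p)) := by
  have e : Int.castRingHom (Polynomial (ZMod p)) =
      (Polynomial.C).comp (Int.castRingHom (ZMod p)) := RingHom.ext_int _ _
  rw [e, ← Polynomial.eval₂_map, Polynomial.eval₂_C_X]

theorem thF_aeval0 (p : ℕ) (G : Polynomial ℤ) :
    thF p (Polynomial.aeval (X 0 : P2) G) = G.map (Int.castRingHom (ZMod p)) := by
  unfold thF
  rw [theta_aeval0, eval2_X_eq_map]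

theorem thV_aeval1 (p : ℕ) (G : Polynomial ℤ) :
    thV p (Polynomial.aeval (X 1 : P2) G) = G.map (Int.castRingHom (ZMod p)) := by
  unfold thV
  rw [theta_aeval1, eval2_X_eq_map]

theorem thF_coeff0 (p : ℕ) (z : P2) :
    (thF p z).coeff 0 = ((theta (0 : ℤ) 0 z : ℤ) : ZMod p) := by
  have h1 := theta_comp (Polynomial.constantCoeff : Polynomial (ZMod p) →+* ZMod p)
    Polynomial.X 0 z
  have h2 := theta_comp (Int.castRingHom (ZMod p)) (0 : ℤ) 0 z
  have e1 : (Polynomial.constantCoeff : Polynomial (ZMod p) →+* ZMod p) Polynomial.X = 0 := by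
    rw [Polynomial.constantCoeff_apply, Polynomial.coeff_X_zero]
  rw [Polynomial.constantCoeff_apply, e1, map_zero] at h1
  rw [map_zero] at h2
  unfold thF
  rw [h1, ← h2]
  rfl

theorem thV_coeff0 (p : ℕ) (z : P2) :
    (thV p z).coeff 0 = ((theta (0 : ℤ) 0 z : ℤ) : ZMod p) := by
  have h1 := theta_comp (Polynomial.constantCoeff : Polynomial (ZMod p) →+* ZMod p)
    0 Polynomial.X z
  have h2 := theta_comp (Int.castRingHom (ZMod p)) (0 : ℤ) 0 z
  have e1 : (Polynomial.constantCoeff : Polynomial (ZMod p) →+* ZMod p) Polynomial.X = 0 := by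
    rw [Polynomial.constantCoeff_apply, Polynomial.coeff_X_zero]
  rw [Polynomial.constantCoeff_apply, e1, map_zero] at h1
  rw [map_zero] at h2
  unfold thV
  rw [h1, ← h2]
  rfl

theorem cancel_aux (p : ℕ) [Fact p.Prime] (u : Polynomial (ZMod p)) (hu : u ≠ 0) (a : ZMod p)
    (hmem : Polynomial.C a * u ∈ Ideal.span {Polynomial.X * u}) : a = 0 := by
  obtain ⟨w, hw⟩ := Ideal.mem_span_singleton'.mp hmem
  have h1 : (w * Polynomial.X - Polynomial.C a) * u = 0 := by
    rw [sub_mul, ← hw]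
    ring
  have h2 : w * Polynomial.X - Polynomial.C a = 0 := by
    rcases mul_eq_zero.mp h1 with h | h
    · exact h
    · exact absurd h hu
  have h3 := congrArg (fun f => Polynomial.coeff f 0) h2
  simp only [Polynomial.coeff_sub, Polynomial.coeff_mul_X_zero, Polynomial.coeff_C_zero,
    Polynomial.coeff_zero] at h3
  rw [zero_sub, neg_eq_zero] at h3
  exact h3

theorem eq_zero_of_natCast_mul {R L : Type*} [CommRing R] [Field L] [CharZero L] (ψ : R →+* L)
    (n : ℕ) (hn : n ≠ 0) (r : R) (hr : (n : R) * r = 0) : ψ r = 0 := by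
  have h := congrArg ψ hr
  rw [map_mul, map_natCast, map_zero] at h
  rcases mul_eq_zero.mp h with h3 | h3
  · exact absurd h3 (Nat.cast_ne_zero.mpr hn)
  · exact h3

end Groth.Agent.Lib.Helper19.WO
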