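import Mathlib
import Groth.Agent.Lib.Helper19.WO1
import Groth.Agent.Lib.Helper19.WO3
import Groth.Agent.Lib.Helper19.WG2
import Groth.Agent.Lib.Helper4.GorLoc

/-!
# Gorenstein criterion for `ℤ[F, V] / (F V - q, h (F - s), h (V - s))` (helper19)
-/

set_option autoImplicit false
set_option linter.style.haveILetI false
set_option maxHeartbeats 1000000

universe u

noncomputable section

namespace Groth.Agent.Lib.Helper19.WO

open MvPolynomial Groth.Agent.Lib.Helper6.PermReg Groth.Agent.Lib.Helper6.GrassA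
  Groth.Agent.Lib.Helper6.WeilA Groth.Agent.Lib.Helper6.WeilB Groth.Agent.Lib.Helper6.WeilC
  Groth.Agent.Lib.Helper19.WG

/-- in a self-injective ring, `Ann u₁ ⊆ Ann u₂` implies `u₂ ∈ (u₁)` -/
theorem exists_mul_eq_of_ann {T : Type u} [CommRing T] [hT : Module.Injective T T] (u₁ u₂ : T)
    (hann : ∀ t : T, t * u₁ = 0 → t * u₂ = 0) : ∃ r : T, u₂ = r * u₁ := by
  have huniq : ∀ t t' : T, t * u₁ = t' * u₁ → t * u₂ = t' * u₂ := by
    intro t t' h
    have h1 := hann (t - t') (by rw [sub_mul, h, sub_self])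
    rwa [sub_mul, sub_eq_zero] at h1
  have key : ∀ x : (Ideal.span {u₁} : Ideal T), ∃ t : T, t * u₁ = x :=
    fun x => Ideal.mem_span_singleton'.mp x.2
  choose tt htt using key
  let g : (Ideal.span {u₁} : Ideal T) →ₗ[T] T :=
    { toFun := fun x => tt x * u₂
      map_add' := fun x y => by
        rw [← add_mul]
        apply huniq
        rw [add_mul, htt, htt, htt]
        rfl
      map_smul' := fun c x => by
        simp only [RingHom.id_apply, smul_eq_mul]
        rw [← mul_assoc]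
        apply huniq
        rw [htt, mul_assoc, htt]
        rfl }
  obtain ⟨g', hg'⟩ := Module.Baer.of_injective hT (Ideal.span {u₁}) g
  have hu : u₁ ∈ (Ideal.span {u₁} : Ideal T) := Ideal.mem_span_singleton_self _
  have h1 : g' u₁ = tt ⟨u₁, hu⟩ * u₂ := hg' u₁ hu
  have h2 : tt ⟨u₁, hu⟩ * u₂ = 1 * u₂ := huniq _ _ (by rw [htt, one_mul])
  have h3 : g' u₁ = u₁ * g' 1 := by
    have h := g'.map_smul u₁ 1
    rw [smul_eq_mul, mul_one] at h
    rw [h, smul_eq_mul]
  refine ⟨g' 1, ?_⟩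
  rw [mul_comm, ← h3, h1, h2, one_mul]

theorem no_inj_aux (p : ℕ) [Fact p.Prime] (q s : ℤ) (hpq : (p : ℤ) ∣ q) (hps : (p : ℤ) ∣ s)
    (h : P2) (hc0 : (p : ℤ) ∣ theta (0 : ℤ) 0 h) (hF : thF p h ≠ 0) (hV : thV p h ≠ 0)
    {T : Type u} [CommRing T] [Module.Injective T T] (ρ : P2 →+* T)
    (hρ : Function.Surjective ρ)
    (hker : ∀ z, ρ z = 0 ↔
      z ∈ Ideal.span {C (p : ℤ), r0 q, h * (X 0 - C s), h * (X 1 - C s)}) : False := by
  obtain ⟨J, hJ⟩ : ∃ J : Ideal P2,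
      J = Ideal.span {C (p : ℤ), r0 q, h * (X 0 - C s), h * (X 1 - C s)} := ⟨_, rfl⟩
  rw [← hJ] at hker
  have hJp : (C (p : ℤ) : P2) ∈ J := by rw [hJ]; exact Ideal.subset_span (by simp)
  have hJr : r0 q ∈ J := by rw [hJ]; exact Ideal.subset_span (by simp)
  have hJx : h * (X 0 - C s) ∈ J := by rw [hJ]; exact Ideal.subset_span (by simp)
  have hJy : h * (X 1 - C s) ∈ J := by rw [hJ]; exact Ideal.subset_span (by simp)
  have hJC : ∀ a : ℤ, (p : ℤ) ∣ a → ∀ w : P2, C a * w ∈ J := by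
    rintro a ⟨a', rfl⟩ w
    rw [C_mul, mul_assoc]
    exact Ideal.mul_mem_right _ _ hJp
  have hp0 : (((p : ℤ) : ℤ) : ZMod p) = 0 :=
    (CharP.intCast_eq_zero_iff (ZMod p) p (p : ℤ)).mpr dvd_rfl
  have hs0 : ((s : ℤ) : ZMod p) = 0 := (CharP.intCast_eq_zero_iff (ZMod p) p s).mpr hps
  have hJF : ∀ z ∈ J, thF p z ∈ Ideal.span {Polynomial.X * thF p h} := by
    intro z hz
    have hle : J ≤ (Ideal.span {Polynomial.X * thF p h}).comap (thF p) := by
      rw [hJ, Ideal.span_le]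
      intro g hg
      simp only [Set.mem_insert_iff, Set.mem_singleton_iff] at hg
      rw [SetLike.mem_coe, Ideal.mem_comap]
      rcases hg with rfl | rfl | rfl | rfl
      · rw [thF_C, hp0, map_zero]
        exact Ideal.zero_mem _
      · rw [thF_I0 p q hpq _ (r0_mem q)]
        exact Ideal.zero_mem _
      · rw [map_mul, map_sub, thF_X0, thF_C, hs0, map_zero, sub_zero, mul_comm]
        exact Ideal.mem_span_singleton_self _
      · rw [map_mul, map_sub, thF_X1, thF_C, hs0, map_zero, sub_zero, mul_zero]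
        exact Ideal.zero_mem _
    exact hle hz
  have hJV : ∀ z ∈ J, thV p z ∈ Ideal.span {Polynomial.X * thV p h} := by
    intro z hz
    have hle : J ≤ (Ideal.span {Polynomial.X * thV p h}).comap (thV p) := by
      rw [hJ, Ideal.span_le]
      intro g hg
      simp only [Set.mem_insert_iff, Set.mem_singleton_iff] at hg
      rw [SetLike.mem_coe, Ideal.mem_comap]
      rcases hg with rfl | rfl | rfl | rfl
      · rw [thV_C, hp0, map_zero]
        exact Ideal.zero_mem _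
      · rw [thV_I0 p q hpq _ (r0_mem q)]
        exact Ideal.zero_mem _
      · rw [map_mul, map_sub, thV_X0, thV_C, hs0, map_zero, sub_zero, mul_zero]
        exact Ideal.zero_mem _
      · rw [map_mul, map_sub, thV_X1, thV_C, hs0, map_zero, sub_zero, mul_comm]
        exact Ideal.mem_span_singleton_self _
    exact hle hz
  obtain ⟨a, b, hab⟩ := decomp0 h
  obtain ⟨c0, hc0def⟩ : ∃ c0 : ℤ, c0 = theta (0 : ℤ) 0 h := ⟨_, rfl⟩
  rw [← hc0def] at hab hc0
  obtain ⟨A, hA⟩ : ∃ A : P2, A = C c0 + X 0 * a := ⟨_, rfl⟩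
  have hhA : h = A + X 1 * b := by rw [hA]; exact hab
  have hX0h : X 0 * h ∈ J := by
    have e1 : X 0 * h = h * (X 0 - C s) + C s * h := by ring
    rw [e1]
    exact Ideal.add_mem _ hJx (hJC s hps h)
  have hX1h : X 1 * h ∈ J := by
    have e1 : X 1 * h = h * (X 1 - C s) + C s * h := by ring
    rw [e1]
    exact Ideal.add_mem _ hJy (hJC s hps h)
  have hX0X1 : ∀ w : P2, X 0 * X 1 * w ∈ J := by
    intro w
    have e1 : X 0 * X 1 * w = r0 q * w + C q * w := by unfold r0; ring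
    rw [e1]
    exact Ideal.add_mem _ (Ideal.mul_mem_right _ _ hJr) (hJC q hpq w)
  have hX0A : X 0 * A ∈ J := by
    have e1 : X 0 * A = X 0 * h - X 0 * X 1 * b := by rw [hhA]; ring
    rw [e1]
    exact Ideal.sub_mem _ hX0h (hX0X1 b)
  have hX1A : X 1 * A ∈ J := by
    have e1 : X 1 * A = C c0 * X 1 + X 0 * X 1 * a := by rw [hA]; ring
    rw [e1]
    exact Ideal.add_mem _ (hJC c0 hc0 _) (hX0X1 a)
  have hρJ : ∀ z ∈ J, ρ z = 0 := fun z hz => (hker z).mpr hz
  have hz_u : ∀ z g : P2, X 0 * g ∈ J → X 1 * g ∈ J →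
      ρ z * ρ g = ρ (C (theta (0 : ℤ) 0 z)) * ρ g := by
    intro z g h0 h1
    obtain ⟨z1, z2, hz⟩ := decomp0 z
    have e1 : z * g = C (theta (0 : ℤ) 0 z) * g + z1 * (X 0 * g) + z2 * (X 1 * g) := by
      calc z * g = (C (theta (0 : ℤ) 0 z) + X 0 * z1 + X 1 * z2) * g := by rw [← hz]
        _ = _ := by ring
    rw [← map_mul, e1, map_add, map_add, map_mul ρ z1, map_mul ρ z2, hρJ _ h0, hρJ _ h1, mul_zero,
      mul_zero, add_zero, add_zero, map_mul]
  have hann : ∀ t : T, t * ρ h = 0 → t * ρ A = 0 := by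
    intro t ht
    obtain ⟨z, rfl⟩ := hρ t
    rw [hz_u z h hX0h hX1h] at ht
    rw [hz_u z A hX0A hX1A]
    obtain ⟨cz, hcz⟩ : ∃ cz : ℤ, cz = theta (0 : ℤ) 0 z := ⟨_, rfl⟩
    rw [← hcz] at ht ⊢
    rw [← map_mul] at ht
    have h1 : C cz * h ∈ J := (hker _).mp ht
    have h2 := hJF _ h1
    rw [map_mul, thF_C] at h2
    have h3 : ((cz : ℤ) : ZMod p) = 0 := cancel_aux p (thF p h) hF _ h2
    have h4 : (p : ℤ) ∣ cz := (CharP.intCast_eq_zero_iff (ZMod p) p cz).mp h3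
    rw [← map_mul]
    exact hρJ _ (hJC cz h4 A)
  obtain ⟨r, hr⟩ := exists_mul_eq_of_ann (ρ h) (ρ A) hann
  obtain ⟨z, rfl⟩ := hρ r
  rw [hz_u z h hX0h hX1h] at hr
  obtain ⟨cz, hcz⟩ : ∃ cz : ℤ, cz = theta (0 : ℤ) 0 z := ⟨_, rfl⟩
  rw [← hcz, ← map_mul] at hr
  have h1 : A - C cz * h ∈ J := by
    apply (hker _).mp
    rw [map_sub, hr, sub_self]
  have h2 := hJV _ h1
  have hVA : thV p A = 0 := by
    rw [hA, map_add, map_mul, thV_X0, zero_mul, add_zero, thV_C,
      (CharP.intCast_eq_zero_iff (ZMod p) p c0).mpr hc0, map_zero]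
  rw [map_sub, hVA, zero_sub, map_mul, thV_C] at h2
  have h3 : Polynomial.C ((cz : ℤ) : ZMod p) * thV p h ∈
      Ideal.span {Polynomial.X * thV p h} := neg_mem_iff.mp h2
  have h4 : ((cz : ℤ) : ZMod p) = 0 := cancel_aux p (thV p h) hV _ h3
  have h5 : (p : ℤ) ∣ cz := (CharP.intCast_eq_zero_iff (ZMod p) p cz).mp h4
  have h6 : A ∈ J := by
    have e1 : A = (A - C cz * h) + C cz * h := by ring
    rw [e1]
    exact Ideal.add_mem _ h1 (hJC cz h5 h)
  have h7 := hJF _ h6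
  have hFA : thF p A = thF p h := by
    have e1 : thF p h = thF p (A + X 1 * b) := congrArg (thF p) hhA
    rw [e1, map_add, map_mul, thF_X1, zero_mul, add_zero]
  rw [hFA] at h7
  have h8 : Polynomial.C (1 : ZMod p) * thF p h ∈ Ideal.span {Polynomial.X * thF p h} := by
    rwa [map_one, one_mul]
  exact one_ne_zero (cancel_aux p (thF p h) hF 1 h8)

/-- the image of `ℤ[F, V]` under an algebra map whose kernel is a Koszul-regular ideal is
Gorenstein -/
theorem gor_range_kreg {T : Type u} [CommRing T] [Algebra ℤ T]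
    (φ : MvPolynomial (Fin 2) ℤ →ₐ[ℤ] T) (I : Ideal (MvPolynomial (Fin 2) ℤ))
    (hK : LCI.IsKoszulRegularIdeal (I.map (eQ.{u} : MvPolynomial (Fin 2) ℤ →+* Qu.{u})))
    (hker : RingHom.ker φ = I) : LocCoh.IsGorensteinRing φ.range := by
  let f : Qu.{u} →+* φ.range :=
    (φ.rangeRestrict : MvPolynomial (Fin 2) ℤ →+* φ.range).comp (eQ.{u}.symm : Qu.{u} →+* _)
  have hf : Function.Surjective f := by
    intro y
    obtain ⟨x, hx⟩ := φ.rangeRestrict_surjective y
    exact ⟨eQ.{u} x, by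
      show φ.rangeRestrict (eQ.{u}.symm (eQ.{u} x)) = y
      rw [RingEquiv.symm_apply_apply, hx]⟩
  have hkerf : RingHom.ker f = I.map (eQ.{u} : _ →+* Qu.{u}) := by
    have h1 : RingHom.ker f = (RingHom.ker φ).comap (eQ.{u}.symm : Qu.{u} →+* _) := by
      ext x
      rw [RingHom.mem_ker, Ideal.mem_comap, RingHom.mem_ker]
      constructor
      · intro h
        exact congrArg Subtype.val h
      · intro h
        exact Subtype.ext h
    rw [h1, hker]
    exact Ideal.comap_symm eQ.{u}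
  have h1 : LocCoh.IsGorensteinRing (Qu.{u} ⧸ RingHom.ker f) := by
    rw [hkerf]
    exact Groth.Agent.Lib.Helper4.GorRing.gorRing_quot_of_isKoszulRegularIdeal gor_Qu _ hK
  exact Groth.Agent.Lib.Helper4.GorRing.gorRing_of_ringEquiv
    (RingHom.quotientKerEquivOfSurjective hf) h1

theorem kreg_Qu (p : ℕ) (hp : p.Prime) (e : ℕ) (q s : ℤ) (hq0 : q ≠ 0) (hss : s * s = q)
    (hqp : q = (p : ℤ) ^ e) (h : P2)
    (hwr : RingTheory.Sequence.IsWeaklyRegular P2 [r0 q, h]) (hnot : h ∉ I0 q)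
    (hc0 : ¬ (p : ℤ) ∣ theta (0 : ℤ) 0 h) :
    LCI.IsKoszulRegularIdeal ((Ideal.span {r0 q, h * (X 0 - C s), h * (X 1 - C s)}).map
      (eQ.{u} : P2 →+* Qu.{u})) := by
  haveI hGQ := gor_Qu.{u}
  have hmap : (Ideal.span {r0 q, h * (X 0 - C s), h * (X 1 - C s)}).map
      (eQ.{u} : P2 →+* Qu.{u}) =
      Ideal.span {eQ.{u} (r0 q), eQ.{u} h * eQ.{u} (X 0 - C s),
        eQ.{u} h * eQ.{u} (X 1 - C s)} := by
    rw [Ideal.map_span, Set.image_insert_eq, Set.image_insert_eq, Set.image_singleton]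
    simp only [RingEquiv.coe_toRingHom, map_mul]
  rw [hmap]
  refine kreg_three (eQ.{u} (r0 q)) (eQ.{u} h) (eQ.{u} (X 0 - C s)) (eQ.{u} (X 1 - C s))
    (eQ.{u} (X 0)) (eQ.{u} (C s)) ?_ ?_ ?_ ?_ ?_ ?_
  · exact wreg_map_equiv eQ.{u} [r0 q, h] hwr
  · exact wreg_map_equiv eQ.{u} _ (wreg_xy s)
  · have h3 := wreg_map_equiv eQ.{u} _ (wreg_r0_hx q s hq0 hss h hnot)
    rw [List.map_cons, List.map_cons, List.map_nil, map_mul] at h3
    exact h3
  · refine Ideal.mem_span_pair.mpr ⟨eQ.{u} (X 1), eQ.{u} (C s), ?_⟩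
    rw [← map_mul, ← map_mul, ← map_add, r0_eq q s hss]
  · rw [← map_mul, ← map_mul, ← map_sub, X0y_eq q s hss]
  · intro 𝔓 h𝔓 hh hx hy hF
    exact h5_P2 p hp e s (hss.trans hqp) h hc0 (𝔓.comap (eQ.{u} : P2 →+* Qu.{u}))
      (Ideal.comap_isPrime _ 𝔓) hh hx hy hF

theorem not_gor (p : ℕ) [Fact p.Prime] (q s : ℤ) (hpq : (p : ℤ) ∣ q) (hps : (p : ℤ) ∣ s)
    (h : P2) (hc0 : (p : ℤ) ∣ theta (0 : ℤ) 0 h) (hF : thF p h ≠ 0) (hV : thV p h ≠ 0)
    {R : Type u} [CommRing R] [instM : Module ℤ R] [hfin : Module.Finite ℤ R] (f : P2 →+* R)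
    (hf : Function.Surjective f)
    (hker : RingHom.ker f = Ideal.span {r0 q, h * (X 0 - C s), h * (X 1 - C s)})
    (hreg : ∀ r : R, (p : R) * r = 0 → r = 0)
    (hG : LocCoh.IsGorensteinRing R) : False := by
  obtain rfl : instM = AddCommGroup.toIntModule R := Subsingleton.elim _ _
  haveI := hG
  have hp : p.Prime := Fact.out
  obtain ⟨𝔞, h𝔞⟩ : ∃ 𝔞 : Ideal R, 𝔞 = Ideal.span {(p : R)} := ⟨_, rfl⟩
  have hsm : IsSMulRegular R (p : R) := by
    intro a b hab
    have hab' : (p : R) * a = (p : R) * b := hab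
    have h1 : (p : R) * (a - b) = 0 := by rw [mul_sub, hab', sub_self]
    exact sub_eq_zero.mp (hreg _ h1)
  have hwr : RingTheory.Sequence.IsWeaklyRegular R [(p : R)] :=
    RingTheory.Sequence.IsWeaklyRegular.cons hsm (RingTheory.Sequence.IsWeaklyRegular.nil R _)
  have hK : LCI.IsKoszulRegularIdeal 𝔞 := by
    have h1 := Groth.Agent.Lib.Helper1.KRegIdeal.isKoszulRegularIdeal_ofList [(p : R)]
      (Groth.Agent.Lib.Helper1.SecReg.isKoszulRegularSeq_of_isWeaklyRegular [(p : R)] hwr)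
    have e1 : Ideal.ofList [(p : R)] = 𝔞 := by
      rw [h𝔞]
      unfold Ideal.ofList
      congr 1
      ext z
      simp
    rwa [e1] at h1
  have hT : LocCoh.IsGorensteinRing (R ⧸ 𝔞) :=
    Groth.Agent.Lib.Helper4.GorRing.gorRing_quot_of_isKoszulRegularIdeal hG 𝔞 hK
  haveI := hT
  haveI : Module.Finite ℤ (R ⧸ 𝔞) :=
    Module.Finite.of_surjective ((Ideal.Quotient.mk 𝔞).toAddMonoidHom.toIntLinearMap)
      Ideal.Quotient.mk_surjective
  have hpT : ((p : ℕ) : R ⧸ 𝔞) = 0 := by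
    have h1 : Ideal.Quotient.mk 𝔞 (p : R) = 0 := by
      rw [Ideal.Quotient.eq_zero_iff_mem, h𝔞]
      exact Ideal.mem_span_singleton_self _
    rwa [map_natCast] at h1
  haveI : Finite (R ⧸ 𝔞) := by
    apply Module.finite_of_fg_torsion (M := R ⧸ 𝔞)
    intro t
    refine ⟨⟨(p : ℤ), mem_nonZeroDivisors_of_ne_zero (by exact_mod_cast hp.ne_zero)⟩, ?_⟩
    rw [Submonoid.smul_def, zsmul_eq_mul, Int.cast_natCast, hpT, zero_mul]
  haveI : IsArtinianRing (R ⧸ 𝔞) := inferInstance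
  have hd : ringKrullDim (R ⧸ 𝔞) ≤ ((0 : ℕ) : WithBot ℕ∞) :=
    Ring.krullDimLE_iff.mp inferInstance
  have hinj1 : CategoryTheory.HasInjectiveDimensionLT (ModuleCat.of (R ⧸ 𝔞) (R ⧸ 𝔞)) 1 :=
    Groth.Agent.Lib.Helper4.LC.hasInjectiveDimensionLT_of_gorenstein hT 0 hd
  haveI : CategoryTheory.Injective (ModuleCat.of (R ⧸ 𝔞) (R ⧸ 𝔞)) :=
    CategoryTheory.injective_iff_hasInjectiveDimensionLT_one.mpr hinj1
  haveI : Module.Injective (R ⧸ 𝔞) (R ⧸ 𝔞) := Module.injective_module_of_injective_object _ _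
  have hfp : f (C (p : ℤ)) = (p : R) := by
    have h1 := eq_intCast (f.comp (C : ℤ →+* P2)) (p : ℤ)
    rw [RingHom.comp_apply, Int.cast_natCast] at h1
    exact h1
  refine no_inj_aux p q s hpq hps h hc0 hF hV ((Ideal.Quotient.mk 𝔞).comp f)
    (Ideal.Quotient.mk_surjective.comp hf) ?_
  intro z
  rw [RingHom.comp_apply, Ideal.Quotient.eq_zero_iff_mem]
  constructor
  · intro hz
    rw [h𝔞] at hz
    obtain ⟨w, hw⟩ := Ideal.mem_span_singleton'.mp hz
    obtain ⟨w', rfl⟩ := hf w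
    have h1 : z - w' * C (p : ℤ) ∈ RingHom.ker f := by
      rw [RingHom.mem_ker, map_sub, map_mul, hfp, hw, sub_self]
    rw [hker] at h1
    have h2 : z = (z - w' * C (p : ℤ)) + w' * C (p : ℤ) := by ring
    rw [h2]
    refine Ideal.add_mem _ ?_ (Ideal.mul_mem_left _ _ (Ideal.subset_span (by simp)))
    refine (Ideal.span_mono ?_) h1
    intro g hg
    simp only [Set.mem_insert_iff, Set.mem_singleton_iff] at hg ⊢
    exact Or.inr hg
  · intro hz
    have hle : Ideal.span {C (p : ℤ), r0 q, h * (X 0 - C s), h * (X 1 - C s)} ≤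
        𝔞.comap f := by
      rw [Ideal.span_le]
      intro g hg
      simp only [Set.mem_insert_iff, Set.mem_singleton_iff] at hg
      rw [SetLike.mem_coe, Ideal.mem_comap]
      rcases hg with rfl | hg
      · rw [hfp, h𝔞]
        exact Ideal.mem_span_singleton_self _
      · have h1 : g ∈ RingHom.ker f := by
          rw [hker]
          refine Ideal.subset_span ?_
          simp only [Set.mem_insert_iff, Set.mem_singleton_iff]
          exact hg
        rw [RingHom.mem_ker.mp h1]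
        exact Ideal.zero_mem _
    exact hle hz

end Groth.Agent.Lib.Helper19.WO
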