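import Mathlib
import Groth.Agent.Lib.Helper19.WO4
import Groth.Agent.Lib.Helper6.WeilE

/-!
# The central order of a family of Weil numbers enlarged by a rational Weil number:
kernel and Gorenstein criterion (helper19)
-/

set_option autoImplicit false
set_option linter.style.haveILetI false
set_option maxHeartbeats 2000000

universe u

open MvPolynomial
open scoped Classical

noncomputable section

namespace Groth.Agent.Lib.Helper19.WO

open Groth.Agent.Lib.Helper6.PermReg Groth.Agent.Lib.Helper6.GrassA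
  Groth.Agent.Lib.Helper6.WeilA Groth.Agent.Lib.Helper6.WeilB Groth.Agent.Lib.Helper6.WeilC
  Groth.Agent.Lib.Helper6.WeilE Groth.Agent.Lib.Helper19.WG

theorem main986 (p e : ℕ) [Fact p.Prime] (he : 0 < e)
    (s : ℤ) (hs : s ^ 2 = (p : ℤ) ^ e)
    (ι : Type) [Fintype ι] (K : ι → Type u) [∀ i, Field (K i)] [∀ i, CharZero (K i)] (π : ∀ i, K i)
    (hint : ∀ i, IsIntegral ℤ (π i)) (hdeg : ∀ i, (minpoly ℤ (π i)).natDegree ≠ 1)
    (hweil : ∀ i, ∀ z ∈ (minpoly ℤ (π i)).aroots ℂ, ‖z‖ = Real.sqrt ((p : ℝ) ^ e))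
    (hinj : ∀ i j, minpoly ℤ (π i) = minpoly ℤ (π j) → i = j)
    (D : ℕ) (hD : ∑ i, (minpoly ℤ (π i)).natDegree = 2 * D)
    (h : MvPolynomial (Fin 2) ℤ)
    (hh : X 0 ^ D * h - Polynomial.aeval (X 0 : MvPolynomial (Fin 2) ℤ) (∏ i, minpoly ℤ (π i)) ∈
      Ideal.span ({X 0 * X 1 - C ((p : ℤ) ^ e)} : Set (MvPolynomial (Fin 2) ℤ))) :
    RingHom.ker (MvPolynomial.aeval ![(⟨fun i => π i, (s : ℚ)⟩ : ((i : ι) → K i) × ℚ), ⟨fun i => ((p : K i) ^ e) / π i, (s : ℚ)⟩] :
        MvPolynomial (Fin 2) ℤ →ₐ[ℤ] (((i : ι) → K i) × ℚ)) =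
        Ideal.span {X 0 * X 1 - C ((p : ℤ) ^ e), h * (X 0 - C s), h * (X 1 - C s)} ∧
      (LocCoh.IsGorensteinRing (MvPolynomial.aeval ![(⟨fun i => π i, (s : ℚ)⟩ : ((i : ι) → K i) × ℚ), ⟨fun i => ((p : K i) ^ e) / π i, (s : ℚ)⟩] :
        MvPolynomial (Fin 2) ℤ →ₐ[ℤ] (((i : ι) → K i) × ℚ)).range ↔
        ∀ i, 2 * Multiset.card (((minpoly ℤ (π i)).aroots (PadicAlgCl p)).filter (fun z => ‖z‖ = 1)) = (minpoly ℤ (π i)).natDegree) := by
  have hp : p.Prime := Fact.out
  obtain ⟨φ, hφ⟩ : ∃ φ : MvPolynomial (Fin 2) ℤ →ₐ[ℤ] (((i : ι) → K i) × ℚ),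
      φ = MvPolynomial.aeval ![(⟨fun i => π i, (s : ℚ)⟩ : ((i : ι) → K i) × ℚ),
        ⟨fun i => ((p : K i) ^ e) / π i, (s : ℚ)⟩] := ⟨_, rfl⟩
  rw [← hφ]
  obtain ⟨φv, hφv⟩ : ∃ φv : MvPolynomial (Fin 2) ℤ →ₐ[ℤ] ((i : ι) → K i),
      φv = MvPolynomial.aeval ![fun i => π i, fun i => ((p : K i) ^ e) / π i] := ⟨_, rfl⟩
  obtain ⟨q, hqdef⟩ : ∃ q : ℤ, q = (p : ℤ) ^ e := ⟨_, rfl⟩
  have hqpos : 0 < q := by
    rw [hqdef]
    exact pow_pos (by exact_mod_cast hp.pos) e
  have hq : q ≠ 0 := hqpos.ne'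
  have hcast : ((q : ℤ) : ℝ) = (p : ℝ) ^ e := by rw [hqdef]; simp
  have hweil' : ∀ i, ∀ z ∈ (minpoly ℤ (π i)).aroots ℂ, ‖z‖ = Real.sqrt ((q : ℤ) : ℝ) := by
    intro i z hz
    rw [hweil i z hz, hcast]
  obtain ⟨P, hPdef⟩ : ∃ P, P = Pw π := ⟨_, rfl⟩
  have hPprod : P = ∏ i, minpoly ℤ (π i) := hPdef
  have hmonic : P.Monic := hPdef ▸ Pw_monic π hint
  have hdegP : P.natDegree = 2 * D := by rw [hPdef, Pw_natDegree π hint, hD]
  have hFE := Pw_FE π hint hinj q hqpos hweil'
  rw [← hPdef] at hFE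
  have hss : s * s = q := by rw [hqdef, ← hs]; ring
  have hpq : (p : ℤ) ∣ q := by
    rw [hqdef]
    exact dvd_pow_self _ he.ne'
  have hps : (p : ℤ) ∣ s := by
    have h1 : (p : ℤ) ∣ s ^ 2 := by
      rw [hs]
      exact dvd_pow_self _ he.ne'
    exact Int.Prime.dvd_pow' hp h1
  have hh' : X 0 ^ D * h - Polynomial.aeval (X 0 : P2) P ∈ I0 q := by
    rw [hPdef, hqdef]
    exact hh
  obtain ⟨hker0, hwreg⟩ := main984 p e he ι K π hint hweil hinj D hD h hh
  rw [← hφv] at hker0
  have hker0' : RingHom.ker φv = Ideal.span {r0 q, h} := by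
    rw [hqdef]
    exact hker0
  have hwreg' : RingTheory.Sequence.IsWeaklyRegular P2 [r0 q, h] := by
    rw [hqdef]
    exact hwreg
  have hnotmem : h ∉ I0 q := h_notMem q P hmonic D h hh'
  have hX0 : φ (X 0) = (⟨fun i => π i, (s : ℚ)⟩ : ((i : ι) → K i) × ℚ) := by
    rw [hφ, aeval_X]
    rfl
  have hX1 : φ (X 1) = (⟨fun i => ((p : K i) ^ e) / π i, (s : ℚ)⟩ : ((i : ι) → K i) × ℚ) := by
    rw [hφ, aeval_X]
    rfl
  have hvX0 : φv (X 0) = fun i => π i := by
    rw [hφv, aeval_X]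
    rfl
  have hvX1 : φv (X 1) = fun i => ((p : K i) ^ e) / π i := by
    rw [hφv, aeval_X]
    rfl
  have hfst : ∀ z, (φ z).1 = φv z := by
    intro z
    have h1 : (φ z).1 = theta ((φ (X 0)).1) ((φ (X 1)).1) z :=
      theta_hom ((RingHom.fst ((i : ι) → K i) ℚ).comp (φ : P2 →+* (((i : ι) → K i) × ℚ))) z
    have h2 : φv z = theta (φv (X 0)) (φv (X 1)) z :=
      theta_hom (φv : P2 →+* ((i : ι) → K i)) z
    rw [h1, h2, hX0, hX1, hvX0, hvX1]
  have hsnd : ∀ z, (φ z).2 = ((theta (s : ℤ) s z : ℤ) : ℚ) := by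
    intro z
    have h1 : (φ z).2 = theta ((φ (X 0)).2) ((φ (X 1)).2) z :=
      theta_hom ((RingHom.snd ((i : ι) → K i) ℚ).comp (φ : P2 →+* (((i : ι) → K i) × ℚ))) z
    have h2 := theta_comp (Int.castRingHom ℚ) s s z
    rw [h1, hX0, hX1]
    exact h2.symm
  have hmem : ∀ z, φ z = 0 ↔ (φv z = 0 ∧ theta (s : ℤ) s z = 0) := by
    intro z
    rw [Prod.ext_iff, hfst, hsnd]
    simp only [Prod.fst_zero, Prod.snd_zero, Int.cast_eq_zero]
  -- no integer roots
  have hroot : ∀ i (t : ℤ), (minpoly ℤ (π i)).eval t ≠ 0 := by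
    intro i t ht
    apply hdeg i
    have hirr := irrQ π hint i
    rw [minpolyQ π hint i] at hirr
    have hr : ((minpoly ℤ (π i)).map (algebraMap ℤ ℚ)).IsRoot ((algebraMap ℤ ℚ) t) := by
      rw [Polynomial.IsRoot.def, Polynomial.eval_map, Polynomial.eval₂_at_apply, ht, map_zero]
    have h1 := Polynomial.degree_eq_one_of_irreducible_of_root hirr hr
    have h2 : ((minpoly ℤ (π i)).map (algebraMap ℤ ℚ)).natDegree = 1 :=
      Polynomial.natDegree_eq_of_degree_eq_some h1
    rwa [(minpoly.monic (hint i)).natDegree_map] at h2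
  have hc : theta (s : ℤ) s h ≠ 0 := by
    intro hc0
    have h1 := theta_I0 q s s (by rw [Int.cast_id]; exact hss) _ hh'
    rw [map_sub, map_mul, hc0, mul_zero, zero_sub, neg_eq_zero, theta_aeval0,
      Int.castRingHom_int, Polynomial.eval₂_id, hPprod, Polynomial.eval_prod] at h1
    obtain ⟨i, -, hi⟩ := Finset.prod_eq_zero_iff.mp h1
    exact hroot i s hi
  -- part (1)
  have hker : RingHom.ker φ = Ideal.span {r0 q, h * (X 0 - C s), h * (X 1 - C s)} := by
    apply le_antisymm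
    · intro z hz
      rw [RingHom.mem_ker] at hz
      have hz' := (hmem z).mp hz
      obtain ⟨hz1, hz2⟩ := hz'
      have hz3 : z ∈ Ideal.span {r0 q, h} := by
        rw [← hker0']
        exact RingHom.mem_ker.mpr hz1
      obtain ⟨a, b, hab⟩ := Ideal.mem_span_pair.mp hz3
      have h1 : theta (s : ℤ) s b = 0 := by
        have h2 := hz2
        rw [← hab, map_add, map_mul, map_mul,
          theta_r0 q s s (by rw [Int.cast_id]; exact hss), mul_zero, zero_add] at h2
        rcases mul_eq_zero.mp h2 with h3 | h3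
        · exact h3
        · exact absurd h3 hc
      have h2 := ev_sub_mem s b
      rw [h1, map_zero, sub_zero] at h2
      obtain ⟨b1, b2, hb⟩ := Ideal.mem_span_pair.mp h2
      have e1 : z = a * r0 q + b1 * (h * (X 0 - C s)) + b2 * (h * (X 1 - C s)) := by
        rw [← hab, ← hb]
        ring
      rw [e1]
      exact Ideal.add_mem _ (Ideal.add_mem _
        (Ideal.mul_mem_left _ _ (Ideal.subset_span (by simp)))
        (Ideal.mul_mem_left _ _ (Ideal.subset_span (by simp))))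
        (Ideal.mul_mem_left _ _ (Ideal.subset_span (by simp)))
    · rw [Ideal.span_le]
      intro g hg
      simp only [Set.mem_insert_iff, Set.mem_singleton_iff] at hg
      rw [SetLike.mem_coe, RingHom.mem_ker]
      apply (hmem g).mpr
      have hφvh : φv h = 0 := by
        have h1 : h ∈ RingHom.ker φv := by
          rw [hker0']
          exact Ideal.subset_span (by simp)
        exact RingHom.mem_ker.mp h1
      have hφvr : φv (r0 q) = 0 := by
        have h1 : r0 q ∈ RingHom.ker φv := by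
          rw [hker0']
          exact Ideal.subset_span (by simp)
        exact RingHom.mem_ker.mp h1
      rcases hg with rfl | rfl | rfl
      · exact ⟨hφvr, theta_r0 q s s (by rw [Int.cast_id]; exact hss)⟩
      · exact ⟨by rw [map_mul, hφvh, zero_mul],
          by rw [map_mul, map_sub, theta_X0, theta_C, Int.cast_id, sub_self, mul_zero]⟩
      · exact ⟨by rw [map_mul, hφvh, zero_mul],
          by rw [map_mul, map_sub, theta_X1, theta_C, Int.cast_id, sub_self, mul_zero]⟩
  have goal1 : RingHom.ker φ =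
      Ideal.span {X 0 * X 1 - C ((p : ℤ) ^ e), h * (X 0 - C s), h * (X 1 - C s)} := by
    rw [← hqdef]
    exact hker
  refine ⟨goal1, ?_⟩
  -- nonreal roots, ordinarity
  have hnr : ∀ i, ∀ z ∈ (minpoly ℤ (π i)).aroots ℂ, z.im ≠ 0 := by
    intro i z hz
    refine nonreal_of_sq (hroot i) s ((p : ℝ) ^ e) ?_ z hz (hweil i z hz)
    have h1 : ((s : ℤ) : ℝ) ^ 2 = (p : ℝ) ^ e := by exact_mod_cast hs
    exact h1.symm
  have hord := main987 p e he ι K π hint hweil hnr
  have hev : ∀ i, (minpoly ℤ (π i)).natDegree = 2 * ((minpoly ℤ (π i)).natDegree / 2) := by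
    intro i
    have hFEi := single_FE (π i) (hint i) q hqpos (hweil' i)
    have heven := even_of_nonreal _ (minpoly.monic (hint i)) q hqpos hFEi (hnr i)
    exact (Nat.two_mul_div_two_of_even heven).symm
  have hsumd : ∑ i, (minpoly ℤ (π i)).natDegree / 2 = D := by
    have h1 : 2 * ∑ i, (minpoly ℤ (π i)).natDegree / 2 = 2 * D := by
      rw [Finset.mul_sum, ← hD]
      exact Finset.sum_congr rfl (fun i _ => (hev i).symm)
    omega
  have hFEi : ∀ i, ∀ j ≤ (minpoly ℤ (π i)).natDegree,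
      (minpoly ℤ (π i)).coeff ((minpoly ℤ (π i)).natDegree - j) *
        ((p : ℤ) ^ e) ^ ((minpoly ℤ (π i)).natDegree - j) =
      (minpoly ℤ (π i)).coeff 0 * (minpoly ℤ (π i)).coeff j := by
    intro i
    have h1 := single_FE (π i) (hint i) q hqpos (hweil' i)
    rw [hqdef] at h1
    exact h1
  have hmidprod := coeff_mid_prod p e hp he (fun i => minpoly ℤ (π i))
    (fun i => minpoly.monic (hint i)) (fun i => (minpoly ℤ (π i)).natDegree / 2) hev hFEi
  rw [hsumd, ← hPprod] at hmidprod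
  have hFeq : Polynomial.X ^ D * thF p h = P.map (Int.castRingHom (ZMod p)) := by
    have h1 := thF_I0 p q hpq _ hh'
    rw [map_sub, map_mul, map_pow, thF_X0, thF_aeval0, sub_eq_zero] at h1
    exact h1
  have hPne : P.map (Int.castRingHom (ZMod p)) ≠ 0 := (hmonic.map _).ne_zero
  have hFne : thF p h ≠ 0 := by
    intro h0
    rw [h0, mul_zero] at hFeq
    exact hPne hFeq.symm
  obtain ⟨ε, hε, hsym⟩ := SYM q hq P D hdegP hmonic hFE h hh'
  have hVeq : Polynomial.X ^ D * thV p h =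
      Polynomial.C ((ε : ℤ) : ZMod p) * P.map (Int.castRingHom (ZMod p)) := by
    have h1 := thV_I0 p q hpq _ hsym
    rw [map_sub, map_mul, map_pow, thV_X1, map_mul, thV_C, thV_aeval1, sub_eq_zero] at h1
    exact h1
  have hVne : thV p h ≠ 0 := by
    intro h0
    rw [h0, mul_zero] at hVeq
    have h1 : Polynomial.C ((ε : ℤ) : ZMod p) *
        (Polynomial.C ((ε : ℤ) : ZMod p) * P.map (Int.castRingHom (ZMod p))) = 0 := by
      rw [← hVeq, mul_zero]
    rw [← mul_assoc, ← map_mul, ← Int.cast_mul, hε, Int.cast_one, map_one, one_mul] at h1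
    exact hPne h1
  have hc0eq : ((theta (0 : ℤ) 0 h : ℤ) : ZMod p) = ((P.coeff D : ℤ) : ZMod p) := by
    have h1 := congrArg (fun f => Polynomial.coeff f D) hFeq
    have h2 := Polynomial.coeff_X_pow_mul (thF p h) D 0
    rw [zero_add] at h2
    change (Polynomial.X ^ D * thF p h).coeff D = (P.map (Int.castRingHom (ZMod p))).coeff D at h1
    rw [h2, thF_coeff0, Polynomial.coeff_map] at h1
    rw [h1]
    rfl
  have hmid : ((p : ℤ) ∣ ∏ i, (minpoly ℤ (π i)).coeff ((minpoly ℤ (π i)).natDegree / 2)) ↔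
      (p : ℤ) ∣ theta (0 : ℤ) 0 h := by
    rw [← CharP.intCast_eq_zero_iff (ZMod p) p, ← CharP.intCast_eq_zero_iff (ZMod p) p, hc0eq,
      hmidprod, Int.cast_prod]
  -- kernel of the range restriction
  have hkerf : RingHom.ker (φ.rangeRestrict : P2 →+* φ.range) =
      Ideal.span {r0 q, h * (X 0 - C s), h * (X 1 - C s)} := by
    rw [← hker]
    ext x
    rw [RingHom.mem_ker, RingHom.mem_ker]
    constructor
    · intro hx
      exact congrArg Subtype.val hx
    · intro hx
      exact Subtype.ext hx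
  constructor
  · intro hG
    apply hord.mpr
    rw [hmid]
    intro hc0
    -- finiteness
    have hI0le : I0 q ≤ Ideal.span {r0 q, h * (X 0 - C s), h * (X 1 - C s)} := by
      unfold I0
      rw [Ideal.span_le]
      intro g hg
      rw [Set.mem_singleton_iff] at hg
      rw [hg]
      exact Ideal.subset_span (by simp)
    obtain ⟨M, hMdef⟩ : ∃ M : Polynomial ℤ, M = P * (Polynomial.X - Polynomial.C s) :=
      ⟨_, rfl⟩
    have hMmonic : M.Monic := by
      rw [hMdef]
      exact hmonic.mul (Polynomial.monic_X_sub_C s)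
    have hCs : algebraMap ℤ P2 s = C s := rfl
    have hM0 : Polynomial.aeval (X 0 : P2) M ∈ RingHom.ker φ := by
      rw [hker, hMdef, map_mul, map_sub, Polynomial.aeval_X, Polynomial.aeval_C, hCs]
      have e1 : Polynomial.aeval (X 0 : P2) P * (X 0 - C s) =
          X 0 ^ D * (h * (X 0 - C s)) -
            (X 0 ^ D * h - Polynomial.aeval (X 0 : P2) P) * (X 0 - C s) := by
        ring
      rw [e1]
      exact Ideal.sub_mem _ (Ideal.mul_mem_left _ _ (Ideal.subset_span (by simp)))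
        (Ideal.mul_mem_right _ _ (hI0le hh'))
    have hM1 : Polynomial.aeval (X 1 : P2) M ∈ RingHom.ker φ := by
      rw [hker, hMdef, map_mul, map_sub, Polynomial.aeval_X, Polynomial.aeval_C, hCs]
      have hε2 : (C ε : P2) * C ε = 1 := by rw [← C_mul, hε, C_1]
      have e1 : Polynomial.aeval (X 1 : P2) P * (X 1 - C s) =
          C ε * (X 1 ^ D * (h * (X 1 - C s)) -
            (X 1 ^ D * h - C ε * Polynomial.aeval (X 1 : P2) P) * (X 1 - C s)) := by
        linear_combination (-(Polynomial.aeval (X 1 : P2) P * (X 1 - C s))) * hε2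
      rw [e1]
      exact Ideal.mul_mem_left _ _ (Ideal.sub_mem _
        (Ideal.mul_mem_left _ _ (Ideal.subset_span (by simp)))
        (Ideal.mul_mem_right _ _ (hI0le hsym)))
    have hintX : ∀ j : Fin 2, IsIntegral ℤ (φ (X j)) := by
      rw [Fin.forall_fin_two]
      refine ⟨⟨M, hMmonic, ?_⟩, ⟨M, hMmonic, ?_⟩⟩
      · rw [← Polynomial.aeval_def, Polynomial.aeval_algHom_apply]
        exact RingHom.mem_ker.mp hM0
      · rw [← Polynomial.aeval_def, Polynomial.aeval_algHom_apply]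
        exact RingHom.mem_ker.mp hM1
    have hrange : φ.range = Algebra.adjoin ℤ (Set.range
        ![(⟨fun i => π i, (s : ℚ)⟩ : ((i : ι) → K i) × ℚ),
          ⟨fun i => ((p : K i) ^ e) / π i, (s : ℚ)⟩]) := by
      rw [hφ]
      exact (Algebra.adjoin_range_eq_range_aeval ℤ _).symm
    have hfg : (Subalgebra.toSubmodule φ.range).FG := by
      rw [hrange]
      refine fg_adjoin_of_finite (Set.finite_range _) ?_
      intro x hx
      rw [Set.mem_range] at hx
      obtain ⟨j, rfl⟩ := hx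
      have h1 := hintX j
      rw [hφ, aeval_X] at h1
      exact h1
    haveI hfin : Module.Finite ℤ φ.range := Module.Finite.iff_fg.mpr hfg
    have hreg : ∀ r : φ.range, ((p : ℕ) : φ.range) * r = 0 → r = 0 := by
      intro r hr
      apply Subtype.ext
      apply Prod.ext
      · funext i
        exact eq_zero_of_natCast_mul ((Pi.evalRingHom K i).comp
          ((RingHom.fst ((i : ι) → K i) ℚ).comp
            (φ.range.val : φ.range →+* (((i : ι) → K i) × ℚ)))) p hp.ne_zero r hr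
      · exact eq_zero_of_natCast_mul ((RingHom.snd ((i : ι) → K i) ℚ).comp
          (φ.range.val : φ.range →+* (((i : ι) → K i) × ℚ))) p hp.ne_zero r hr
    exact not_gor p q s hpq hps h hc0 hFne hVne (φ.rangeRestrict : P2 →+* φ.range)
      φ.rangeRestrict_surjective hkerf hreg hG
  · intro hO
    have hO' := hord.mp hO
    rw [hmid] at hO'
    exact gor_range_kreg φ _ (kreg_Qu p hp e q s hq hss hqdef h hwreg' hnotmem hO') hker

end Groth.Agent.Lib.Helper19.WO
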