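import Groth.Agent.Lib.Helper19.GalEtB

/-!
# Non-flatness over the invariants for a finite group action ramified precisely at the closed point

Let `A` be a Noetherian local domain of dimension `≥ 2` with an action of a nontrivial finite group
`G` which is trivial on the residue field and has trivial inertia at every non-maximal prime, and let
`C` be the ring of invariants.  Then `A` is not flat over `C`: otherwise `A` would be finite free
over `C` of rank `|G|` and the determinant of the matrix `(g • b_i)` would be a non-unit that lies in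
no non-maximal prime, contradicting Krull's principal ideal theorem.
-/

set_option autoImplicit false

open scoped TensorProduct Pointwise
open Module

namespace Groth.Agent.Lib.Helper19.Wild

open Groth.Agent.Lib.Helper19.GalEt

universe u v w

section Datum

variable {B : Type u} {R : Type v} {G : Type w} [CommRing B] [CommRing R] [Algebra B R]
  [Group G] [MulSemiringAction G R] [SMulCommClass G B R]

theorem not_J_le_of_inertia (Q : Ideal R) (hin : Q.inertia G = ⊥) (g : G) (hg : g ≠ 1) (h : G) :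
    ¬ (J B g ≤ h • Q) := by
  intro hle
  have key : ∀ y : R, (h⁻¹ * g * h) • y - y ∈ Q := by
    intro y
    have h1 : h • y - g • h • y ∈ h • Q := hle (sub_smul_mem_J B g (h • y))
    rw [Ideal.mem_pointwise_smul_iff_inv_smul_mem] at h1
    have h2 : h⁻¹ • (h • y - g • h • y) = y - (h⁻¹ * g * h) • y := by
      rw [smul_sub, inv_smul_smul, mul_smul, mul_smul]
    rw [h2] at h1
    have h3 := Q.neg_mem h1
    rwa [neg_sub] at h3
  have h1 : h⁻¹ * g * h ∈ Q.inertia G := AddSubgroup.mem_inertia.mpr (fun x => key x)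
  rw [hin, Subgroup.mem_bot] at h1
  apply hg
  calc g = h * (h⁻¹ * g * h) * h⁻¹ := by group
    _ = 1 := by rw [h1]; group

theorem datum_symm {K : ℕ} {x y : Fin K → R}
    (heg : ∀ g : G, g ≠ 1 → ∑ i, x i * g • y i = 0) (g : G) (hg : g ≠ 1) :
    ∑ i, y i * g • x i = 0 := by
  have h1 : g⁻¹ ≠ 1 := fun h => hg (inv_eq_one.mp h)
  have h2 := congrArg (fun r => g • r) (heg g⁻¹ h1)
  simp only [smul_zero, Finset.smul_sum, smul_mul', smul_inv_smul] at h2
  calc ∑ i, y i * g • x i = ∑ i, g • x i * y i :=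
        Finset.sum_congr rfl fun i _ => mul_comm _ _
    _ = 0 := h2

section Exist

variable [Finite G] [Algebra.IsInvariant B R G]

theorem exists_f_of_inertia (Q : Ideal R) [Q.IsPrime] (hin : Q.inertia G = ⊥) (g : G)
    (hg : g ≠ 1) :
    ∃ (f : B) (e : R ⊗[B] R), algebraMap B R f ∉ Q ∧ phi (1 : G) e = algebraMap B R f ∧
      phi g e = 0 := by
  haveI : Algebra.IsIntegral B R := Algebra.IsInvariant.isIntegral B R G
  have hnle : ¬ (Ideal.comap (algebraMap B R) (J B g) ≤ Ideal.comap (algebraMap B R) Q) := by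
    intro hle
    obtain ⟨Q', hQJ, hQp, hQm⟩ := Ideal.exists_ideal_over_prime_of_isIntegral
      (Ideal.comap (algebraMap B R) Q) (J B g) hle
    haveI := hQp
    obtain ⟨h, hh⟩ := Algebra.IsInvariant.exists_smul_of_under_eq B R G Q Q'
      (by rw [Ideal.under_def, Ideal.under_def, hQm])
    exact not_J_le_of_inertia Q hin g hg h (hh ▸ hQJ)
  obtain ⟨f, hfJ, hfm⟩ := SetLike.not_le_iff_exists.mp hnle
  obtain ⟨e, heg, he1⟩ := (mem_J B).mp (Ideal.mem_comap.mp hfJ)
  exact ⟨f, e, fun h => hfm (Ideal.mem_comap.mpr h), he1, heg⟩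

theorem exists_datum_of_inertia (Q : Ideal R) [Q.IsPrime] (hin : Q.inertia G = ⊥) :
    ∃ (f : B) (K : ℕ) (x y : Fin K → R), algebraMap B R f ∉ Q ∧
      ∑ i, x i * y i = algebraMap B R f ∧ ∀ g : G, g ≠ 1 → ∑ i, x i * g • y i = 0 := by
  classical
  cases nonempty_fintype G
  have h : ∀ g : G, ∃ fe : B × (R ⊗[B] R), algebraMap B R fe.1 ∉ Q ∧
      phi (1 : G) fe.2 = algebraMap B R fe.1 ∧ (g ≠ 1 → phi g fe.2 = 0) := by
    intro g
    by_cases hg : g = 1
    · refine ⟨(1, 1), ?_, ?_, fun h => absurd hg h⟩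
      · rw [map_one]
        exact (Ideal.ne_top_iff_one Q).mp (Ideal.IsPrime.ne_top inferInstance)
      · rw [map_one, map_one]
    · obtain ⟨f, e, h1, h2, h3⟩ := exists_f_of_inertia (B := B) Q hin g hg
      exact ⟨(f, e), h1, h2, fun _ => h3⟩
  choose fe h1 h2 h3 using h
  obtain ⟨K, x, y, hxy⟩ := exists_fin_sum (∏ g, (fe g).2)
  refine ⟨∏ g, (fe g).1, K, x, y, ?_, ?_, ?_⟩
  · rw [map_prod]
    intro hmem
    obtain ⟨g, -, hg⟩ := Ideal.IsPrime.prod_mem_iff.mp hmem
    exact h1 g hg
  · have h0 : phi (1 : G) (∏ g, (fe g).2) = algebraMap B R (∏ g, (fe g).1) := by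
      rw [map_prod, map_prod]
      exact Finset.prod_congr rfl fun g _ => h2 g
    rw [hxy, map_sum] at h0
    simpa using h0
  · intro g hg
    have h0 : phi g (∏ g, (fe g).2) = 0 := by
      rw [map_prod]
      exact Finset.prod_eq_zero (Finset.mem_univ g) (h3 g hg)
    rw [hxy, map_sum] at h0
    simpa using h0

end Exist

section Matrices

variable [Fintype G] [DecidableEq G] {ι : Type*} [Fintype ι] [DecidableEq ι]

/-- The matrix `(g • b i)`. -/
noncomputable def matM (b : Basis ι B R) : Matrix G ι R := Matrix.of fun g i => g • b i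

/-- The matrix `(h • w i)`, where `w i = ∑ j, (b.repr (y j) i) • x j`. -/
noncomputable def matW (b : Basis ι B R) {K : ℕ} (x y : Fin K → R) : Matrix ι G R :=
  Matrix.of fun i h => h • ∑ j, (b.repr (y j) i) • x j

theorem mw_apply (b : Basis ι B R) {f : B} {K : ℕ} {x y : Fin K → R}
    (he1 : ∑ i, x i * y i = algebraMap B R f)
    (heg : ∀ g : G, g ≠ 1 → ∑ i, x i * g • y i = 0) (g h : G) :
    ∑ i, (g • b i) * (h • ∑ j, (b.repr (y j) i) • x j)
      = if g = h then algebraMap B R f else 0 := by
  have hA1 : ∀ j, ∑ i, (b.repr (y j) i) • (g • b i) = g • y j := by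
    intro j
    conv_rhs => rw [← b.sum_repr (y j)]
    rw [Finset.smul_sum]
    exact Finset.sum_congr rfl fun i _ => (smul_comm g _ _).symm
  have hA2 : ∑ j, (h • x j) * (g • y j) = if g = h then algebraMap B R f else 0 := by
    have h1 : ∑ j, (h • x j) * (g • y j) = h • ∑ j, x j * ((h⁻¹ * g) • y j) := by
      rw [Finset.smul_sum]
      refine Finset.sum_congr rfl fun j _ => ?_
      rw [smul_mul', mul_smul, smul_inv_smul]
    rw [h1]
    by_cases hgh : g = h
    · subst hgh
      rw [if_pos rfl, inv_mul_cancel]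
      simp only [one_smul]
      rw [he1, smul_algebraMap]
    · have hne : h⁻¹ * g ≠ 1 := fun h0 => hgh (inv_mul_eq_one.mp h0).symm
      rw [if_neg hgh, heg _ hne, smul_zero]
  rw [← hA2]
  calc ∑ i, (g • b i) * (h • ∑ j, (b.repr (y j) i) • x j)
      = ∑ i, ∑ j, (h • x j) * ((b.repr (y j) i) • (g • b i)) := by
        refine Finset.sum_congr rfl fun i _ => ?_
        rw [Finset.smul_sum, Finset.mul_sum]
        refine Finset.sum_congr rfl fun j _ => ?_
        rw [smul_comm h (b.repr (y j) i) (x j), Algebra.smul_def (b.repr (y j) i) (h • x j),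
          Algebra.smul_def (b.repr (y j) i) (g • b i)]
        ring
    _ = ∑ j, (h • x j) * ∑ i, (b.repr (y j) i) • (g • b i) := by
        rw [Finset.sum_comm]
        refine Finset.sum_congr rfl fun j _ => ?_
        rw [Finset.mul_sum]
    _ = ∑ j, (h • x j) * (g • y j) := by
        refine Finset.sum_congr rfl fun j _ => ?_
        rw [hA1]

theorem wm_apply [Algebra.IsInvariant B R G] (b : Basis ι B R) {f : B} {K : ℕ}
    {x y : Fin K → R} (he1 : ∑ i, x i * y i = algebraMap B R f)
    (heg : ∀ g : G, g ≠ 1 → ∑ i, x i * g • y i = 0) (i i' : ι) :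
    ∑ g : G, (g • ∑ j, (b.repr (y j) i) • x j) * (g • b i')
      = if i = i' then algebraMap B R f else 0 := by
  obtain ⟨tr, htr⟩ := exists_tr (B := B) (R := R) (G := G)
  have he1' : ∑ j, y j * x j = algebraMap B R f := by
    rw [← he1]
    exact Finset.sum_congr rfl fun j _ => mul_comm _ _
  have hk := key1 (G := G) he1' (datum_symm heg) htr (b i')
  have hrepr : f * (if i' = i then 1 else 0) = ∑ j, tr (x j * b i') * b.repr (y j) i := by
    have h1 : b.repr (f • b i') i = b.repr (∑ j, tr (x j * b i') • y j) i := by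
      rw [Algebra.smul_def, hk]
    simpa only [map_smul, map_sum, Finsupp.smul_apply, Finsupp.finsetSum_apply, Basis.repr_self,
      Finsupp.single_apply, smul_eq_mul] using h1
  calc ∑ g : G, (g • ∑ j, (b.repr (y j) i) • x j) * (g • b i')
      = ∑ g : G, ∑ j, (b.repr (y j) i) • (g • (x j * b i')) := by
        refine Finset.sum_congr rfl fun g _ => ?_
        rw [Finset.smul_sum, Finset.sum_mul]
        refine Finset.sum_congr rfl fun j _ => ?_
        rw [smul_comm g (b.repr (y j) i) (x j), smul_mul', smul_mul_assoc]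
    _ = ∑ j, (b.repr (y j) i) • ∑ g : G, g • (x j * b i') := by
        rw [Finset.sum_comm]
        refine Finset.sum_congr rfl fun j _ => ?_
        rw [Finset.smul_sum]
    _ = ∑ j, (b.repr (y j) i) • algebraMap B R (tr (x j * b i')) := by
        refine Finset.sum_congr rfl fun j _ => ?_
        rw [htr]
    _ = algebraMap B R (∑ j, tr (x j * b i') * b.repr (y j) i) := by
        rw [map_sum]
        refine Finset.sum_congr rfl fun j _ => ?_
        rw [Algebra.smul_def, map_mul]
        exact mul_comm _ _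
    _ = if i = i' then algebraMap B R f else 0 := by
        rw [← hrepr]
        by_cases hii : i = i'
        · rw [if_pos hii, if_pos hii.symm, mul_one]
        · rw [if_neg hii, if_neg (fun h => hii h.symm), mul_zero, map_zero]

theorem matM_mul_matW (b : Basis ι B R) {f : B} {K : ℕ} {x y : Fin K → R}
    (he1 : ∑ i, x i * y i = algebraMap B R f)
    (heg : ∀ g : G, g ≠ 1 → ∑ i, x i * g • y i = 0) :
    matM (G := G) b * matW (G := G) b x y = algebraMap B R f • (1 : Matrix G G R) := by
  ext g h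
  rw [Matrix.mul_apply, Matrix.smul_apply, Matrix.one_apply]
  simp only [matM, matW, Matrix.of_apply]
  rw [mw_apply b he1 heg g h]
  by_cases hgh : g = h
  · rw [if_pos hgh, if_pos hgh, smul_eq_mul, mul_one]
  · rw [if_neg hgh, if_neg hgh, smul_zero]

theorem matW_mul_matM [Algebra.IsInvariant B R G] (b : Basis ι B R) {f : B} {K : ℕ}
    {x y : Fin K → R} (he1 : ∑ i, x i * y i = algebraMap B R f)
    (heg : ∀ g : G, g ≠ 1 → ∑ i, x i * g • y i = 0) :
    matW (G := G) b x y * matM (G := G) b = algebraMap B R f • (1 : Matrix ι ι R) := by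
  ext i i'
  rw [Matrix.mul_apply, Matrix.smul_apply, Matrix.one_apply]
  simp only [matM, matW, Matrix.of_apply]
  rw [wm_apply b he1 heg i i']
  by_cases hii : i = i'
  · rw [if_pos hii, if_pos hii, smul_eq_mul, mul_one]
  · rw [if_neg hii, if_neg hii, smul_zero]

theorem mulVecLin_injective_of_mul_eq_smul_one {m n : Type*} [Fintype m] [Fintype n]
    [DecidableEq n] {S : Type*} [CommRing S] [IsDomain S] (P : Matrix n m S) (Q : Matrix m n S)
    {c : S} (hc : c ≠ 0) (h : P * Q = c • (1 : Matrix n n S)) :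
    Function.Injective Q.mulVecLin := by
  intro v v' hvv
  have h0 : Q.mulVec v = Q.mulVec v' := hvv
  have h1 : (P * Q).mulVec v = (P * Q).mulVec v' := by
    rw [← Matrix.mulVec_mulVec, ← Matrix.mulVec_mulVec, h0]
  rw [h, Matrix.smul_mulVec, Matrix.smul_mulVec, Matrix.one_mulVec, Matrix.one_mulVec] at h1
  funext i
  have h2 := congrFun h1 i
  simp only [Pi.smul_apply, smul_eq_mul] at h2
  exact mul_left_cancel₀ hc h2

theorem card_eq_of_datum [Algebra.IsInvariant B R G] [IsDomain R] (b : Basis ι B R) {f : B}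
    (hf : algebraMap B R f ≠ 0) {K : ℕ} {x y : Fin K → R}
    (he1 : ∑ i, x i * y i = algebraMap B R f)
    (heg : ∀ g : G, g ≠ 1 → ∑ i, x i * g • y i = 0) :
    Fintype.card ι = Fintype.card G := by
  apply le_antisymm
  · exact card_le_of_injective R (matM (G := G) b).mulVecLin
      (mulVecLin_injective_of_mul_eq_smul_one (matW (G := G) b x y) (matM (G := G) b) hf
        (matW_mul_matM b he1 heg))
  · exact card_le_of_injective R (matW (G := G) b x y).mulVecLin
      (mulVecLin_injective_of_mul_eq_smul_one (matM (G := G) b) (matW (G := G) b x y) hf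
        (matM_mul_matW b he1 heg))

theorem det_matM_notMem (b : Basis G B R) (Q : Ideal R) [Q.IsPrime] {f : B}
    (hfQ : algebraMap B R f ∉ Q) {K : ℕ} {x y : Fin K → R}
    (he1 : ∑ i, x i * y i = algebraMap B R f)
    (heg : ∀ g : G, g ≠ 1 → ∑ i, x i * g • y i = 0) :
    (matM (G := G) b).det ∉ Q := by
  intro hmem
  have h1 : (matM (G := G) b).det * (matW (G := G) b x y).det
      = (algebraMap B R f) ^ Fintype.card G := by
    rw [← Matrix.det_mul, matM_mul_matW b he1 heg, Matrix.det_smul, Matrix.det_one, mul_one]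
  have h2 : (algebraMap B R f) ^ Fintype.card G ∈ Q := h1 ▸ Q.mul_mem_right _ hmem
  exact hfQ (Ideal.IsPrime.mem_of_pow_mem inferInstance _ h2)

theorem det_matM_mem_maximalIdeal [IsLocalRing R] (b : Basis G B R)
    (htriv : ∀ (g : G) (a : R), g • a - a ∈ IsLocalRing.maximalIdeal R) {g₁ g₂ : G}
    (hne : g₁ ≠ g₂) : (matM (G := G) b).det ∈ IsLocalRing.maximalIdeal R := by
  rw [← IsLocalRing.residue_eq_zero_iff, RingHom.map_det]
  apply Matrix.det_zero_of_row_eq hne
  funext i
  simp only [RingHom.mapMatrix_apply, Matrix.map_apply, matM, Matrix.of_apply]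
  have h1 : ∀ g : G, IsLocalRing.residue R (g • b i) = IsLocalRing.residue R (b i) := by
    intro g
    rw [← sub_eq_zero, ← map_sub, IsLocalRing.residue_eq_zero_iff]
    exact htriv g (b i)
  rw [h1 g₁, h1 g₂]

end Matrices

theorem finite_of_datum [Fintype G] [Algebra.IsInvariant B R G] [IsDomain R] [IsNoetherianRing B]
    {f : B} (hf : algebraMap B R f ≠ 0) {K : ℕ} {x y : Fin K → R}
    (he1 : ∑ i, x i * y i = algebraMap B R f)
    (heg : ∀ g : G, g ≠ 1 → ∑ i, x i * g • y i = 0) : Module.Finite B R := by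
  obtain ⟨tr, htr⟩ := exists_tr (B := B) (R := R) (G := G)
  have hk := fun r => key1 (G := G) he1 heg htr r
  obtain ⟨N, hN⟩ : ∃ N : Submodule B R, N = Submodule.span B (Set.range x) := ⟨_, rfl⟩
  have hNfg : N.FG := hN ▸ Submodule.fg_span (Set.finite_range x)
  haveI : IsNoetherian B N := isNoetherian_of_fg_of_noetherian N hNfg
  have hmem : ∀ r : R, LinearMap.mulLeft B (algebraMap B R f) r ∈ N := by
    intro r
    rw [LinearMap.mulLeft_apply, hk r, hN]
    exact Submodule.sum_mem _ fun i _ =>
      Submodule.smul_mem _ _ (Submodule.subset_span ⟨i, rfl⟩)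
  refine Module.Finite.of_injective
    (LinearMap.codRestrict N (LinearMap.mulLeft B (algebraMap B R f)) hmem) ?_
  intro r r' hrr
  have h1 : algebraMap B R f * r = algebraMap B R f * r' := congrArg Subtype.val hrr
  exact mul_left_cancel₀ hf h1

end Datum

theorem isNoetherianRing_of_faithfullyFlat (B : Type u) (R : Type v) [CommRing B] [CommRing R]
    [Algebra B R] [Module.FaithfullyFlat B R] [IsNoetherianRing R] : IsNoetherianRing B := by
  rw [isNoetherianRing_iff, ← monotone_stabilizes_iff_noetherian]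
  intro F
  obtain ⟨n, hn⟩ := monotone_stabilizes_iff_noetherian.mpr (inferInstance : IsNoetherian R R)
    ⟨fun k => Ideal.map (algebraMap B R) (F k),
      fun a c hac => Ideal.map_mono (F.monotone hac)⟩
  refine ⟨n, fun m hm => ?_⟩
  have h1 : Ideal.map (algebraMap B R) (F n) = Ideal.map (algebraMap B R) (F m) := hn m hm
  exact Ideal.map_injective_of_faithfullyFlat (B := R) h1

theorem ne_maximalIdeal_of_height_le_one {A : Type v} [CommRing A] [IsLocalRing A]
    (hdim : 2 ≤ ringKrullDim A) (Q : Ideal A) (hQ : Q.height ≤ 1) :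
    Q ≠ IsLocalRing.maximalIdeal A := by
  rintro rfl
  rw [← IsLocalRing.maximalIdeal_height_eq_ringKrullDim] at hdim
  have h1 : ((IsLocalRing.maximalIdeal A).height : WithBot ℕ∞) ≤ ((1 : ℕ∞) : WithBot ℕ∞) :=
    WithBot.coe_le_coe.mpr hQ
  have h2 : (2 : WithBot ℕ∞) ≤ ((1 : ℕ∞) : WithBot ℕ∞) := hdim.trans h1
  have h3 : ((2 : ℕ∞) : WithBot ℕ∞) ≤ ((1 : ℕ∞) : WithBot ℕ∞) := h2
  have h4 : (2 : ℕ∞) ≤ 1 := WithBot.coe_le_coe.mp h3
  have h5 : (2 : ℕ) ≤ 1 := by exact_mod_cast h4
  omega

/-- The main non-flatness statement. -/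
theorem not_flat_of_ramifiedAtOrigin {C : Type u} {A : Type v} {G : Type w} [CommRing C]
    [CommRing A] [Algebra C A] [Group G] [Finite G] [MulSemiringAction G A]
    [SMulCommClass G C A] [Algebra.IsInvariant C A G] [IsDomain A] [IsLocalRing A]
    [IsNoetherianRing A]
    (hinj : Function.Injective (algebraMap C A)) (hdim : 2 ≤ ringKrullDim A)
    (hG : Nontrivial G)
    (htriv : ∀ (g : G) (a : A), g • a - a ∈ IsLocalRing.maximalIdeal A)
    (hram : ∀ P : Ideal A, P.IsPrime → P ≠ IsLocalRing.maximalIdeal A → P.inertia G = ⊥) :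
    ¬ Module.Flat C A := by
  intro hflat
  classical
  cases nonempty_fintype G
  haveI : Algebra.IsIntegral C A := Algebra.IsInvariant.isIntegral C A G
  haveI : FaithfulSMul C A := (faithfulSMul_iff_algebraMap_injective C A).mpr hinj
  haveI : IsLocalHom (algebraMap C A) := Algebra.IsIntegral.isLocalHom C A
  haveI : IsLocalRing C := (algebraMap C A).domain_isLocalRing
  haveI : Module.FaithfullyFlat C A := Module.FaithfullyFlat.of_flat_of_isLocalHom
  haveI : IsNoetherianRing C := isNoetherianRing_of_faithfullyFlat C A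
  -- a datum at the zero ideal gives finiteness
  have hbot : (⊥ : Ideal A).height ≤ 1 := by
    rw [Ideal.height_bot]
    exact bot_le
  obtain ⟨f₀, K₀, x₀, y₀, hf₀, he1₀, heg₀⟩ := exists_datum_of_inertia (B := C) (⊥ : Ideal A)
    (hram ⊥ inferInstance (ne_maximalIdeal_of_height_le_one hdim ⊥ hbot))
  have hf₀' : algebraMap C A f₀ ≠ 0 := fun h => hf₀ (by rw [h]; exact Ideal.zero_mem _)
  haveI : Module.Finite C A := finite_of_datum (G := G) hf₀' he1₀ heg₀
  haveI : Module.Free C A := Module.free_of_flat_of_isLocalRing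
  obtain ⟨⟨ι, b₀⟩⟩ := Module.Free.exists_basis (R := C) (M := A)
  haveI : Finite ι := Module.Finite.finite_basis b₀
  cases nonempty_fintype ι
  have hcard : Fintype.card ι = Fintype.card G :=
    card_eq_of_datum (G := G) b₀ hf₀' he1₀ heg₀
  obtain ⟨b⟩ : Nonempty (Basis G C A) := ⟨b₀.reindex (Fintype.equivOfCardEq hcard)⟩
  obtain ⟨g₁, g₂, hne⟩ := exists_pair_ne G
  have hδm : (matM (G := G) b).det ∈ IsLocalRing.maximalIdeal A :=
    det_matM_mem_maximalIdeal b htriv hne
  obtain ⟨Q, hQmin, hQle⟩ := Ideal.exists_minimalPrimes_le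
    (I := Ideal.span {(matM (G := G) b).det}) (J := IsLocalRing.maximalIdeal A)
    ((Ideal.span_singleton_le_iff_mem _).mpr hδm)
  haveI : Q.IsPrime := hQmin.1.1
  have hQh : Q.height ≤ 1 :=
    Ideal.height_le_one_of_isPrincipal_of_mem_minimalPrimes _ Q hQmin
  have hQne := ne_maximalIdeal_of_height_le_one hdim Q hQh
  obtain ⟨f, K, x, y, hf, he1, heg⟩ :=
    exists_datum_of_inertia (B := C) Q (hram Q inferInstance hQne)
  exact det_matM_notMem b Q hf he1 heg (hQmin.1.2 (Ideal.subset_span (Set.mem_singleton _)))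

end Groth.Agent.Lib.Helper19.Wild
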