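import Mathlib
import Groth.Prelude.Def_ConstGrp

/-!
# Self-duality of the constant group `ℤ/n` (helper19)
-/

open TensorProduct

namespace Groth.Agent.Lib.Helper19.ZnDual

universe u v

section General

variable {R : Type u} [CommRing R] {G : Type v} [Group G] [Fintype G] [DecidableEq G]

theorem mul_of_groupLike {f : ConstGrp.F R G}
    (h : Coalgebra.comul (R := R) f = f ⊗ₜ[R] f) (a b : G) : f (a * b) = f a * f b := by
  have h1 := ConstGrp.pair_comul R G f a b
  rw [h, ConstGrp.pair_tmul] at h1
  exact h1.symm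

theorem comul_of_mul {f : ConstGrp.F R G} (hf : ∀ a b : G, f (a * b) = f a * f b) :
    Coalgebra.comul (R := R) f = f ⊗ₜ[R] f := by
  rw [ConstGrp.comul_eq_sum]
  conv_rhs => rw [ConstGrp.eq_sum_smul_e f]
  rw [TensorProduct.sum_tmul]
  refine Finset.sum_congr rfl fun a _ => ?_
  rw [TensorProduct.tmul_sum]
  refine Finset.sum_congr rfl fun b _ => ?_
  rw [TensorProduct.smul_tmul_smul, hf a b]

end General

variable (k : Type u) [Field k] (n : ℕ) [NeZero n]

theorem exists_primitiveRoot
    (Φ : ConstGrp.F k (Multiplicative (ZMod n)) ≃ₐc[k] MonoidAlgebra k (Multiplicative (ZMod n))) :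
    ∃ ζ : k, IsPrimitiveRoot ζ n := by
  let γ : Multiplicative (ZMod n) := Multiplicative.ofAdd (1 : ZMod n)
  let g₁ : MonoidAlgebra k (Multiplicative (ZMod n)) := MonoidAlgebra.of k _ γ
  have hg₁ : IsGroupLikeElem k g₁ := MonoidAlgebra.isGroupLikeElem_of γ
  let χ : ConstGrp.F k (Multiplicative (ZMod n)) := Φ.symm g₁
  have hχ : IsGroupLikeElem k χ := hg₁.map Φ.symm
  have hχmul : ∀ a b, χ (a * b) = χ a * χ b := mul_of_groupLike hχ.comul_eq_tmul_self
  have hχone : χ 1 = 1 := by
    have h := hχ.counit_eq_one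
    rwa [ConstGrp.counit_apply] at h
  have hχpow : ∀ j : ℕ, χ (γ ^ j) = (χ γ) ^ j := by
    intro j
    induction j with
    | zero => rw [pow_zero, pow_zero, hχone]
    | succ j ih => rw [pow_succ, pow_succ, hχmul, ih]
  have hγpow : ∀ j : ℕ, γ ^ j = Multiplicative.ofAdd ((j : ZMod n)) := by
    intro j
    show Multiplicative.ofAdd (1 : ZMod n) ^ j = _
    rw [← ofAdd_nsmul, nsmul_eq_mul, mul_one]
  have hγn : γ ^ n = 1 := by
    rw [hγpow, ZMod.natCast_self]
    rfl
  have hsurj : ∀ x : Multiplicative (ZMod n), ∃ j : ℕ, x = γ ^ j := by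
    intro x
    refine ⟨(Multiplicative.toAdd x).val, ?_⟩
    rw [hγpow, ZMod.natCast_zmod_val]
    rfl
  refine ⟨χ γ, ⟨by rw [← hχpow, hγn, hχone], ?_⟩⟩
  intro l hl
  have h1 : χ ^ l = 1 := by
    apply ConstGrp.ext
    intro x
    obtain ⟨j, rfl⟩ := hsurj x
    show (χ (γ ^ j)) ^ l = 1
    rw [hχpow, ← pow_mul, mul_comm, pow_mul, hl, one_pow]
  have h2 : g₁ ^ l = 1 := by
    have h : Φ (χ ^ l) = Φ 1 := by rw [h1]
    rw [map_pow, map_one] at h
    rwa [show Φ χ = g₁ from Φ.apply_symm_apply g₁] at h
  have h3 : γ ^ l = 1 := by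
    apply MonoidAlgebra.of_injective (R := k)
    rw [map_pow, map_one]
    exact h2
  rw [hγpow] at h3
  have h4 : ((l : ℕ) : ZMod n) = 0 := by
    have h := congrArg Multiplicative.toAdd h3
    simpa using h
  exact (ZMod.natCast_eq_zero_iff l n).1 h4

theorem nonempty_equiv {ζ : k} (hζ : IsPrimitiveRoot ζ n) :
    Nonempty (ConstGrp.F k (Multiplicative (ZMod n)) ≃ₐc[k]
      MonoidAlgebra k (Multiplicative (ZMod n))) := by
  have hζn : ζ ^ n = 1 := hζ.pow_eq_one
  let c : AddChar (ZMod n) k := AddChar.zmodChar n hζn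
  let ψ : Multiplicative (ZMod n) →* ConstGrp.F k (Multiplicative (ZMod n)) :=
    { toFun := fun x => ((fun y => c (Multiplicative.toAdd x * Multiplicative.toAdd y)) :
        Multiplicative (ZMod n) → k)
      map_one' := by
        apply ConstGrp.ext
        intro y
        show c (Multiplicative.toAdd (1 : Multiplicative (ZMod n)) * Multiplicative.toAdd y) = 1
        rw [toAdd_one, zero_mul, AddChar.map_zero_eq_one]
      map_mul' := by
        intro x x'
        apply ConstGrp.ext
        intro y
        show c (Multiplicative.toAdd (x * x') * Multiplicative.toAdd y) =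
          c (Multiplicative.toAdd x * Multiplicative.toAdd y) *
            c (Multiplicative.toAdd x' * Multiplicative.toAdd y)
        rw [toAdd_mul, add_mul, AddChar.map_add_eq_mul] }
  have hψ : ∀ x y, ψ x y = c (Multiplicative.toAdd x * Multiplicative.toAdd y) := fun x y => rfl
  have hψmul : ∀ x a b, ψ x (a * b) = ψ x a * ψ x b := by
    intro x a b
    rw [hψ, hψ, hψ, toAdd_mul, mul_add, AddChar.map_add_eq_mul]
  let Ψ : MonoidAlgebra k (Multiplicative (ZMod n)) →ₐ[k] ConstGrp.F k (Multiplicative (ZMod n)) :=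
    MonoidAlgebra.lift k (ConstGrp.F k (Multiplicative (ZMod n))) (Multiplicative (ZMod n)) ψ
  have hΨof : ∀ x, Ψ (MonoidAlgebra.single x 1) = ψ x := by
    intro x
    show MonoidAlgebra.lift k _ _ ψ (MonoidAlgebra.single x 1) = ψ x
    rw [MonoidAlgebra.lift_single, one_smul]
  have hcounit : (Bialgebra.counitAlgHom k (ConstGrp.F k (Multiplicative (ZMod n)))).comp Ψ =
      Bialgebra.counitAlgHom k (MonoidAlgebra k (Multiplicative (ZMod n))) := by
    refine MonoidAlgebra.algHom_ext (fun x => ?_)
      (AlgHom.ext fun r => (AlgHom.commutes _ r).trans (AlgHom.commutes _ r).symm)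
    rw [AlgHom.comp_apply, hΨof, Bialgebra.counitAlgHom_apply, Bialgebra.counitAlgHom_apply,
      ConstGrp.counit_apply, (MonoidAlgebra.isGroupLikeElem_single_one x).counit_eq_one, hψ,
      toAdd_one, mul_zero, AddChar.map_zero_eq_one]
  have hcomul : (Algebra.TensorProduct.map Ψ Ψ).comp
      (Bialgebra.comulAlgHom k (MonoidAlgebra k (Multiplicative (ZMod n)))) =
      (Bialgebra.comulAlgHom k (ConstGrp.F k (Multiplicative (ZMod n)))).comp Ψ := by
    refine MonoidAlgebra.algHom_ext (fun x => ?_)
      (AlgHom.ext fun r => (AlgHom.commutes _ r).trans (AlgHom.commutes _ r).symm)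
    rw [AlgHom.comp_apply, AlgHom.comp_apply, hΨof, Bialgebra.comulAlgHom_apply,
      Bialgebra.comulAlgHom_apply, (MonoidAlgebra.isGroupLikeElem_single_one x).comul_eq_tmul_self,
      Algebra.TensorProduct.map_tmul, hΨof, comul_of_mul (hψmul x)]
  -- injectivity through Dedekind independence of characters
  let θ : Multiplicative (ZMod n) → (Multiplicative (ZMod n) →* k) := fun x =>
    { toFun := fun y => ψ x y
      map_one' := by
        show ψ x 1 = 1
        rw [hψ, toAdd_one, mul_zero, AddChar.map_zero_eq_one]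
      map_mul' := fun a b => hψmul x a b }
  have hθinj : Function.Injective θ := by
    intro x x' hxx'
    have h1 : ψ x (Multiplicative.ofAdd (1 : ZMod n)) = ψ x' (Multiplicative.ofAdd (1 : ZMod n)) :=
      DFunLike.congr_fun hxx' (Multiplicative.ofAdd (1 : ZMod n))
    rw [hψ, hψ, toAdd_ofAdd, mul_one, mul_one, AddChar.zmodChar_apply, AddChar.zmodChar_apply] at h1
    have h2 := hζ.pow_inj (ZMod.val_lt _) (ZMod.val_lt _) h1
    exact Multiplicative.toAdd.injective (ZMod.val_injective n h2)
  have hLI : LinearIndependent k (fun x : Multiplicative (ZMod n) =>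
      ((θ x : Multiplicative (ZMod n) →* k) : Multiplicative (ZMod n) → k)) :=
    (linearIndependent_monoidHom (Multiplicative (ZMod n)) k).comp θ hθinj
  have hΨinj : Function.Injective Ψ := by
    rw [injective_iff_map_eq_zero]
    intro v hv
    have h1 : Ψ v = v.coeff.sum fun a b => b • ψ a := MonoidAlgebra.lift_apply ψ v
    rw [h1] at hv
    have h2 : Finsupp.linearCombination k (fun x : Multiplicative (ZMod n) =>
        ((θ x : Multiplicative (ZMod n) →* k) : Multiplicative (ZMod n) → k)) v.coeff = 0 := by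
      rw [Finsupp.linearCombination_apply]
      exact hv
    have h3 := linearIndependent_iff.1 hLI v.coeff h2
    exact MonoidAlgebra.coeff_injective (by rw [h3]; rfl)
  have : Module.Finite k (MonoidAlgebra k (Multiplicative (ZMod n))) :=
    Module.Finite.equiv (MonoidAlgebra.coeffLinearEquiv (R := k) (S := k)
      (M := Multiplicative (ZMod n))).symm
  have hrank : Module.finrank k (MonoidAlgebra k (Multiplicative (ZMod n))) =
      Module.finrank k (ConstGrp.F k (Multiplicative (ZMod n))) := by
    rw [LinearEquiv.finrank_eq (MonoidAlgebra.coeffLinearEquiv (R := k) (S := k)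
      (M := Multiplicative (ZMod n))), Module.finrank_finsupp_self,
      Module.finrank_eq_card_basis (ConstGrp.basis k (Multiplicative (ZMod n)))]
  have hΨsurj : Function.Surjective Ψ :=
    (LinearMap.injective_iff_surjective_of_finrank_eq_finrank hrank (f := Ψ.toLinearMap)).1 hΨinj
  exact ⟨(BialgEquiv.ofBijective (BialgHom.ofAlgHom Ψ hcounit hcomul) ⟨hΨinj, hΨsurj⟩).symm⟩

end Groth.Agent.Lib.Helper19.ZnDual
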